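import Mathlib.AlgebraicGeometry.Morphisms.FormallyUnramified
import Mathlib.AlgebraicGeometry.Morphisms.Etale
import Mathlib.AlgebraicGeometry.IdealSheaf.Basic
import Mathlib.AlgebraicGeometry.Gluing
import Mathlib.RingTheory.Etale.Basic
import Groth.Prelude.Def_MoreMor

/-!
# Unique infinitesimal lifting: gluing local lifts

Tools for the formally étale cluster: local lifts along a nilpotent thickening glue, because
Mathlib's `FormallyUnramified.hom_ext` gives uniqueness of lifts over arbitrary schemes.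
-/

set_option autoImplicit false
universe u

namespace Groth.Agent.H8

open AlgebraicGeometry CategoryTheory CategoryTheory.Limits

variable {T T' X S : Scheme.{u}}

/-- Restricting a local lift to a smaller open gives a local lift. -/
theorem lift_homOfLE (t : T ⟶ T') (f : X ⟶ S) (a : T ⟶ X) (b : T' ⟶ S) {W' W : T'.Opens} (h : W' ≤ W)
    (l : (W : Scheme.{u}) ⟶ X)
    (hl : (t ∣_ W) ≫ l = (t ⁻¹ᵁ W).ι ≫ a ∧ l ≫ f = W.ι ≫ b) :
    (t ∣_ W') ≫ (T'.homOfLE h ≫ l) = (t ⁻¹ᵁ W').ι ≫ a ∧ (T'.homOfLE h ≫ l) ≫ f = W'.ι ≫ b := by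
  constructor
  · have h1 : (t ∣_ W') ≫ T'.homOfLE h = T.homOfLE (t.preimage_mono h) ≫ (t ∣_ W) := by
      rw [← cancel_mono W.ι]
      simp only [Category.assoc, Scheme.homOfLE_ι, morphismRestrict_ι]
      rw [Scheme.homOfLE_ι_assoc]
    rw [← Category.assoc, h1, Category.assoc, hl.1, Scheme.homOfLE_ι_assoc]
  · rw [Category.assoc, hl.2, Scheme.homOfLE_ι_assoc]

set_option backward.isDefEq.respectTransparency false in
/-- The restriction of a nilpotent closed immersion to an open of the target is nilpotent. -/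
theorem isNilpotent_ker_morphismRestrict (t : T ⟶ T') [IsClosedImmersion t]
    (ht : IsNilpotent t.ker) (W : T'.Opens) : IsNilpotent (t ∣_ W).ker := by
  obtain ⟨n, hn⟩ := ht
  refine ⟨n, ?_⟩
  ext V : 2
  have h1 : (t.ker.ideal ⟨W.ι ''ᵁ V, V.2.image_of_isOpenImmersion _⟩) ^ n = ⊥ := by
    have := congr($(hn).ideal ⟨W.ι ''ᵁ V, V.2.image_of_isOpenImmersion _⟩)
    simpa using this
  have h2 : ((t ∣_ W).ker ^ n).ideal V = ((t ∣_ W).ker.ideal V) ^ n := rfl
  rw [h2, Scheme.ker_morphismRestrict_ideal, h1]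
  rfl

set_option backward.isDefEq.respectTransparency false in
/-- Gluing: for a formally unramified `f` and a nilpotent closed immersion `t`, local lifts
(on an open cover of the target of `t`) glue to a unique global lift. -/
theorem existsUnique_lift_of_local (t : T ⟶ T') [IsClosedImmersion t] (ht : IsNilpotent t.ker)
    (f : X ⟶ S) [FormallyUnramified f] (a : T ⟶ X) (b : T' ⟶ S)
    (H : ∀ x : T', ∃ W : T'.Opens, x ∈ W ∧ ∃ l : (W : Scheme.{u}) ⟶ X,
      (t ∣_ W) ≫ l = (t ⁻¹ᵁ W).ι ≫ a ∧ l ≫ f = W.ι ≫ b) :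
    ∃! l : T' ⟶ X, t ≫ l = a ∧ l ≫ f = b := by
  choose W hxW l hl using H
  have hcov : TopologicalSpace.IsOpenCover W := by
    rw [TopologicalSpace.IsOpenCover, eq_top_iff]
    intro x _
    exact TopologicalSpace.Opens.mem_iSup.mpr ⟨x, hxW x⟩
  let 𝒰 : T'.OpenCover := T'.openCoverOfIsOpenCover W hcov
  have hcompat : ∀ x y : T', pullback.fst (𝒰.f x) (𝒰.f y) ≫ l x = pullback.snd _ _ ≫ l y := by
    intro x y
    have hP := isPullback_opens_inf (W x) (W y)
    rw [← cancel_epi hP.isoPullback.hom]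
    have e1 : hP.isoPullback.hom ≫ pullback.fst (𝒰.f x) (𝒰.f y) = T'.homOfLE inf_le_left :=
      hP.isoPullback_hom_fst
    have e2 : hP.isoPullback.hom ≫ pullback.snd (𝒰.f x) (𝒰.f y) = T'.homOfLE inf_le_right :=
      hP.isoPullback_hom_snd
    rw [← Category.assoc, ← Category.assoc, e1, e2]
    have h1 := lift_homOfLE t f a b (inf_le_left : W x ⊓ W y ≤ W x) (l x) (hl x)
    have h2 := lift_homOfLE t f a b (inf_le_right : W x ⊓ W y ≤ W y) (l y) (hl y)
    exact FormallyUnramified.hom_ext (t ∣_ (W x ⊓ W y))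
      (isNilpotent_ker_morphismRestrict t ht _) f (h1.1.trans h2.1.symm) (h1.2.trans h2.2.symm)
  have hglue : ∀ x, (W x).ι ≫ 𝒰.glueMorphisms l hcompat = l x := fun x ↦
    𝒰.ι_glueMorphisms l hcompat x
  refine ⟨𝒰.glueMorphisms l hcompat, ⟨?_, ?_⟩, ?_⟩
  · let 𝒱 : T.OpenCover := T.openCoverOfIsOpenCover (fun x ↦ t ⁻¹ᵁ W x) (by
      rw [TopologicalSpace.IsOpenCover, eq_top_iff]
      intro y _
      exact TopologicalSpace.Opens.mem_iSup.mpr ⟨t y, hxW (t y)⟩)
    refine 𝒱.hom_ext _ _ fun x ↦ ?_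
    change (t ⁻¹ᵁ W x).ι ≫ t ≫ _ = (t ⁻¹ᵁ W x).ι ≫ a
    rw [← morphismRestrict_ι_assoc, hglue, (hl x).1]
  · refine 𝒰.hom_ext _ _ fun x ↦ ?_
    change (W x).ι ≫ _ ≫ f = (W x).ι ≫ b
    rw [← Category.assoc, hglue, (hl x).2]
  · rintro l' ⟨hl'1, hl'2⟩
    refine 𝒰.hom_ext _ _ fun x ↦ ?_
    change (W x).ι ≫ l' = (W x).ι ≫ _
    rw [hglue]
    refine FormallyUnramified.hom_ext (t ∣_ (W x))
      (isNilpotent_ker_morphismRestrict t ht _) f ?_ ?_
    · rw [morphismRestrict_ι_assoc, hl'1, (hl x).1]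
    · rw [Category.assoc, hl'2, (hl x).2]

set_option backward.isDefEq.respectTransparency false in
/-- The kernel of the global-sections map of a square-zero closed immersion into an affine
scheme has square zero. -/
theorem ker_appTop_sq_eq_bot (t : T ⟶ T') [IsClosedImmersion t] [IsAffine T']
    (ht : t.ker * t.ker = ⊥) : RingHom.ker t.appTop.hom ^ 2 = ⊥ := by
  have h1 : t.ker.ideal ⟨⊤, isAffineOpen_top T'⟩ = RingHom.ker t.appTop.hom :=
    t.ker_apply ⟨⊤, isAffineOpen_top T'⟩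
  have h2 := congr($(ht).ideal ⟨⊤, isAffineOpen_top T'⟩)
  rw [Scheme.IdealSheafData.ideal_mul, Pi.mul_apply, h1] at h2
  rw [pow_two, h2]
  rfl

/-- Existence of lifts for a formally smooth morphism (in the `Spec`-lifting sense of the
prelude) along any square-zero closed immersion into an affine scheme. -/
theorem exists_lift_of_isAffine {f : X ⟶ S} (hf : MoreMor.IsFormallySmoothHom f)
    (t : T ⟶ T') [IsClosedImmersion t] [IsAffine T'] (ht : t.ker * t.ker = ⊥)
    (a : T ⟶ X) (b : T' ⟶ S) (w : t ≫ b = a ≫ f) :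
    ∃ l : T' ⟶ X, t ≫ l = a ∧ l ≫ f = b := by
  obtain ⟨hT, hsurj⟩ := IsClosedImmersion.isAffine_surjective_of_isAffine t
  let φ : Γ(T', ⊤) →+* Γ(T, ⊤) := t.appTop.hom
  let J : Ideal Γ(T', ⊤) := RingHom.ker φ
  have hJ : J ^ 2 = ⊥ := ker_appTop_sq_eq_bot t ht
  let e : (Γ(T', ⊤) ⧸ J) ≃+* Γ(T, ⊤) := RingHom.quotientKerEquivOfSurjective hsurj
  have he1 : CommRingCat.ofHom (Ideal.Quotient.mk J) ≫ CommRingCat.ofHom e.toRingHom = t.appTop := by
    ext x
    rfl
  have he2 : CommRingCat.ofHom e.toRingHom ≫ CommRingCat.ofHom e.symm.toRingHom = 𝟙 _ := by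
    ext x
    exact e.symm_apply_apply x
  let a' : Spec (CommRingCat.of (Γ(T', ⊤) ⧸ J)) ⟶ X :=
    Spec.map (CommRingCat.ofHom e.symm.toRingHom) ≫ T.isoSpec.inv ≫ a
  let b' : Spec (CommRingCat.of Γ(T', ⊤)) ⟶ S := T'.isoSpec.inv ≫ b
  have hnat : T.isoSpec.inv ≫ t = Spec.map t.appTop ≫ T'.isoSpec.inv :=
    (Scheme.isoSpec_inv_naturality t).symm
  have he3 : CommRingCat.ofHom e.symm.toRingHom ≫ CommRingCat.ofHom e.toRingHom = 𝟙 _ := by
    ext x
    exact e.apply_symm_apply x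
  have hS1 : Spec.map (CommRingCat.ofHom e.symm.toRingHom) ≫ Spec.map (CommRingCat.ofHom e.toRingHom)
      = 𝟙 _ := by
    rw [← Spec.map_comp, he2, Spec.map_id]
  have hS3 : Spec.map (CommRingCat.ofHom e.toRingHom) ≫ Spec.map (CommRingCat.ofHom e.symm.toRingHom)
      = 𝟙 _ := by
    rw [← Spec.map_comp, he3, Spec.map_id]
  have hS2 : Spec.map t.appTop = Spec.map (CommRingCat.ofHom e.toRingHom) ≫
      Spec.map (CommRingCat.ofHom (Ideal.Quotient.mk J)) := by
    rw [← Spec.map_comp, he1]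
  have w' : Spec.map (CommRingCat.ofHom (Ideal.Quotient.mk J)) ≫ b' = a' ≫ f := by
    simp only [a', b', Category.assoc, ← w]
    rw [reassoc_of% hnat, hS2, Category.assoc, reassoc_of% hS1]
  obtain ⟨l', hl'1, hl'2⟩ := hf Γ(T', ⊤) J hJ a' b' w'
  refine ⟨T'.isoSpec.hom ≫ l', ?_, ?_⟩
  · rw [← Scheme.isoSpec_hom_naturality_assoc, hS2, Category.assoc, hl'1]
    simp only [a']
    rw [reassoc_of% hS3, Iso.hom_inv_id_assoc]
  · rw [Category.assoc, hl'2, Iso.hom_inv_id_assoc]

/-- `Spec (B ⧸ J) ⟶ Spec B` is surjective for `J` of square zero. -/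
theorem specMap_quotientMk_surjective {B : Type u} [CommRing B] (J : Ideal B) (hJ : J ^ 2 = ⊥) :
    Function.Surjective (Spec.map (CommRingCat.ofHom (Ideal.Quotient.mk J))) := by
  have hle : J ≤ nilradical B := by
    intro x hx
    refine ⟨2, ?_⟩
    have : x ^ 2 ∈ J ^ 2 := Ideal.pow_mem_pow hx 2
    rwa [hJ, Ideal.mem_bot] at this
  exact (PrimeSpectrum.comap_quotientMk_bijective_of_le_nilradical hle).2

set_option backward.isDefEq.respectTransparency false in
/-- A morphism which is formally étale in the `Spec`-lifting sense is formally étale on all pairs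
of affine opens. -/
theorem formallyEtale_appLE_of_isFormallyEtaleHom {f : X ⟶ S} (hf : MoreMor.IsFormallyEtaleHom f)
    {U : X.Opens} {V : S.Opens} (hU : IsAffineOpen U) (hV : IsAffineOpen V) (hUV : U ≤ f ⁻¹ᵁ V) :
    letI := (f.appLE V U hUV).hom.toAlgebra
    Algebra.FormallyEtale Γ(S, V) Γ(X, U) := by
  letI := (f.appLE V U hUV).hom.toAlgebra
  rw [Algebra.FormallyEtale.iff_comp_bijective]
  intro B _ _ J hJ
  -- the lifting problem attached to an algebra map `g : Γ(X, U) → B ⧸ J`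
  have key : ∀ g : Γ(X, U) →ₐ[Γ(S, V)] B ⧸ J,
      Spec.map (CommRingCat.ofHom (Ideal.Quotient.mk J)) ≫
        (Spec.map (CommRingCat.ofHom (algebraMap Γ(S, V) B)) ≫ hV.fromSpec) =
      (Spec.map (CommRingCat.ofHom g.toRingHom) ≫ hU.fromSpec) ≫ f := by
    intro g
    have hg : f.appLE V U hUV ≫ CommRingCat.ofHom g.toRingHom =
        CommRingCat.ofHom (algebraMap Γ(S, V) B) ≫ CommRingCat.ofHom (Ideal.Quotient.mk J) :=
      CommRingCat.hom_ext g.comp_algebraMap
    rw [Category.assoc, ← hV.SpecMap_appLE_fromSpec f hU hUV, ← Spec.map_comp_assoc,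
      ← Spec.map_comp_assoc, hg]
  have lifts : ∀ (g : Γ(X, U) →ₐ[Γ(S, V)] B ⧸ J) (l : Γ(X, U) →ₐ[Γ(S, V)] B),
      (Ideal.Quotient.mkₐ Γ(S, V) J).comp l = g →
      Spec.map (CommRingCat.ofHom (Ideal.Quotient.mk J)) ≫
          (Spec.map (CommRingCat.ofHom l.toRingHom) ≫ hU.fromSpec) =
        Spec.map (CommRingCat.ofHom g.toRingHom) ≫ hU.fromSpec ∧
      (Spec.map (CommRingCat.ofHom l.toRingHom) ≫ hU.fromSpec) ≫ f =
        Spec.map (CommRingCat.ofHom (algebraMap Γ(S, V) B)) ≫ hV.fromSpec := by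
    intro g l hl
    constructor
    · rw [← Spec.map_comp_assoc]
      congr 2
      rw [← hl]
      rfl
    · have hl' : f.appLE V U hUV ≫ CommRingCat.ofHom l.toRingHom =
          CommRingCat.ofHom (algebraMap Γ(S, V) B) :=
        CommRingCat.hom_ext l.comp_algebraMap
      rw [Category.assoc, ← hV.SpecMap_appLE_fromSpec f hU hUV, ← Spec.map_comp_assoc, hl']
  constructor
  · intro l₁ l₂ h
    have h1 := lifts _ l₁ rfl
    have h2 := lifts _ l₂ h.symm
    have := (hf B J hJ _ _ (key ((Ideal.Quotient.mkₐ Γ(S, V) J).comp l₁))).unique h1 h2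
    rw [cancel_mono, Spec.map_inj] at this
    exact AlgHom.ext fun x ↦ congr($this x)
  · intro g
    obtain ⟨l, ⟨hl1, hl2⟩, -⟩ := hf B J hJ _ _ (key g)
    have hrange : Set.range l ⊆ Set.range hU.fromSpec := by
      rintro _ ⟨y, rfl⟩
      obtain ⟨y', rfl⟩ := specMap_quotientMk_surjective J hJ y
      rw [← Scheme.Hom.comp_apply, hl1, Scheme.Hom.comp_apply]
      exact ⟨_, rfl⟩
    let l₀ := IsOpenImmersion.lift hU.fromSpec l hrange
    have hl₀ : l₀ ≫ hU.fromSpec = l := IsOpenImmersion.lift_fac _ _ _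
    let lam := Spec.preimage l₀
    have hlam : Spec.map lam = l₀ := Spec.map_preimage l₀
    have hcomm : f.appLE V U hUV ≫ lam = CommRingCat.ofHom (algebraMap Γ(S, V) B) := by
      rw [← Spec.map_inj, ← cancel_mono hV.fromSpec, Spec.map_comp, Category.assoc,
        hV.SpecMap_appLE_fromSpec f hU hUV, hlam, ← Category.assoc, hl₀, hl2]
    refine ⟨⟨lam.hom, fun r ↦ congr($hcomm r)⟩, ?_⟩
    have hq : lam ≫ CommRingCat.ofHom (Ideal.Quotient.mk J) = CommRingCat.ofHom g.toRingHom := by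
      rw [← Spec.map_inj, ← cancel_mono hU.fromSpec, Spec.map_comp, Category.assoc, hlam, hl₀, hl1]
    exact AlgHom.ext fun x ↦ congr($hq x)

set_option backward.isDefEq.respectTransparency false in
/-- The restriction of a square-zero closed immersion to an open of the target is square-zero. -/
theorem ker_morphismRestrict_mul_self (t : T ⟶ T') [IsClosedImmersion t]
    (ht : t.ker * t.ker = ⊥) (W : T'.Opens) : (t ∣_ W).ker * (t ∣_ W).ker = ⊥ := by
  ext V : 2
  have h1 : (t.ker.ideal ⟨W.ι ''ᵁ V, V.2.image_of_isOpenImmersion _⟩) *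
      (t.ker.ideal ⟨W.ι ''ᵁ V, V.2.image_of_isOpenImmersion _⟩) = ⊥ := by
    have := congr($(ht).ideal ⟨W.ι ''ᵁ V, V.2.image_of_isOpenImmersion _⟩)
    simpa using this
  have h2 : ((t ∣_ W).ker * (t ∣_ W).ker).ideal V = ((t ∣_ W).ker.ideal V) * ((t ∣_ W).ker.ideal V) :=
    rfl
  rw [h2, Scheme.ker_morphismRestrict_ideal, h1]
  rfl

theorem isFormallySmoothHom_of_isFormallyEtaleHom {f : X ⟶ S} (hf : MoreMor.IsFormallyEtaleHom f) :
    MoreMor.IsFormallySmoothHom f := fun A _ I hI a b w ↦ (hf A I hI a b w).exists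

/-- A morphism formally étale in the `Spec`-lifting sense is formally unramified (Mathlib). -/
theorem formallyUnramified_of_isFormallyEtaleHom {f : X ⟶ S} (hf : MoreMor.IsFormallyEtaleHom f) :
    FormallyUnramified f := by
  rw [HasRingHomProperty.iff_appLE (P := @FormallyUnramified)]
  intro V U e
  have := formallyEtale_appLE_of_isFormallyEtaleHom hf U.2 V.2 e
  rw [RingHom.FormallyUnramified]
  letI := (f.appLE V.1 U.1 e).hom.toAlgebra
  infer_instance

/-- Unique lifting for a formally étale (in the `Spec`-lifting sense) morphism along an arbitrary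
first order thickening of schemes. -/
theorem existsUnique_lift_of_isFormallyEtaleHom {f : X ⟶ S} (hf : MoreMor.IsFormallyEtaleHom f)
    (t : T ⟶ T') [IsClosedImmersion t] (ht : t.ker * t.ker = ⊥)
    (a : T ⟶ X) (b : T' ⟶ S) (w : t ≫ b = a ≫ f) :
    ∃! l : T' ⟶ X, t ≫ l = a ∧ l ≫ f = b := by
  have := formallyUnramified_of_isFormallyEtaleHom hf
  refine existsUnique_lift_of_local t ⟨2, by rw [pow_two, ht]; rfl⟩ f a b fun x ↦ ?_
  obtain ⟨_, ⟨W, hW, rfl⟩, hxW, -⟩ :=
    T'.isBasis_affineOpens.exists_subset_of_mem_open (Set.mem_univ x) isOpen_univ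
  refine ⟨W, hxW, ?_⟩
  have : IsAffine (W : Scheme.{u}) := hW
  exact exists_lift_of_isAffine (isFormallySmoothHom_of_isFormallyEtaleHom hf) (t ∣_ W)
    (ker_morphismRestrict_mul_self t ht W) _ _
    (by rw [morphismRestrict_ι_assoc, w, Category.assoc])

set_option backward.isDefEq.respectTransparency false in
/-- The kernel of the global-sections map of a nilpotent closed immersion into an affine
scheme is nilpotent. -/
theorem isNilpotent_ker_appTop (t : T ⟶ T') [IsClosedImmersion t] [IsAffine T']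
    (ht : IsNilpotent t.ker) : IsNilpotent (RingHom.ker t.appTop.hom) := by
  obtain ⟨n, hn⟩ := ht
  refine ⟨n, ?_⟩
  have h1 : t.ker.ideal ⟨⊤, isAffineOpen_top T'⟩ = RingHom.ker t.appTop.hom :=
    t.ker_apply ⟨⊤, isAffineOpen_top T'⟩
  have h2 := congr($(hn).ideal ⟨⊤, isAffineOpen_top T'⟩)
  rw [Scheme.IdealSheafData.ideal_pow, Pi.pow_apply, h1] at h2
  rw [h2]
  rfl

set_option backward.isDefEq.respectTransparency false in
/-- Local existence of lifts from ring-level formal smoothness: if `a` lands in an affine open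
`U`, `b` lands in an affine open `V ⊇ f(U)`, and `Γ(S, V) → Γ(X, U)` is formally smooth, then
lifts exist along nilpotent closed immersions into affine schemes. -/
theorem exists_lift_of_formallySmooth_appLE {f : X ⟶ S} {U : X.Opens} {V : S.Opens}
    (hU : IsAffineOpen U) (hV : IsAffineOpen V) (hUV : U ≤ f ⁻¹ᵁ V)
    (hsm : letI := (f.appLE V U hUV).hom.toAlgebra; Algebra.FormallySmooth Γ(S, V) Γ(X, U))
    (t : T ⟶ T') [IsClosedImmersion t] [IsAffine T'] (ht : IsNilpotent t.ker)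
    (a : T ⟶ X) (b : T' ⟶ S) (w : t ≫ b = a ≫ f)
    (ha : Set.range a ⊆ U) (hb : Set.range b ⊆ V) :
    ∃ l : T' ⟶ X, t ≫ l = a ∧ l ≫ f = b := by
  obtain ⟨hT, hsurj⟩ := IsClosedImmersion.isAffine_surjective_of_isAffine t
  let a₀ := IsOpenImmersion.lift hU.fromSpec a (by rw [hU.range_fromSpec]; exact ha)
  have ha₀ : a₀ ≫ hU.fromSpec = a := IsOpenImmersion.lift_fac _ _ _
  let b₀ := IsOpenImmersion.lift hV.fromSpec b (by rw [hV.range_fromSpec]; exact hb)
  have hb₀ : b₀ ≫ hV.fromSpec = b := IsOpenImmersion.lift_fac _ _ _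
  let α : Γ(X, U) ⟶ Γ(T, ⊤) := Spec.preimage (T.isoSpec.inv ≫ a₀)
  have hα : Spec.map α = T.isoSpec.inv ≫ a₀ := Spec.map_preimage _
  let β : Γ(S, V) ⟶ Γ(T', ⊤) := Spec.preimage (T'.isoSpec.inv ≫ b₀)
  have hβ : Spec.map β = T'.isoSpec.inv ≫ b₀ := Spec.map_preimage _
  have hcomp : f.appLE V U hUV ≫ α = β ≫ t.appTop := by
    rw [← Spec.map_inj, ← cancel_mono hV.fromSpec, Spec.map_comp, Spec.map_comp, Category.assoc,
      Category.assoc, hV.SpecMap_appLE_fromSpec f hU hUV, hα, hβ, Category.assoc, Category.assoc,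
      reassoc_of% ha₀, hb₀, Scheme.isoSpec_inv_naturality_assoc, w]
  letI := (f.appLE V U hUV).hom.toAlgebra
  letI := β.hom.toAlgebra
  letI := (β ≫ t.appTop).hom.toAlgebra
  let αA : Γ(X, U) →ₐ[Γ(S, V)] Γ(T, ⊤) := ⟨α.hom, fun r ↦ congr($hcomp r)⟩
  let φA : Γ(T', ⊤) →ₐ[Γ(S, V)] Γ(T, ⊤) := ⟨t.appTop.hom, fun r ↦ rfl⟩
  have hker : IsNilpotent (RingHom.ker (φA : Γ(T', ⊤) →+* Γ(T, ⊤))) := isNilpotent_ker_appTop t ht
  let lam := Algebra.FormallySmooth.liftOfSurjective αA φA hsurj hker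
  have hlam : φA.comp lam = αA := Algebra.FormallySmooth.comp_liftOfSurjective αA φA hsurj hker
  have h1 : CommRingCat.ofHom lam.toRingHom ≫ t.appTop = α := by
    ext x
    exact congr($hlam x)
  have h2 : f.appLE V U hUV ≫ CommRingCat.ofHom lam.toRingHom = β := by
    ext x
    exact lam.commutes x
  refine ⟨T'.isoSpec.hom ≫ Spec.map (CommRingCat.ofHom lam.toRingHom) ≫ hU.fromSpec, ?_, ?_⟩
  · rw [← Scheme.isoSpec_hom_naturality_assoc, ← Spec.map_comp_assoc, h1, hα, Category.assoc,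
      ha₀, Iso.hom_inv_id_assoc]
  · rw [Category.assoc, Category.assoc, ← hV.SpecMap_appLE_fromSpec f hU hUV,
      ← Spec.map_comp_assoc, h2, hβ, Category.assoc, hb₀, Iso.hom_inv_id_assoc]

set_option backward.isDefEq.respectTransparency false in
/-- `Spec (A ⧸ I) ⟶ Spec A` has nilpotent kernel when `I ^ 2 = ⊥`. -/
theorem isNilpotent_ker_specMap_quotientMk {A : Type u} [CommRing A] (I : Ideal A) (hI : I ^ 2 = ⊥) :
    IsNilpotent (Spec.map (CommRingCat.ofHom (Ideal.Quotient.mk I))).ker := by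
  refine ⟨2, ?_⟩
  apply Scheme.IdealSheafData.ext_of_isAffine
  set t := Spec.map (CommRingCat.ofHom (Ideal.Quotient.mk I)) with ht
  have h1 : t.ker.ideal ⟨⊤, isAffineOpen_top _⟩ = RingHom.ker t.appTop.hom :=
    t.ker_apply ⟨⊤, isAffineOpen_top _⟩
  have h2 : (t.ker ^ 2).ideal ⟨⊤, isAffineOpen_top _⟩ = (t.ker.ideal ⟨⊤, isAffineOpen_top _⟩) ^ 2 :=
    rfl
  rw [h2, h1]
  change _ = ⊥
  rw [eq_bot_iff, pow_two, Ideal.mul_le]
  intro x hx y hy
  have hnat := Scheme.ΓSpecIso_naturality (CommRingCat.ofHom (Ideal.Quotient.mk I))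
  have hx' : (Scheme.ΓSpecIso (CommRingCat.of A)).hom x ∈ I := by
    rw [← Ideal.Quotient.eq_zero_iff_mem]
    have := congr(($hnat).hom x)
    simp only [CommRingCat.hom_comp, RingHom.comp_apply] at this
    rw [← ht, RingHom.mem_ker.mp hx, map_zero] at this
    exact this.symm
  have hy' : (Scheme.ΓSpecIso (CommRingCat.of A)).hom y ∈ I := by
    rw [← Ideal.Quotient.eq_zero_iff_mem]
    have := congr(($hnat).hom y)
    simp only [CommRingCat.hom_comp, RingHom.comp_apply] at this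
    rw [← ht, RingHom.mem_ker.mp hy, map_zero] at this
    exact this.symm
  have hxy : (Scheme.ΓSpecIso (CommRingCat.of A)).hom (x * y) = 0 := by
    rw [map_mul]
    have : (Scheme.ΓSpecIso (CommRingCat.of A)).hom x * (Scheme.ΓSpecIso (CommRingCat.of A)).hom y
        ∈ I ^ 2 := by
      rw [pow_two]; exact Ideal.mul_mem_mul hx' hy'
    rwa [hI, Ideal.mem_bot] at this
  rw [Ideal.mem_bot]
  have hinj : Function.Injective (Scheme.ΓSpecIso (CommRingCat.of A)).hom :=
    (ConcreteCategory.bijective_of_isIso (Scheme.ΓSpecIso (CommRingCat.of A)).hom).1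
  exact hinj (by rw [hxy, map_zero])

set_option backward.isDefEq.respectTransparency false in
/-- If all ring maps on pairs of affine opens are formally étale, then `f` is formally étale in
the `Spec`-lifting sense. -/
theorem isFormallyEtaleHom_of_formallyEtale_appLE {f : X ⟶ S}
    (H : ∀ (U : X.Opens) (V : S.Opens) (_ : IsAffineOpen U) (_ : IsAffineOpen V)
      (hUV : U ≤ f ⁻¹ᵁ V),
      letI := (f.appLE V U hUV).hom.toAlgebra
      Algebra.FormallyEtale Γ(S, V) Γ(X, U)) : MoreMor.IsFormallyEtaleHom f := by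
  intro A _ I hI a b w
  have hunr : FormallyUnramified f := by
    rw [HasRingHomProperty.iff_appLE (P := @FormallyUnramified)]
    intro V U e
    have := H U.1 V.1 U.2 V.2 e
    rw [RingHom.FormallyUnramified]
    letI := (f.appLE V.1 U.1 e).hom.toAlgebra
    infer_instance
  set t := Spec.map (CommRingCat.ofHom (Ideal.Quotient.mk I)) with ht_def
  have hci : IsClosedImmersion t :=
    IsClosedImmersion.spec_of_surjective _ Ideal.Quotient.mk_surjective
  have ht : IsNilpotent t.ker := isNilpotent_ker_specMap_quotientMk I hI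
  refine existsUnique_lift_of_local t ht f a b fun x ↦ ?_
  obtain ⟨y, rfl⟩ := specMap_quotientMk_surjective I hI x
  obtain ⟨_, ⟨V, hV, rfl⟩, hxV, -⟩ :=
    S.isBasis_affineOpens.exists_subset_of_mem_open (Set.mem_univ (b (t y))) isOpen_univ
  have hfy : f (a y) ∈ V := by
    rw [← Scheme.Hom.comp_apply, ← w, Scheme.Hom.comp_apply]; exact hxV
  obtain ⟨_, ⟨U, hU, rfl⟩, hyU, hUV⟩ :=
    X.isBasis_affineOpens.exists_subset_of_mem_open hfy (f ⁻¹ᵁ V).isOpen
  -- an open neighbourhood `O` of `t y` with `t ⁻¹ O ⊆ a ⁻¹ U`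
  have hclosed : IsClosed (t '' ((a ⁻¹ᵁ U : (Spec (CommRingCat.of (A ⧸ I))).Opens) : Set _)ᶜ) :=
    t.isClosedEmbedding.isClosedMap _ (a ⁻¹ᵁ U).isOpen.isClosed_compl
  let O : (Spec (CommRingCat.of A)).Opens := ⟨_, hclosed.isOpen_compl⟩
  have hyO : t y ∈ O := by
    rintro ⟨y', hy', hyy'⟩
    rw [t.isClosedEmbedding.injective hyy'] at hy'
    exact hy' hyU
  have hO : ∀ z, t z ∈ O → a z ∈ U := by
    intro z hz
    by_contra hza
    exact hz ⟨z, hza, rfl⟩
  obtain ⟨_, ⟨W, hW, rfl⟩, hxW, hWO⟩ :=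
    (Spec (CommRingCat.of A)).isBasis_affineOpens.exists_subset_of_mem_open
      (show t y ∈ O ⊓ b ⁻¹ᵁ V from ⟨hyO, hxV⟩) (O ⊓ b ⁻¹ᵁ V).isOpen
  refine ⟨W, hxW, ?_⟩
  have : IsAffine (W : Scheme.{u}) := hW
  have hsm : letI := (f.appLE V U hUV).hom.toAlgebra; Algebra.FormallySmooth Γ(S, V) Γ(X, U) := by
    have := H U V hU hV hUV
    letI := (f.appLE V U hUV).hom.toAlgebra
    infer_instance
  refine exists_lift_of_formallySmooth_appLE hU hV hUV hsm (t ∣_ W)
    (isNilpotent_ker_morphismRestrict t ht W) _ _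
    (by rw [morphismRestrict_ι_assoc, w, Category.assoc]) ?_ ?_
  · rintro _ ⟨z, rfl⟩
    rw [Scheme.Hom.comp_apply]
    exact hO _ (hWO z.2).1
  · rintro _ ⟨z, rfl⟩
    rw [Scheme.Hom.comp_apply]
    exact (hWO z.2).2

end Groth.Agent.H8
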