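import Mathlib.RingTheory.DiscreteValuationRing.TFAE
import Mathlib.RingTheory.Filtration
import Mathlib.RingTheory.Localization.AtPrime.Basic

set_option autoImplicit false
universe u

namespace Groth.Agent.H8

open IsLocalRing

variable {R : Type u} [CommRing R]

/-- In a Noetherian local ring whose maximal ideal is generated by `t`, each nonzero element is a
unit times a power of `t`. -/
theorem exists_unit_mul_pow_of_maximalIdeal_eq_span [IsLocalRing R] [IsNoetherianRing R] (t : R)
    (hm : maximalIdeal R = Ideal.span {t}) (x : R) (hx : x ≠ 0) :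
    ∃ (n : ℕ) (u : R), IsUnit u ∧ x = u * t ^ n := by
  classical
  have hinf := Ideal.iInf_pow_eq_bot_of_isLocalRing (maximalIdeal R) Ideal.IsPrime.ne_top'
  have hex : ∃ n : ℕ, x ∉ maximalIdeal R ^ n := by
    by_contra h
    push Not at h
    apply hx
    have : x ∈ ⨅ i, maximalIdeal R ^ i := by
      rw [Ideal.mem_iInf]; exact h
    rwa [hinf] at this
  let n := Nat.find hex
  have hn : x ∉ maximalIdeal R ^ n := Nat.find_spec hex
  have hn0 : n ≠ 0 := by
    intro h0
    rw [h0, pow_zero, Ideal.one_eq_top] at hn
    exact hn trivial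
  obtain ⟨k, hk⟩ := Nat.exists_eq_succ_of_ne_zero hn0
  have hk' : x ∈ maximalIdeal R ^ k := by
    by_contra h
    have := Nat.find_min' hex h
    omega
  rw [hm, Ideal.span_singleton_pow, Ideal.mem_span_singleton] at hk'
  obtain ⟨u, hu⟩ := hk'
  refine ⟨k, u, ?_, by rw [hu, mul_comm]⟩
  by_contra hnu
  have hum : u ∈ maximalIdeal R := (mem_maximalIdeal u).mpr hnu
  apply hn
  rw [hk, pow_succ, hu]
  exact Ideal.mul_mem_mul (by rw [hm, Ideal.span_singleton_pow]; exact Ideal.mem_span_singleton_self _) hum

/-- A Noetherian local ring whose maximal ideal is generated by a nonzerodivisor is a domain. -/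
theorem isDomain_of_maximalIdeal_eq_span [IsLocalRing R] [IsNoetherianRing R] (t : R)
    (ht : t ∈ nonZeroDivisors R) (hm : maximalIdeal R = Ideal.span {t}) : IsDomain R := by
  have hnz : NoZeroDivisors R := by
    refine ⟨fun {x y} hxy => ?_⟩
    by_contra h
    push Not at h
    obtain ⟨a, u, hu, rfl⟩ := exists_unit_mul_pow_of_maximalIdeal_eq_span t hm x h.1
    obtain ⟨b, v, hv, rfl⟩ := exists_unit_mul_pow_of_maximalIdeal_eq_span t hm y h.2
    have h1 : (u * v) * t ^ (a + b) = 0 := by
      rw [← hxy, pow_add]; ring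
    have h2 : t ^ (a + b) = 0 := by
      exact (hu.mul hv).mul_right_eq_zero.mp h1
    have h3 : t ^ (a + b) ∈ nonZeroDivisors R := pow_mem ht _
    rw [h2] at h3
    exact zero_notMem_nonZeroDivisors h3
  exact NoZeroDivisors.to_isDomain R

/-- A Noetherian local ring whose maximal ideal is generated by a nonzerodivisor is a discrete
valuation ring. -/
theorem isDiscreteValuationRing_of_maximalIdeal_eq_span [IsLocalRing R] [IsNoetherianRing R] (t : R)
    (ht : t ∈ nonZeroDivisors R) (hm : maximalIdeal R = Ideal.span {t}) :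
    ∃ _ : IsDomain R, IsDiscreteValuationRing R := by
  have hdom := isDomain_of_maximalIdeal_eq_span t ht hm
  refine ⟨hdom, ?_⟩
  have hnf : ¬ IsField R := by
    rw [isField_iff_maximalIdeal_eq, hm]
    intro h
    have : t = 0 := by
      have := Ideal.mem_span_singleton_self t
      rw [h] at this
      exact this
    rw [this] at ht
    exact zero_notMem_nonZeroDivisors ht
  have hp : (maximalIdeal R).IsPrincipal := ⟨⟨t, hm⟩⟩
  exact ((IsDiscreteValuationRing.TFAE R hnf).out 0 4).mpr hp

end Groth.Agent.H8
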