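import Groth.Agent.H8.Localizing
import Groth.Agent.H18.QCohCriterion

/-!
# Quasi-coherence of pushforwards (helper8)

* `isQuasicoherent_of_isLocalizingOn`: a module localizing on every affine open is quasi-coherent
  (uses helper18's criterion `H18.isQuasicoherent_of_localizes`).
* `isQuasicoherent_pushforward_of_isAffineHom`: `f_* F` is quasi-coherent for `f` affine, `F` qcoh.
-/

set_option autoImplicit false
universe u
open CategoryTheory CategoryTheory.Limits AlgebraicGeometry TopologicalSpace Opposite

namespace Groth.Agent.H8

theorem isQuasicoherent_of_isLocalizingOn {S : Scheme.{u}} (G : S.Modules)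
    (h : ∀ V : S.Opens, IsAffineOpen V → IsLocalizingOn G V) : G.IsQuasicoherent := by
  refine Groth.Agent.H18.isQuasicoherent_of_localizes G (fun U : S.affineOpens => (U : S.Opens))
    (iSup_affineOpens_eq_top S) (fun U => U.2) ?_ ?_
  · intro U r y
    obtain ⟨n, x, hx⟩ := (h U.1 U.2).res_eq_pow_smul r y
    exact ⟨n, x, hx.symm⟩
  · intro U r x hx
    exact (h U.1 U.2).pow_smul_eq_zero r x hx

/-- Pushforward of a quasi-coherent module along an affine morphism is quasi-coherent. -/
theorem isQuasicoherent_pushforward_of_isAffineHom {X S : Scheme.{u}} (f : X ⟶ S) [IsAffineHom f]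
    (F : X.Modules) [F.IsQuasicoherent] : ((Scheme.Modules.pushforward f).obj F).IsQuasicoherent :=
  isQuasicoherent_of_isLocalizingOn _ fun V hV =>
    isLocalizingOn_pushforward f F V (hV.preimage f)

end Groth.Agent.H8
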