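import Mathlib
import Groth.Prelude.Def_FlatMod2

/-!
# Quasi-coherent modules: sections over basic opens and stalks (helper8)

* `exists_pow_smul_eq_zero_of_res_basicOpen_eq_zero`: a section of a quasi-coherent module over an
  affine open `V` vanishing on `D(g)` is killed by a power of `g`.
* `not_subsingleton_stalk_of_annihilator_le`: primes of `O_{X,x}` containing `Ann(m)`, `m ∈ F_x`,
  give generizations of `x` in the support of `F`.
* `exists_res_eq_pow_smul`: sections over `D(g)` are of the form `s / g ^ n`.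
* `isLocalizedModule_germₗ`: for `x ∈ V` affine, `germₗ F hxV : Γ(F,V) →ₗ[Γ(X,V)] F_x` is the
  localization at the prime of `x` (the module structure on the stalk is `stalkModule F hxV`).
-/

set_option autoImplicit false
universe u
open CategoryTheory CategoryTheory.Limits AlgebraicGeometry TopologicalSpace Opposite

namespace Groth.Agent.H8

set_option backward.isDefEq.respectTransparency false in
lemma appIso_inv_ΓSpecIso_inv {X : Scheme.{u}} {V : X.Opens} (hV : IsAffineOpen V) (r : Γ(X, V)) :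
    (hV.fromSpec.appIso ⊤).inv ((Scheme.ΓSpecIso Γ(X, V)).inv r) =
      X.presheaf.map (eqToHom (by simp)).op r := by
  apply (ConcreteCategory.bijective_of_isIso (hV.fromSpec.appIso ⊤).hom).1
  rw [← ConcreteCategory.comp_apply, Iso.inv_hom_id, Scheme.Hom.appIso_hom]
  simp only [CommRingCat.id_apply, CommRingCat.comp_apply]
  rw [← ConcreteCategory.comp_apply, ← ConcreteCategory.comp_apply]
  rw [hV.fromSpec.naturality_assoc, hV.fromSpec_app_self]
  simp only [Category.assoc, ← Functor.map_comp]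
  have : ∀ (i : (op (⊤ : (Spec Γ(X, V)).Opens)) ⟶ op ⊤), (Spec Γ(X, V)).presheaf.map i = 𝟙 _ := by
    intro i
    rw [Subsingleton.elim i (𝟙 _), CategoryTheory.Functor.map_id]
  erw [this]
  simp

open AlgebraicGeometry.Scheme.Modules in
/-- The localizing property of a quasi-coherent module on `Spec R`. -/
theorem isLocalizedModule_of_isQuasicoherent_Spec {R : CommRingCat.{u}} (G : (Spec R).Modules)
    [G.IsQuasicoherent] (f : R) :
    IsLocalizedModule (.powers f)
      ((modulesSpecToSheaf.obj G).obj.map (PrimeSpectrum.basicOpen f).leTop.op).hom :=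
  (isIso_fromTildeΓ_iff_isLocalizing G).mp inferInstance f

set_option backward.isDefEq.respectTransparency false in
theorem exists_pow_smul_eq_zero_of_res_basicOpen_eq_zero {X : Scheme.{u}} (F : X.Modules)
    [F.IsQuasicoherent] {V : X.Opens} (hV : IsAffineOpen V) (g : Γ(X, V)) (s : Γ(F, V))
    (hs : F.presheaf.map (homOfLE (X.basicOpen_le g)).op s = 0) :
    ∃ n : ℕ, g ^ n • s = 0 := by
  let R : CommRingCat.{u} := Γ(X, V)
  let j : Spec R ⟶ X := hV.fromSpec
  let G : (Spec R).Modules := F.restrict j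
  have hloc := isLocalizedModule_of_isQuasicoherent_Spec G g
  have e1 : j ''ᵁ ⊤ = V := by
    simp [j]
  have e2 : j ''ᵁ (PrimeSpectrum.basicOpen g) = X.basicOpen g := hV.fromSpec_image_basicOpen g
  let s' : Γ(G, ⊤) := F.presheaf.map (eqToHom e1).op s
  have h0 : ((modulesSpecToSheaf.obj G).obj.map (PrimeSpectrum.basicOpen g).leTop.op).hom s' = 0 := by
    have h1 : ((modulesSpecToSheaf.obj G).obj.map (PrimeSpectrum.basicOpen g).leTop.op).hom s' =
        F.presheaf.map (eqToHom e2).op (F.presheaf.map (homOfLE (X.basicOpen_le g)).op s) := by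
      change F.presheaf.map _ (F.presheaf.map _ s) = _
      rw [← ConcreteCategory.comp_apply, ← ConcreteCategory.comp_apply, ← Functor.map_comp,
        ← Functor.map_comp]
      rfl
    rw [h1, hs, map_zero]
  obtain ⟨m, hm⟩ := (IsLocalizedModule.eq_zero_iff (.powers g) _).mp h0
  obtain ⟨m, n, rfl⟩ := m
  refine ⟨n, ?_⟩
  have hinj : Function.Injective (F.presheaf.map (eqToHom e1).op) :=
    (ConcreteCategory.bijective_of_isIso _).1
  apply hinj
  rw [map_zero]
  have h2 := Scheme.Modules.map_smul F (eqToHom e1) (g ^ n) s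
  rw [h2]
  have h3 : ((fun x => g ^ x) n) = g ^ n := rfl
  rw [← appIso_inv_ΓSpecIso_inv hV (g ^ n)]
  exact hm


lemma germ_smul {X : Scheme.{u}} (F : X.Modules) {U : X.Opens} {x : X} (hx : x ∈ U)
    (r : Γ(X, U)) (s : Γ(F, U)) :
    F.presheaf.germ U x hx (r • s) = X.presheaf.germ U x hx r • F.presheaf.germ U x hx s :=
  PresheafOfModules.germ_smul (R := X.presheaf) F.val x U hx r s

/-- membership of a generization in a basic open, in terms of the prime of the local ring. -/
lemma fromSpecStalk_mem_basicOpen_iff {X : Scheme.{u}} {V : X.Opens} {x : X} (hxV : x ∈ V)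
    (g : Γ(X, V)) (q : Spec (X.presheaf.stalk x)) :
    X.fromSpecStalk x q ∈ X.basicOpen g ↔ X.presheaf.germ V x hxV g ∉ q.asIdeal := by
  have h1 : X.fromSpecStalk x q ∈ X.basicOpen g ↔ q ∈ (X.fromSpecStalk x) ⁻¹ᵁ X.basicOpen g :=
    Iff.rfl
  rw [h1, Scheme.preimage_basicOpen, Scheme.fromSpecStalk_app hxV]
  simp only [CommRingCat.comp_apply]
  rw [Scheme.basicOpen_res, basicOpen_eq_of_affine]
  have h2 : q ∈ (X.fromSpecStalk x) ⁻¹ᵁ V := by
    have h3 : X.fromSpecStalk x q ⤳ x := by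
      have : X.fromSpecStalk x q ∈ Set.range (X.fromSpecStalk x) := ⟨q, rfl⟩
      rwa [Scheme.range_fromSpecStalk] at this
    exact h3.mem_open V.2 hxV
  constructor
  · rintro ⟨-, h⟩
    exact h
  · intro h
    exact ⟨h2, h⟩


lemma fromSpecStalk_specializes {X : Scheme.{u}} (x : X) (q : Spec (X.presheaf.stalk x)) :
    X.fromSpecStalk x q ⤳ x := by
  have : X.fromSpecStalk x q ∈ Set.range (X.fromSpecStalk x) := ⟨q, rfl⟩
  rwa [Scheme.range_fromSpecStalk] at this

/-- If `F` is quasi-coherent, `m ∈ F_x` and `q` is a prime of `O_{X,x}` containing the annihilator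
of `m`, then the generization `y` of `x` corresponding to `q` lies in the support of `F`. -/
theorem not_subsingleton_stalk_of_annihilator_le {X : Scheme.{u}} (F : X.Modules)
    [F.IsQuasicoherent] (x : X) (m : F.presheaf.stalk x) (q : Spec (X.presheaf.stalk x))
    (hq : ∀ a : X.presheaf.stalk x, a • m = 0 → a ∈ q.asIdeal) :
    ¬ Subsingleton (F.presheaf.stalk (X.fromSpecStalk x q)) := by
  intro hsub
  obtain ⟨U, hxU, s, rfl⟩ := TopCat.Presheaf.exists_germ_eq F.presheaf m
  obtain ⟨_, ⟨V, hV, rfl⟩, hxV, hVU⟩ := X.isBasis_affineOpens.exists_subset_of_mem_open hxU U.2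
  set y := X.fromSpecStalk x q with hy
  have hyx : y ⤳ x := fromSpecStalk_specializes x q
  have hyV : y ∈ V := hyx.mem_open V.2 hxV
  let t : Γ(F, V) := F.presheaf.map (homOfLE hVU).op s
  have ht : F.presheaf.germ V x hxV t = F.presheaf.germ U x hxU s :=
    TopCat.Presheaf.germ_res_apply ..
  have hty : F.presheaf.germ V y hyV t = F.presheaf.germ V y hyV 0 := Subsingleton.elim _ _
  obtain ⟨W, hyW, iWV, iWV', hW⟩ := TopCat.Presheaf.germ_eq F.presheaf y hyV hyV t 0 hty
  obtain ⟨g, hgW, hyg⟩ := hV.exists_basicOpen_le ⟨y, hyW⟩ hyV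
  have hres : F.presheaf.map (homOfLE (X.basicOpen_le g)).op t = 0 := by
    have : (homOfLE (X.basicOpen_le g)).op = iWV.op ≫ (homOfLE hgW).op := rfl
    rw [this, Functor.map_comp, ConcreteCategory.comp_apply, hW, map_zero, map_zero]
  obtain ⟨n, hn⟩ := exists_pow_smul_eq_zero_of_res_basicOpen_eq_zero F hV g t hres
  have h1 : (X.presheaf.germ V x hxV g) ^ n • F.presheaf.germ U x hxU s = 0 := by
    rw [← ht, ← map_pow, ← germ_smul, hn, map_zero]
  have h2 := hq _ h1
  have h3 : X.presheaf.germ V x hxV g ∈ q.asIdeal := q.2.mem_of_pow_mem n h2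
  exact ((fromSpecStalk_mem_basicOpen_iff hxV g q).mp hyg) h3


lemma image_fromSpec_le {X : Scheme.{u}} {V : X.Opens} (hV : IsAffineOpen V)
    (U : (Spec Γ(X, V)).Opens) : hV.fromSpec ''ᵁ U ≤ V := by
  have := hV.fromSpec.image_le_opensRange U
  rwa [hV.opensRange_fromSpec] at this

set_option backward.isDefEq.respectTransparency false in
lemma appIso_inv_res_ΓSpecIso_inv {X : Scheme.{u}} {V : X.Opens} (hV : IsAffineOpen V)
    (U : (Spec Γ(X, V)).Opens) (r : Γ(X, V)) :
    (hV.fromSpec.appIso U).inv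
      ((Spec Γ(X, V)).presheaf.map U.leTop.op ((Scheme.ΓSpecIso Γ(X, V)).inv r)) =
      X.presheaf.map (homOfLE (image_fromSpec_le hV U)).op r := by
  rw [← ConcreteCategory.comp_apply, Scheme.Hom.appIso_inv_naturality,
    ConcreteCategory.comp_apply, appIso_inv_ΓSpecIso_inv, ← ConcreteCategory.comp_apply,
    ← Functor.map_comp]
  rfl

/-- the `Γ(X,V)`-module structure of sections of `F.restrict hV.fromSpec` in terms of `F`. -/
lemma smul_restrict_fromSpec {X : Scheme.{u}} (F : X.Modules) {V : X.Opens} (hV : IsAffineOpen V)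
    (U : (Spec Γ(X, V)).Opens) (r : Γ(X, V)) (t : Γ(F.restrict hV.fromSpec, U)) :
    r • t = (F.smul (U := hV.fromSpec ''ᵁ U)
      (X.presheaf.map (homOfLE (image_fromSpec_le hV U)).op r)).hom t := by
  rw [← appIso_inv_res_ΓSpecIso_inv]
  rfl


lemma presheaf_map_map {X : Scheme.{u}} (F : X.Modules) {U₁ U₂ U₃ : X.Opens} (i : U₁ ⟶ U₂)
    (k : U₂ ⟶ U₃) (s : Γ(F, U₃)) :
    F.presheaf.map i.op (F.presheaf.map k.op s) = F.presheaf.map (i ≫ k).op s := by
  rw [← ConcreteCategory.comp_apply, ← Functor.map_comp]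
  rfl

lemma presheaf_map_eq {X : Scheme.{u}} (F : X.Modules) {U₁ U₂ : X.Opens} (i k : U₁ ⟶ U₂)
    (s : Γ(F, U₂)) :
    F.presheaf.map i.op s = F.presheaf.map k.op s := by
  rw [Subsingleton.elim i k]

lemma ring_map_map {X : Scheme.{u}} {U₁ U₂ U₃ : X.Opens} (i : U₁ ⟶ U₂)
    (k : U₂ ⟶ U₃) (s : Γ(X, U₃)) :
    X.presheaf.map i.op (X.presheaf.map k.op s) = X.presheaf.map (i ≫ k).op s := by
  rw [← ConcreteCategory.comp_apply, ← Functor.map_comp]
  rfl

set_option backward.isDefEq.respectTransparency false in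
/-- Sections of a quasi-coherent module over `D(g) ⊆ V` (`V` affine) are of the form `s / g ^ n`. -/
theorem exists_res_eq_pow_smul {X : Scheme.{u}} (F : X.Modules)
    [F.IsQuasicoherent] {V : X.Opens} (hV : IsAffineOpen V) (g : Γ(X, V))
    (t : Γ(F, X.basicOpen g)) :
    ∃ (n : ℕ) (s : Γ(F, V)), F.presheaf.map (homOfLE (X.basicOpen_le g)).op s =
      (X.presheaf.map (homOfLE (X.basicOpen_le g)).op g) ^ n • t := by
  let R : CommRingCat.{u} := Γ(X, V)
  let j : Spec R ⟶ X := hV.fromSpec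
  let G : (Spec R).Modules := F.restrict j
  have hloc := isLocalizedModule_of_isQuasicoherent_Spec G g
  have e1 : j ''ᵁ ⊤ = V := by
    simp [j]
  have e2 : j ''ᵁ (PrimeSpectrum.basicOpen g) = X.basicOpen g := hV.fromSpec_image_basicOpen g
  let t' : Γ(G, PrimeSpectrum.basicOpen g) := F.presheaf.map (eqToHom e2).op t
  have hsurj := IsLocalizedModule.surj (.powers g)
    ((modulesSpecToSheaf.obj G).obj.map (PrimeSpectrum.basicOpen g).leTop.op).hom
  obtain ⟨⟨s', m⟩, hs'⟩ := hsurj t'
  obtain ⟨m, n, rfl⟩ := m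
  refine ⟨n, F.presheaf.map (eqToHom e1.symm).op s', ?_⟩
  have h1 : (g ^ n) • t' = F.presheaf.map (homOfLE (j.image_mono le_top) :
      j ''ᵁ (PrimeSpectrum.basicOpen g) ⟶ j ''ᵁ ⊤).op s' := hs'
  rw [smul_restrict_fromSpec, Scheme.Modules.smul_apply] at h1
  have h2 := congrArg (F.presheaf.map (eqToHom e2.symm).op) h1
  rw [presheaf_map_map] at h2
  rw [presheaf_map_map]
  rw [presheaf_map_eq F _ (eqToHom e2.symm ≫ homOfLE (j.image_mono le_top))]
  rw [← h2]
  erw [Scheme.Modules.map_smul F (eqToHom e2.symm)]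
  rw [ring_map_map, map_pow]
  congr 1
  change F.presheaf.map _ (F.presheaf.map _ t) = t
  rw [presheaf_map_map]
  rw [presheaf_map_eq F _ (𝟙 _)]
  simp


/-- The `Γ(X,V)`-module structure on the stalk `F_x`, for `x ∈ V`. -/
@[reducible] noncomputable def stalkModule {X : Scheme.{u}} (F : X.Modules) {V : X.Opens} {x : X}
    (hxV : x ∈ V) : Module Γ(X, V) (F.presheaf.stalk x) :=
  Module.compHom _ (X.presheaf.germ V x hxV).hom

/-- The germ map as a `Γ(X,V)`-linear map. -/
noncomputable def germₗ {X : Scheme.{u}} (F : X.Modules) {V : X.Opens} {x : X} (hxV : x ∈ V) :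
    letI := stalkModule F hxV
    Γ(F, V) →ₗ[Γ(X, V)] F.presheaf.stalk x :=
  letI := stalkModule F hxV
  { toFun := F.presheaf.germ V x hxV
    map_add' := map_add _
    map_smul' := fun r s => germ_smul F hxV r s }

lemma germₗ_apply {X : Scheme.{u}} (F : X.Modules) {V : X.Opens} {x : X} (hxV : x ∈ V)
    (s : Γ(F, V)) : germₗ F hxV s = F.presheaf.germ V x hxV s := rfl

lemma mem_primeIdealOf_iff {X : Scheme.{u}} {V : X.Opens} (hV : IsAffineOpen V) {x : X}
    (hxV : x ∈ V) (g : Γ(X, V)) :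
    g ∈ (hV.primeIdealOf ⟨x, hxV⟩).asIdeal ↔ ¬ IsUnit (X.presheaf.germ V x hxV g) := by
  rw [hV.primeIdealOf_eq_map_closedPoint]
  change X.presheaf.germ V x hxV g ∈ IsLocalRing.maximalIdeal _ ↔ _
  rw [IsLocalRing.mem_maximalIdeal, mem_nonunits_iff]

lemma notMem_primeIdealOf_iff {X : Scheme.{u}} {V : X.Opens} (hV : IsAffineOpen V) {x : X}
    (hxV : x ∈ V) (g : Γ(X, V)) :
    g ∉ (hV.primeIdealOf ⟨x, hxV⟩).asIdeal ↔ x ∈ X.basicOpen g := by
  rw [mem_primeIdealOf_iff, not_not, X.mem_basicOpen g x hxV]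


set_option backward.isDefEq.respectTransparency false in
/-- **Stalks of quasi-coherent modules are localizations of sections over affine opens.** -/
theorem isLocalizedModule_germₗ {X : Scheme.{u}} (F : X.Modules) [F.IsQuasicoherent]
    {V : X.Opens} (hV : IsAffineOpen V) {x : X} (hxV : x ∈ V) :
    letI := stalkModule F hxV
    IsLocalizedModule (hV.primeIdealOf ⟨x, hxV⟩).asIdeal.primeCompl (germₗ F hxV) := by
  let _ := stalkModule F hxV
  refine ⟨?_, ?_, ?_⟩
  · rintro ⟨g, hg⟩
    have hu : IsUnit (X.presheaf.germ V x hxV g) := by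
      by_contra h
      exact hg ((mem_primeIdealOf_iff hV hxV g).mpr h)
    rw [Module.End.isUnit_iff]
    obtain ⟨u, hu⟩ := hu
    refine ⟨fun a b hab => ?_, fun b => ⟨(↑u⁻¹ : X.presheaf.stalk x) • b, ?_⟩⟩
    · have h1 : (X.presheaf.germ V x hxV g) • a = (X.presheaf.germ V x hxV g) • b := hab
      rw [← hu] at h1
      have := congrArg (fun z => (↑u⁻¹ : X.presheaf.stalk x) • z) h1
      simpa [smul_smul] using this
    · change (X.presheaf.germ V x hxV g) • ((↑u⁻¹ : X.presheaf.stalk x) • b) = b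
      rw [← hu, smul_smul]
      simp
  · intro m
    obtain ⟨W, hxW, t, rfl⟩ := TopCat.Presheaf.exists_germ_eq F.presheaf m
    obtain ⟨g, hgW, hxg⟩ := hV.exists_basicOpen_le ⟨x, hxW⟩ hxV
    obtain ⟨n, s, hs⟩ := exists_res_eq_pow_smul F hV g (F.presheaf.map (homOfLE hgW).op t)
    have hgS : g ^ n ∈ (hV.primeIdealOf ⟨x, hxV⟩).asIdeal.primeCompl := by
      apply Submonoid.pow_mem
      exact (notMem_primeIdealOf_iff hV hxV g).mpr hxg
    refine ⟨(s, ⟨g ^ n, hgS⟩), ?_⟩
    change (X.presheaf.germ V x hxV (g ^ n)) • F.presheaf.germ W x hxW t =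
      F.presheaf.germ V x hxV s
    have h1 := congrArg (F.presheaf.germ (X.basicOpen g) x hxg) hs
    rw [TopCat.Presheaf.germ_res_apply, germ_smul, TopCat.Presheaf.germ_res_apply,
      map_pow, TopCat.Presheaf.germ_res_apply] at h1
    rw [h1, map_pow]
  · intro s₁ s₂ h
    have h' : F.presheaf.germ V x hxV (s₁ - s₂) = F.presheaf.germ V x hxV 0 := by
      rw [map_sub, map_zero, sub_eq_zero]
      exact h
    obtain ⟨W, hxW, iWV, iWV', hW⟩ := TopCat.Presheaf.germ_eq F.presheaf x hxV hxV _ _ h'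
    obtain ⟨g, hgW, hxg⟩ := hV.exists_basicOpen_le ⟨x, hxW⟩ hxV
    have hres : F.presheaf.map (homOfLE (X.basicOpen_le g)).op (s₁ - s₂) = 0 := by
      have : (homOfLE (X.basicOpen_le g)).op = iWV.op ≫ (homOfLE hgW).op := rfl
      rw [this, Functor.map_comp, ConcreteCategory.comp_apply, hW, map_zero, map_zero]
    obtain ⟨n, hn⟩ := exists_pow_smul_eq_zero_of_res_basicOpen_eq_zero F hV g _ hres
    have hgS : g ^ n ∈ (hV.primeIdealOf ⟨x, hxV⟩).asIdeal.primeCompl := by
      apply Submonoid.pow_mem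
      exact (notMem_primeIdealOf_iff hV hxV g).mpr hxg
    refine ⟨⟨g ^ n, hgS⟩, ?_⟩
    change g ^ n • s₁ = g ^ n • s₂
    rw [← sub_eq_zero, ← smul_sub, hn]

end Groth.Agent.H8
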