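import Groth.Agent.H8.PushQCoh

/-!
# The qcqs lemma for quasi-coherent modules, and quasi-coherence of qcqs pushforwards (helper8)

* `exists_pow_smul_eq_zero_of_isCompact`, `exists_res_eq_pow_smul_of_qcqs`: for `F` quasi-coherent and
  `Y` a quasi-compact (quasi-separated) open, `Γ(F, D(g)) = Γ(F, Y)_g`.
* `isLocalizingOn_of_qcqs`, `isQuasicoherent_pushforward_of_qcqs`.
-/

set_option autoImplicit false
universe u
open CategoryTheory CategoryTheory.Limits AlgebraicGeometry TopologicalSpace Opposite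

namespace Groth.Agent.H8

noncomputable section

/-- the sheaf of abelian groups underlying a module -/
abbrev abSheaf {X : Scheme.{u}} (F : X.Modules) : TopCat.Sheaf Ab X := ⟨F.presheaf, F.isSheaf⟩

lemma eq_of_res₂ {X : Scheme.{u}} (F : X.Modules) {U₁ U₂ : X.Opens} (s t : Γ(F, U₁ ⊔ U₂))
    (h₁ : F.presheaf.map (homOfLE le_sup_left : U₁ ⟶ U₁ ⊔ U₂).op s =
      F.presheaf.map (homOfLE le_sup_left : U₁ ⟶ U₁ ⊔ U₂).op t)
    (h₂ : F.presheaf.map (homOfLE le_sup_right : U₂ ⟶ U₁ ⊔ U₂).op s =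
      F.presheaf.map (homOfLE le_sup_right : U₂ ⟶ U₁ ⊔ U₂).op t) : s = t :=
  TopCat.Sheaf.eq_of_locally_eq₂ (abSheaf F) (homOfLE le_sup_left) (homOfLE le_sup_right) le_rfl
    s t h₁ h₂

lemma sections_bot_eq {X : Scheme.{u}} (F : X.Modules) {U : X.Opens} (hU : U = ⊥)
    (s t : Γ(F, U)) : s = t := by
  apply TopCat.Presheaf.section_ext (abSheaf F)
  intro x hx
  subst hU
  exact absurd hx (by simp)

lemma exists_glue₂ {X : Scheme.{u}} (F : X.Modules) {U₁ U₂ : X.Opens} (s₁ : Γ(F, U₁))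
    (s₂ : Γ(F, U₂))
    (h : F.presheaf.map (homOfLE inf_le_left : U₁ ⊓ U₂ ⟶ U₁).op s₁ =
      F.presheaf.map (homOfLE inf_le_right : U₁ ⊓ U₂ ⟶ U₂).op s₂) :
    ∃ s : Γ(F, U₁ ⊔ U₂), F.presheaf.map (homOfLE le_sup_left : U₁ ⟶ U₁ ⊔ U₂).op s = s₁ ∧
      F.presheaf.map (homOfLE le_sup_right : U₂ ⟶ U₁ ⊔ U₂).op s = s₂ := by
  let U : Bool → X.Opens := fun b => if b then U₁ else U₂
  let sf : ∀ b : Bool, Γ(F, U b) := fun b => match b with
    | true => s₁
    | false => s₂
  have key : ∀ (W : X.Opens) (h₁ : W ≤ U₁) (h₂ : W ≤ U₂),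
      F.presheaf.map (homOfLE h₁).op s₁ = F.presheaf.map (homOfLE h₂).op s₂ := by
    intro W h₁ h₂
    have := congrArg (F.presheaf.map (homOfLE (le_inf h₁ h₂)).op) h
    rw [presheaf_map_map, presheaf_map_map] at this
    exact this
  have hcomp : TopCat.Presheaf.IsCompatible (abSheaf F).1 U sf := by
    rintro (_ | _) (_ | _)
    · exact presheaf_map_eq F _ _ _
    · exact (key _ _ _).symm
    · exact key _ _ _
    · exact presheaf_map_eq F _ _ _
  obtain ⟨s, hs, -⟩ := TopCat.Sheaf.existsUnique_gluing' (abSheaf F) (U := U) (U₁ ⊔ U₂)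
    (fun b => match b with
      | true => homOfLE le_sup_left
      | false => homOfLE le_sup_right)
    (by
      rw [sup_le_iff]
      exact ⟨le_iSup U true, le_iSup U false⟩) sf hcomp
  exact ⟨s, hs true, hs false⟩

lemma res_smul {X : Scheme.{u}} (F : X.Modules) {U V : X.Opens} (h : U ≤ V) (a : Γ(X, V))
    (s : Γ(F, V)) :
    F.presheaf.map (homOfLE h).op (a • s) =
      X.presheaf.map (homOfLE h).op a • F.presheaf.map (homOfLE h).op s :=
  Scheme.Modules.map_smul F (homOfLE h) a s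

lemma res_basicOpen_eq_zero_of_le {X : Scheme.{u}} (F : X.Modules) {U V : X.Opens} (h : U ≤ V)
    (g : Γ(X, V)) (s : Γ(F, V))
    (hs : F.presheaf.map (homOfLE (X.basicOpen_le g)).op s = 0) :
    F.presheaf.map (homOfLE (X.basicOpen_le (X.presheaf.map (homOfLE h).op g))).op
      (F.presheaf.map (homOfLE h).op s) = 0 := by
  have hle : X.basicOpen (X.presheaf.map (homOfLE h).op g) ≤ X.basicOpen g := by
    rw [Scheme.basicOpen_res]
    exact inf_le_right
  have h1 := congrArg (F.presheaf.map (homOfLE hle).op) hs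
  rw [presheaf_map_map, map_zero] at h1
  rw [presheaf_map_map]
  exact h1

/-- A section of a quasi-coherent module over a quasi-compact open `Y` vanishing on `D(g)` is killed
by a power of `g`. -/
theorem exists_pow_smul_eq_zero_of_isCompact {X : Scheme.{u}} (F : X.Modules) [F.IsQuasicoherent]
    {Y : X.Opens} (hY : IsCompact (Y : Set X)) :
    ∀ (g : Γ(X, Y)) (s : Γ(F, Y)),
      F.presheaf.map (homOfLE (X.basicOpen_le g)).op s = 0 → ∃ n : ℕ, g ^ n • s = 0 := by
  refine compact_open_induction_on (P := fun Y : X.Opens => ∀ (g : Γ(X, Y)) (s : Γ(F, Y)),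
      F.presheaf.map (homOfLE (X.basicOpen_le g)).op s = 0 → ∃ n : ℕ, g ^ n • s = 0) Y hY ?_ ?_
  · intro g s _
    exact ⟨0, sections_bot_eq F rfl _ _⟩
  · intro S _ U IH g s hs
    obtain ⟨n₁, hn₁⟩ := IH _ _ (res_basicOpen_eq_zero_of_le F (le_sup_left : S ≤ S ⊔ U.1) g s hs)
    obtain ⟨n₂, hn₂⟩ := exists_pow_smul_eq_zero_of_res_basicOpen_eq_zero F U.2 _ _
      (res_basicOpen_eq_zero_of_le F (le_sup_right : U.1 ≤ S ⊔ U.1) g s hs)
    refine ⟨n₁ + n₂, ?_⟩
    apply eq_of_res₂ F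
    · rw [map_zero, res_smul, map_pow, pow_add, mul_comm, mul_smul, hn₁, smul_zero]
    · rw [map_zero, res_smul, map_pow, pow_add, mul_smul, hn₂, smul_zero]

lemma res_res {X : Scheme.{u}} (F : X.Modules) {U V W : X.Opens} (h₁ : U ≤ V) (h₂ : V ≤ W)
    (s : Γ(F, W)) :
    F.presheaf.map (homOfLE h₁).op (F.presheaf.map (homOfLE h₂).op s) =
      F.presheaf.map (homOfLE (h₁.trans h₂)).op s :=
  presheaf_map_map F _ _ s

lemma rres_rres {X : Scheme.{u}} {U V W : X.Opens} (h₁ : U ≤ V) (h₂ : V ≤ W) (a : Γ(X, W)) :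
    X.presheaf.map (homOfLE h₁).op (X.presheaf.map (homOfLE h₂).op a) =
      X.presheaf.map (homOfLE (h₁.trans h₂)).op a :=
  ring_map_map _ _ a

lemma basicOpen_res_le {X : Scheme.{u}} {U V : X.Opens} (h : U ≤ V) (g : Γ(X, V)) :
    X.basicOpen (X.presheaf.map (homOfLE h).op g) ≤ X.basicOpen g := by
  rw [Scheme.basicOpen_res]
  exact inf_le_right

set_option backward.isDefEq.respectTransparency false in
/-- Sections of a quasi-coherent module over `D(g) ⊆ Y`, `Y` quasi-compact and quasi-separated, are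
of the form `s / g ^ n` with `s` a section over `Y`. -/
theorem exists_res_eq_pow_smul_of_qcqs {X : Scheme.{u}} (F : X.Modules) [F.IsQuasicoherent]
    {Y : X.Opens} (hY : IsCompact (Y : Set X)) :
    IsQuasiSeparated (Y : Set X) → ∀ (g : Γ(X, Y)) (t : Γ(F, X.basicOpen g)),
      ∃ (n : ℕ) (s : Γ(F, Y)), F.presheaf.map (homOfLE (X.basicOpen_le g)).op s =
        (X.presheaf.map (homOfLE (X.basicOpen_le g)).op g) ^ n • t := by
  refine compact_open_induction_on (P := fun Y : X.Opens => IsQuasiSeparated (Y : Set X) →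
      ∀ (g : Γ(X, Y)) (t : Γ(F, X.basicOpen g)),
      ∃ (n : ℕ) (s : Γ(F, Y)), F.presheaf.map (homOfLE (X.basicOpen_le g)).op s =
        (X.presheaf.map (homOfLE (X.basicOpen_le g)).op g) ^ n • t) Y hY ?_ ?_
  · intro _ g t
    exact ⟨0, 0, sections_bot_eq F (le_bot_iff.mp (X.basicOpen_le g)) _ _⟩
  · intro S hS U IH hSU g t
    -- restrictions of `g`
    set g₁ := X.presheaf.map (homOfLE (le_sup_left : S ≤ S ⊔ U.1)).op g with hg₁
    set g₂ := X.presheaf.map (homOfLE (le_sup_right : U.1 ≤ S ⊔ U.1)).op g with hg₂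
    have hD₁ : X.basicOpen g₁ ≤ X.basicOpen g := basicOpen_res_le _ g
    have hD₂ : X.basicOpen g₂ ≤ X.basicOpen g := basicOpen_res_le _ g
    obtain ⟨n₁, s₁, hs₁⟩ := IH (hSU.of_subset Set.subset_union_left) g₁
      (F.presheaf.map (homOfLE hD₁).op t)
    obtain ⟨n₂, s₂, hs₂⟩ := exists_res_eq_pow_smul F U.2 g₂ (F.presheaf.map (homOfLE hD₂).op t)
    -- the intersection is quasi-compact
    have hW : IsCompact ((S ⊓ U.1 : X.Opens) : Set X) :=
      hSU _ _ Set.subset_union_left S.2 hS Set.subset_union_right U.1.2 U.2.isCompact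
    set g₃ := X.presheaf.map (homOfLE (inf_le_left.trans le_sup_left : S ⊓ U.1 ≤ S ⊔ U.1)).op g
      with hg₃
    let d : Γ(F, S ⊓ U.1) := g₃ ^ n₂ • F.presheaf.map (homOfLE inf_le_left).op s₁ -
      g₃ ^ n₁ • F.presheaf.map (homOfLE inf_le_right).op s₂
    have hD₃ : X.basicOpen g₃ ≤ X.basicOpen g := basicOpen_res_le _ g
    have hD₃₁ : X.basicOpen g₃ ≤ X.basicOpen g₁ := by
      rw [Scheme.basicOpen_res, Scheme.basicOpen_res]
      exact inf_le_inf inf_le_left le_rfl
    have hD₃₂ : X.basicOpen g₃ ≤ X.basicOpen g₂ := by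
      rw [Scheme.basicOpen_res, Scheme.basicOpen_res]
      exact inf_le_inf inf_le_right le_rfl
    have hd : F.presheaf.map (homOfLE (X.basicOpen_le g₃)).op d = 0 := by
      have e₁ := congrArg (F.presheaf.map (homOfLE hD₃₁).op) hs₁
      have e₂ := congrArg (F.presheaf.map (homOfLE hD₃₂).op) hs₂
      simp only [res_res, res_smul, rres_rres, map_pow] at e₁ e₂
      simp only [d, map_sub, res_smul, res_res, rres_rres, map_pow, hg₁, hg₂, hg₃] at e₁ e₂ ⊢
      rw [e₁, e₂, smul_smul, smul_smul, ← pow_add, ← pow_add, add_comm, sub_self]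
    obtain ⟨m, hm⟩ := exists_pow_smul_eq_zero_of_isCompact F hW g₃ d hd
    -- glue
    have hglue : F.presheaf.map (homOfLE inf_le_left : S ⊓ U.1 ⟶ S).op (g₁ ^ (m + n₂) • s₁) =
        F.presheaf.map (homOfLE inf_le_right : S ⊓ U.1 ⟶ U.1).op (g₂ ^ (m + n₁) • s₂) := by
      rw [← sub_eq_zero]
      simp only [d, smul_sub, smul_smul, ← pow_add] at hm
      simp only [res_smul, map_pow, hg₁, hg₂, rres_rres]
      exact hm
    obtain ⟨s, hsS, hsU⟩ := exists_glue₂ F _ _ hglue
    refine ⟨m + n₂ + n₁, s, ?_⟩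
    have hcover : X.basicOpen g ≤ X.basicOpen g₁ ⊔ X.basicOpen g₂ := by
      rw [Scheme.basicOpen_res, Scheme.basicOpen_res, ← inf_sup_right]
      exact le_inf (X.basicOpen_le g) le_rfl
    refine TopCat.Sheaf.eq_of_locally_eq₂ (abSheaf F) (homOfLE hD₁) (homOfLE hD₂) hcover _ _ ?_ ?_
    · have e₁ := congrArg (F.presheaf.map (homOfLE (X.basicOpen_le g₁)).op) hsS
      change F.presheaf.map _ (F.presheaf.map _ s) = F.presheaf.map _ _
      simp only [res_res, res_smul, rres_rres, map_pow, hs₁, hg₁, smul_smul, ← pow_add] at e₁ ⊢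
      exact e₁
    · have e₂ := congrArg (F.presheaf.map (homOfLE (X.basicOpen_le g₂)).op) hsU
      change F.presheaf.map _ (F.presheaf.map _ s) = F.presheaf.map _ _
      simp only [res_res, res_smul, rres_rres, map_pow, hs₂, hg₂, smul_smul, ← pow_add] at e₂ ⊢
      rw [e₂]
      congr 2
      omega

theorem isLocalizingOn_of_qcqs {X : Scheme.{u}} (F : X.Modules) [F.IsQuasicoherent]
    {Y : X.Opens} (hY : IsCompact (Y : Set X)) (hY' : IsQuasiSeparated (Y : Set X)) :
    IsLocalizingOn F Y :=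
  ⟨fun g s hs => exists_pow_smul_eq_zero_of_isCompact F hY g s hs,
   fun g t => exists_res_eq_pow_smul_of_qcqs F hY hY' g t⟩

/-- **Pushforward of a quasi-coherent module along a quasi-compact quasi-separated morphism is
quasi-coherent.** -/
theorem isQuasicoherent_pushforward_of_qcqs {X S : Scheme.{u}} (f : X ⟶ S) [QuasiCompact f]
    [QuasiSeparated f] (F : X.Modules) [F.IsQuasicoherent] :
    ((Scheme.Modules.pushforward f).obj F).IsQuasicoherent :=
  isQuasicoherent_of_isLocalizingOn _ fun V hV =>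
    (isLocalizingOn_of_qcqs F (f.isCompact_preimage hV.isCompact)
      (f.isQuasiSeparated_preimage hV.isQuasiSeparated)).pushforward f

end

end Groth.Agent.H8
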