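import Groth.Agent.H8.QCohStalk
import Groth.Prelude.Def_Pic

/-!
# Local free generators of invertible modules (helper8)

* `IsFreeGen L U σ`: the section `σ ∈ Γ(L, U)` generates `L` freely on every open contained in `U`.
* `exists_isFreeGen_of_isInvertible`: an invertible module (`PicF.IsInvertible`) has a free generator
  near every point.
* `IsFreeGen.res`, `IsFreeGen.germ_bijective`.
-/

set_option autoImplicit false
universe u
open CategoryTheory CategoryTheory.Limits AlgebraicGeometry TopologicalSpace Opposite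

namespace Groth.Agent.H8

variable {X : Scheme.{u}}

/-- `σ` generates `L` freely over every open contained in `U`. -/
def IsFreeGen (L : X.Modules) (U : X.Opens) (σ : Γ(L, U)) : Prop :=
  ∀ (V : X.Opens) (hV : V ≤ U),
    Function.Bijective (fun r : Γ(X, V) => r • L.presheaf.map (homOfLE hV).op σ)

set_option backward.isDefEq.respectTransparency false in
theorem exists_isFreeGen_of_iso_aux (L : X.Modules) (W : X.Opens)
    (e : L.restrict W.ι ≅ Coh.structureModule (W : Scheme.{u})) :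
    ∃ σ : Γ(L, W.ι ''ᵁ ⊤), ∀ (V' : (W : Scheme.{u}).Opens) (hV : W.ι ''ᵁ V' ≤ W.ι ''ᵁ ⊤),
      Function.Bijective (fun r : Γ(X, W.ι ''ᵁ V') => r • L.presheaf.map (homOfLE hV).op σ) := by
  let N : (W : Scheme.{u}).Modules := L.restrict W.ι
  let O : (W : Scheme.{u}).Modules := Coh.structureModule (W : Scheme.{u})
  let ψ : O ⟶ N := e.inv
  have hψiso : IsIso ψ := inferInstance
  let σ : Γ(L, W.ι ''ᵁ ⊤) := ψ.app ⊤ (1 : Γ(W, ⊤))
  refine ⟨σ, fun V' hV => ?_⟩
  have hnat : ψ.app V' (1 : Γ(W, V')) = L.presheaf.map (homOfLE hV).op σ := by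
    have h1 := congrArg (fun k => k (1 : Γ(W, ⊤)))
      (congrArg (fun k => (ConcreteCategory.hom k : _ → _))
        (ψ.mapPresheaf.naturality (homOfLE (le_top : V' ≤ ⊤)).op))
    simp only [Scheme.Modules.mapPresheaf_app] at h1
    rw [ConcreteCategory.comp_apply, ConcreteCategory.comp_apply] at h1
    have h2 : O.presheaf.map (homOfLE (le_top : V' ≤ ⊤)).op (1 : Γ(W, ⊤)) = (1 : Γ(W, V')) :=
      map_one ((W : Scheme.{u}).presheaf.map (homOfLE (le_top : V' ≤ ⊤)).op).hom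
    rw [h2] at h1
    exact h1
  have hφ : ∀ r : Γ(X, W.ι ''ᵁ V'),
      ψ.app V' ((W.ι.appIso V').hom r) = r • L.presheaf.map (homOfLE hV).op σ := by
    intro r
    have h1 : ψ.app V' (((W.ι.appIso V').hom r) • (1 : Γ(W, V'))) =
        ((W.ι.appIso V').hom r) • ψ.app V' (1 : Γ(W, V')) :=
      Scheme.Modules.Hom.app_smul ψ _ (1 : Γ(W, V'))
    have h2 : ((W.ι.appIso V').hom r) • (1 : Γ(W, V')) = (W.ι.appIso V').hom r := mul_one _
    have h4 : ψ.app V' (((W.ι.appIso V').hom r) • (1 : Γ(W, V'))) =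
        ψ.app V' ((W.ι.appIso V').hom r) := congrArg (ψ.app V') h2
    rw [← h4, h1, hnat]
    change ((W.ι.appIso V').inv ((W.ι.appIso V').hom r) : Γ(X, W.ι ''ᵁ V')) •
      (L.presheaf.map (homOfLE hV).op σ : Γ(L, W.ι ''ᵁ V')) = _
    rw [← ConcreteCategory.comp_apply, Iso.hom_inv_id]
    rfl
  have hb1 : Function.Bijective (ψ.app V' : Γ(W, V') → Γ(N, V')) :=
    ConcreteCategory.bijective_of_isIso (ψ.app V')
  have hb2 : Function.Bijective ((W.ι.appIso V').hom : Γ(X, W.ι ''ᵁ V') → Γ(W, V')) :=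
    ConcreteCategory.bijective_of_isIso (W.ι.appIso V').hom
  have : (fun r : Γ(X, W.ι ''ᵁ V') => r • L.presheaf.map (homOfLE hV).op σ) =
      (ψ.app V' : Γ(W, V') → Γ(N, V')) ∘ ((W.ι.appIso V').hom : Γ(X, W.ι ''ᵁ V') → Γ(W, V')) := by
    funext r
    exact (hφ r).symm
  rw [this]
  exact hb1.comp hb2


theorem exists_isFreeGen_of_iso (L : X.Modules) (W : X.Opens)
    (e : L.restrict W.ι ≅ Coh.structureModule (W : Scheme.{u})) :
    ∃ σ : Γ(L, W), IsFreeGen L W σ := by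
  have key : ∀ W' : X.Opens, W' = W.ι ''ᵁ ⊤ → ∃ σ : Γ(L, W'), IsFreeGen L W' σ := by
    rintro W' rfl
    obtain ⟨σ, hσ⟩ := exists_isFreeGen_of_iso_aux L W e
    refine ⟨σ, fun V hV => ?_⟩
    have hVW : V ≤ W := hV.trans (le_of_eq W.ι_image_top)
    have hV' : V = W.ι ''ᵁ (W.ι ⁻¹ᵁ V) := by
      rw [Scheme.Hom.image_preimage_eq_opensRange_inf, Scheme.Opens.opensRange_ι]
      exact (inf_eq_right.mpr hVW).symm
    have key2 : ∀ V₁ : X.Opens, V₁ = W.ι ''ᵁ (W.ι ⁻¹ᵁ V) → ∀ hV₁ : V₁ ≤ W.ι ''ᵁ ⊤,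
        Function.Bijective (fun r : Γ(X, V₁) => r • L.presheaf.map (homOfLE hV₁).op σ) := by
      rintro V₁ rfl hV₁
      exact hσ _ hV₁
    exact key2 V hV' hV
  exact key W W.ι_image_top.symm

theorem exists_isFreeGen_of_isInvertible {L : X.Modules} (hL : PicF.IsInvertible L) (x : X) :
    ∃ (U : X.Opens) (_ : x ∈ U) (σ : Γ(L, U)), IsFreeGen L U σ := by
  obtain ⟨U, hxU, ⟨e⟩⟩ := hL x
  obtain ⟨σ, hσ⟩ := exists_isFreeGen_of_iso L U e
  exact ⟨U, hxU, σ, hσ⟩

end Groth.Agent.H8
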