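import Groth.Agent.H8.AffStratQcqs

/-!
# A scheme has a finite affine stratification iff it is qcqs (helper8)
-/

set_option autoImplicit false
universe u
open CategoryTheory AlgebraicGeometry TopologicalSpace

namespace Groth.Agent.H8

/-- an affine open of a quasi-separated scheme with a finite affine cover has a finite
stratification with strata affine over `X`. -/
theorem exists_hasStratOn_of_isAffineOpen (X : Scheme.{u}) [QuasiSeparatedSpace X]
    (𝒲 : Set X.Opens) (hfin : 𝒲.Finite)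
    (hcov : ∀ x : X, ∃ W ∈ 𝒲, x ∈ W) (haff : ∀ W ∈ 𝒲, IsAffineOpen W)
    (U : X.Opens) (hU : IsAffineOpen U) : ∃ m, HasStratOn X (U : Set X) m := by
  classical
  haveI : IsAffine U.toScheme := hU
  have h1 : ∀ W ∈ 𝒲, ∃ s : Set Γ(U.toScheme, ⊤), s.Finite ∧
      ((U.ι ⁻¹ᵁ W : U.toScheme.Opens) : Set U.toScheme) = ⋃ r ∈ s, (U.toScheme.basicOpen r : Set _) := by
    intro W hW
    apply isCompact_and_isOpen_iff_finite_and_eq_biUnion_basicOpen.mp
    refine ⟨?_, (U.ι ⁻¹ᵁ W).isOpen⟩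
    have hc : IsCompact ((U : Set X) ∩ (W : Set X)) :=
      QuasiSeparatedSpace.inter_isCompact _ _ U.isOpen hU.isCompact W.isOpen (haff W hW).isCompact
    have : ((U.ι ⁻¹ᵁ W : U.toScheme.Opens) : Set U.toScheme) = U.ι ⁻¹' ((U : Set X) ∩ (W : Set X)) := by
      ext y
      simp only [Scheme.Hom.coe_preimage, Set.mem_preimage, Set.mem_inter_iff, SetLike.mem_coe]
      exact ⟨fun h => ⟨y.2, h⟩, fun h => h.2⟩
    rw [this]
    apply U.ι.isEmbedding.isInducing.isCompact_preimage' hc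
    rw [Scheme.Opens.range_ι]
    exact Set.inter_subset_left
  choose! s hsfin hs using h1
  let R : Set Γ(U.toScheme, ⊤) := ⋃ W ∈ 𝒲, s W
  have hR : R.Finite := hfin.biUnion fun W hW => hsfin W hW
  obtain ⟨N, g, -, hg⟩ := hR.fin_param
  obtain ⟨m, hm⟩ := exists_hasStratOn_range X 𝒲 hcov haff N U.toScheme U.ι
    (fun j => U.toScheme.basicOpen (g j)) (fun j => ⟨g j, rfl⟩)
    (fun W hW => by
      right
      refine ⟨{j : Fin N | g j ∈ s W}, ?_⟩
      apply SetLike.coe_injective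
      rw [hs W hW]
      simp only [Opens.coe_iSup]
      apply le_antisymm
      · refine Set.iUnion₂_subset fun r hr => ?_
        have hrR : r ∈ R := Set.mem_biUnion hW hr
        rw [← hg] at hrR
        obtain ⟨j, rfl⟩ := hrR
        exact Set.subset_iUnion₂ (s := fun (j : Fin N) (_ : j ∈ {j : Fin N | g j ∈ s W}) =>
          ((U.toScheme.basicOpen (g j) : U.toScheme.Opens) : Set U.toScheme)) j hr
      · refine Set.iUnion₂_subset fun j hj => ?_
        exact Set.subset_iUnion₂ (s := fun (r : Γ(U.toScheme, ⊤)) (_ : r ∈ s W) =>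
          ((U.toScheme.basicOpen r : U.toScheme.Opens) : Set U.toScheme)) (g j) hj)
  rw [Scheme.Opens.range_ι] at hm
  exact ⟨m, hm⟩

theorem exists_hasStratFin_of_qcqs (X : Scheme.{u}) [CompactSpace X] [QuasiSeparatedSpace X] :
    ∃ m, HasStratFin X m := by
  classical
  obtain ⟨t, ht⟩ := isCompact_univ.elim_finite_subcover (fun U : X.affineOpens => (U.1 : Set X))
    (fun U => U.1.isOpen) (fun x _ => by
      obtain ⟨_, ⟨V, hV, rfl⟩, hxV, -⟩ := X.isBasis_affineOpens.exists_subset_of_mem_open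
        (Set.mem_univ x) isOpen_univ
      exact Set.mem_iUnion.mpr ⟨⟨V, hV⟩, hxV⟩)
  let 𝒲 : Set X.Opens := (fun U : X.affineOpens => U.1) '' (t : Set X.affineOpens)
  have h𝒲fin : 𝒲.Finite := t.finite_toSet.image _
  have hcov : ∀ x : X, ∃ W ∈ 𝒲, x ∈ W := by
    intro x
    have := ht (Set.mem_univ x)
    simp only [Set.mem_iUnion, exists_prop] at this
    obtain ⟨U, hUt, hxU⟩ := this
    exact ⟨U.1, ⟨U, hUt, rfl⟩, hxU⟩
  have haff : ∀ W ∈ 𝒲, IsAffineOpen W := by
    rintro W ⟨U, -, rfl⟩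
    exact U.2
  have key : ∀ 𝒮 : Finset X.affineOpens, ∃ m, HasStratOn X (⋃ U ∈ 𝒮, (U.1 : Set X)) m := by
    intro 𝒮
    induction 𝒮 using Finset.induction_on with
    | empty => exact ⟨0, by simpa using hasStratOn_empty X⟩
    | insert W 𝒮 _ ih =>
      obtain ⟨m', hm'⟩ := ih
      obtain ⟨m, hm⟩ := exists_hasStratOn_of_isAffineOpen X 𝒲 h𝒲fin hcov haff W.1 W.2
      set T' : Set X := ⋃ U ∈ 𝒮, (U.1 : Set X) with hT'
      have hT'open : IsOpen T' := isOpen_biUnion fun U _ => U.1.isOpen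
      have hT := hm.inter_closed hT'open.isClosed_compl
      have hunion : (⋃ U ∈ insert W 𝒮, (U.1 : Set X)) = ((W.1 : Set X) ∩ T'ᶜ) ∪ T' := by
        rw [Finset.set_biUnion_insert]
        ext x
        simp only [Set.mem_union, Set.mem_inter_iff, Set.mem_compl_iff]
        tauto
      refine ⟨m + m', ?_⟩
      rw [hunion]
      apply hT.union hm'
      · exact Set.disjoint_left.mpr fun x hx hx' => hx.2 hx'
      · refine ⟨T'ᶜ, hT'open.isClosed_compl, ?_⟩
        ext x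
        simp only [Set.mem_union, Set.mem_inter_iff, Set.mem_compl_iff]
        tauto
  obtain ⟨m, hm⟩ := key t
  have : (⋃ U ∈ t, (U.1 : Set X)) = Set.univ := Set.eq_univ_of_univ_subset ht
  rw [this] at hm
  exact ⟨m, hasStratFin_of_hasStratOn_univ hm⟩

lemma hasStratFin_one_of_isEmpty (X : Scheme.{u}) [IsEmpty X] : HasStratFin X 1 := by
  refine ⟨fun _ => 0, fun i => ?_, fun i => ?_⟩
  · convert isClosed_empty
    exact Set.eq_empty_of_isEmpty _
  · convert goodStratum_empty X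
    exact Set.eq_empty_of_isEmpty _

theorem exists_hasAffineStratification_of_qcqs (X : Scheme.{u}) [CompactSpace X]
    [QuasiSeparatedSpace X] : ∃ n, MoreMor.HasAffineStratification X n := by
  obtain ⟨m, hm⟩ := exists_hasStratFin_of_qcqs X
  cases m with
  | zero =>
    obtain ⟨s, -, -⟩ := hm
    haveI : IsEmpty X := ⟨fun x => (s x).elim0⟩
    exact ⟨0, hasStratFin_one_of_isEmpty X⟩
  | succ n => exact ⟨n, hm⟩

theorem compactSpace_of_hasStratFin {X : Scheme.{u}} {m : ℕ} (h : HasStratFin X m) :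
    CompactSpace X := by
  obtain ⟨s, -, h2⟩ := h
  constructor
  have : (Set.univ : Set X) = ⋃ i : Fin m, {x | s x = i} := by
    ext x
    simp
  rw [this]
  apply isCompact_iUnion
  intro i
  obtain ⟨Z, ι, -, hZ, -, hr⟩ := h2 i
  rw [← hr]
  haveI : IsAffine Z := hZ
  exact isCompact_range ι.continuous

theorem quasiSeparatedSpace_of_hasStratFin {X : Scheme.{u}} {m : ℕ} (h : HasStratFin X m) :
    QuasiSeparatedSpace X := by
  obtain ⟨s, -, h2⟩ := h
  rw [quasiSeparatedSpace_iff_forall_affineOpens]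
  intro U V
  have : ((U.1 : Set X) ∩ (V.1 : Set X)) = ⋃ i : Fin m, ((U.1 : Set X) ∩ (V.1 : Set X)) ∩ {x | s x = i} := by
    ext x
    simp
  rw [this]
  apply isCompact_iUnion
  intro i
  obtain ⟨Z, ι, -, hZ, hι, hr⟩ := h2 i
  haveI : IsAffine Z := hZ
  haveI : IsAffineHom ι := hι
  have hUa : IsAffineOpen (ι ⁻¹ᵁ U.1) := U.2.preimage ι
  have hVa : IsAffineOpen (ι ⁻¹ᵁ V.1) := V.2.preimage ι
  have hc : IsCompact (((ι ⁻¹ᵁ U.1 : Z.Opens) : Set Z) ∩ ((ι ⁻¹ᵁ V.1 : Z.Opens) : Set Z)) :=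
    QuasiSeparatedSpace.inter_isCompact _ _ (ι ⁻¹ᵁ U.1).isOpen hUa.isCompact
      (ι ⁻¹ᵁ V.1).isOpen hVa.isCompact
  have himg : ι '' (((ι ⁻¹ᵁ U.1 : Z.Opens) : Set Z) ∩ ((ι ⁻¹ᵁ V.1 : Z.Opens) : Set Z)) =
      ((U.1 : Set X) ∩ (V.1 : Set X)) ∩ {x | s x = i} := by
    rw [← hr]
    ext x
    simp only [Set.mem_image, Set.mem_inter_iff, Set.mem_range]
    constructor
    · rintro ⟨z, ⟨hzU, hzV⟩, rfl⟩
      exact ⟨⟨hzU, hzV⟩, z, rfl⟩
    · rintro ⟨⟨hxU, hxV⟩, z, rfl⟩
      exact ⟨z, ⟨hxU, hxV⟩, rfl⟩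
  rw [← himg]
  exact hc.image ι.continuous

end Groth.Agent.H8
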