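import Groth.Agent.H8.Localizing

/-!
# Pushforward along quasi-compact morphisms and weakly associated points (helper8)

`not_isWeakAssPoint_pushforward_of_notMem_range`: for `f` quasi-compact and `F` quasi-coherent, a point
outside the image of `f` is not weakly associated to `f_* F`.
-/

set_option autoImplicit false
universe u
open CategoryTheory CategoryTheory.Limits AlgebraicGeometry TopologicalSpace Opposite

namespace Groth.Agent.H8

noncomputable section

lemma appLE_smul_res {X S : Scheme.{u}} (f : X ⟶ S) (F : X.Modules) {V : S.Opens} {U : X.Opens}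
    (hUV : U ≤ f ⁻¹ᵁ V) (a : Γ(S, V)) (t : Γ(F, f ⁻¹ᵁ V)) :
    F.presheaf.map (homOfLE hUV).op (f.app V a • t) =
      f.appLE V U hUV a • F.presheaf.map (homOfLE hUV).op t := by
  rw [Scheme.Modules.map_smul]
  rfl

set_option backward.isDefEq.respectTransparency false in
theorem exists_notMem_smul_res_eq_zero {X S : Scheme.{u}} (f : X ⟶ S) (F : X.Modules)
    [F.IsQuasicoherent] {V : S.Opens} (hV : IsAffineOpen V) {s : S} (hsV : s ∈ V)
    (hs : s ∉ Set.range f) (t : Γ(F, f ⁻¹ᵁ V))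
    (hrad : ∀ a ∈ (hV.primeIdealOf ⟨s, hsV⟩).asIdeal, ∃ (n : ℕ) (g : Γ(S, V)),
      s ∈ S.basicOpen g ∧
        F.presheaf.map ((Opens.map f.base).map (homOfLE (S.basicOpen_le g))).op
          ((f.app V a) ^ n • t) = 0)
    {U : X.Opens} (hU : IsAffineOpen U) (hUV : U ≤ f ⁻¹ᵁ V) :
    ∃ h : Γ(S, V), h ∉ (hV.primeIdealOf ⟨s, hsV⟩).asIdeal ∧
      f.appLE V U hUV h • F.presheaf.map (homOfLE hUV).op t = 0 := by
  by_contra hcon
  push Not at hcon
  set p := (hV.primeIdealOf ⟨s, hsV⟩).asIdeal with hp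
  set φ := f.appLE V U hUV with hφ
  set t' := F.presheaf.map (homOfLE hUV).op t with ht'
  let I : Ideal Γ(X, U) := LinearMap.ker (LinearMap.toSpanSingleton Γ(X, U) Γ(F, U) t')
  have hI : ∀ b : Γ(X, U), b ∈ I ↔ b • t' = 0 := by
    intro b
    simp [I, LinearMap.mem_ker, LinearMap.toSpanSingleton_apply]
  let K : Ideal Γ(S, V) := Ideal.comap φ.hom I.radical
  have hKp : K ≤ p := by
    intro a ha
    obtain ⟨n, hn⟩ := ha
    rw [← map_pow, hI] at hn
    by_contra hap
    have : a ^ n ∉ p := fun h => hap ((hV.primeIdealOf ⟨s, hsV⟩).isPrime.mem_of_pow_mem n h)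
    exact hcon _ this hn
  have hmin : p ∈ K.minimalPrimes := by
    refine ⟨⟨(hV.primeIdealOf ⟨s, hsV⟩).isPrime, hKp⟩, ?_⟩
    rintro q ⟨hq, hKq⟩ hqp a ha
    obtain ⟨n, g, hsg, hg⟩ := hrad a ha
    -- restrict to `U ⊓ f ⁻¹ D(g) = D(φ g)`
    have e : X.basicOpen (φ g) = U ⊓ f ⁻¹ᵁ (S.basicOpen g) := Scheme.basicOpen_appLE f U V hUV g
    have h1 : F.presheaf.map (homOfLE (X.basicOpen_le (φ g))).op ((φ a) ^ n • t') = 0 := by
      have h2 : (φ a) ^ n • t' = F.presheaf.map (homOfLE hUV).op ((f.app V a) ^ n • t) := by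
        rw [← map_pow, ← map_pow, appLE_smul_res]
      rw [h2, presheaf_map_map]
      have h3 : F.presheaf.map (homOfLE (X.basicOpen_le (φ g)) ≫ homOfLE hUV).op
          ((f.app V a) ^ n • t) =
          F.presheaf.map (homOfLE (by rw [e]; exact inf_le_right) :
            X.basicOpen (φ g) ⟶ f ⁻¹ᵁ (S.basicOpen g)).op
            (F.presheaf.map ((Opens.map f.base).map (homOfLE (S.basicOpen_le g))).op
              ((f.app V a) ^ n • t)) := by
        rw [presheaf_map_map]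
        rfl
      rw [h3, hg, map_zero]
    obtain ⟨k, hk⟩ := exists_pow_smul_eq_zero_of_res_basicOpen_eq_zero F hU (φ g) _ h1
    have h4 : g ^ k * a ^ n ∈ K := by
      change φ (g ^ k * a ^ n) ∈ I.radical
      apply Ideal.le_radical
      rw [hI, map_mul, map_pow, map_pow, mul_smul]
      exact hk
    have h5 := hKq h4
    have hgq : g ∉ q := by
      intro hgq
      have : g ∈ p := hqp hgq
      exact ((notMem_primeIdealOf_iff hV hsV g).mpr hsg) this
    rcases hq.mem_or_mem h5 with h6 | h6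
    · exact absurd (hq.mem_of_pow_mem k h6) hgq
    · exact hq.mem_of_pow_mem n h6
  obtain ⟨q, hq, -, hqp⟩ := Ideal.exists_comap_eq_of_mem_minimalPrimes φ.hom p hmin
  let q' : PrimeSpectrum Γ(X, U) := ⟨q, hq⟩
  apply hs
  refine ⟨hU.fromSpec q', ?_⟩
  have h1 := IsAffineOpen.SpecMap_appLE_fromSpec f hV hU hUV
  have h2 : f (hU.fromSpec q') = hV.fromSpec (Spec.map (f.appLE V U hUV) q') := by
    rw [← Scheme.Hom.comp_apply, ← Scheme.Hom.comp_apply, h1]
  refine h2.trans (Eq.trans ?_ (hV.fromSpec_primeIdealOf ⟨s, hsV⟩))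
  congr 1
  exact PrimeSpectrum.ext hqp

open Curv2 in
set_option backward.isDefEq.respectTransparency false in
/-- A point outside the image of a quasi-compact morphism is not weakly associated to the
pushforward of a quasi-coherent module. -/
theorem not_isWeakAssPoint_pushforward_of_notMem_range {X S : Scheme.{u}} (f : X ⟶ S)
    [QuasiCompact f] (F : X.Modules) [F.IsQuasicoherent] (s : S) (hs : s ∉ Set.range f) :
    ¬ IsWeakAssPoint ((Scheme.Modules.pushforward f).obj F) s := by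
  rintro ⟨m, hm⟩
  let G : S.Modules := (Scheme.Modules.pushforward f).obj F
  have hm0 : m ≠ 0 := by
    intro h0
    rw [h0, LinearMap.toSpanSingleton_zero, LinearMap.ker_zero, Ideal.radical_top] at hm
    exact (IsLocalRing.maximalIdeal.isMaximal _).ne_top hm.symm
  obtain ⟨W, hsW, t₀, ht₀⟩ := TopCat.Presheaf.exists_germ_eq G.presheaf m
  obtain ⟨_, ⟨V, hV, rfl⟩, hsV, hVW⟩ :=
    S.isBasis_affineOpens.exists_subset_of_mem_open hsW W.2
  have hV : IsAffineOpen V := hV
  have hsV : s ∈ V := hsV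
  have hVW : V ≤ W := hVW
  let t : Γ(G, V) := G.presheaf.map (homOfLE hVW).op t₀
  have htm : G.presheaf.germ V s hsV t = m :=
    (TopCat.Presheaf.germ_res_apply ..).trans ht₀
  set p := (hV.primeIdealOf ⟨s, hsV⟩).asIdeal with hp
  have hrad : ∀ a ∈ p, ∃ (n : ℕ) (g : Γ(S, V)), s ∈ S.basicOpen g ∧
      F.presheaf.map ((Opens.map f.base).map (homOfLE (S.basicOpen_le g))).op
        ((f.app V a) ^ n • (show Γ(F, f ⁻¹ᵁ V) from t)) = 0 := by
    intro a ha
    have h1 : S.presheaf.germ V s hsV a ∈ IsLocalRing.maximalIdeal (S.presheaf.stalk s) := by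
      rw [IsLocalRing.mem_maximalIdeal, mem_nonunits_iff]
      exact (mem_primeIdealOf_iff hV hsV a).mp ha
    rw [← hm] at h1
    obtain ⟨n, hn⟩ := h1
    rw [LinearMap.mem_ker, LinearMap.toSpanSingleton_apply, ← htm, ← map_pow, ← germ_smul] at hn
    obtain ⟨W', hsW', i1, i2, hW'⟩ := TopCat.Presheaf.germ_eq G.presheaf s hsV hsV
      (a ^ n • t) 0 (by rw [hn, map_zero])
    obtain ⟨g, hgW', hsg⟩ := hV.exists_basicOpen_le ⟨s, hsW'⟩ hsV
    refine ⟨n, g, hsg, ?_⟩
    have h2 : G.presheaf.map (homOfLE (S.basicOpen_le g)).op (a ^ n • t) = 0 := by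
      have : (homOfLE (S.basicOpen_le g)).op = i1.op ≫ (homOfLE hgW').op := rfl
      rw [this, Functor.map_comp, ConcreteCategory.comp_apply, hW', map_zero, map_zero]
    rw [smul_pushforward, map_pow] at h2
    exact h2
  have hcpt : IsCompact ((f ⁻¹ᵁ V : X.Opens) : Set X) := f.isCompact_preimage hV.isCompact
  obtain ⟨𝒰, h𝒰fin, h𝒰⟩ := isCompact_iff_finite_and_eq_biUnion_affineOpens.mp hcpt
  have hle : ∀ U ∈ 𝒰, (U : X.Opens) ≤ f ⁻¹ᵁ V := by
    intro U hU
    rw [h𝒰]
    exact le_iSup₂ (f := fun (i : X.affineOpens) (_ : i ∈ 𝒰) => (i : X.Opens)) U hU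
  have hex : ∀ U : 𝒰, ∃ h : Γ(S, V), h ∉ p ∧
      f.appLE V U (hle U U.2) h •
        F.presheaf.map (homOfLE (hle U U.2)).op (show Γ(F, f ⁻¹ᵁ V) from t) = 0 :=
    fun U => exists_notMem_smul_res_eq_zero f F hV hsV hs t hrad U.1.2 (hle U U.2)
  choose hh hh1 hh2 using hex
  have := h𝒰fin.fintype
  classical
  let h : Γ(S, V) := ∏ U : 𝒰, hh U
  have hhp : h ∉ p := by
    intro hmem
    obtain ⟨U, -, hU⟩ := ((hV.primeIdealOf ⟨s, hsV⟩).isPrime.prod_mem_iff).mp hmem
    exact hh1 U hU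
  have hht : (f.app V h) • (show Γ(F, f ⁻¹ᵁ V) from t) = 0 := by
    apply TopCat.Presheaf.section_ext ⟨F.presheaf, F.isSheaf⟩
    intro x hx
    have hx' : x ∈ ⨆ i ∈ 𝒰, (i : X.Opens) := h𝒰 ▸ hx
    obtain ⟨U, hU, hxU⟩ : ∃ U ∈ 𝒰, x ∈ (U : X.Opens) := by
      simpa [Opens.mem_iSup] using hx'
    rw [map_zero, ← TopCat.Presheaf.germ_res_apply F.presheaf (homOfLE (hle U hU)) x hxU,
      appLE_smul_res]
    have hprod : h = (∏ U' ∈ (Finset.univ : Finset 𝒰).erase ⟨U, hU⟩, hh U') * hh ⟨U, hU⟩ :=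
      (Finset.prod_erase_mul Finset.univ hh (Finset.mem_univ _)).symm
    rw [hprod, map_mul, mul_smul, hh2 ⟨U, hU⟩, smul_zero, map_zero]
  have hfin : G.presheaf.germ V s hsV (h • t) = 0 := by
    rw [smul_pushforward]
    exact (congrArg (G.presheaf.germ V s hsV) hht).trans (map_zero _)
  rw [germ_smul] at hfin
  have hunit : IsUnit (S.presheaf.germ V s hsV h) := by
    by_contra hu
    exact hhp ((mem_primeIdealOf_iff hV hsV h).mpr hu)
  apply hm0
  rw [← htm]
  have h6 := congrArg (fun z => (↑hunit.unit⁻¹ : S.presheaf.stalk s) • z) hfin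
  simp only [smul_zero] at h6
  rw [smul_smul, IsUnit.val_inv_mul, one_smul] at h6
  exact h6

end

end Groth.Agent.H8
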