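import Mathlib.AlgebraicGeometry.AffineScheme
import Mathlib.AlgebraicGeometry.IdealSheaf.Basic
import Mathlib.AlgebraicGeometry.Noetherian
import Mathlib.RingTheory.Ideal.KrullsHeightTheorem
import Mathlib.RingTheory.Ideal.Height

set_option autoImplicit false
universe u

namespace Groth.Agent.H8

open AlgebraicGeometry CategoryTheory

variable {X : Scheme.{u}}

/-- The Krull dimension of the stalk at a point of an affine open is the height of its prime. -/
theorem ringKrullDim_stalk_eq_height {U : X.Opens} (hU : IsAffineOpen U) (x : X) (hx : x ∈ U) :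
    ringKrullDim (X.presheaf.stalk x) = (hU.primeIdealOf ⟨x, hx⟩).asIdeal.height := by
  let _ := X.presheaf.algebra_section_stalk ⟨x, hx⟩
  have := hU.isLocalization_stalk ⟨x, hx⟩
  exact IsLocalization.AtPrime.ringKrullDim_eq_height (hU.primeIdealOf ⟨x, hx⟩).asIdeal _

set_option backward.isDefEq.respectTransparency false in
/-- Membership in the support of an ideal sheaf, read off on an affine open. -/
theorem mem_support_iff_le_primeIdealOf (I : X.IdealSheafData) {U : X.Opens} (hU : IsAffineOpen U)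
    (x : X) (hx : x ∈ U) :
    x ∈ I.support ↔ I.ideal ⟨U, hU⟩ ≤ (hU.primeIdealOf ⟨x, hx⟩).asIdeal := by
  rw [Scheme.IdealSheafData.mem_support_iff_of_mem (U := ⟨U, hU⟩) hx]
  have h1 : x = hU.fromSpec (hU.primeIdealOf ⟨x, hx⟩) := (hU.fromSpec_primeIdealOf ⟨x, hx⟩).symm
  conv_lhs => rw [h1]
  rw [← Set.mem_preimage, hU.fromSpec_preimage_zeroLocus, PrimeSpectrum.mem_zeroLocus]
  rfl

theorem fromSpec_mem {U : X.Opens} (hU : IsAffineOpen U) (q : PrimeSpectrum Γ(X, U)) :
    hU.fromSpec q ∈ U := by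
  have : hU.fromSpec q ∈ Set.range hU.fromSpec := ⟨q, rfl⟩
  rwa [hU.range_fromSpec] at this

theorem primeIdealOf_fromSpec {U : X.Opens} (hU : IsAffineOpen U) (q : PrimeSpectrum Γ(X, U)) :
    hU.primeIdealOf ⟨hU.fromSpec q, fromSpec_mem hU q⟩ = q := by
  apply hU.fromSpec.isOpenEmbedding.injective
  exact hU.fromSpec_primeIdealOf ⟨hU.fromSpec q, fromSpec_mem hU q⟩

theorem fromSpec_specializes {U : X.Opens} (hU : IsAffineOpen U) {q p : PrimeSpectrum Γ(X, U)}
    (h : q ≤ p) : hU.fromSpec q ⤳ hU.fromSpec p :=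
  ((PrimeSpectrum.le_iff_specializes q p).mp h).map hU.fromSpec.continuous

set_option backward.isDefEq.respectTransparency false in
/-- A point of the support of `I` with no proper generization in the support gives a minimal
prime of the ideal of `I` on any affine open containing it. -/
theorem primeIdealOf_mem_minimalPrimes (I : X.IdealSheafData) {U : X.Opens} (hU : IsAffineOpen U)
    (x : X) (hx : x ∈ U) (hxI : x ∈ I.support)
    (hgen : ∀ y ∈ (I.support : Set X), y ⤳ x → y = x) :
    (hU.primeIdealOf ⟨x, hx⟩).asIdeal ∈ (I.ideal ⟨U, hU⟩).minimalPrimes := by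
  refine ⟨⟨(hU.primeIdealOf ⟨x, hx⟩).isPrime, (mem_support_iff_le_primeIdealOf I hU x hx).mp hxI⟩, ?_⟩
  rintro q ⟨hq, hIq⟩ hqp
  let q' : PrimeSpectrum Γ(X, U) := ⟨q, hq⟩
  have hy : hU.fromSpec q' ∈ (I.support : Set X) := by
    rw [SetLike.mem_coe, mem_support_iff_le_primeIdealOf I hU _ (fromSpec_mem hU q'),
      primeIdealOf_fromSpec]
    exact hIq
  have hsp : hU.fromSpec q' ⤳ x := by
    have := fromSpec_specializes hU (q := q') (p := hU.primeIdealOf ⟨x, hx⟩) hqp
    rwa [hU.fromSpec_primeIdealOf ⟨x, hx⟩] at this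
  have heq := hgen _ hy hsp
  have : q' = hU.primeIdealOf ⟨x, hx⟩ := by
    apply hU.fromSpec.isOpenEmbedding.injective
    rw [heq, hU.fromSpec_primeIdealOf ⟨x, hx⟩]
  rw [← this]

end Groth.Agent.H8
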