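import Mathlib
import Groth.Prelude.Def_FlatCA

/-!
# Weakly associated primes and localization (helper8)

For `R → R'` the localization at a prime `p` and `f : M → M'` the localization of a module at `p`:
`p` is weakly associated to `M` iff some element of `M'` has annihilator (in `R'`) with radical the
maximal ideal.  Stated for arbitrary `IsLocalization.AtPrime` / `IsLocalizedModule`.
-/

set_option autoImplicit false
universe u v w w'

namespace Groth.Agent.H8

open IsLocalRing

section

variable {R : Type u} [CommRing R] (p : Ideal R) [hp : p.IsPrime] {R' : Type w} [CommRing R']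
  [Algebra R R'] [IsLocalization.AtPrime R' p] [IsLocalRing R']
  {M : Type v} {M' : Type w'} [AddCommGroup M] [Module R M] [AddCommGroup M'] [Module R M']
  [Module R' M'] [IsScalarTower R R' M'] (f : M →ₗ[R] M') [IsLocalizedModule p.primeCompl f]

include p f in
omit [IsLocalRing R'] [IsLocalization.AtPrime R' p] in
lemma algebraMap_smul_map_eq_zero_iff (a : R) (m : M) :
    algebraMap R R' a • f m = 0 ↔ ∃ t : R, t ∉ p ∧ (t * a) • m = 0 := by
  rw [algebraMap_smul, ← map_smul, IsLocalizedModule.eq_zero_iff p.primeCompl f]
  constructor
  · rintro ⟨⟨t, ht⟩, h⟩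
    exact ⟨t, ht, by rwa [mul_smul]⟩
  · rintro ⟨t, ht, h⟩
    exact ⟨⟨t, ht⟩, by rwa [mul_smul] at h⟩

include p f in
/-- `p` is weakly associated to `M` iff `p R_p` is "radically" associated to `M_p`. -/
theorem exists_radical_ann_eq_maximalIdeal_iff :
    (∃ m' : M', Ideal.radical (LinearMap.ker (LinearMap.toSpanSingleton R' M' m')) =
        maximalIdeal R') ↔
      p ∈ FlatCA.weakAss R M := by
  have hcomap : (maximalIdeal R').comap (algebraMap R R') = p :=
    IsLocalization.AtPrime.under_maximalIdeal R' p
  have hmap : p.map (algebraMap R R') = maximalIdeal R' :=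
    IsLocalization.AtPrime.map_eq_maximalIdeal p R'
  have hmemker : ∀ (m' : M') (r' : R'),
      r' ∈ LinearMap.ker (LinearMap.toSpanSingleton R' M' m') ↔ r' • m' = 0 := by
    intro m' r'
    simp [LinearMap.mem_ker, LinearMap.toSpanSingleton_apply]
  constructor
  · rintro ⟨m', hm'⟩
    obtain ⟨⟨m, s⟩, hs⟩ := IsLocalizedModule.surj p.primeCompl f m'
    have hsu : IsUnit (algebraMap R R' s) := IsLocalization.map_units R' s
    -- annihilators of `m'` and `f m` agree
    have hker : LinearMap.ker (LinearMap.toSpanSingleton R' M' m') =
        LinearMap.ker (LinearMap.toSpanSingleton R' M' (f m)) := by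
      ext r'
      rw [hmemker, hmemker]
      have hs' : f m = algebraMap R R' s • m' := by
        rw [algebraMap_smul]
        exact hs.symm
      rw [hs', smul_smul, mul_comm, ← smul_smul]
      constructor
      · intro h
        rw [h, smul_zero]
      · intro h
        have h5 := congrArg (fun z => (↑hsu.unit⁻¹ : R') • z) h
        simp only [smul_zero] at h5
        rw [smul_smul, IsUnit.val_inv_mul, one_smul] at h5
        exact h5
    rw [hker] at hm'
    refine ⟨m, ⟨hp, ?_⟩, ?_⟩
    · intro a ha
      rw [Submodule.mem_annihilator_span_singleton] at ha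
      have h1 : algebraMap R R' a ∈ LinearMap.ker (LinearMap.toSpanSingleton R' M' (f m)) := by
        rw [hmemker, algebraMap_smul, ← map_smul, ha, map_zero]
      have h2 : algebraMap R R' a ∈ maximalIdeal R' := hm' ▸ Ideal.le_radical h1
      exact (IsLocalization.AtPrime.to_map_mem_maximal_iff R' p a).mp h2
    · rintro q ⟨hq, hAq⟩ hqp
      have hdisj : Disjoint (p.primeCompl : Set R) (q : Set R) := by
        rw [Set.disjoint_left]
        intro x hx hxq
        exact hx (hqp hxq)
      have hQ : (q.map (algebraMap R R')).IsPrime :=
        IsLocalization.isPrime_of_isPrime_disjoint p.primeCompl R' q hq hdisj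
      have hQc : (q.map (algebraMap R R')).comap (algebraMap R R') = q :=
        IsLocalization.under_map_of_isPrime_disjoint p.primeCompl R' hq hdisj
      have hle : LinearMap.ker (LinearMap.toSpanSingleton R' M' (f m)) ≤
          q.map (algebraMap R R') := by
        intro r' hr'
        rw [hmemker] at hr'
        obtain ⟨a, s', rfl⟩ := IsLocalization.exists_mk'_eq p.primeCompl r'
        rw [IsLocalization.mk'_mem_map_algebraMap_iff]
        have h3 : algebraMap R R' a • f m = 0 := by
          have : algebraMap R R' a = algebraMap R R' s' * IsLocalization.mk' R' a s' := by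
            rw [mul_comm, IsLocalization.mk'_spec]
          rw [this, mul_smul, hr', smul_zero]
        obtain ⟨t, ht, htm⟩ := (algebraMap_smul_map_eq_zero_iff p f a m).mp h3
        refine ⟨t, ht, hAq ?_⟩
        rw [Submodule.mem_annihilator_span_singleton]
        exact htm
      have h4 : maximalIdeal R' ≤ q.map (algebraMap R R') := by
        rw [← hm']
        exact (Ideal.radical_mono hle).trans hQ.radical.le
      calc p = (maximalIdeal R').comap (algebraMap R R') := hcomap.symm
        _ ≤ (q.map (algebraMap R R')).comap (algebraMap R R') := Ideal.comap_mono h4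
        _ = q := hQc
  · rintro ⟨m, ⟨-, hAp⟩, hmin⟩
    refine ⟨f m, le_antisymm ?_ ?_⟩
    · have hne : LinearMap.ker (LinearMap.toSpanSingleton R' M' (f m)) ≠ ⊤ := by
        intro h
        have h1 : (1 : R') ∈ LinearMap.ker (LinearMap.toSpanSingleton R' M' (f m)) :=
          h ▸ Submodule.mem_top
        rw [hmemker, ← map_one (algebraMap R R')] at h1
        obtain ⟨t, ht, htm⟩ := (algebraMap_smul_map_eq_zero_iff p f 1 m).mp h1
        apply ht
        apply hAp
        rw [Submodule.mem_annihilator_span_singleton]
        simpa using htm
      exact (Ideal.radical_mono (IsLocalRing.le_maximalIdeal hne)).trans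
        (Ideal.IsPrime.radical inferInstance).le
    · rw [Ideal.radical_eq_sInf]
      refine le_sInf ?_
      rintro Q ⟨hAQ, hQ⟩
      have hqp : Q.comap (algebraMap R R') ≤ p := by
        rw [← hcomap]
        exact Ideal.comap_mono (IsLocalRing.le_maximalIdeal hQ.ne_top)
      have hAq : (Submodule.span R {m}).annihilator ≤ Q.comap (algebraMap R R') := by
        intro a ha
        rw [Submodule.mem_annihilator_span_singleton] at ha
        rw [Ideal.mem_comap]
        apply hAQ
        rw [hmemker, algebraMap_smul, ← map_smul, ha, map_zero]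
      have hpq : p ≤ Q.comap (algebraMap R R') := hmin ⟨hQ.comap _, hAq⟩ hqp
      rw [← hmap]
      exact (Ideal.map_mono hpq).trans Ideal.map_comap_le

end

end Groth.Agent.H8
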