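import Groth.Agent.H8.QCohStalk
import Groth.Agent.H8.WeakAssLoc
import Groth.Prelude.Def_CurvBase
import Groth.Prelude.Def_CohB1
import Groth.Agent.H8.AffineLocal

/-!
# (Weakly) associated points of quasi-coherent modules via affine charts (helper8)

* `isAssPoint_iff_isWeakAssPoint`: with Mathlib's (radical) definition of `IsAssociatedPrime`, the
  two Prelude notions `Curv2.IsAssPoint` and `Curv2.IsWeakAssPoint` agree.
* `isWeakAssPoint_iff_mem_weakAss`: for `F` quasi-coherent, `V` affine open and `x ∈ V`, the point `x`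
  is weakly associated to `F` iff its prime is weakly associated to `Γ(F, V)`.
-/

set_option autoImplicit false
universe u
open CategoryTheory CategoryTheory.Limits AlgebraicGeometry TopologicalSpace Opposite

namespace Groth.Agent.H8

open Curv2

lemma colon_bot_singleton_eq_ker {R M : Type*} [CommRing R] [AddCommGroup M] [Module R M] (m : M) :
    Submodule.colon (⊥ : Submodule R M) {m} = LinearMap.ker (LinearMap.toSpanSingleton R M m) := by
  ext a
  simp [Submodule.mem_colon_singleton, LinearMap.mem_ker, LinearMap.toSpanSingleton_apply]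

theorem isAssPoint_iff_isWeakAssPoint {X : Scheme.{u}} (F : X.Modules) (x : X) :
    IsAssPoint F x ↔ IsWeakAssPoint F x := by
  constructor
  · rintro ⟨-, m, hm⟩
    exact ⟨m, by rw [← colon_bot_singleton_eq_ker]; exact hm.symm⟩
  · rintro ⟨m, hm⟩
    exact ⟨inferInstance, m, by rw [colon_bot_singleton_eq_ker]; exact hm.symm⟩

set_option backward.isDefEq.respectTransparency false in
theorem isWeakAssPoint_iff_mem_weakAss {X : Scheme.{u}} (F : X.Modules) [F.IsQuasicoherent]
    {V : X.Opens} (hV : IsAffineOpen V) {x : X} (hxV : x ∈ V) :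
    IsWeakAssPoint F x ↔
      (hV.primeIdealOf ⟨x, hxV⟩).asIdeal ∈ FlatCA.weakAss Γ(X, V) Γ(F, V) := by
  let _ : Algebra Γ(X, V) (X.presheaf.stalk x) :=
    TopCat.Presheaf.algebra_section_stalk X.presheaf ⟨x, hxV⟩
  have : IsLocalization.AtPrime (X.presheaf.stalk x) (hV.primeIdealOf ⟨x, hxV⟩).asIdeal :=
    hV.isLocalization_stalk ⟨x, hxV⟩
  let _ := stalkModule F hxV
  have : IsScalarTower Γ(X, V) (X.presheaf.stalk x) (F.presheaf.stalk x) :=
    .of_algebraMap_smul fun _ _ => rfl
  have := isLocalizedModule_germₗ F hV hxV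
  exact exists_radical_ann_eq_maximalIdeal_iff (hV.primeIdealOf ⟨x, hxV⟩).asIdeal (germₗ F hxV)


/-- A point of the support of a quasi-coherent module with no proper generization in the support is
weakly associated. -/
theorem isWeakAssPoint_of_maximal_in_support {X : Scheme.{u}} (F : X.Modules) [F.IsQuasicoherent]
    (x : X) (hx : x ∈ CohB1.support F)
    (hmax : ∀ y ∈ CohB1.support F, y ⤳ x → y = x) : IsWeakAssPoint F x := by
  have hnt : Nontrivial (F.presheaf.stalk x) := not_subsingleton_iff_nontrivial.mp hx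
  obtain ⟨m, hm⟩ := exists_ne (0 : F.presheaf.stalk x)
  refine ⟨m, ?_⟩
  set I : Ideal (X.presheaf.stalk x) :=
    LinearMap.ker (LinearMap.toSpanSingleton (X.presheaf.stalk x) (F.presheaf.stalk x) m) with hI
  have hmem : ∀ a : X.presheaf.stalk x, a ∈ I ↔ a • m = 0 := by
    intro a
    simp [hI, LinearMap.mem_ker, LinearMap.toSpanSingleton_apply]
  have hne : I ≠ ⊤ := by
    intro h
    have : (1 : X.presheaf.stalk x) ∈ I := h ▸ Submodule.mem_top
    rw [hmem, one_smul] at this
    exact hm this
  apply le_antisymm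
  · exact (Ideal.radical_mono (IsLocalRing.le_maximalIdeal hne)).trans
      (Ideal.IsPrime.radical inferInstance).le
  · rw [Ideal.radical_eq_sInf]
    refine le_sInf ?_
    rintro q ⟨hIq, hqp⟩
    let q' : Spec (X.presheaf.stalk x) := ⟨q, hqp⟩
    have hsupp := not_subsingleton_stalk_of_annihilator_le F x m q'
      (fun a ha => hIq ((hmem a).mpr ha))
    have hy := hmax _ hsupp (fromSpecStalk_specializes x q')
    have hinj : Function.Injective (X.fromSpecStalk x) :=
      (X.fromSpecStalk x).isEmbedding.injective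
    have h2 : q' = IsLocalRing.closedPoint (X.presheaf.stalk x) := by
      apply hinj
      rw [hy, Scheme.fromSpecStalk_closedPoint]
    have h3 : q = IsLocalRing.maximalIdeal (X.presheaf.stalk x) :=
      congrArg PrimeSpectrum.asIdeal h2
    rw [h3]

/-- A module is zero iff all its stalks are. -/
theorem isZero_iff_forall_subsingleton_stalk {X : Scheme.{u}} (F : X.Modules) :
    IsZero F ↔ ∀ x : X, Subsingleton (F.presheaf.stalk x) := by
  constructor
  · intro h x
    refine ⟨fun a b => ?_⟩
    have hz : ∀ c : F.presheaf.stalk x, c = 0 := by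
      intro c
      obtain ⟨U, hxU, s, rfl⟩ := TopCat.Presheaf.exists_germ_eq F.presheaf c
      have h1 : (𝟙 F : F ⟶ F) = 0 := h.eq_of_src _ _
      have h2 : s = 0 := by
        have := congrArg (fun φ : F ⟶ F => (φ.app U) s) h1
        simpa using this
      rw [h2, map_zero]
    rw [hz a, hz b]
  · intro h
    rw [IsZero.iff_id_eq_zero]
    ext U s
    have hs : s = 0 := by
      apply TopCat.Presheaf.section_ext ⟨F.presheaf, F.isSheaf⟩
      intro x hx
      exact (h x).elim _ _
    simp [hs]

set_option backward.isDefEq.respectTransparency false in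
/-- A nonzero section of a quasi-coherent module over an affine open has a nonzero germ at some weakly
associated point. -/
theorem exists_isWeakAssPoint_germ_ne_zero {X : Scheme.{u}} (F : X.Modules) [F.IsQuasicoherent]
    {V : X.Opens} (hV : IsAffineOpen V) (m : Γ(F, V)) (hm : m ≠ 0) :
    ∃ (y : X) (hyV : y ∈ V), IsWeakAssPoint F y ∧ F.presheaf.germ V y hyV m ≠ 0 := by
  have hne : (Submodule.span Γ(X, V) {m}).annihilator ≠ ⊤ := by
    intro h
    have : (1 : Γ(X, V)) ∈ (Submodule.span Γ(X, V) {m}).annihilator := h ▸ Submodule.mem_top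
    rw [Submodule.mem_annihilator_span_singleton, one_smul] at this
    exact hm this
  obtain ⟨q, hq⟩ := Ideal.nonempty_minimalPrimes hne
  have hqp : q.IsPrime := hq.1.1
  let q' : PrimeSpectrum Γ(X, V) := ⟨q, hqp⟩
  have hyV : hV.fromSpec q' ∈ V := fromSpec_mem hV q'
  have hprime : hV.primeIdealOf ⟨hV.fromSpec q', hyV⟩ = q' := primeIdealOf_fromSpec hV q'
  refine ⟨hV.fromSpec q', hyV, ?_, ?_⟩
  · rw [isWeakAssPoint_iff_mem_weakAss F hV hyV, hprime]
    exact ⟨m, hq⟩
  · intro h0
    let _ := stalkModule F hyV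
    have := isLocalizedModule_germₗ F hV hyV
    have h1 : germₗ F hyV m = 0 := h0
    rw [IsLocalizedModule.eq_zero_iff (hV.primeIdealOf ⟨hV.fromSpec q', hyV⟩).asIdeal.primeCompl]
      at h1
    obtain ⟨⟨t, ht⟩, htm⟩ := h1
    rw [hprime] at ht
    apply ht
    apply hq.1.2
    rw [Submodule.mem_annihilator_span_singleton]
    exact htm


lemma not_isWeakAssPoint_of_subsingleton {X : Scheme.{u}} (F : X.Modules) (x : X)
    (h : Subsingleton (F.presheaf.stalk x)) : ¬ IsWeakAssPoint F x := by
  rintro ⟨m, hm⟩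
  have hm0 : m = 0 := Subsingleton.elim _ _
  rw [hm0, LinearMap.toSpanSingleton_zero, LinearMap.ker_zero, Ideal.radical_top] at hm
  exact (IsLocalRing.maximalIdeal.isMaximal (X.presheaf.stalk x)).ne_top hm.symm

/-- A nonzero section of a quasi-coherent module over any open has a nonzero germ at some weakly
associated point. -/
theorem exists_isWeakAssPoint_germ_ne_zero' {X : Scheme.{u}} (F : X.Modules) [F.IsQuasicoherent]
    {W : X.Opens} (s : Γ(F, W)) (hs : s ≠ 0) :
    ∃ (y : X) (hyW : y ∈ W), IsWeakAssPoint F y ∧ F.presheaf.germ W y hyW s ≠ 0 := by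
  have h1 : ∃ (x : X) (hxW : x ∈ W), F.presheaf.germ W x hxW s ≠ 0 := by
    by_contra hcon
    push Not at hcon
    apply hs
    apply TopCat.Presheaf.section_ext ⟨F.presheaf, F.isSheaf⟩
    intro x hx
    rw [hcon x hx, map_zero]
  obtain ⟨x, hxW, hx⟩ := h1
  obtain ⟨_, ⟨V, hV, rfl⟩, hxV, hVW'⟩ := X.isBasis_affineOpens.exists_subset_of_mem_open hxW W.2
  have hVW : V ≤ W := hVW'
  have hV : IsAffineOpen V := hV
  have hxV : x ∈ V := hxV
  have ht : F.presheaf.map (homOfLE hVW).op s ≠ 0 := by
    intro h0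
    apply hx
    rw [← TopCat.Presheaf.germ_res_apply F.presheaf (homOfLE hVW) x hxV s, h0, map_zero]
  obtain ⟨y, hyV, hy, hgy⟩ := exists_isWeakAssPoint_germ_ne_zero F hV _ ht
  refine ⟨y, hVW hyV, hy, ?_⟩
  rwa [TopCat.Presheaf.germ_res_apply] at hgy

theorem isZero_iff_no_isWeakAssPoint {X : Scheme.{u}} (F : X.Modules) [F.IsQuasicoherent] :
    IsZero F ↔ ∀ x : X, ¬ IsWeakAssPoint F x := by
  constructor
  · intro h x
    exact not_isWeakAssPoint_of_subsingleton F x
      ((isZero_iff_forall_subsingleton_stalk F).mp h x)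
  · intro h
    rw [IsZero.iff_id_eq_zero]
    ext U s
    by_contra hs
    have hs' : s ≠ 0 := by
      intro h0
      apply hs
      simp [h0]
    obtain ⟨y, -, hy, -⟩ := exists_isWeakAssPoint_germ_ne_zero' F s hs'
    exact h y hy

theorem restrict_injective_of_weakAssPoints_subset {X : Scheme.{u}} (F : X.Modules)
    [F.IsQuasicoherent] {U W : X.Opens} (hUW : U ≤ W)
    (hU : ∀ x ∈ W, IsWeakAssPoint F x → x ∈ U) :
    Function.Injective (F.presheaf.map (homOfLE hUW).op) := by
  rw [injective_iff_map_eq_zero]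
  intro s hs
  by_contra hs'
  obtain ⟨y, hyW, hy, hgy⟩ := exists_isWeakAssPoint_germ_ne_zero' F s hs'
  apply hgy
  rw [← TopCat.Presheaf.germ_res_apply F.presheaf (homOfLE hUW) y (hU y hyW hy) s, hs, map_zero]

end Groth.Agent.H8
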