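import Groth.Agent.H8.RegStalk

/-!
# Weakly associated points of `O_X` and associated primes of the local rings (helper8)

* `isWeakAssPoint_structure_iff`: `x` is weakly associated to `O_X` iff the maximal ideal of `O_{X,x}`
  is an associated prime (Mathlib's radical form) of `O_{X,x}`.
* `isUnit_of_mem_nonZeroDivisors_of_isAssociatedPrime`: in a local ring whose maximal ideal is an
  associated prime, nonzerodivisors are units.
-/

set_option autoImplicit false
universe u
open CategoryTheory CategoryTheory.Limits AlgebraicGeometry TopologicalSpace Opposite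

namespace Groth.Agent.H8

open Curv2

set_option backward.isDefEq.respectTransparency false in
/-- `x` is weakly associated to `O_X` iff the maximal ideal of `O_{X,x}` is an associated prime
(radical form) of the local ring itself. -/
theorem isWeakAssPoint_structure_iff {X : Scheme.{u}} (x : X) :
    IsWeakAssPoint (Coh.structureModule X) x ↔
      IsAssociatedPrime (IsLocalRing.maximalIdeal (X.presheaf.stalk x)) (X.presheaf.stalk x) := by
  obtain ⟨_, ⟨U, hU, rfl⟩, hxU, -⟩ :=
    X.isBasis_affineOpens.exists_subset_of_mem_open (Set.mem_univ x) isOpen_univ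
  have hU : IsAffineOpen U := hU
  have hxU : x ∈ U := hxU
  rw [isWeakAssPoint_iff_mem_weakAss (Coh.structureModule X) hU hxU]
  have h1 : (hU.primeIdealOf ⟨x, hxU⟩).asIdeal ∈
      FlatCA.weakAss Γ(X, U) Γ(Coh.structureModule X, U) ↔
      (hU.primeIdealOf ⟨x, hxU⟩).asIdeal ∈ FlatCA.weakAss Γ(X, U) Γ(X, U) :=
    ⟨fun h => weakAss_subset_of_injective (structureSecEquiv X U).toLinearMap
      (structureSecEquiv X U).injective h,
     fun h => weakAss_subset_of_injective (structureSecEquiv X U).symm.toLinearMap
      (structureSecEquiv X U).symm.injective h⟩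
  rw [h1]
  let _ : Algebra Γ(X, U) (X.presheaf.stalk x) :=
    TopCat.Presheaf.algebra_section_stalk X.presheaf ⟨x, hxU⟩
  have : IsLocalization.AtPrime (X.presheaf.stalk x) (hU.primeIdealOf ⟨x, hxU⟩).asIdeal :=
    hU.isLocalization_stalk ⟨x, hxU⟩
  have hloc : IsLocalizedModule (hU.primeIdealOf ⟨x, hxU⟩).asIdeal.primeCompl
      (Algebra.linearMap Γ(X, U) (X.presheaf.stalk x)) := inferInstance
  rw [← exists_radical_ann_eq_maximalIdeal_iff (R' := X.presheaf.stalk x)
    (hU.primeIdealOf ⟨x, hxU⟩).asIdeal (Algebra.linearMap Γ(X, U) (X.presheaf.stalk x))]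
  constructor
  · rintro ⟨c, hc⟩
    refine ⟨inferInstance, c, ?_⟩
    rw [colon_bot_singleton_eq_ker]
    exact hc.symm
  · rintro ⟨-, c, hc⟩
    refine ⟨c, ?_⟩
    rw [colon_bot_singleton_eq_ker] at hc
    exact hc.symm

/-- In a local ring whose maximal ideal is an associated prime, nonzerodivisors are units. -/
lemma isUnit_of_mem_nonZeroDivisors_of_isAssociatedPrime {R : Type*} [CommRing R] [IsLocalRing R]
    (h : IsAssociatedPrime (IsLocalRing.maximalIdeal R) R) {a : R} (ha : a ∈ nonZeroDivisors R) :
    IsUnit a := by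
  by_contra hu
  obtain ⟨hp, c, hc⟩ := h
  have hmem : a ∈ IsLocalRing.maximalIdeal R := hu
  rw [hc] at hmem
  obtain ⟨n, hn⟩ := hmem
  rw [Submodule.mem_colon_singleton, Submodule.mem_bot, smul_eq_mul] at hn
  have hc0 : c = 0 := (mem_nonZeroDivisors_iff_left.mp (pow_mem ha n)) _ hn
  have h1 : (1 : R) ∈ IsLocalRing.maximalIdeal R := by
    rw [hc]
    refine Ideal.le_radical ?_
    rw [Submodule.mem_colon_singleton, hc0, smul_zero]
    exact Submodule.zero_mem _
  exact hp.ne_top ((Ideal.eq_top_iff_one _).mpr h1)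

end Groth.Agent.H8
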