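import Groth.Agent.H8.FreeGen
import Groth.Prelude.Def_MeroDiv

/-!
# Free generators and stalks of meromorphic sections (helper8)

* `IsFreeGen.res`, `IsFreeGen.germ_bijective`: restriction and germs of a free generator.
* `IsFreeGen.mstalk_bijective`: for a free generator `σ` of `L` near `y`, `q ↦ q • (σ_y / 1)` is a
  bijection `K_{X,y} → S_y⁻¹ L_y`.
-/

set_option autoImplicit false
universe u
open CategoryTheory CategoryTheory.Limits AlgebraicGeometry TopologicalSpace Opposite

namespace Groth.Agent.H8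

open Mero

variable {X : Scheme.{u}}

lemma IsFreeGen.res {L : X.Modules} {U : X.Opens} {σ : Γ(L, U)} (h : IsFreeGen L U σ)
    {V : X.Opens} (hV : V ≤ U) : IsFreeGen L V (L.presheaf.map (homOfLE hV).op σ) := by
  intro V' hV'
  have e : L.presheaf.map (homOfLE hV').op (L.presheaf.map (homOfLE hV).op σ) =
      L.presheaf.map (homOfLE (hV'.trans hV)).op σ := by
    rw [← ConcreteCategory.comp_apply, ← L.presheaf.map_comp]
    rfl
  rw [e]
  exact h V' (hV'.trans hV)

lemma IsFreeGen.exists_smul_eq {L : X.Modules} {U : X.Opens} {σ : Γ(L, U)} (h : IsFreeGen L U σ)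
    {V : X.Opens} (hV : V ≤ U) (m : Γ(L, V)) :
    ∃ r : Γ(X, V), r • L.presheaf.map (homOfLE hV).op σ = m := (h V hV).2 m

lemma IsFreeGen.eq_zero_of_smul_eq_zero {L : X.Modules} {U : X.Opens} {σ : Γ(L, U)}
    (h : IsFreeGen L U σ) {V : X.Opens} (hV : V ≤ U) (r : Γ(X, V))
    (hr : r • L.presheaf.map (homOfLE hV).op σ = 0) : r = 0 := by
  apply (h V hV).1
  change r • _ = (0 : Γ(X, V)) • _
  rw [hr, zero_smul]

set_option backward.isDefEq.respectTransparency false in
lemma IsFreeGen.germ_eq_zero_of_smul_eq_zero {L : X.Modules} {U : X.Opens} {σ : Γ(L, U)}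
    (h : IsFreeGen L U σ) {y : X} (hy : y ∈ U) (r : X.presheaf.stalk y)
    (hr : r • L.presheaf.germ U y hy σ = 0) : r = 0 := by
  obtain ⟨V₀, hyV₀, r₀, rfl⟩ := X.presheaf.exists_germ_eq r
  let V : X.Opens := V₀ ⊓ U
  have hyV : y ∈ V := ⟨hyV₀, hy⟩
  have hVU : V ≤ U := inf_le_right
  let r₁ : Γ(X, V) := X.presheaf.map (homOfLE inf_le_left).op r₀
  have h1 : L.presheaf.germ V y hyV (r₁ • L.presheaf.map (homOfLE hVU).op σ) =
      L.presheaf.germ V y hyV 0 := by
    rw [Mero.germ_smul, map_zero, TopCat.Presheaf.germ_res_apply]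
    erw [TopCat.Presheaf.germ_res_apply]
    exact hr
  obtain ⟨V', hyV', i₁, i₂, e⟩ := L.presheaf.germ_eq y hyV hyV _ _ h1
  rw [map_zero, Scheme.Modules.map_smul] at e
  have hV'U : V' ≤ U := i₁.le.trans hVU
  have e2 : L.presheaf.map i₁.op (L.presheaf.map (homOfLE hVU).op σ) =
      L.presheaf.map (homOfLE hV'U).op σ := by
    rw [← ConcreteCategory.comp_apply, ← L.presheaf.map_comp]
    rfl
  rw [e2] at e
  have h2 := h.eq_zero_of_smul_eq_zero hV'U _ e
  rw [← TopCat.Presheaf.germ_res_apply X.presheaf (homOfLE inf_le_left) y hyV r₀,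
    ← TopCat.Presheaf.germ_res_apply X.presheaf i₁ y hyV']
  change X.presheaf.germ V' y hyV' (X.presheaf.map i₁.op r₁) = 0
  rw [h2, map_zero]

set_option backward.isDefEq.respectTransparency false in
/-- The germ of a free generator generates the stalk freely. -/
theorem IsFreeGen.germ_bijective {L : X.Modules} {U : X.Opens} {σ : Γ(L, U)}
    (h : IsFreeGen L U σ) {y : X} (hy : y ∈ U) :
    Function.Bijective (fun r : X.presheaf.stalk y => r • L.presheaf.germ U y hy σ) := by
  constructor
  · intro r r' hrr'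
    have h1 : (r - r') • L.presheaf.germ U y hy σ = 0 := by
      rw [sub_smul, sub_eq_zero]
      exact hrr'
    exact sub_eq_zero.mp (h.germ_eq_zero_of_smul_eq_zero hy _ h1)
  · intro m
    obtain ⟨V₀, hyV₀, m₀, rfl⟩ := TopCat.Presheaf.exists_germ_eq L.presheaf m
    let V : X.Opens := V₀ ⊓ U
    have hyV : y ∈ V := ⟨hyV₀, hy⟩
    have hVU : V ≤ U := inf_le_right
    obtain ⟨r, hr⟩ := h.exists_smul_eq hVU (L.presheaf.map (homOfLE inf_le_left).op m₀)
    refine ⟨X.presheaf.germ V y hyV r, ?_⟩
    have h1 := congrArg (L.presheaf.germ V y hyV) hr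
    rw [Mero.germ_smul] at h1
    erw [TopCat.Presheaf.germ_res_apply, TopCat.Presheaf.germ_res_apply] at h1
    exact h1

lemma mstalk_mk_eq_zero_iff {L : X.Modules} {y : X} (m : L.presheaf.stalk y) (s : regStalk X y) :
    (LocalizedModule.mk m s : MStalk L y) = 0 ↔ ∃ u : regStalk X y, (u : X.presheaf.stalk y) • m = 0 := by
  rw [← LocalizedModule.zero_mk s, LocalizedModule.mk_eq]
  constructor
  · rintro ⟨u, hu⟩
    refine ⟨u * s, ?_⟩
    simp only [smul_zero, Submonoid.smul_def] at hu
    rw [Submonoid.coe_mul, mul_smul]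
    exact hu
  · rintro ⟨u, hu⟩
    refine ⟨u, ?_⟩
    simp only [smul_zero, Submonoid.smul_def]
    rw [smul_comm, hu, smul_zero]

lemma mk_smul_mk' {R : Type u} [CommRing R] {S : Submonoid R} {M : Type u} [AddCommGroup M]
    [Module R M] (a : R) (s : S) (m : M) (t : S) :
    (LocalizedModule.mk a s : Localization S) • (LocalizedModule.mk m t : LocalizedModule S M) =
      LocalizedModule.mk (a • m) (s * t) :=
  LocalizedModule.mk_smul_mk a m s t

set_option backward.isDefEq.respectTransparency false in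
theorem IsFreeGen.mstalk_bijective {L : X.Modules} {U : X.Opens} {σ : Γ(L, U)}
    (h : IsFreeGen L U σ) {y : X} (hy : y ∈ U) :
    Function.Bijective (fun q : KStalk X y =>
      q • (LocalizedModule.mk (L.presheaf.germ U y hy σ) 1 : MStalk L y)) := by
  have hzero : ∀ q : KStalk X y,
      q • (LocalizedModule.mk (L.presheaf.germ U y hy σ) 1 : MStalk L y) = 0 → q = 0 := by
    intro q hq
    induction q using LocalizedModule.induction_on with
    | h a s =>
      rw [mk_smul_mk', mstalk_mk_eq_zero_iff] at hq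
      obtain ⟨u, hu⟩ := hq
      rw [smul_smul] at hu
      have h1 := h.germ_eq_zero_of_smul_eq_zero hy _ hu
      have h2 : a = 0 :=
        (mem_nonZeroDivisors_iff_left.mp (regStalk_le_nonZeroDivisors y u.2)) a h1
      rw [h2]
      exact LocalizedModule.zero_mk s
  constructor
  · intro q q' hqq'
    have h1 : (q - q') • (LocalizedModule.mk (L.presheaf.germ U y hy σ) 1 : MStalk L y) = 0 := by
      rw [sub_smul, sub_eq_zero]
      exact hqq'
    exact sub_eq_zero.mp (hzero _ h1)
  · intro t
    induction t using LocalizedModule.induction_on with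
    | h m s =>
      obtain ⟨r, hr⟩ := (h.germ_bijective hy).2 m
      refine ⟨(LocalizedModule.mk r s : KStalk X y), ?_⟩
      change (LocalizedModule.mk r s : KStalk X y) • _ = _
      rw [mk_smul_mk']
      exact mk_congr hr (congrArg Subtype.val (mul_one s))

end Groth.Agent.H8
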