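import Mathlib
import Groth.Agent.H18.PUP.Dehom
import Groth.Agent.H18.PUP.Map

/-!
# Coordinate sections on the standard charts of `Proj` (helper8)

For `f` homogeneous of degree one, `sec f : S →+* Γ(Proj 𝒮, D₊(f))` sends a homogeneous `a` of degree `k`
to `a / f ^ k`.  We record the change-of-chart identity and the non-vanishing locus of `sec f g`.
-/

set_option autoImplicit false
universe u

open AlgebraicGeometry CategoryTheory HomogeneousLocalization Groth.Agent.H18.PUP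

namespace Groth.Agent.H8.ProjSec

variable {A S : Type u} [CommRing A] [CommRing S] [Algebra A S]
variable (𝒮 : ℕ → Submodule A S) [GradedAlgebra 𝒮]

theorem dehom_surjective {f : S} (hf : f ∈ 𝒮 1) : Function.Surjective (dehom 𝒮 hf) := by
  intro z
  obtain ⟨k, a, ha, rfl⟩ := Away.mk_surjective 𝒮 hf z
  have ha' : a ∈ 𝒮 k := by rwa [smul_eq_mul, mul_one] at ha
  exact ⟨a, dehom_apply 𝒮 hf ha'⟩

/-- `a ↦ a / f ^ deg a` as a section over `D₊(f)`. -/
noncomputable def sec {f : S} (hf : f ∈ 𝒮 1) : S →+* Γ(Proj 𝒮, Proj.basicOpen 𝒮 f) :=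
  (Proj.awayToSection 𝒮 f).hom.comp (dehom 𝒮 hf)

theorem sec_surjective {f : S} (hf : f ∈ 𝒮 1) : Function.Surjective (sec 𝒮 hf) := by
  have h1 : Function.Surjective (Proj.awayToSection 𝒮 f).hom := by
    have : IsIso (Proj.awayToSection 𝒮 f) :=
      (Proj.basicOpenIsoAway 𝒮 f hf Nat.one_pos).isIso_hom
    exact (ConcreteCategory.bijective_of_isIso (Proj.awayToSection 𝒮 f)).2
  exact h1.comp (dehom_surjective 𝒮 hf)

theorem dehom_self {f : S} (hf : f ∈ 𝒮 1) : dehom 𝒮 hf f = 1 := by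
  rw [dehom_apply 𝒮 hf hf]
  apply HomogeneousLocalization.val_injective
  rw [Away.val_mk, HomogeneousLocalization.val_one]
  have h := Localization.mk_self (⟨f ^ 1, ⟨1, rfl⟩⟩ : Submonoid.powers f)
  simp only [pow_one] at h ⊢
  exact h

theorem sec_self {f : S} (hf : f ∈ 𝒮 1) : sec 𝒮 hf f = 1 := by
  unfold sec
  rw [RingHom.comp_apply, dehom_self, map_one]

section change

variable {f g : S} (hf : f ∈ 𝒮 1) (hg : g ∈ 𝒮 1)

theorem basicOpen_mul_le_left : Proj.basicOpen 𝒮 (f * g) ≤ Proj.basicOpen 𝒮 f :=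
  Proj.basicOpen_mono _ _ _ ⟨g, rfl⟩

theorem basicOpen_mul_le_right : Proj.basicOpen 𝒮 (f * g) ≤ Proj.basicOpen 𝒮 g :=
  Proj.basicOpen_mono _ _ _ ⟨f, mul_comm f g⟩

/-- restriction of `sec f a` to `D₊(f g)` -/
theorem res_sec_left {k : ℕ} {a : S} (ha : a ∈ 𝒮 k) :
    (Proj 𝒮).presheaf.map (homOfLE (basicOpen_mul_le_left 𝒮 (f := f) (g := g))).op (sec 𝒮 hf a) =
      (Proj.awayToSection 𝒮 (f * g)).hom (Away.mk 𝒮 (SetLike.mul_mem_graded hf hg) k (a * g ^ k)
        (by
          rw [smul_eq_mul, mul_add, mul_one]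
          exact SetLike.mul_mem_graded ha (by
            have := SetLike.pow_mem_graded k hg
            rwa [smul_eq_mul, mul_one] at this))) := by
  have h := Proj.awayMap_awayToSection (𝒜 := 𝒮) (f := f) hg (x := f * g) rfl
  have h1 := congrArg (fun φ => φ.hom (dehom 𝒮 hf a)) h
  simp only [CommRingCat.hom_comp, RingHom.comp_apply, CommRingCat.hom_ofHom] at h1
  unfold sec
  rw [RingHom.comp_apply]
  refine h1.symm.trans ?_
  congr 1
  rw [dehom_apply 𝒮 hf ha, awayMap_mk]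

theorem res_sec_right {k : ℕ} {a : S} (ha : a ∈ 𝒮 k) :
    (Proj 𝒮).presheaf.map (homOfLE (basicOpen_mul_le_right 𝒮 (f := f) (g := g))).op (sec 𝒮 hg a) =
      (Proj.awayToSection 𝒮 (f * g)).hom (Away.mk 𝒮 (SetLike.mul_mem_graded hf hg) k (a * f ^ k)
        (by
          rw [smul_eq_mul, mul_add, mul_one]
          exact SetLike.mul_mem_graded ha (by
            have := SetLike.pow_mem_graded k hf
            rwa [smul_eq_mul, mul_one] at this))) := by
  have h := Proj.awayMap_awayToSection (𝒜 := 𝒮) (f := g) hf (x := f * g) (mul_comm f g)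
  have h1 := congrArg (fun φ => φ.hom (dehom 𝒮 hg a)) h
  simp only [CommRingCat.hom_comp, RingHom.comp_apply, CommRingCat.hom_ofHom] at h1
  unfold sec
  rw [RingHom.comp_apply]
  refine h1.symm.trans ?_
  congr 1
  rw [dehom_apply 𝒮 hg ha, awayMap_mk]

/-- **Change of chart**: `a / g ^ k = (f / g) ^ k * (a / f ^ k)` on `D₊(f g)`. -/
theorem res_sec_eq {k : ℕ} {a : S} (ha : a ∈ 𝒮 k) :
    (Proj 𝒮).presheaf.map (homOfLE (basicOpen_mul_le_right 𝒮 (f := f) (g := g))).op (sec 𝒮 hg a) =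
      ((Proj 𝒮).presheaf.map (homOfLE (basicOpen_mul_le_right 𝒮 (f := f) (g := g))).op
          (sec 𝒮 hg f)) ^ k *
        (Proj 𝒮).presheaf.map (homOfLE (basicOpen_mul_le_left 𝒮 (f := f) (g := g))).op
          (sec 𝒮 hf a) := by
  rw [res_sec_right 𝒮 hf hg ha, res_sec_right 𝒮 hf hg hf, res_sec_left 𝒮 hf hg ha, ← map_pow,
    ← map_mul]
  congr 1
  apply HomogeneousLocalization.val_injective
  rw [HomogeneousLocalization.val_mul, HomogeneousLocalization.val_pow, Away.val_mk, Away.val_mk,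
    Away.val_mk, Localization.mk_pow, Localization.mk_mul, Localization.mk_eq_mk_iff,
    Localization.r_iff_exists]
  refine ⟨1, ?_⟩
  simp only [OneMemClass.coe_one, one_mul, Submonoid.coe_mul, SubmonoidClass.coe_pow]
  ring

end change

section structureMap

/-- On constants, `sec f` is the structure map of `Proj 𝒮` over `Spec A`. -/
theorem sec_algebraMap {f : S} (hf : f ∈ 𝒮 1) (a : A) :
    sec 𝒮 hf (algebraMap A S a) =
      (Proj 𝒮).presheaf.map (homOfLE (le_top : Proj.basicOpen 𝒮 f ≤ ⊤)).op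
        (ProjUP.toGlobal (Proj.toSpecZero 𝒮 ≫
          Spec.map (CommRingCat.ofHom (algebraMap A (𝒮 0)))) a) := by
  set τ := Proj.toSpecZero 𝒮 ≫ Spec.map (CommRingCat.ofHom (algebraMap A (𝒮 0))) with hτ
  set W := Proj.basicOpen 𝒮 f with hW
  have h1 := ι_comp_eq W τ
  have h2 : W.ι ≫ τ = W.toSpecΓ ≫ Spec.map (CommRingCat.ofHom (algebraMap A (𝒮 0)) ≫
      CommRingCat.ofHom (fromZeroRingHom 𝒮 _) ≫ Proj.awayToSection 𝒮 f) := by
    have e1 : W.ι = (Proj.basicOpenIsoSpec 𝒮 f hf Nat.one_pos).hom ≫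
        Proj.awayι 𝒮 f hf Nat.one_pos := by
      rw [← Proj.basicOpenIsoSpec_inv_ι, Iso.hom_inv_id_assoc]
    rw [e1, hτ, Category.assoc, Proj.awayι_toSpecZero_assoc, Proj.basicOpenIsoSpec_hom,
      Proj.basicOpenToSpec, Category.assoc, ← Spec.map_comp, ← Spec.map_comp, Category.assoc]
  rw [h2] at h1
  have h3 := toSpecΓ_SpecMap_injective W _ _ h1
  have h4 := congrArg (fun φ => φ.hom a) h3
  simp only [CommRingCat.hom_comp, RingHom.comp_apply, CommRingCat.hom_ofHom] at h4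
  rw [← h4]
  unfold sec
  rw [RingHom.comp_apply]
  congr 1
  have h0 : algebraMap A S a ∈ 𝒮 0 := SetLike.algebraMap_mem_graded 𝒮 a
  rw [dehom_apply 𝒮 hf h0]
  apply HomogeneousLocalization.val_injective
  rw [Away.val_mk]
  change _ = Localization.mk (algebraMap A S a) 1
  congr 1
  exact Subtype.ext (pow_zero f)

end structureMap

section nonvanishing

set_option backward.isDefEq.respectTransparency false in
/-- The non-vanishing locus of `g / f` on `D₊(f)` is contained in `D₊(g)`. -/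
theorem basicOpen_sec_le {f g : S} (hf : f ∈ 𝒮 1) (hg : g ∈ 𝒮 1) :
    (Proj 𝒮).basicOpen (sec 𝒮 hf g) ≤ Proj.basicOpen 𝒮 g := by
  intro y hy
  have hyf : y ∈ Proj.basicOpen 𝒮 f := (Proj 𝒮).basicOpen_le _ hy
  rw [Scheme.mem_basicOpen _ _ _ hyf] at hy
  rw [Proj.mem_basicOpen]
  intro hgy
  have hyf' : f ∈ y.asHomogeneousIdeal.toIdeal.primeCompl := (Proj.mem_basicOpen 𝒮 f y).mp hyf
  have h1 := ProjectiveSpectrum.Proj.awayToSection_germ 𝒮 f y hyf
  have h2 : (Proj 𝒮).presheaf.germ (Proj.basicOpen 𝒮 f) y hyf (sec 𝒮 hf g) =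
      (AlgebraicGeometry.Proj.stalkIso' 𝒮 y).toCommRingCatIso.inv.hom
        (HomogeneousLocalization.mapId 𝒮 (Submonoid.powers_le.mpr hyf') (dehom 𝒮 hf g)) :=
    congrArg (fun φ => φ.hom (dehom 𝒮 hf g)) h1
  rw [h2] at hy
  have h3 : IsUnit (HomogeneousLocalization.mapId 𝒮 (Submonoid.powers_le.mpr hyf')
      (dehom 𝒮 hf g)) := by
    have := hy.map (AlgebraicGeometry.Proj.stalkIso' 𝒮 y).toCommRingCatIso.hom.hom
    have e : (AlgebraicGeometry.Proj.stalkIso' 𝒮 y).toCommRingCatIso.hom.hom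
        ((AlgebraicGeometry.Proj.stalkIso' 𝒮 y).toCommRingCatIso.inv.hom
          (HomogeneousLocalization.mapId 𝒮 (Submonoid.powers_le.mpr hyf') (dehom 𝒮 hf g))) =
        HomogeneousLocalization.mapId 𝒮 (Submonoid.powers_le.mpr hyf') (dehom 𝒮 hf g) :=
      (AlgebraicGeometry.Proj.stalkIso' 𝒮 y).apply_symm_apply _
    exact (congrArg IsUnit e).mp this
  rw [← HomogeneousLocalization.isUnit_iff_isUnit_val, dehom_apply 𝒮 hf hg] at h3
  have h4 : (HomogeneousLocalization.mapId 𝒮 (Submonoid.powers_le.mpr hyf')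
      (Away.mk 𝒮 hf 1 g (mem_smul_one 𝒮 hg))).val =
      Localization.mk g ⟨f ^ 1, Submonoid.powers_le.mpr hyf' ⟨1, rfl⟩⟩ := rfl
  rw [h4, Localization.mk_eq_mk', IsLocalization.AtPrime.isUnit_mk'_iff] at h3
  exact h3 hgy

end nonvanishing

end Groth.Agent.H8.ProjSec
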