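import Mathlib
import Groth.Prelude.Def_FlatCA

/-!
# Weakly associated primes and finite ring maps (helper8)

`comap_mem_weakAss_of_finite`: for `A → B` finite and `M` a `B`-module, the contraction of a weakly
associated prime of `M` over `B` is weakly associated to `M` over `A` (Stacks 05C3/10.66.13).
-/

set_option autoImplicit false
universe u v

namespace Groth.Agent.H8

/-- If `p` is minimal over `I` and `x ∈ p` then `t * x ^ n ∈ I` for some `t ∉ p`.
(same statement as `Groth.Agent.H48.exists_mul_pow_mem_of_mem_minimalPrimes`) -/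
theorem exists_mul_pow_mem_of_mem_minimalPrimes {R : Type*} [CommRing R] {I p : Ideal R}
    (hp : p ∈ I.minimalPrimes) {x : R} (hx : x ∈ p) : ∃ t ∉ p, ∃ n : ℕ, t * x ^ n ∈ I := by
  have hpp : p.IsPrime := hp.1.1
  have h1 := IsLocalization.AtPrime.radical_map_of_mem_minimalPrimes (Localization.AtPrime p) p I hp
  have h2 : algebraMap R (Localization.AtPrime p) x ∈
      (I.map (algebraMap R (Localization.AtPrime p))).radical := by
    rw [h1]; exact Ideal.mem_map_of_mem _ hx
  obtain ⟨n, hn⟩ := h2
  rw [IsLocalization.mem_map_algebraMap_iff (M := p.primeCompl)] at hn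
  obtain ⟨⟨a, b⟩, hn⟩ := hn
  rw [← map_pow, ← map_mul, IsLocalization.eq_iff_exists p.primeCompl] at hn
  obtain ⟨t, ht⟩ := hn
  refine ⟨t.1 * b.1, (t * b).2, n, ?_⟩
  simp only at ht
  have : (t.1 * b.1) * x ^ n = t.1 * (x ^ n * b.1) := by ring
  rw [this, ht]
  exact I.mul_mem_left _ a.2

theorem comap_mem_weakAss_of_finite {A B : Type u} {M : Type v} [CommRing A] [CommRing B]
    [Algebra A B] [Module.Finite A B] [AddCommGroup M] [Module A M] [Module B M]
    [IsScalarTower A B M] {q : Ideal B} (hq : q ∈ FlatCA.weakAss B M) :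
    q.comap (algebraMap A B) ∈ FlatCA.weakAss A M := by
  classical
  obtain ⟨m, hm⟩ := hq
  have hqp : q.IsPrime := hm.1.1
  set p := q.comap (algebraMap A B) with hp
  have hpp : p.IsPrime := Ideal.comap_isPrime _ _
  have hJq : (Submodule.span B {m}).annihilator ≤ q := hm.1.2
  have hfin : (p.primesOver B).Finite := Algebra.QuasiFinite.finite_primesOver p
  let T : Finset (Ideal B) := hfin.toFinset.erase q
  have hT : ∀ q' ∈ T, q'.IsPrime ∧ q'.comap (algebraMap A B) = p ∧ q' ≠ q := by
    intro q' hq'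
    rw [Finset.mem_erase, Set.Finite.mem_toFinset] at hq'
    obtain ⟨hne, hq'prime, hq'over⟩ := hq'
    exact ⟨hq'prime, hq'over.over.symm, hne⟩
  have hTmem : ∀ Q : Ideal B, Q.IsPrime → Q.comap (algebraMap A B) = p → Q ≠ q → Q ∈ T := by
    intro Q hQ hQp hQq
    rw [Finset.mem_erase, Set.Finite.mem_toFinset]
    exact ⟨hQq, hQ, ⟨hQp.symm⟩⟩
  -- prime avoidance
  have hx : ∃ x ∈ q, ∀ q' ∈ T, x ∉ q' := by
    by_contra hcon
    push Not at hcon
    have hsub : (q : Set B) ⊆ ⋃ q' ∈ (T : Set (Ideal B)), ((id q' : Ideal B) : Set B) := by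
      intro x hx
      obtain ⟨q', hq', hxq'⟩ := hcon x hx
      exact Set.mem_biUnion hq' hxq'
    obtain ⟨q', hq'T, hqq'⟩ := (Ideal.subset_union_prime (s := T) (f := id) q q
      (fun i hi _ _ => (hT i hi).1)).mp hsub
    obtain ⟨hq'prime, hq'p, hq'ne⟩ := hT q' hq'T
    have hlt : q < q' := lt_of_le_of_ne hqq' (Ne.symm hq'ne)
    obtain ⟨x', hx'q', hx'q⟩ := SetLike.exists_of_lt hlt
    have hqq'' : q ≤ q' := hqq'
    have := Ideal.comap_lt_comap_of_integral_mem_sdiff (R := A) hqq'' ⟨hx'q', hx'q⟩
      (Algebra.IsIntegral.isIntegral x')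
    rw [hq'p] at this
    exact lt_irrefl _ this
  obtain ⟨x, hxq, hxT⟩ := hx
  obtain ⟨y, hyq, t, hyx⟩ := exists_mul_pow_mem_of_mem_minimalPrimes hm hxq
  rw [Submodule.mem_annihilator_span_singleton] at hyx
  refine ⟨y • m, ⟨hpp, ?_⟩, ?_⟩
  · intro a ha
    rw [Submodule.mem_annihilator_span_singleton, ← algebraMap_smul B a, smul_smul] at ha
    have h1 : algebraMap A B a * y ∈ q := hJq (by
      rw [Submodule.mem_annihilator_span_singleton]; exact ha)
    rcases hqp.mem_or_mem h1 with h | h
    · exact h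
    · exact absurd h hyq
  · rintro p' ⟨hp', hI'⟩ hp'p a ha
    obtain ⟨z, hzq, n, hz⟩ := exists_mul_pow_mem_of_mem_minimalPrimes hm
      (show algebraMap A B a ∈ q from ha)
    rw [Submodule.mem_annihilator_span_singleton] at hz
    let K : Ideal B := (Submodule.span B {(algebraMap A B a) ^ n • y • m}).annihilator
    have hzK : z ∈ K := by
      rw [Submodule.mem_annihilator_span_singleton, smul_smul, smul_smul]
      have : z * algebraMap A B a ^ n * y = y * (z * algebraMap A B a ^ n) := by ring
      rw [this, mul_smul, hz, smul_zero]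
    have hxK : x ^ t ∈ K := by
      rw [Submodule.mem_annihilator_span_singleton, smul_smul, smul_smul]
      have : x ^ t * algebraMap A B a ^ n * y = algebraMap A B a ^ n * (y * x ^ t) := by ring
      rw [this, mul_smul, hyx, smul_zero]
    have hc : ∃ c, c ∉ p ∧ algebraMap A B c ∈ K := by
      by_contra hcon
      push Not at hcon
      have hKp : K.comap (algebraMap A B) ≤ p := fun c hc => by
        by_contra h
        exact hcon c h hc
      obtain ⟨Q, hKQ, hQprime, hQp⟩ := Ideal.exists_ideal_over_prime_of_isIntegral p K hKp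
      by_cases hQq : Q = q
      · exact hzq (hQq ▸ hKQ hzK)
      · exact hxT Q (hTmem Q hQprime hQp hQq) (hQprime.mem_of_pow_mem t (hKQ hxK))
    obtain ⟨c, hcp, hcK⟩ := hc
    have hmem : c * a ^ n ∈ (Submodule.span A {y • m}).annihilator := by
      rw [Submodule.mem_annihilator_span_singleton, ← algebraMap_smul B (c * a ^ n), map_mul,
        map_pow, mul_smul]
      rw [Submodule.mem_annihilator_span_singleton] at hcK
      exact hcK
    rcases hp'.mem_or_mem (hI' hmem) with h | h
    · exact absurd (hp'p h) hcp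
    · exact hp'.mem_of_pow_mem n h

end Groth.Agent.H8
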