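import Groth.Agent.H8.MeroK
import Groth.Agent.H8.WeakAssFinite

/-!
# `K_X(U)` is the total ring of fractions of `O_X(U)` on good affine opens (helper8)

* `mem_regSub_of_mem_nonZeroDivisors`: on an affine open every nonzerodivisor is a regular section.
* `isUnit_toK_of_mem_regSub`: regular sections are invertible in `K_X(U)`.
* `germ_notMem_nonZeroDivisors_of_weakAss`: functions vanishing at a weakly associated point have
  zero-divisor germs there.
* `isLocalization_kmod`: if an affine open `U` contains only finitely many weakly associated points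
  of `O_X`, then `K_X(U)` is the localization of `O_X(U)` at its nonzerodivisors.
-/

set_option autoImplicit false
universe u
open CategoryTheory CategoryTheory.Limits AlgebraicGeometry TopologicalSpace Opposite

namespace Groth.Agent.H8

open Curv2 Mero

variable {X : Scheme.{u}}

set_option backward.isDefEq.respectTransparency false in
/-- On an affine open, nonzerodivisors of the ring of sections are regular sections. -/
theorem mem_regSub_of_mem_nonZeroDivisors {U : X.Opens} (hU : IsAffineOpen U) {b : Γ(X, U)}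
    (hb : b ∈ nonZeroDivisors Γ(X, U)) : b ∈ regSub X U := by
  intro x
  let _ : Algebra Γ(X, U) (X.presheaf.stalk x.1) :=
    TopCat.Presheaf.algebra_section_stalk X.presheaf x
  have : IsLocalization.AtPrime (X.presheaf.stalk x.1) (hU.primeIdealOf x).asIdeal :=
    hU.isLocalization_stalk x
  exact IsLocalization.map_nonZeroDivisors_le (hU.primeIdealOf x).asIdeal.primeCompl
    (X.presheaf.stalk x.1) (Submonoid.mem_map_of_mem _ hb)

/-- The inverse of a regular section in `K_X(U)`. -/
noncomputable def invK {U : X.Opens} (b : regSub X U) : Γ(kmod X, U) :=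
  ⟨fun x => LocalizedModule.mk 1 (regGerm x b),
    fun x => ⟨U, x.2, 𝟙 _, 1, b, fun _ => mk_congr (map_one _).symm rfl⟩⟩

lemma toK_mul_invK {U : X.Opens} (b : regSub X U) : toK X U b.1 * invK b = 1 := by
  refine kmod_ext fun x => ?_
  rw [kmod_mul_apply, toK_apply, kmod_one_apply]
  refine (LocalizedModule.mk_mul_mk.trans (mk_congr ?_ ?_)).trans (mk_self_eq_one (regGerm x b))
  · rw [mul_one]
  · rw [one_mul]

lemma isUnit_toK_of_mem_regSub {U : X.Opens} (b : regSub X U) : IsUnit (toK X U b.1) :=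
  IsUnit.of_mul_eq_one _ (toK_mul_invK b)

set_option backward.isDefEq.respectTransparency false in
/-- A function lying in the prime of a weakly associated point has a zero-divisor germ there. -/
theorem germ_notMem_nonZeroDivisors_of_weakAss {U : X.Opens} (hU : IsAffineOpen U) {y : X}
    (hy : y ∈ U) (hw : IsWeakAssPoint (Coh.structureModule X) y) {c : Γ(X, U)}
    (hc : c ∈ (hU.primeIdealOf ⟨y, hy⟩).asIdeal) :
    X.presheaf.germ U y hy c ∉ nonZeroDivisors (X.presheaf.stalk y) := by
  intro hnzd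
  have h4 := (isWeakAssPoint_iff_mem_weakAss (Coh.structureModule X) hU hy).mp hw
  have h5 : (hU.primeIdealOf ⟨y, hy⟩).asIdeal ∈ FlatCA.weakAss Γ(X, U) Γ(X, U) :=
    weakAss_subset_of_injective (structureSecEquiv X U).toLinearMap
      (structureSecEquiv X U).injective h4
  obtain ⟨m, hm⟩ := h5
  obtain ⟨t, ht, n, htn⟩ := exists_mul_pow_mem_of_mem_minimalPrimes hm hc
  rw [Submodule.mem_annihilator_span_singleton, smul_eq_mul] at htn
  have h6 := congrArg (X.presheaf.germ U y hy) htn
  rw [map_mul, map_mul, map_pow, map_zero] at h6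
  have htu : IsUnit (X.presheaf.germ U y hy t) := by
    by_contra h
    exact ht ((mem_primeIdealOf_iff hU hy t).mpr h)
  have h7 : X.presheaf.germ U y hy c ^ n * X.presheaf.germ U y hy m = 0 := by
    rw [mul_assoc] at h6
    exact (htu.mul_right_eq_zero).mp h6
  have h8 : X.presheaf.germ U y hy m = 0 :=
    (mem_nonZeroDivisors_iff_left.mp (pow_mem hnzd n)) _ h7
  let _ : Algebra Γ(X, U) (X.presheaf.stalk y) :=
    TopCat.Presheaf.algebra_section_stalk X.presheaf ⟨y, hy⟩
  have : IsLocalization.AtPrime (X.presheaf.stalk y) (hU.primeIdealOf ⟨y, hy⟩).asIdeal :=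
    hU.isLocalization_stalk ⟨y, hy⟩
  have h9 : algebraMap Γ(X, U) (X.presheaf.stalk y) m = 0 := h8
  obtain ⟨s, hs⟩ := (IsLocalization.map_eq_zero_iff (hU.primeIdealOf ⟨y, hy⟩).asIdeal.primeCompl
    (X.presheaf.stalk y) m).mp h9
  have h10 : (s : Γ(X, U)) ∈ (Submodule.span Γ(X, U) {m}).annihilator := by
    rw [Submodule.mem_annihilator_span_singleton, smul_eq_mul]
    exact hs
  exact s.2 (hm.1.2 h10)


lemma kmod_sub_apply {U : X.Opens} (f g : Γ(kmod X, U)) (x : U) : (f - g).1 x = f.1 x - g.1 x := rfl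

/-- The ideal of denominators of a meromorphic function. -/
def denomIdeal {U : X.Opens} (σ : Γ(kmod X, U)) : Ideal Γ(X, U) where
  carrier := {b | ∃ a, toK X U b * σ = toK X U a}
  zero_mem' := ⟨0, by rw [map_zero, zero_mul]⟩
  add_mem' := by
    rintro b b' ⟨a, ha⟩ ⟨a', ha'⟩
    exact ⟨a + a', by rw [map_add, add_mul, ha, ha', map_add]⟩
  smul_mem' := by
    rintro c b ⟨a, ha⟩
    exact ⟨c * a, by rw [smul_eq_mul, map_mul, mul_assoc, ha, map_mul]⟩

lemma mem_denomIdeal {U : X.Opens} (σ : Γ(kmod X, U)) (b : Γ(X, U)) :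
    b ∈ denomIdeal σ ↔ ∃ a, toK X U b * σ = toK X U a := Iff.rfl

set_option backward.isDefEq.respectTransparency false in
/-- If the denominator ideal of `σ` lies in the prime of a weakly associated point `y`, contradiction. -/
theorem not_denomIdeal_le {U : X.Opens} (hU : IsAffineOpen U) (σ : Γ(kmod X, U)) {y : X}
    (hyU : y ∈ U) (hw : IsWeakAssPoint (Coh.structureModule X) y) :
    ¬ denomIdeal σ ≤ (hU.primeIdealOf ⟨y, hyU⟩).asIdeal := by
  intro hIy
  obtain ⟨V, hV, hVU, hyV, a₀, b₀, hab⟩ := exists_affine_frac σ ⟨y, hyU⟩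
  obtain ⟨h, hhV, hyh⟩ := hU.exists_basicOpen_le ⟨y, hyV⟩ hyU
  have hyh : y ∈ X.basicOpen h := hyh
  have hDU : X.basicOpen h ≤ U := X.basicOpen_le h
  obtain ⟨n, a₁, ha₁⟩ := exists_eq_pow_mul_of_isAffineOpen X U hU h
    (X.presheaf.map (homOfLE hhV).op a₀)
  obtain ⟨m, b₁, hb₁⟩ := exists_eq_pow_mul_of_isAffineOpen X U hU h
    (X.presheaf.map (homOfLE hhV).op b₀.1)
  have ha₁' : ∀ (z : X) (hz : z ∈ X.basicOpen h), X.presheaf.germ U z (hDU hz) a₁ =
      X.presheaf.germ U z (hDU hz) h ^ n * X.presheaf.germ V z (hhV hz) a₀ := by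
    intro z hz
    have := congrArg (X.presheaf.germ (X.basicOpen h) z hz) ha₁
    rw [map_mul, map_pow] at this
    erw [TopCat.Presheaf.germ_res_apply, TopCat.Presheaf.germ_res_apply,
      TopCat.Presheaf.germ_res_apply] at this
    exact this
  have hb₁' : ∀ (z : X) (hz : z ∈ X.basicOpen h), X.presheaf.germ U z (hDU hz) b₁ =
      X.presheaf.germ U z (hDU hz) h ^ m * X.presheaf.germ V z (hhV hz) b₀.1 := by
    intro z hz
    have := congrArg (X.presheaf.germ (X.basicOpen h) z hz) hb₁
    rw [map_mul, map_pow] at this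
    erw [TopCat.Presheaf.germ_res_apply, TopCat.Presheaf.germ_res_apply,
      TopCat.Presheaf.germ_res_apply] at this
    exact this
  -- the difference vanishes on `D(h)`
  let δ : Γ(kmod X, U) := toK X U (b₁ * h ^ n) * σ - toK X U (a₁ * h ^ m)
  have hδ : ∀ z : U, z.1 ∈ X.basicOpen h → δ.1 z = 0 := by
    intro z hz
    have hzV : z.1 ∈ V := hhV hz
    rw [kmod_sub_apply, kmod_mul_apply, toK_apply, toK_apply, hab ⟨z.1, hzV⟩, sub_eq_zero]
    refine LocalizedModule.mk_mul_mk.trans ?_
    rw [LocalizedModule.mk_eq]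
    refine ⟨1, ?_⟩
    simp only [one_smul, Submonoid.smul_def, smul_eq_mul, one_mul, map_mul, map_pow]
    rw [ha₁' z.1 hz, hb₁' z.1 hz]
    ring
  obtain ⟨N, hN⟩ := exists_pow_mul_eq_zero_of_isCompact hU.isCompact h δ hδ
  have hmem : h ^ N * (b₁ * h ^ n) ∈ denomIdeal σ := by
    refine ⟨h ^ N * (a₁ * h ^ m), ?_⟩
    have : toK X U h ^ N * δ = toK X U (h ^ N * (b₁ * h ^ n)) * σ - toK X U (h ^ N * (a₁ * h ^ m)) := by
      simp only [δ, map_mul, map_pow]
      ring
    rw [this, sub_eq_zero] at hN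
    exact hN
  have hp : (hU.primeIdealOf ⟨y, hyU⟩).asIdeal.IsPrime := (hU.primeIdealOf ⟨y, hyU⟩).2
  have hhy : h ∉ (hU.primeIdealOf ⟨y, hyU⟩).asIdeal := (notMem_primeIdealOf_iff hU hyU h).mpr hyh
  have hb₁y : b₁ ∈ (hU.primeIdealOf ⟨y, hyU⟩).asIdeal := by
    have h1 := hIy hmem
    rcases hp.mem_or_mem h1 with h2 | h2
    · exact absurd (hp.mem_of_pow_mem _ h2) hhy
    · rcases hp.mem_or_mem h2 with h3 | h3
      · exact h3
      · exact absurd (hp.mem_of_pow_mem _ h3) hhy
  refine germ_notMem_nonZeroDivisors_of_weakAss hU hyU hw hb₁y ?_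
  rw [hb₁' y hyh]
  refine mul_mem (pow_mem ?_ m) (b₀.2 ⟨y, hyV⟩)
  exact ((X.mem_basicOpen h y hyU).mp hyh).mem_nonZeroDivisors

set_option backward.isDefEq.respectTransparency false in
theorem exists_nonZeroDivisor_denominator {U : X.Opens} (hU : IsAffineOpen U)
    (hfin : {y : X | y ∈ U ∧ IsWeakAssPoint (Coh.structureModule X) y}.Finite)
    (σ : Γ(kmod X, U)) :
    ∃ b ∈ nonZeroDivisors Γ(X, U), b ∈ denomIdeal σ := by
  classical
  by_contra hcon
  push Not at hcon
  let f : X → Ideal Γ(X, U) := fun y =>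
    if hy : y ∈ U then (hU.primeIdealOf ⟨y, hy⟩).asIdeal else ⊤
  have hsub : (denomIdeal σ : Set Γ(X, U)) ⊆ ⋃ y ∈ (hfin.toFinset : Set X), f y := by
    intro b hb
    by_contra h2
    refine hcon b ?_ hb
    have h3 := res_mem_nonZeroDivisors_of_weakAss b ?_ (le_refl U)
    · have e : X.presheaf.map (homOfLE (le_refl U)).op b = b := by
        have : (homOfLE (le_refl U)).op = 𝟙 (op U) := rfl
        rw [this, X.presheaf.map_id]
        rfl
      rwa [e] at h3
    · intro y hy hw
      have hyS : y ∈ (hfin.toFinset : Set X) := by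
        rw [Set.Finite.coe_toFinset]
        exact ⟨hy, hw⟩
      have h4 : b ∉ f y := fun h5 => h2 (Set.mem_biUnion hyS h5)
      simp only [f, dif_pos hy] at h4
      have h5 : IsUnit (X.presheaf.germ U y hy b) := by
        by_contra h6
        exact h4 ((mem_primeIdealOf_iff hU hy b).mpr h6)
      exact h5.mem_nonZeroDivisors
  have h0 : (0 : Γ(X, U)) ∈ ⋃ y ∈ (hfin.toFinset : Set X), f y := hsub (denomIdeal σ).zero_mem
  obtain ⟨y₀, -⟩ := Set.mem_iUnion.mp h0
  have hprime : ∀ i ∈ hfin.toFinset, i ≠ y₀ → i ≠ y₀ → (f i).IsPrime := by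
    intro i hi _ _
    have hiU : i ∈ U := ((Set.Finite.mem_toFinset hfin).mp hi).1
    simp only [f, dif_pos hiU]
    exact (hU.primeIdealOf ⟨i, hiU⟩).2
  obtain ⟨y, hyS, hIy⟩ := (Ideal.subset_union_prime y₀ y₀ hprime).mp hsub
  obtain ⟨hyU, hw⟩ := (Set.Finite.mem_toFinset hfin).mp hyS
  simp only [f, dif_pos hyU] at hIy
  exact not_denomIdeal_le hU σ hyU hw hIy

set_option backward.isDefEq.respectTransparency false in
/-- **`K_X(U)` is the total ring of fractions of `O_X(U)`** for an affine open `U` containing only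
finitely many weakly associated points of `O_X`. -/
theorem isLocalization_kmod {U : X.Opens} (hU : IsAffineOpen U)
    (hfin : {y : X | y ∈ U ∧ IsWeakAssPoint (Coh.structureModule X) y}.Finite) :
    @IsLocalization Γ(X, U) _ (nonZeroDivisors Γ(X, U)) Γ(kmod X, U) _ (toK X U).toAlgebra := by
  let _ : Algebra Γ(X, U) Γ(kmod X, U) := (toK X U).toAlgebra
  refine (isLocalization_iff _ _).mpr ⟨?_, ?_, ?_⟩
  · rintro ⟨b, hb⟩
    exact isUnit_toK_of_mem_regSub ⟨b, mem_regSub_of_mem_nonZeroDivisors hU hb⟩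
  · intro σ
    obtain ⟨b, hb, a, ha⟩ := exists_nonZeroDivisor_denominator hU hfin σ
    refine ⟨⟨a, ⟨b, hb⟩⟩, ?_⟩
    change σ * toK X U b = toK X U a
    rw [mul_comm]
    exact ha
  · intro a b hab
    exact ⟨1, by rw [toK_injective U hab]⟩

set_option backward.isDefEq.respectTransparency false in
/-- Version of `exists_regular_of_germ_mem_nonZeroDivisors` with a finiteness hypothesis on weakly
associated points in affine opens instead of a Noetherian hypothesis. -/
theorem exists_regular_of_germ_mem_nonZeroDivisors_of_finite {X : Scheme.{u}}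
    (hfin : ∀ U : X.Opens, IsAffineOpen U →
      {y : X | y ∈ U ∧ IsWeakAssPoint (Coh.structureModule X) y}.Finite) (x : X)
    (g : X.presheaf.stalk x) (hg : g ∈ nonZeroDivisors (X.presheaf.stalk x)) :
    ∃ (W : X.Opens) (hxW : x ∈ W) (f : Γ(X, W)),
      (∀ (y : X) (hy : y ∈ W), X.presheaf.germ W y hy f ∈ nonZeroDivisors (X.presheaf.stalk y)) ∧
      X.presheaf.germ W x hxW f = g := by
  obtain ⟨W₀, hxW₀, f₀, rfl⟩ := X.presheaf.exists_germ_eq g
  obtain ⟨_, ⟨U, hU, rfl⟩, hxU, hUW'⟩ :=
    X.isBasis_affineOpens.exists_subset_of_mem_open hxW₀ W₀.2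
  have hU : IsAffineOpen U := hU
  have hUW : U ≤ W₀ := hUW'
  have hxU : x ∈ U := hxU
  let f : Γ(X, U) := X.presheaf.map (homOfLE hUW).op f₀
  have hfx : X.presheaf.germ U x hxU f = X.presheaf.germ W₀ x hxW₀ f₀ :=
    TopCat.Presheaf.germ_res_apply X.presheaf (homOfLE hUW) x hxU f₀
  -- the bad points
  let bad : Set X := {y | (y ∈ U ∧ IsWeakAssPoint (Coh.structureModule X) y) ∧ ¬ y ⤳ x}
  have hbad : bad.Finite := (hfin U hU).subset fun y hy => hy.1
  let Z : Set X := ⋃ y ∈ bad, closure {y}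
  have hZ : IsClosed Z := hbad.isClosed_biUnion fun _ _ => isClosed_closure
  have hxZ : x ∉ Z := by
    intro h
    simp only [Z, Set.mem_iUnion] at h
    obtain ⟨y, hy, hxy⟩ := h
    exact hy.2 (specializes_iff_mem_closure.mpr hxy)
  let W : X.Opens := U ⊓ ⟨Zᶜ, hZ.isOpen_compl⟩
  have hxW : x ∈ W := ⟨hxU, hxZ⟩
  have hWU : W ≤ U := inf_le_left
  refine ⟨W, hxW, X.presheaf.map (homOfLE hWU).op f, ?_, ?_⟩
  · apply germ_mem_nonZeroDivisors_of_weakAss
    intro y hy hyw
    have hyU : y ∈ U := hWU hy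
    rw [TopCat.Presheaf.germ_res_apply X.presheaf (homOfLE hWU) y hy f]
    have hyx : y ⤳ x := by
      by_contra hcon
      have : y ∈ Z := by
        simp only [Z, Set.mem_iUnion]
        exact ⟨y, ⟨⟨hyU, hyw⟩, hcon⟩, subset_closure rfl⟩
      exact hy.2 this
    exact germ_mem_nonZeroDivisors_of_specializes hU hxU hyU hyx f (by rw [hfx]; exact hg)
  · rw [TopCat.Presheaf.germ_res_apply X.presheaf (homOfLE hWU) x hxW f, hfx]

/-- `S_x` is the set of all nonzerodivisors of `O_{X,x}` when affine opens contain finitely many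
weakly associated points. -/
theorem regStalk_eq_nonZeroDivisors_of_finite {X : Scheme.{u}}
    (hfin : ∀ U : X.Opens, IsAffineOpen U →
      {y : X | y ∈ U ∧ IsWeakAssPoint (Coh.structureModule X) y}.Finite) (x : X) :
    regStalk X x = nonZeroDivisors (X.presheaf.stalk x) := by
  refine le_antisymm (regStalk_le_nonZeroDivisors x) ?_
  intro g hg
  obtain ⟨W, hxW, f, hf, rfl⟩ := exists_regular_of_germ_mem_nonZeroDivisors_of_finite hfin x g hg
  exact ⟨W, hxW, f, fun y => hf y.1 y.2, rfl⟩

/-- If weakly associated points have no proper generizations and a quasi-compact open `U` has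
finitely many irreducible components, then `U` contains finitely many weakly associated points. -/
theorem finite_weakAssPoints_of_generic {X : Scheme.{u}}
    (ha : ∀ x : X, IsWeakAssPoint (Coh.structureModule X) x → ∀ y : X, y ⤳ x → y = x)
    (U : X.Opens) (hb : (irreducibleComponents ↥(U : Scheme.{u})).Finite) :
    {y : X | y ∈ U ∧ IsWeakAssPoint (Coh.structureModule X) y}.Finite := by
  let g : ↥(U : Scheme.{u}) → Set ↥(U : Scheme.{u}) := fun y => closure {y}
  have hg : Function.Injective g := by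
    intro y z hyz
    exact (inseparable_iff_closure_eq.mpr hyz).eq
  have h3 : {y : ↥(U : Scheme.{u}) | IsWeakAssPoint (Coh.structureModule X) y.1}.Finite := by
    refine Set.Finite.of_finite_image (f := g) (hb.subset ?_) hg.injOn
    rintro _ ⟨y, hy, rfl⟩
    refine ⟨isIrreducible_singleton.closure, ?_⟩
    intro Z hZ hyZ
    have hZc : IsIrreducible (closure Z) := hZ.closure
    obtain ⟨η, hη⟩ := QuasiSober.sober hZc isClosed_closure
    have h1 : η ⤳ y := by
      rw [specializes_iff_mem_closure, hη.def]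
      exact subset_closure (hyZ (subset_closure rfl))
    have h2 : η.1 ⤳ y.1 := h1.map continuous_subtype_val
    have h4 : η = y := Subtype.ext (ha y.1 hy η.1 h2)
    calc Z ⊆ closure Z := subset_closure
      _ = closure {η} := hη.def.symm
      _ = g y := by rw [h4]
  refine (h3.image Subtype.val).subset ?_
  rintro x ⟨hxU, hx⟩
  exact ⟨⟨x, hxU⟩, hx, rfl⟩

end Groth.Agent.H8
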