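import Groth.Agent.H19.ComapAff
import Groth.Agent.H8.MeroLoc
import Groth.Prelude.Def_BlowUp2

/-!
# Basics on effective Cartier ideal sheaves and inverse images (helper8)

* `comap_mul`: inverse image of ideal sheaves commutes with products.
* `isEffCartier_mul`: products of effective Cartier ideal sheaves are effective Cartier.
* `notMem_support_of_isWeakAssPoint`: an effective Cartier divisor contains no weakly associated
  point of `O_X`.
* `isAssociatedPrime_maximalIdeal_of_ringEquiv`, `isIso_stalkMap_of_isIso_morphismRestrict`.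
-/

set_option autoImplicit false
universe u
open CategoryTheory CategoryTheory.Limits AlgebraicGeometry TopologicalSpace Opposite

namespace Groth.Agent.H8

open Curv2 Scheme.IdealSheafData

variable {X Y : Scheme.{u}}

/-- The affine opens of `X` mapping into an affine open of `Y`, as an indexed family. -/
lemma iSup_affine_le_preimage (f : X ⟶ Y) :
    ⨆ i : {p : X.affineOpens × Y.affineOpens // p.1.1 ≤ f ⁻¹ᵁ p.2.1}, (i.1.1 : X.Opens) = ⊤ := by
  rw [eq_top_iff]
  intro x _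
  obtain ⟨_, ⟨U, hU, rfl⟩, hxU, -⟩ :=
    Y.isBasis_affineOpens.exists_subset_of_mem_open (Set.mem_univ (f x)) isOpen_univ
  obtain ⟨_, ⟨V, hV, rfl⟩, hxV, hVU⟩ :=
    X.isBasis_affineOpens.exists_subset_of_mem_open (show x ∈ f ⁻¹ᵁ U from hxU) (f ⁻¹ᵁ U).2
  exact Opens.mem_iSup.mpr ⟨⟨(⟨V, hV⟩, ⟨U, hU⟩), hVU⟩, hxV⟩

/-- Inverse image of ideal sheaves commutes with products. -/
theorem comap_mul (𝓘 𝓙 : Y.IdealSheafData) (f : X ⟶ Y) :
    (𝓘 * 𝓙).comap f = 𝓘.comap f * 𝓙.comap f := by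
  refine ext_of_iSup_eq_top
    (fun i : {p : X.affineOpens × Y.affineOpens // p.1.1 ≤ f ⁻¹ᵁ p.2.1} => i.1.1)
    (iSup_affine_le_preimage f) ?_
  rintro ⟨⟨V, U⟩, hVU⟩
  change ((𝓘 * 𝓙).comap f).ideal V = (𝓘.comap f).ideal V * (𝓙.comap f).ideal V
  rw [Groth.Agent.H19.ComapAff.ideal_comap_appLE f (𝓘 * 𝓙) U V hVU,
    Groth.Agent.H19.ComapAff.ideal_comap_appLE f 𝓘 U V hVU,
    Groth.Agent.H19.ComapAff.ideal_comap_appLE f 𝓙 U V hVU]
  change (𝓘.ideal U * 𝓙.ideal U).map _ = _
  rw [Ideal.map_mul]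


set_option backward.isDefEq.respectTransparency false in
/-- A principal generator by a nonzerodivisor restricts to basic opens. -/
lemma isEffCartier_basicOpen (𝓘 : X.IdealSheafData) (U : X.affineOpens) (f : Γ(X, U.1))
    (hf : f ∈ nonZeroDivisors Γ(X, U.1)) (hI : 𝓘.ideal U = Ideal.span {f}) (r : Γ(X, U.1)) :
    ∃ f' : Γ(X, (X.affineBasicOpen r).1), f' ∈ nonZeroDivisors Γ(X, (X.affineBasicOpen r).1) ∧
      𝓘.ideal (X.affineBasicOpen r) = Ideal.span {f'} := by
  let _ : Algebra Γ(X, U.1) Γ(X, X.basicOpen r) :=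
    (X.presheaf.map (homOfLE (X.basicOpen_le r)).op).hom.toAlgebra
  have hloc : IsLocalization.Away r Γ(X, X.basicOpen r) := U.2.isLocalization_basicOpen r
  refine ⟨algebraMap Γ(X, U.1) Γ(X, X.basicOpen r) f, ?_, ?_⟩
  · exact IsLocalization.map_nonZeroDivisors_le (Submonoid.powers r) Γ(X, X.basicOpen r)
      (Submonoid.mem_map_of_mem _ hf)
  · rw [← 𝓘.map_ideal_basicOpen U r, hI, Ideal.map_span, Set.image_singleton]
    rfl

/-- Products of effective Cartier ideal sheaves are effective Cartier. -/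
theorem isEffCartier_mul {𝓘 𝓙 : X.IdealSheafData} (hI : BlowUp.IsEffCartierIdeal 𝓘)
    (hJ : BlowUp.IsEffCartierIdeal 𝓙) : BlowUp.IsEffCartierIdeal (𝓘 * 𝓙) := by
  intro x
  obtain ⟨U, hxU, f, hf, hfI⟩ := hI x
  obtain ⟨U', hxU', g, hg, hgJ⟩ := hJ x
  obtain ⟨r, r', e, hxr⟩ := exists_basicOpen_le_affine_inter U.2 U'.2 x ⟨hxU, hxU'⟩
  obtain ⟨f', hf', hfI'⟩ := isEffCartier_basicOpen 𝓘 U f hf hfI r
  have hJ' : ∃ g' : Γ(X, (X.affineBasicOpen r).1),
      g' ∈ nonZeroDivisors Γ(X, (X.affineBasicOpen r).1) ∧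
      𝓙.ideal (X.affineBasicOpen r) = Ideal.span {g'} := by
    have e' : X.affineBasicOpen r = X.affineBasicOpen r' := Subtype.ext e
    rw [e']
    exact isEffCartier_basicOpen 𝓙 U' g hg hgJ r'
  obtain ⟨g', hg', hgJ'⟩ := hJ'
  refine ⟨X.affineBasicOpen r, hxr, f' * g', mul_mem hf' hg', ?_⟩
  change 𝓘.ideal _ * 𝓙.ideal _ = _
  rw [hfI', hgJ', Ideal.span_singleton_mul_span_singleton]


set_option backward.isDefEq.respectTransparency false in
/-- The support of an effective Cartier divisor contains no weakly associated point of `O_X`. -/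
theorem notMem_support_of_isWeakAssPoint {𝓘 : X.IdealSheafData} (hI : BlowUp.IsEffCartierIdeal 𝓘)
    {x : X} (hx : IsWeakAssPoint (Coh.structureModule X) x) : x ∉ 𝓘.support := by
  intro hxs
  obtain ⟨U, hxU, f, hf, hfI⟩ := hI x
  rw [mem_support_iff_of_mem hxU, Scheme.mem_zeroLocus_iff] at hxs
  have h1 : x ∉ X.basicOpen f := hxs f (by
    rw [hfI]; exact Ideal.mem_span_singleton_self f)
  have h2 : f ∈ (U.2.primeIdealOf ⟨x, hxU⟩).asIdeal := by
    by_contra hcon
    exact h1 ((notMem_primeIdealOf_iff U.2 hxU f).mp hcon)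
  exact germ_notMem_nonZeroDivisors_of_weakAss U.2 hxU hx h2
    (mem_regSub_of_mem_nonZeroDivisors U.2 hf ⟨x, hxU⟩)


lemma isAssociatedPrime_maximalIdeal_of_ringEquiv {R S : Type*} [CommRing R] [CommRing S]
    [IsLocalRing R] [IsLocalRing S] (e : R ≃+* S)
    (h : IsAssociatedPrime (IsLocalRing.maximalIdeal R) R) :
    IsAssociatedPrime (IsLocalRing.maximalIdeal S) S := by
  obtain ⟨-, c, hc⟩ := h
  refine ⟨inferInstance, e c, ?_⟩
  ext r
  have h1 : r ∈ IsLocalRing.maximalIdeal S ↔ e.symm r ∈ IsLocalRing.maximalIdeal R := by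
    rw [IsLocalRing.mem_maximalIdeal, IsLocalRing.mem_maximalIdeal, mem_nonunits_iff,
      mem_nonunits_iff, not_iff_not]
    constructor
    · intro h; exact h.map e.symm
    · intro h
      have := h.map e
      rwa [RingEquiv.apply_symm_apply] at this
  rw [h1, hc, Ideal.mem_radical_iff, Ideal.mem_radical_iff]
  simp only [Submodule.mem_colon_singleton, Submodule.mem_bot, smul_eq_mul]
  constructor
  · rintro ⟨n, hn⟩
    refine ⟨n, ?_⟩
    have := congrArg e hn
    rwa [map_mul, map_pow, RingEquiv.apply_symm_apply, map_zero] at this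
  · rintro ⟨n, hn⟩
    refine ⟨n, ?_⟩
    have := congrArg e.symm hn
    rwa [map_mul, map_pow, RingEquiv.symm_apply_apply, map_zero] at this

/-- Stalk maps of a morphism which is an isomorphism over an open are isomorphisms there. -/
lemma isIso_stalkMap_of_isIso_morphismRestrict (f : X ⟶ Y) (U : Y.Opens) [IsIso (f ∣_ U)] (x : X)
    (hx : f x ∈ U) : IsIso (f.stalkMap x) := by
  have h1 : IsIso ((f ∣_ U).stalkMap ⟨x, hx⟩) := inferInstance
  exact ((MorphismProperty.isomorphisms _).arrow_mk_iso_iff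
    (morphismRestrictStalkMap f U ⟨x, hx⟩)).mp h1

end Groth.Agent.H8
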