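import Groth.Agent.H8.BlowUpBasic
import Groth.Agent.S1680
import Groth.Agent.S1682

/-!
# Local nature of effective Cartier ideals; base change of blow-ups off the centre (helper8)
-/

set_option autoImplicit false
universe u
open CategoryTheory CategoryTheory.Limits AlgebraicGeometry TopologicalSpace Opposite

namespace Groth.Agent.H8

open Scheme.IdealSheafData

/-- Isomorphisms of commutative rings preserve nonzerodivisors. -/
lemma nonZeroDivisors_of_iso {R S : CommRingCat.{u}} (e : R ≅ S) {r : R}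
    (hr : r ∈ nonZeroDivisors R) : e.hom.hom r ∈ nonZeroDivisors S := by
  rw [mem_nonZeroDivisors_iff_right]
  intro s hs
  have h1 : e.inv.hom s * r = 0 := by
    have := congrArg e.inv.hom hs
    rw [map_mul, map_zero] at this
    rwa [show e.inv.hom (e.hom.hom r) = r from congrArg (fun k => k.hom r) e.hom_inv_id] at this
  have h2 := (mem_nonZeroDivisors_iff_right.mp hr) _ h1
  have h3 := congrArg e.hom.hom h2
  rwa [map_zero, show e.hom.hom (e.inv.hom s) = s from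
    congrArg (fun k => k.hom s) e.inv_hom_id] at h3

/-- The effective Cartier condition at a point can be checked on an open subscheme. -/
lemma isEffCartier_at_of_openImmersion {P W : Scheme.{u}} (𝓙 : P.IdealSheafData) (j : W ⟶ P)
    [IsOpenImmersion j] (h : BlowUp.IsEffCartierIdeal (𝓙.comap j)) (w : W) :
    ∃ U : P.affineOpens, j w ∈ U.1 ∧
      ∃ f : Γ(P, U.1), f ∈ nonZeroDivisors Γ(P, U.1) ∧ 𝓙.ideal U = Ideal.span {f} := by
  obtain ⟨V', hwV', t, ht, hV't⟩ := h w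
  refine ⟨⟨j ''ᵁ V'.1, V'.2.image_of_isOpenImmersion j⟩, ⟨w, hwV', rfl⟩,
    (j.appIso V'.1).inv.hom t, nonZeroDivisors_of_iso (j.appIso V'.1).symm ht, ?_⟩
  rw [ideal_comap_of_isOpenImmersion] at hV't
  have hsurj : Function.Surjective (j.appIso V'.1).inv.hom :=
    (ConcreteCategory.bijective_of_isIso (j.appIso V'.1).inv).2
  rw [← Ideal.map_comap_of_surjective _ hsurj
    (𝓙.ideal ⟨j ''ᵁ V'.1, V'.2.image_of_isOpenImmersion j⟩), hV't, Ideal.map_span,
    Set.image_singleton]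

/-- Being an effective Cartier ideal is local. -/
theorem isEffCartier_of_local {P : Scheme.{u}} (𝓙 : P.IdealSheafData)
    (h : ∀ z : P, ∃ (W : Scheme.{u}) (j : W ⟶ P) (_ : IsOpenImmersion j),
      z ∈ Set.range j ∧ BlowUp.IsEffCartierIdeal (𝓙.comap j)) :
    BlowUp.IsEffCartierIdeal 𝓙 := by
  intro z
  obtain ⟨W, j, hj, ⟨w, rfl⟩, hW⟩ := h z
  exact isEffCartier_at_of_openImmersion 𝓙 j hW w

set_option backward.isDefEq.respectTransparency false in
/-- Base change of a blow-up: an ideal whose support misses the centre and which is effective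
Cartier on `B₁` stays effective Cartier on `B₁ ×_X B₂`. -/
theorem isEffCartier_comap_pullback_fst {X B₁ B₂ : Scheme.{u}} {I₂ 𝓙 : X.IdealSheafData}
    (hdisj : 𝓙 ⊔ I₂ = ⊤) (σ₁ : B₁ ⟶ X) (σ₂ : B₂ ⟶ X) (hσ₂ : BlowUp.IsBlowUp σ₂ I₂)
    (h𝓙 : BlowUp.IsEffCartierIdeal (𝓙.comap σ₁)) :
    BlowUp.IsEffCartierIdeal (𝓙.comap (pullback.fst σ₁ σ₂ ≫ σ₁)) := by
  apply isEffCartier_of_local
  intro z
  by_cases hz : (pullback.fst σ₁ σ₂ ≫ σ₁) z ∈ 𝓙.support
  · have hz2 : (pullback.fst σ₁ σ₂ ≫ σ₁) z ∉ I₂.support := by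
      intro hz2
      have h1 : (pullback.fst σ₁ σ₂ ≫ σ₁) z ∈ (𝓙 ⊔ I₂).support := by
        rw [support_sup]; exact ⟨hz, hz2⟩
      rw [hdisj, support_top] at h1
      exact h1
    let U₂ : X.Opens := I₂.support.compl
    have hiso : IsIso (σ₂ ∣_ U₂) := Groth.Agent.S1682.result I₂ σ₂ hσ₂
    let UY : (pullback σ₁ σ₂).Opens :=
      pullback.fst σ₁ σ₂ ⁻¹ᵁ (σ₁ ⁻¹ᵁ U₂) ⊓ pullback.snd σ₁ σ₂ ⁻¹ᵁ (σ₂ ⁻¹ᵁ U₂)
    have H := Scheme.Hom.isPullback_resLE (IsPullback.of_hasPullback σ₁ σ₂) (US := U₂)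
      (UT := σ₂ ⁻¹ᵁ U₂) (UX := σ₁ ⁻¹ᵁ U₂) le_rfl le_rfl (UY := UY) rfl
    rw [Scheme.Hom.resLE_eq_morphismRestrict (f := σ₂)] at H
    have hiso' := H.isIso_fst_of_isIso hiso
    refine ⟨UY, UY.ι, inferInstance, ?_, ?_⟩
    · rw [Scheme.Opens.range_ι]
      refine ⟨hz2, ?_⟩
      change (pullback.snd σ₁ σ₂ ≫ σ₂) z ∉ I₂.support
      rw [← pullback.condition]
      exact hz2
    · have e : UY.ι ≫ pullback.fst σ₁ σ₂ ≫ σ₁ =
          ((pullback.fst σ₁ σ₂).resLE (σ₁ ⁻¹ᵁ U₂) UY inf_le_left ≫ (σ₁ ⁻¹ᵁ U₂).ι) ≫ σ₁ := by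
        rw [Scheme.Hom.resLE_comp_ι, Category.assoc]
      rw [← comap_comp, e, comap_comp]
      exact Groth.Agent.S1680.isEffCartier_comap_of_flat _ h𝓙
  · let W : (pullback σ₁ σ₂).Opens := (pullback.fst σ₁ σ₂ ≫ σ₁) ⁻¹ᵁ 𝓙.support.compl
    refine ⟨W, W.ι, inferInstance, ?_, ?_⟩
    · rw [Scheme.Opens.range_ι]
      exact hz
    · rw [← comap_comp, Groth.Agent.S1682.comap_eq_top 𝓙 (W.ι ≫ pullback.fst σ₁ σ₂ ≫ σ₁)
        (fun y => y.2)]
      exact Groth.Agent.S1682.isEffCartier_top _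

end Groth.Agent.H8
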