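import Mathlib.AlgebraicGeometry.Gluing
import Mathlib.AlgebraicGeometry.Restrict
import Mathlib.AlgebraicGeometry.OpenImmersion

/-!
# Gluing factorizations through a morphism (helper8)

`existsUnique_lift_of_local`: if factorizations of `j ≫ g` through `b` are unique for every open
immersion `j : W ⟶ Y`, and exist locally on `Y`, then `g` factors uniquely through `b`.
-/

set_option autoImplicit false
universe u
open CategoryTheory CategoryTheory.Limits AlgebraicGeometry

namespace Groth.Agent.H8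

/-- Gluing principle for factorizations through `b`. -/
theorem existsUnique_lift_of_local {X X' Y : Scheme.{u}} (b : X' ⟶ X) (g : Y ⟶ X)
    (huniq : ∀ (W : Scheme.{u}) (j : W ⟶ Y) [IsOpenImmersion j] (h h' : W ⟶ X'),
      h ≫ b = j ≫ g → h' ≫ b = j ≫ g → h = h')
    (hex : ∀ y : Y, ∃ V : Y.Opens, y ∈ V ∧ ∃ h : V.toScheme ⟶ X', h ≫ b = V.ι ≫ g) :
    ∃! h : Y ⟶ X', h ≫ b = g := by
  choose V hyV h hh using hex
  let 𝒰 : Y.OpenCover := {
    I₀ := Y, X i := (V i), f i := (V i).ι,
    mem₀ := by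
      rw [Scheme.presieve₀_mem_precoverage_iff]
      refine ⟨fun x ↦ ⟨x, by simpa using hyV x⟩, inferInstance⟩ }
  have hcompat : ∀ x y : Y, pullback.fst (𝒰.f x) (𝒰.f y) ≫ h x = pullback.snd _ _ ≫ h y := by
    intro x y
    refine huniq _ (pullback.fst (𝒰.f x) (𝒰.f y) ≫ (V x).ι) _ _ ?_ ?_
    · rw [Category.assoc, hh x, Category.assoc]
    · rw [Category.assoc, hh y, Category.assoc]
      exact (pullback.condition_assoc (f := (V x).ι) (g := (V y).ι) g).symm
  refine ⟨𝒰.glueMorphisms h hcompat, ?_, ?_⟩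
  · refine 𝒰.hom_ext _ _ fun x => ?_
    rw [Scheme.Cover.ι_glueMorphisms_assoc]
    exact hh x
  · intro h' hh'
    refine huniq Y (𝟙 Y) _ _ ?_ ?_
    · rw [Category.id_comp, hh']
    · rw [Category.id_comp]
      refine 𝒰.hom_ext _ _ fun x => ?_
      rw [Scheme.Cover.ι_glueMorphisms_assoc]
      exact hh x

end Groth.Agent.H8
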