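import Groth.Agent.H8.ReesProj
import Groth.Agent.H8.BlowUpLocal
import Groth.Agent.S14090
import Groth.Prelude.Def_ega3

/-!
# `Proj` of the Rees algebra: the inverse image of `I` is effective Cartier (helper8)
-/

set_option autoImplicit false
universe u
open CategoryTheory CategoryTheory.Limits AlgebraicGeometry TopologicalSpace Opposite
open HomogeneousLocalization

namespace Groth.Agent.H8.ReesProj

open Groth.Agent.H8 Groth.Agent.S14090

variable {A : Type u} [CommRing A] (I : Ideal A)

/-- Affine criterion: if `I B = f B` with `f` a nonzerodivisor then the inverse image of `I` on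
`Spec B` is effective Cartier. -/
lemma isEffCartier_comap_specMap {B : Type u} [CommRing B] (φ : A →+* B) (f : B)
    (hf : f ∈ nonZeroDivisors B) (h : I.map φ = Ideal.span {f}) :
    BlowUp.IsEffCartierIdeal ((Curv2.idealSheaf A I).comap (Spec.map (CommRingCat.ofHom φ))) := by
  intro x
  have e1 : ringMapTop (Spec.map (CommRingCat.ofHom φ)) =
      (Scheme.ΓSpecIso (CommRingCat.of B)).inv.hom.comp φ := by
    have := ringMapTop_comp φ (𝟙 (Spec (CommRingCat.of B)))
    rw [Category.id_comp] at this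
    rw [this]
    congr 1
  refine ⟨⟨⊤, isAffineOpen_top _⟩, trivial,
    (Scheme.ΓSpecIso (CommRingCat.of B)).inv.hom f, ?_, ?_⟩
  · exact nonZeroDivisors_of_iso (Scheme.ΓSpecIso (CommRingCat.of B)).symm hf
  · rw [ideal_comap_idealSheaf, ringMap_top, e1, ← Ideal.map_map, h, Ideal.map_span,
      Set.image_singleton]

/-- The structure morphism `Proj R(I) ⟶ Spec A`. -/
noncomputable abbrev π : Proj (Rees.deg (reesAlgebra I)) ⟶ Spec (CommRingCat.of A) :=
  Proj.toSpecZero (Rees.deg (reesAlgebra I)) ≫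
    Spec.map (CommRingCat.ofHom (algebraMap A (Rees.deg (reesAlgebra I) 0)))

/-- The chart `Spec B_a ⟶ Proj R(I)`. -/
noncomputable abbrev chartι (a : A) (ha : a ∈ I) :
    Spec (CommRingCat.of (Chart I a ha)) ⟶ Proj (Rees.deg (reesAlgebra I)) :=
  Proj.awayι (Rees.deg (reesAlgebra I)) (tt I a ha) (tt_mem I a ha) Nat.one_pos

lemma chartι_π (a : A) (ha : a ∈ I) :
    chartι I a ha ≫ π I = Spec.map (CommRingCat.ofHom (φ I a ha)) := by
  rw [← Category.assoc, Proj.awayι_toSpecZero, ← Spec.map_comp]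
  rfl

/-- The charts cover `Proj R(I)`. -/
lemma exists_mem_chart (z : Proj (Rees.deg (reesAlgebra I))) :
    ∃ (a : A) (ha : a ∈ I), z ∈ Proj.basicOpen (Rees.deg (reesAlgebra I)) (tt I a ha) := by
  have h := Proj.iSup_basicOpen_eq_top (Rees.deg (reesAlgebra I))
    (fun a : I => tt I a.1 a.2) (irrelevant_le_span I)
  have hz : z ∈ (⊤ : (Proj (Rees.deg (reesAlgebra I))).Opens) := trivial
  rw [← h] at hz
  obtain ⟨a, ha⟩ := Opens.mem_iSup.mp hz
  exact ⟨a.1, a.2, ha⟩

/-- The inverse image of `I` on `Proj R(I)` is effective Cartier. -/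
theorem isEffCartier_comap_π :
    BlowUp.IsEffCartierIdeal ((Curv2.idealSheaf A I).comap (π I)) := by
  apply isEffCartier_of_local
  intro z
  obtain ⟨a, ha, hz⟩ := exists_mem_chart I z
  refine ⟨_, chartι I a ha, inferInstance, ?_, ?_⟩
  · rw [← Proj.opensRange_awayι _ _ (tt_mem I a ha) Nat.one_pos] at hz
    exact hz
  · rw [← Scheme.IdealSheafData.comap_comp, chartι_π]
    exact isEffCartier_comap_specMap I _ _ (φ_mem_nonZeroDivisors I a ha) (map_φ_eq_span I a ha)

end Groth.Agent.H8.ReesProj
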