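import Groth.Agent.H8.ReesProjLift

/-!
# Uniqueness of lifts to `Proj` of the Rees algebra (helper8)
-/

set_option autoImplicit false
universe u
open CategoryTheory CategoryTheory.Limits AlgebraicGeometry TopologicalSpace Opposite
open HomogeneousLocalization Polynomial

namespace Groth.Agent.H8.ReesProj

open Groth.Agent.H8 Groth.Agent.S14090

variable {A : Type u} [CommRing A] (I : Ideal A)

/-- Two generators of the same principal ideal, one a nonzerodivisor, differ by a unit. -/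
lemma exists_unit_of_span_eq {T : Type*} [CommRing T] {s t : T} (ht : t ∈ nonZeroDivisors T)
    (h : Ideal.span {s} = Ideal.span {t}) : ∃ u : Tˣ, s = t * u := by
  have h1 : s ∈ Ideal.span {t} := h ▸ Ideal.mem_span_singleton_self s
  have h2 : t ∈ Ideal.span {s} := h.symm ▸ Ideal.mem_span_singleton_self t
  obtain ⟨a, ha⟩ := Ideal.mem_span_singleton'.mp h1
  obtain ⟨b, hb⟩ := Ideal.mem_span_singleton'.mp h2
  have h3 : t * (a * b - 1) = 0 := by
    rw [mul_sub, mul_one, sub_eq_zero]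
    calc t * (a * b) = b * (a * t) := by ring
      _ = t := by rw [ha, hb]
  have h4 : a * b = 1 := sub_eq_zero.mp ((mem_nonZeroDivisors_iff_left.mp ht) _ h3)
  exact ⟨⟨a, b, h4, by rw [mul_comm, h4]⟩, by rw [← ha, mul_comm]⟩

/-- Uniqueness of lifts to a chart. -/
lemma chart_hom_ext {W : Scheme.{u}} (a : A) (ha : a ∈ I)
    (k k' : W ⟶ Spec (CommRingCat.of (Chart I a ha)))
    (hk : k ≫ Spec.map (CommRingCat.ofHom (φ I a ha)) =
      k' ≫ Spec.map (CommRingCat.ofHom (φ I a ha)))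
    (hnzd : ringMapTop (k ≫ Spec.map (CommRingCat.ofHom (φ I a ha))) a ∈
      nonZeroDivisors Γ(W, ⊤)) : k = k' := by
  apply ext_of_ringMapTop
  ext b
  obtain ⟨n, c, -, hc⟩ := exists_mul_pow_eq I a ha b
  have e1 := ringMapTop_comp (φ I a ha) k
  have e2 := ringMapTop_comp (φ I a ha) k'
  rw [← hk] at e2
  have h1 : ringMapTop k b * ringMapTop (k ≫ Spec.map (CommRingCat.ofHom (φ I a ha))) a ^ n =
      ringMapTop (k ≫ Spec.map (CommRingCat.ofHom (φ I a ha))) c := by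
    rw [e1, RingHom.comp_apply, RingHom.comp_apply, ← map_pow, ← map_mul, hc]
  have h2 : ringMapTop k' b * ringMapTop (k ≫ Spec.map (CommRingCat.ofHom (φ I a ha))) a ^ n =
      ringMapTop (k ≫ Spec.map (CommRingCat.ofHom (φ I a ha))) c := by
    rw [e2, RingHom.comp_apply, RingHom.comp_apply, ← map_pow, ← map_mul, hc]
  exact (mul_cancel_right_mem_nonZeroDivisors (pow_mem hnzd n)).mp (h1.trans h2.symm)

/-- Morphisms agree if they agree on an open-immersion cover. -/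
lemma hom_ext_of_forall_openImmersion {W Z : Scheme.{u}} (h h' : W ⟶ Z)
    (H : ∀ w : W, ∃ (V : Scheme.{u}) (j : V ⟶ W), IsOpenImmersion j ∧ w ∈ Set.range j ∧
      j ≫ h = j ≫ h') : h = h' := by
  apply Scheme.hom_ext_of_forall
  intro w
  obtain ⟨V, j, hj, hw, e⟩ := H w
  refine ⟨j.opensRange, hw, ?_⟩
  rw [← Scheme.Hom.isoOpensRange_inv_comp, Category.assoc, Category.assoc, e]

/-- If `r` maps to a unit then the preimage of `D(r)` is everything. -/
lemma preimage_basicOpen_eq_top {V : Scheme.{u}} {R : Type u} [CommRing R]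
    (k : V ⟶ Spec (CommRingCat.of R)) (r : R) (hr : IsUnit (ringMapTop k r)) :
    k ⁻¹ᵁ (PrimeSpectrum.basicOpen r) = ⊤ := by
  have h1 := basicOpen_eq_of_affine (R := CommRingCat.of R) r
  have h2 : k ⁻¹ᵁ ((Spec (CommRingCat.of R)).basicOpen
      ((Scheme.ΓSpecIso (CommRingCat.of R)).inv.hom r)) = ⊤ := by
    rw [Scheme.preimage_basicOpen]
    exact Scheme.basicOpen_of_isUnit _ hr
  rw [← h2]
  congr 1
  exact h1.symm

lemma nzd_mul_unit {T : Type*} [CommRing T] {t : T} (ht : t ∈ nonZeroDivisors T) (u : Tˣ) :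
    t * u ∈ nonZeroDivisors T :=
  mul_mem ht (IsUnit.mem_nonZeroDivisors u.isUnit)

/-- Two lifts through charts agree. -/
lemma lift_unique_chart {V : Scheme.{u}} (gV : V ⟶ Spec (CommRingCat.of A)) (t : Γ(V, ⊤))
    (ht : t ∈ nonZeroDivisors Γ(V, ⊤)) (hI : I.map (ringMapTop gV) = Ideal.span {t})
    (a a' : A) (ha : a ∈ I) (ha' : a' ∈ I)
    (k : V ⟶ Spec (CommRingCat.of (Chart I a ha)))
    (k' : V ⟶ Spec (CommRingCat.of (Chart I a' ha')))
    (hk : k ≫ Spec.map (CommRingCat.ofHom (φ I a ha)) = gV)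
    (hk' : k' ≫ Spec.map (CommRingCat.ofHom (φ I a' ha')) = gV) :
    k ≫ chartι I a ha = k' ≫ chartι I a' ha' := by
  have e : ringMapTop gV = (ringMapTop k).comp (φ I a ha) := by rw [← hk, ringMapTop_comp]
  have e' : ringMapTop gV = (ringMapTop k').comp (φ I a' ha') := by rw [← hk', ringMapTop_comp]
  have hs : Ideal.span {ringMapTop gV a} = Ideal.span {t} := by
    rw [← hI]
    conv_rhs => rw [e, ← Ideal.map_map, map_φ_eq_span, Ideal.map_span, Set.image_singleton]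
    rw [e, RingHom.comp_apply]
  have hs' : Ideal.span {ringMapTop gV a'} = Ideal.span {t} := by
    rw [← hI]
    conv_rhs => rw [e', ← Ideal.map_map, map_φ_eq_span, Ideal.map_span, Set.image_singleton]
    rw [e', RingHom.comp_apply]
  obtain ⟨u', hu'⟩ := exists_unit_of_span_eq ht hs'
  have hnzd' : ringMapTop gV a' ∈ nonZeroDivisors Γ(V, ⊤) := hu' ▸ nzd_mul_unit ht u'
  obtain ⟨u0, hu0⟩ := exists_unit_of_span_eq ht hs
  have hnzd : ringMapTop gV a ∈ nonZeroDivisors Γ(V, ⊤) := hu0 ▸ nzd_mul_unit ht u0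
  obtain ⟨u, hu⟩ := exists_unit_of_span_eq hnzd' (hs.trans hs'.symm)
  have h5 : ringMapTop gV a = ringMapTop gV a' * ringMapTop k' (β I a' ha' a ha) := by
    conv_lhs => rw [e', RingHom.comp_apply, φ_eq_mul I a' ha' a ha, map_mul]
    rw [e', RingHom.comp_apply]
  have h6 : ringMapTop k' (β I a' ha' a ha) = u :=
    (mul_cancel_left_mem_nonZeroDivisors hnzd').mp (h5.symm.trans hu)
  have h7 : k' ⁻¹ᵁ (PrimeSpectrum.basicOpen (β I a' ha' a ha)) = ⊤ :=
    preimage_basicOpen_eq_top k' _ (h6 ▸ u.isUnit)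
  have hr : Set.range (k' ≫ chartι I a' ha') ⊆ Set.range (chartι I a ha) := by
    rintro _ ⟨v, rfl⟩
    have h8 : v ∈ k' ⁻¹ᵁ (PrimeSpectrum.basicOpen (β I a' ha' a ha)) := h7 ▸ trivial
    rw [← Proj.awayι_preimage_basicOpen (Rees.deg (reesAlgebra I)) (tt_mem I a' ha') Nat.one_pos
      (tt_mem I a ha) Nat.one_pos, ← Proj.opensRange_awayι _ _ (tt_mem I a ha) Nat.one_pos] at h8
    exact h8
  have hfac := IsOpenImmersion.lift_fac (chartι I a ha) (k' ≫ chartι I a' ha') hr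
  have hk'' : k = IsOpenImmersion.lift (chartι I a ha) (k' ≫ chartι I a' ha') hr := by
    apply chart_hom_ext I a ha
    · rw [hk, ← chartι_π, ← Category.assoc, hfac, Category.assoc, chartι_π, hk']
    · rw [hk]; exact hnzd
  rw [hk'', hfac]

/-- Uniqueness of lifts to `Proj R(I)`. -/
theorem lift_unique {W : Scheme.{u}} (g : W ⟶ Spec (CommRingCat.of A))
    (hg : BlowUp.IsEffCartierIdeal ((Curv2.idealSheaf A I).comap g))
    (h h' : W ⟶ Proj (Rees.deg (reesAlgebra I))) (hh : h ≫ π I = g) (hh' : h' ≫ π I = g) :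
    h = h' := by
  apply hom_ext_of_forall_openImmersion
  intro w
  obtain ⟨a, ha, hwa⟩ := exists_mem_chart I (h w)
  obtain ⟨a', ha', hwa'⟩ := exists_mem_chart I (h' w)
  let U : W.Opens := h ⁻¹ᵁ (Proj.basicOpen (Rees.deg (reesAlgebra I)) (tt I a ha)) ⊓
    h' ⁻¹ᵁ (Proj.basicOpen (Rees.deg (reesAlgebra I)) (tt I a' ha'))
  have hwU : w ∈ U := ⟨hwa, hwa'⟩
  have hU : BlowUp.IsEffCartierIdeal ((Curv2.idealSheaf A I).comap (U.ι ≫ g)) := by
    rw [Scheme.IdealSheafData.comap_comp]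
    exact Groth.Agent.S1680.isEffCartier_comap_of_flat U.ι hg
  obtain ⟨V, hwV, t, ht, hVt⟩ := hU ⟨w, hwU⟩
  have : IsAffine V.1 := V.2
  refine ⟨V.1.toScheme, V.1.ι ≫ U.ι, inferInstance, ⟨⟨⟨w, hwU⟩, hwV⟩, rfl⟩, ?_⟩
  have hr : Set.range (V.1.ι ≫ U.ι ≫ h) ⊆ Set.range (chartι I a ha) := by
    rintro _ ⟨v, rfl⟩
    have h0 : (V.1.ι v).1 ∈ U := (V.1.ι v).2
    change _ ∈ (chartι I a ha).opensRange
    rw [Proj.opensRange_awayι _ _ (tt_mem I a ha) Nat.one_pos]
    exact h0.1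
  have hr' : Set.range (V.1.ι ≫ U.ι ≫ h') ⊆ Set.range (chartι I a' ha') := by
    rintro _ ⟨v, rfl⟩
    have h0 : (V.1.ι v).1 ∈ U := (V.1.ι v).2
    change _ ∈ (chartι I a' ha').opensRange
    rw [Proj.opensRange_awayι _ _ (tt_mem I a' ha') Nat.one_pos]
    exact h0.2
  have hfac := IsOpenImmersion.lift_fac (chartι I a ha) (V.1.ι ≫ U.ι ≫ h) hr
  have hfac' := IsOpenImmersion.lift_fac (chartι I a' ha') (V.1.ι ≫ U.ι ≫ h') hr'
  have key := lift_unique_chart I (V.1.ι ≫ U.ι ≫ g) (V.1.topIso.inv.hom t)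
    (nonZeroDivisors_of_iso V.1.topIso.symm ht) ?_ a a' ha ha'
    (IsOpenImmersion.lift (chartι I a ha) (V.1.ι ≫ U.ι ≫ h) hr)
    (IsOpenImmersion.lift (chartι I a' ha') (V.1.ι ≫ U.ι ≫ h') hr') ?_ ?_
  · rw [Category.assoc, Category.assoc, ← hfac, ← hfac']
    exact key
  · rw [← ringMap_top, ← ideal_comap_idealSheaf I _ ⟨⊤, isAffineOpen_top _⟩,
      Scheme.IdealSheafData.comap_comp, Groth.Agent.H19.ComapAff.ideal_comap_ι, hVt,
      Ideal.map_span, Set.image_singleton]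
  · rw [← chartι_π, ← Category.assoc, hfac, Category.assoc, Category.assoc, hh]
  · rw [← chartι_π, ← Category.assoc, hfac', Category.assoc, Category.assoc, hh']

end Groth.Agent.H8.ReesProj
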