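import Groth.Agent.H8.ReesProjUniq
import Groth.Agent.S16054
import Mathlib.AlgebraicGeometry.RelativeGluing

/-!
# Existence of blow-ups (helper8)

* `isBlowUp_iso`: uniqueness of the blow-up.
* `isBlowUp_of_local`: being a blow-up is local on the base.
* `exists_isBlowUp_of_isAffine`: blow-ups of affine schemes exist (`Proj` of the Rees algebra).
* `exists_isBlowUp`: blow-ups exist (relative gluing).
-/

set_option autoImplicit false
universe u
open CategoryTheory CategoryTheory.Limits AlgebraicGeometry TopologicalSpace Opposite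

namespace Groth.Agent.H8

open Scheme.IdealSheafData

/-- Two blow-ups of the same ideal are canonically isomorphic. -/
theorem isBlowUp_iso {X X₁ X₂ : Scheme.{u}} {𝓘 : X.IdealSheafData} {b₁ : X₁ ⟶ X} {b₂ : X₂ ⟶ X}
    (h₁ : BlowUp.IsBlowUp b₁ 𝓘) (h₂ : BlowUp.IsBlowUp b₂ 𝓘) :
    ∃ e : X₁ ≅ X₂, e.hom ≫ b₂ = b₁ := by
  obtain ⟨f, hf, -⟩ := h₂.2 X₁ b₁ h₁.1
  obtain ⟨g, hg, -⟩ := h₁.2 X₂ b₂ h₂.1
  refine ⟨⟨f, g, ?_, ?_⟩, hf⟩
  · exact (h₁.2 X₁ b₁ h₁.1).unique (by rw [Category.assoc, hg, hf]) (Category.id_comp _)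
  · exact (h₂.2 X₂ b₂ h₂.1).unique (by rw [Category.assoc, hf, hg]) (Category.id_comp _)

/-- Being a blow-up is local on the base. -/
theorem isBlowUp_of_local {X X' : Scheme.{u}} (b : X' ⟶ X) (𝓘 : X.IdealSheafData)
    (H : ∀ x : X, ∃ (U : Scheme.{u}) (j : U ⟶ X) (_ : IsOpenImmersion j) (XU : Scheme.{u})
      (bU : XU ⟶ U) (j' : XU ⟶ X'), x ∈ Set.range j ∧ IsPullback j' bU b j ∧
        BlowUp.IsBlowUp bU (𝓘.comap j)) : BlowUp.IsBlowUp b 𝓘 := by
  refine ⟨?_, fun Y g hg => ?_⟩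
  · apply isEffCartier_of_local
    intro z
    obtain ⟨U, j, hj, XU, bU, j', ⟨u, hu⟩, hP, hbU⟩ := H (b z)
    have hj' : IsOpenImmersion j' := MorphismProperty.of_isPullback hP.flip hj
    obtain ⟨p, hp, -⟩ := Scheme.exists_preimage_of_isPullback hP z u hu.symm
    refine ⟨XU, j', hj', ⟨p, hp⟩, ?_⟩
    rw [← comap_comp, hP.w, comap_comp]
    exact hbU.1
  · apply existsUnique_lift_of_local
    · intro W i _ h h' hh hh'
      apply Scheme.hom_ext_of_forall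
      intro w
      obtain ⟨U, j, hj, XU, bU, j', hx, hP, hbU⟩ := H (g (i w))
      let W₀ : W.Opens := (i ≫ g) ⁻¹ᵁ j.opensRange
      refine ⟨W₀, hx, ?_⟩
      have hr : Set.range (W₀.ι ≫ i ≫ g) ⊆ Set.range j := by
        rintro _ ⟨v, rfl⟩
        exact v.2
      let gW : W₀.toScheme ⟶ U := IsOpenImmersion.lift j (W₀.ι ≫ i ≫ g) hr
      have hgW : gW ≫ j = W₀.ι ≫ i ≫ g := IsOpenImmersion.lift_fac _ _ _
      have hE : BlowUp.IsEffCartierIdeal ((𝓘.comap j).comap gW) := by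
        rw [← comap_comp, hgW, ← Category.assoc, comap_comp]
        exact Groth.Agent.S1680.isEffCartier_comap_of_flat (W₀.ι ≫ i) hg
      have e1 : (W₀.ι ≫ h) ≫ b = gW ≫ j := by rw [Category.assoc, hh, hgW]
      have e2 : (W₀.ι ≫ h') ≫ b = gW ≫ j := by rw [Category.assoc, hh', hgW]
      have hk : hP.lift (W₀.ι ≫ h) gW e1 = hP.lift (W₀.ι ≫ h') gW e2 :=
        (hbU.2 _ gW hE).unique (hP.lift_snd _ _ _) (hP.lift_snd _ _ _)
      rw [← hP.lift_fst (W₀.ι ≫ h) gW e1, hk, hP.lift_fst]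
    · intro y
      obtain ⟨U, j, hj, XU, bU, j', hx, hP, hbU⟩ := H (g y)
      let V : Y.Opens := g ⁻¹ᵁ j.opensRange
      refine ⟨V, hx, ?_⟩
      have hr : Set.range (V.ι ≫ g) ⊆ Set.range j := by
        rintro _ ⟨v, rfl⟩
        exact v.2
      let gV : V.toScheme ⟶ U := IsOpenImmersion.lift j (V.ι ≫ g) hr
      have hgV : gV ≫ j = V.ι ≫ g := IsOpenImmersion.lift_fac _ _ _
      have hE : BlowUp.IsEffCartierIdeal ((𝓘.comap j).comap gV) := by
        rw [← comap_comp, hgV, comap_comp]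
        exact Groth.Agent.S1680.isEffCartier_comap_of_flat V.ι hg
      obtain ⟨hV, hhV, -⟩ := hbU.2 _ gV hE
      exact ⟨hV ≫ j', by rw [Category.assoc, hP.w, ← Category.assoc, hhV, hgV]⟩

open Groth.Agent.S14090 in
/-- On an affine scheme every ideal sheaf is the pullback of its ideal of global sections along
`X ≅ Spec Γ(X, ⊤)`. -/
lemma comap_isoSpec_idealSheaf (X : Scheme.{u}) [IsAffine X] (𝓘 : X.IdealSheafData) :
    (Curv2.idealSheaf Γ(X, ⊤) (𝓘.ideal ⟨⊤, isAffineOpen_top X⟩)).comap X.isoSpec.hom = 𝓘 := by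
  apply Scheme.IdealSheafData.ext_of_isAffine
  rw [ideal_comap_idealSheaf, ringMap_top]
  have h1 : ringMapTop (A := Γ(X, ⊤)) X.isoSpec.hom = RingHom.id _ := by
    have := ringMapTop_toSpecΓ (W := X) (B := Γ(X, ⊤)) (RingHom.id _)
    rw [show CommRingCat.ofHom (RingHom.id Γ(X, ⊤)) = 𝟙 _ from rfl, Spec.map_id] at this
    rw [← this]
    congr 1
  rw [h1, Ideal.map_id]

/-- Blow-ups of affine schemes exist. -/
theorem exists_isBlowUp_of_isAffine (X : Scheme.{u}) [IsAffine X] (𝓘 : X.IdealSheafData) :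
    ∃ (X' : Scheme.{u}) (b : X' ⟶ X), BlowUp.IsBlowUp b 𝓘 := by
  have h1 : BlowUp.IsBlowUp (ReesProj.π (𝓘.ideal ⟨⊤, isAffineOpen_top X⟩))
      (Curv2.idealSheaf Γ(X, ⊤) (𝓘.ideal ⟨⊤, isAffineOpen_top X⟩)) :=
    Groth.Agent.S16054.result Γ(X, ⊤) (𝓘.ideal ⟨⊤, isAffineOpen_top X⟩)
  have h2 := Groth.Agent.S1680.result X.isoSpec.hom _ _ h1
  rw [comap_isoSpec_idealSheaf] at h2
  exact ⟨_, _, h2⟩

section Glue

variable (X : Scheme.{u}) (𝓘 : X.IdealSheafData)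

lemma exists_bl (U : X.affineOpens) :
    ∃ (X' : Scheme.{u}) (b : X' ⟶ U.1.toScheme), BlowUp.IsBlowUp b (𝓘.comap U.1.ι) :=
  haveI : IsAffine U.1.toScheme := U.2
  exists_isBlowUp_of_isAffine U.1.toScheme (𝓘.comap U.1.ι)

/-- The chosen blow-up of an affine open. -/
noncomputable def Bl (U : X.affineOpens) : Scheme.{u} := (exists_bl X 𝓘 U).choose

/-- The chosen blow-up morphism of an affine open. -/
noncomputable def bl (U : X.affineOpens) : Bl X 𝓘 U ⟶ U.1.toScheme :=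
  (exists_bl X 𝓘 U).choose_spec.choose

lemma isBlowUp_bl (U : X.affineOpens) : BlowUp.IsBlowUp (bl X 𝓘 U) (𝓘.comap U.1.ι) :=
  (exists_bl X 𝓘 U).choose_spec.choose_spec

lemma isEffCartier_bl_homOfLE {U V : X.affineOpens} (h : U.1 ≤ V.1) :
    BlowUp.IsEffCartierIdeal ((𝓘.comap V.1.ι).comap (bl X 𝓘 U ≫ X.homOfLE h)) := by
  rw [← comap_comp, Category.assoc, X.homOfLE_ι, comap_comp]
  exact (isBlowUp_bl X 𝓘 U).1

/-- The transition maps between the chosen blow-ups. -/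
noncomputable def tr {U V : X.affineOpens} (h : U.1 ≤ V.1) : Bl X 𝓘 U ⟶ Bl X 𝓘 V :=
  ((isBlowUp_bl X 𝓘 V).2 _ _ (isEffCartier_bl_homOfLE X 𝓘 h)).exists.choose

lemma tr_bl {U V : X.affineOpens} (h : U.1 ≤ V.1) :
    tr X 𝓘 h ≫ bl X 𝓘 V = bl X 𝓘 U ≫ X.homOfLE h :=
  ((isBlowUp_bl X 𝓘 V).2 _ _ (isEffCartier_bl_homOfLE X 𝓘 h)).exists.choose_spec

lemma tr_unique {U V : X.affineOpens} (h : U.1 ≤ V.1) (k : Bl X 𝓘 U ⟶ Bl X 𝓘 V)
    (hk : k ≫ bl X 𝓘 V = bl X 𝓘 U ≫ X.homOfLE h) : k = tr X 𝓘 h :=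
  ((isBlowUp_bl X 𝓘 V).2 _ _ (isEffCartier_bl_homOfLE X 𝓘 h)).unique hk (tr_bl X 𝓘 h)

/-- The square of chosen blow-ups is a pullback. -/
lemma isPullback_tr {U V : X.affineOpens} (h : U.1 ≤ V.1) :
    IsPullback (tr X 𝓘 h) (bl X 𝓘 U) (bl X 𝓘 V) (X.homOfLE h) := by
  have h1 : BlowUp.IsBlowUp (pullback.fst (X.homOfLE h) (bl X 𝓘 V))
      ((𝓘.comap V.1.ι).comap (X.homOfLE h)) :=
    Groth.Agent.S1680.result (X.homOfLE h) _ _ (isBlowUp_bl X 𝓘 V)
  rw [← comap_comp, X.homOfLE_ι] at h1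
  obtain ⟨e, he⟩ := isBlowUp_iso (isBlowUp_bl X 𝓘 U) h1
  have he2 : e.hom ≫ pullback.snd (X.homOfLE h) (bl X 𝓘 V) = tr X 𝓘 h := by
    apply tr_unique
    rw [Category.assoc, ← pullback.condition, ← Category.assoc, he]
  exact (IsPullback.of_iso_pullback ⟨(tr_bl X 𝓘 h).symm⟩ e he he2).flip

end Glue

section Glue2

variable (X : Scheme.{u}) (𝓘 : X.IdealSheafData)

/-- The functor of chosen blow-ups over the directed affine cover. -/
noncomputable def blFunctor : X.directedAffineCover.I₀ ⥤ Scheme.{u} where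
  obj U := Bl X 𝓘 U
  map {U V} f := tr X 𝓘 (U := U) (V := V) (leOfHom f)
  map_id U := by
    symm
    apply tr_unique
    rw [Category.id_comp, Scheme.homOfLE_rfl, Category.comp_id]
  map_comp {U V W} f g := by
    symm
    apply tr_unique
    rw [Category.assoc, tr_bl, ← Category.assoc, tr_bl, Category.assoc, Scheme.homOfLE_homOfLE]

/-- The natural transformation from chosen blow-ups to the affine opens. -/
noncomputable def blNatTrans :
    blFunctor X 𝓘 ⟶ X.directedAffineCover.functorOfLocallyDirected where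
  app U := bl X 𝓘 U
  naturality U V f := tr_bl X 𝓘 (U := U) (V := V) (leOfHom f)

/-- The relative gluing datum of chosen blow-ups. -/
noncomputable def blGluing : Scheme.Cover.RelativeGluingData X.directedAffineCover where
  functor := blFunctor X 𝓘
  natTrans := blNatTrans X 𝓘
  equifibered := fun U V f => isPullback_tr X 𝓘 (U := U) (V := V) (leOfHom f)

end Glue2

/-- Blow-ups exist. -/
theorem exists_isBlowUp (X : Scheme.{u}) (𝓘 : X.IdealSheafData) :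
    ∃ (X' : Scheme.{u}) (b : X' ⟶ X), BlowUp.IsBlowUp b 𝓘 := by
  refine ⟨(blGluing X 𝓘).glued, (blGluing X 𝓘).toBase, ?_⟩
  apply isBlowUp_of_local
  intro x
  obtain ⟨_, ⟨U, hU, rfl⟩, hxU, -⟩ :=
    X.isBasis_affineOpens.exists_subset_of_mem_open (Set.mem_univ x) isOpen_univ
  have hU : IsAffineOpen U := hU
  refine ⟨Scheme.Opens.toScheme U, Scheme.Opens.ι U, inferInstance, Bl X 𝓘 ⟨U, hU⟩, bl X 𝓘 ⟨U, hU⟩,
    colimit.ι (blGluing X 𝓘).functor ⟨U, hU⟩, ?_, ?_, isBlowUp_bl X 𝓘 ⟨U, hU⟩⟩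
  · rw [Scheme.Opens.range_ι]
    exact hxU
  · exact ((blGluing X 𝓘).isPullback_natTrans_ι_toBase ⟨U, hU⟩).flip

end Groth.Agent.H8
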