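import Mathlib

/-!
# Base change of a morphism out of a fibre product (helper8)

Given `σ : Pn ×_Z Pm ⟶ PN` over `Z` and `t : S ⟶ Z`, the induced morphism
`(Pn ×_Z S) ×_S (Pm ×_Z S) ⟶ PN ×_Z S` is a base change of `σ`.
-/

set_option autoImplicit false
universe v u

open CategoryTheory CategoryTheory.Limits

namespace Groth.Agent.H8.SegreBC

variable {C : Type u} [Category.{v} C] [HasPullbacks C]
variable {Pn Pm PN Z S : C} (a : Pn ⟶ Z) (b : Pm ⟶ Z) (c : PN ⟶ Z) (t : S ⟶ Z)
  (σ : pullback a b ⟶ PN) (hσ : σ ≫ c = pullback.fst a b ≫ a)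

/-- the source of the base-changed morphism -/
noncomputable abbrev LL : C := pullback (pullback.snd a t) (pullback.snd b t)

/-- `(Pn ×_Z S) ×_S (Pm ×_Z S) ⟶ Pn ×_Z Pm` -/
noncomputable def kappa : LL a b t ⟶ pullback a b :=
  pullback.lift (pullback.fst _ _ ≫ pullback.fst a t) (pullback.snd _ _ ≫ pullback.fst b t) (by
    rw [Category.assoc, Category.assoc, pullback.condition, pullback.condition (f := b),
      ← Category.assoc, ← Category.assoc, pullback.condition])

@[reassoc]
theorem kappa_fst : kappa a b t ≫ pullback.fst a b = pullback.fst _ _ ≫ pullback.fst a t :=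
  pullback.lift_fst _ _ _

@[reassoc]
theorem kappa_snd : kappa a b t ≫ pullback.snd a b = pullback.snd _ _ ≫ pullback.fst b t :=
  pullback.lift_snd _ _ _

include hσ in
theorem phi_aux : (kappa a b t ≫ σ) ≫ c = (pullback.fst _ _ ≫ pullback.snd a t) ≫ t := by
  rw [Category.assoc, hσ, kappa_fst_assoc, Category.assoc, pullback.condition]

/-- the base change of `σ` -/
noncomputable def phi : LL a b t ⟶ pullback c t :=
  pullback.lift (kappa a b t ≫ σ) (pullback.fst _ _ ≫ pullback.snd a t) (phi_aux a b c t σ hσ)

@[reassoc]
theorem phi_fst : phi a b c t σ hσ ≫ pullback.fst c t = kappa a b t ≫ σ := pullback.lift_fst _ _ _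

@[reassoc]
theorem phi_snd : phi a b c t σ hσ ≫ pullback.snd c t = pullback.fst _ _ ≫ pullback.snd a t :=
  pullback.lift_snd _ _ _

/-- the outer rectangle -/
theorem isPullback_outer :
    IsPullback (kappa a b t) (pullback.fst (pullback.snd a t) (pullback.snd b t) ≫ pullback.snd a t)
      (pullback.fst a b ≫ a) t := by
  refine IsPullback.of_isLimit' ⟨by rw [kappa_fst_assoc, Category.assoc, pullback.condition]⟩ ?_
  refine PullbackCone.IsLimit.mk _ (fun s => pullback.lift
    (pullback.lift (s.fst ≫ pullback.fst a b) s.snd (by rw [Category.assoc, s.condition]))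
    (pullback.lift (s.fst ≫ pullback.snd a b) s.snd (by
      rw [Category.assoc, ← pullback.condition, s.condition]))
    (by rw [pullback.lift_snd, pullback.lift_snd])) ?_ ?_ ?_
  · intro s
    apply pullback.hom_ext
    · rw [Category.assoc, kappa_fst, pullback.lift_fst_assoc, pullback.lift_fst]
    · rw [Category.assoc, kappa_snd, pullback.lift_snd_assoc, pullback.lift_fst]
  · intro s
    rw [pullback.lift_fst_assoc, pullback.lift_snd]
  · intro s w hw₁ hw₂
    apply pullback.hom_ext
    · apply pullback.hom_ext
      · rw [pullback.lift_fst, pullback.lift_fst, Category.assoc, ← kappa_fst, ← Category.assoc,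
          hw₁]
      · rw [pullback.lift_fst, pullback.lift_snd, Category.assoc]
        exact hw₂
    · apply pullback.hom_ext
      · rw [pullback.lift_snd, pullback.lift_fst, Category.assoc, ← kappa_snd, ← Category.assoc,
          hw₁]
      · rw [pullback.lift_snd, pullback.lift_snd, Category.assoc, ← pullback.condition]
        exact hw₂

/-- `phi` is a base change of `σ`. -/
theorem isPullback_phi :
    IsPullback (phi a b c t σ hσ) (kappa a b t) (pullback.fst c t) σ := by
  have hright : IsPullback (pullback.fst c t) (pullback.snd c t) c t := IsPullback.of_hasPullback c t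
  have houter : IsPullback (kappa a b t) (phi a b c t σ hσ ≫ pullback.snd c t) (σ ≫ c) t := by
    rw [phi_snd, hσ]
    exact isPullback_outer a b t
  exact IsPullback.of_right houter.flip (phi_fst a b c t σ hσ) hright.flip

end Groth.Agent.H8.SegreBC
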