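import Mathlib
import Groth.Agent.H18.PUP.Map
import Groth.Agent.H8.ProjSec

/-!
# Gluing morphisms to `Proj` from charts, and a closed-immersion criterion (helper8)
-/

set_option autoImplicit false
universe u

open AlgebraicGeometry CategoryTheory CategoryTheory.Limits HomogeneousLocalization
  TopologicalSpace Groth.Agent.H18.PUP

namespace Groth.Agent.H8.ProjGlue

variable {A S : Type u} [CommRing A] [CommRing S] [Algebra A S]
variable (𝒮 : ℕ → Submodule A S) [GradedAlgebra 𝒮]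
variable {X : Scheme.{u}}

section glue

variable {I : Type*} (W : I → X.Opens) (hW : ∀ x : X, ∃ c, x ∈ W c)
  (g : I → S) (hg : ∀ c, g c ∈ 𝒮 1) (F : ∀ c, S →+* Γ(X, W c)) (hF : ∀ c, IsUnit (F c (g c)))

include hW in
theorem isOpenCover_of_forall_exists : IsOpenCover W := by
  rw [IsOpenCover, eq_top_iff]
  intro x _
  obtain ⟨c, hc⟩ := hW x
  exact Opens.mem_iSup.mpr ⟨c, hc⟩

include hW in
/-- Morphisms to `Proj` given on charts by ring homomorphisms which differ by `u ^ k` in degree `k`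
glue. -/
theorem exists_glue_localMap
    (hcompat : ∀ c c', ∃ u : Γ(X, W c ⊓ W c'), ∀ (k : ℕ) (a : S), a ∈ 𝒮 k →
      X.presheaf.map (homOfLE (inf_le_right : W c ⊓ W c' ≤ W c')).op (F c' a) =
        u ^ k * X.presheaf.map (homOfLE (inf_le_left : W c ⊓ W c' ≤ W c)).op (F c a)) :
    ∃ r : X ⟶ Proj 𝒮, ∀ c, (W c).ι ≫ r = localMap 𝒮 (W c) (hg c) Nat.one_pos (F c) (hF c) := by
  obtain ⟨r, hr, -⟩ := existsUnique_glue_opens W (isOpenCover_of_forall_exists W hW)
    (fun c => localMap 𝒮 (W c) (hg c) Nat.one_pos (F c) (hF c)) (by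
      intro c c'
      obtain ⟨u, hu⟩ := hcompat c c'
      rw [homOfLE_localMap, homOfLE_localMap]
      unfold localMap
      congr 1
      exact SpecMap_awayLift_awayι_eq 𝒮 (hg _) Nat.one_pos (hg _) Nat.one_pos _ _ _ _ u
        (fun k a ha => hu k a ha))
  exact ⟨r, hr⟩

end glue

section preimage

variable (W : X.Opens) {g g' : S} (hg : g ∈ 𝒮 1) (hg' : g' ∈ 𝒮 1)
  (F : S →+* Γ(X, W)) (hF : IsUnit (F g))

include hg' in
/-- The preimage of `D₊(g')` under a chart morphism is the non-vanishing locus of `F g'`. -/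
theorem mem_basicOpen_of_localMap_mem (x : X) (hx : x ∈ W)
    (h : (localMap 𝒮 W hg Nat.one_pos F hF) ⟨x, hx⟩ ∈ Proj.basicOpen 𝒮 g') :
    x ∈ X.basicOpen (F g') := by
  unfold localMap at h
  have h1 : (⟨x, hx⟩ : W) ∈ (W.toSpecΓ ≫ Spec.map (CommRingCat.ofHom (awayLift 𝒮 g F hF))) ⁻¹ᵁ
      (Proj.awayι 𝒮 g hg Nat.one_pos ⁻¹ᵁ Proj.basicOpen 𝒮 g') := h
  rw [Proj.awayι_preimage_basicOpen 𝒮 hg Nat.one_pos hg' Nat.one_pos, Scheme.Hom.comp_preimage,
    SpecMap_preimage_basicOpen, Scheme.Opens.toSpecΓ_preimage_basicOpen] at h1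
  have h2 : x ∈ X.basicOpen ((CommRingCat.ofHom (awayLift 𝒮 g F hF)).hom
      (Away.isLocalizationElem hg hg')) := h1
  have h3 : awayLift 𝒮 g F hF (Away.isLocalizationElem hg hg') * F g ^ 1 = F (g' ^ 1) :=
    awayLift_mk_mul 𝒮 hg F hF 1 (g' ^ 1) _
  rw [pow_one, pow_one] at h3
  rw [← h3, Scheme.basicOpen_mul]
  refine ⟨h2, ?_⟩
  rw [Scheme.basicOpen_of_isUnit _ hF]
  exact hx

end preimage

section closed

variable {I : Type*} (W : I → X.Opens) (g : I → S) (hg : ∀ c, g c ∈ 𝒮 1)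
  (F : ∀ c, S →+* Γ(X, W c)) (hF : ∀ c, IsUnit (F c (g c)))
  (r : X ⟶ Proj 𝒮)
  (hr : ∀ c, (W c).ι ≫ r = localMap 𝒮 (W c) (hg c) Nat.one_pos (F c) (hF c))

include hr in
theorem surjective_appLE_of_eq (c : I) (hsurj : Function.Surjective (awayLift 𝒮 (g c) (F c) (hF c)))
    (U' : (Proj 𝒮).Opens) (W' : X.Opens) (hU' : U' = Proj.basicOpen 𝒮 (g c)) (hW' : W' = W c)
    (e' : W' ≤ r ⁻¹ᵁ U') : Function.Surjective (r.appLE U' W' e').hom := by
  subst hU' hW'
  intro w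
  obtain ⟨z, rfl⟩ := hsurj w
  exact ⟨(Proj.awayToSection 𝒮 (g c)).hom z,
    appLE_awayToSection 𝒮 (W c) (hg c) Nat.one_pos (F c) (hF c) r (hr c) z⟩

include hr in
/-- A morphism to `Proj` glued from charts `W c ⟶ D₊(g c)` is a closed immersion as soon as the
charts are affine, are the full preimages of the `D₊(g c)`, these cover, and the chart ring maps are
surjective. -/
theorem isClosedImmersion_of_charts
    (hcov : ∀ y : Proj 𝒮, ∃ c, y ∈ Proj.basicOpen 𝒮 (g c))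
    (hpre : ∀ c, r ⁻¹ᵁ Proj.basicOpen 𝒮 (g c) ≤ W c)
    (haff : ∀ c, IsAffineOpen (W c))
    (hsurj : ∀ c, Function.Surjective (awayLift 𝒮 (g c) (F c) (hF c))) :
    IsClosedImmersion r := by
  have hU : (⨆ c, Proj.basicOpen 𝒮 (g c)) = ⊤ := by
    rw [eq_top_iff]
    intro y _
    obtain ⟨c, hc⟩ := hcov y
    exact Opens.mem_iSup.mpr ⟨c, hc⟩
  rw [IsZariskiLocalAtTarget.iff_of_iSup_eq_top (P := @IsClosedImmersion) _ hU]
  intro c
  have hpre' : r ⁻¹ᵁ Proj.basicOpen 𝒮 (g c) = W c :=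
    le_antisymm (hpre c) (le_preimage_basicOpen 𝒮 (W c) (hg c) Nat.one_pos (F c) (hF c) r (hr c))
  have h1 : IsAffine (r ⁻¹ᵁ Proj.basicOpen 𝒮 (g c)).toScheme := by
    have : IsAffineOpen (r ⁻¹ᵁ Proj.basicOpen 𝒮 (g c)) := hpre' ▸ haff c
    exact this
  have h2 : IsAffine (Proj.basicOpen 𝒮 (g c)).toScheme :=
    Proj.isAffineOpen_basicOpen 𝒮 (g c) (hg c) Nat.one_pos
  apply IsClosedImmersion.of_surjective_of_isAffine
  rw [Scheme.Hom.appTop, morphismRestrict_app']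
  apply surjective_appLE_of_eq 𝒮 W g hg F hF r hr c (hsurj c)
  · exact Scheme.Opens.ι_image_top _
  · rw [Scheme.Hom.preimage_top, Scheme.Opens.ι_image_top]
    exact hpre'

end closed

end Groth.Agent.H8.ProjGlue
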