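import Mathlib

/-!
# Algebraic lemmas for the Segre embedding (helper8)
-/

set_option autoImplicit false
universe u

open CategoryTheory CategoryTheory.Limits

namespace Groth.Agent.H8.SegreAlg

section twist

open MvPolynomial

/-- Two ring homomorphisms out of a polynomial ring which agree on constants and differ by the factor
`u` on the variables differ by `u ^ k` on homogeneous polynomials of degree `k`. -/
theorem eq_pow_mul_of_X {σ R B : Type*} [CommRing R] [CommRing B]
    (Φ Ψ : MvPolynomial σ R →+* B) (u : B)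
    (hC : ∀ r, Φ (C r) = Ψ (C r)) (hX : ∀ s, Φ (X s) = u * Ψ (X s)) {k : ℕ}
    {a : MvPolynomial σ R} (ha : a.IsHomogeneous k) : Φ a = u ^ k * Ψ a := by
  classical
  have hmon : ∀ d : σ →₀ ℕ, ∀ c : R, Φ (monomial d c) = u ^ (d.sum fun _ e => e) * Ψ (monomial d c) := by
    intro d c
    rw [monomial_eq, map_mul, map_mul, hC, Finsupp.prod, map_prod, map_prod, Finsupp.sum,
      ← Finset.prod_pow_eq_pow_sum]
    have : ∏ s ∈ d.support, Φ (X s ^ d s) = (∏ s ∈ d.support, u ^ d s) *
        ∏ s ∈ d.support, Ψ (X s ^ d s) := by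
      rw [← Finset.prod_mul_distrib]
      apply Finset.prod_congr rfl
      intro s _
      rw [map_pow, map_pow, hX, mul_pow]
    rw [this]
    ring
  rw [a.as_sum, map_sum, map_sum, Finset.mul_sum]
  apply Finset.sum_congr rfl
  intro d hd
  rw [hmon]
  congr 2
  have h1 := ha (mem_support_iff.mp hd)
  rw [← h1, Finsupp.weight_apply]
  simp [Finsupp.sum]

end twist

section pushout

/-- In a pushout square of commutative rings, the pushout is generated by the two images. -/
theorem closure_range_eq_top_of_isPushout {A B C P : CommRingCat.{u}} {f : A ⟶ B} {g : A ⟶ C}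
    {inl : B ⟶ P} {inr : C ⟶ P} (h : IsPushout f g inl inr) :
    Subring.closure (Set.range inl.hom ∪ Set.range inr.hom) = ⊤ := by
  set T : Subring P := Subring.closure (Set.range inl.hom ∪ Set.range inr.hom) with hT
  let T' : CommRingCat.{u} := CommRingCat.of T
  let ι : T' ⟶ P := CommRingCat.ofHom T.subtype
  have hl : ∀ b, inl.hom b ∈ T := fun b => Subring.subset_closure (Or.inl ⟨b, rfl⟩)
  have hrr : ∀ c, inr.hom c ∈ T := fun c => Subring.subset_closure (Or.inr ⟨c, rfl⟩)
  let inl' : B ⟶ T' := CommRingCat.ofHom (inl.hom.codRestrict T hl)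
  let inr' : C ⟶ T' := CommRingCat.ofHom (inr.hom.codRestrict T hrr)
  have hι : Mono ι := ConcreteCategory.mono_of_injective ι Subtype.val_injective
  have hw : f ≫ inl' = g ≫ inr' := by
    rw [← cancel_mono ι]
    have e1 : inl' ≫ ι = inl := rfl
    have e2 : inr' ≫ ι = inr := rfl
    rw [Category.assoc, Category.assoc, e1, e2, h.w]
  let d := h.desc inl' inr' hw
  have hd : d ≫ ι = 𝟙 P := by
    apply h.hom_ext
    · rw [← Category.assoc, h.inl_desc, Category.comp_id]; rfl
    · rw [← Category.assoc, h.inr_desc, Category.comp_id]; rfl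
  rw [eq_top_iff]
  intro p _
  have : ι.hom (d.hom p) = p := congrArg (fun φ => φ.hom p) hd
  rw [← this]
  exact (d.hom p).2

end pushout

end Groth.Agent.H8.SegreAlg
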