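import Mathlib
import Groth.Prelude.Def_CohB1
import Groth.Agent.H8.ProjGlue
import Groth.Agent.H8.SegreAlg

/-!
# The Segre embedding over an affine base: charts (helper8)
-/

set_option autoImplicit false
universe u

open AlgebraicGeometry CategoryTheory CategoryTheory.Limits HomogeneousLocalization
  TopologicalSpace Groth.Agent.H18.PUP Groth.Agent.H8.ProjSec Groth.Agent.H8.ProjGlue

namespace Groth.Agent.H8.Segre

variable (R : Type u) [CommRing R]

/-- the grading of the polynomial ring -/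
noncomputable abbrev gr (n : ℕ) : ℕ → Submodule R (MvPolynomial (Fin (n + 1)) R) :=
  CohB1.polyGrading n R

/-- projective space as a `Proj` -/
noncomputable abbrev PP (n : ℕ) : Scheme.{u} := Proj (gr R n)

/-- the structure morphism -/
noncomputable abbrev tt (n : ℕ) : PP R n ⟶ Spec (CommRingCat.of R) :=
  Proj.toSpecZero (gr R n) ≫ Spec.map (CommRingCat.ofHom (algebraMap R (gr R n 0)))

theorem X_mem (n : ℕ) (i : Fin (n + 1)) :
    (MvPolynomial.X i : MvPolynomial (Fin (n + 1)) R) ∈ gr R n 1 :=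
  (MvPolynomial.mem_homogeneousSubmodule 1 _).mpr (MvPolynomial.isHomogeneous_X R i)

/-- the standard chart -/
noncomputable abbrev UU (n : ℕ) (i : Fin (n + 1)) : (PP R n).Opens :=
  Proj.basicOpen (gr R n) (MvPolynomial.X i)

variable (n m : ℕ)

/-- the product -/
noncomputable abbrev QQ : Scheme.{u} := pullback (tt R n) (tt R m)

noncomputable abbrev pr₁ : QQ R n m ⟶ PP R n := pullback.fst _ _
noncomputable abbrev pr₂ : QQ R n m ⟶ PP R m := pullback.snd _ _
noncomputable abbrev qq : QQ R n m ⟶ Spec (CommRingCat.of R) := pr₁ R n m ≫ tt R n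

theorem qq_eq : qq R n m = pr₂ R n m ≫ tt R m := pullback.condition

/-- the structure ring map into sections over an open of the product -/
noncomputable def rho (T : (QQ R n m).Opens) : R →+* Γ(QQ R n m, T) :=
  ((QQ R n m).presheaf.map (homOfLE (le_top : T ≤ ⊤)).op).hom.comp (ProjUP.toGlobal (qq R n m))

theorem res_rho {T T' : (QQ R n m).Opens} (h : T' ≤ T) (a : R) :
    (QQ R n m).presheaf.map (homOfLE h).op (rho R n m T a) = rho R n m T' a := by
  change (QQ R n m).presheaf.map (homOfLE h).op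
    ((QQ R n m).presheaf.map (homOfLE (le_top : T ≤ ⊤)).op _) = _
  rw [← ConcreteCategory.comp_apply, ← (QQ R n m).presheaf.map_comp]
  rfl

/-- pull back of the coordinate sections along the first projection -/
noncomputable def pull₁ (T : (QQ R n m).Opens) (i : Fin (n + 1))
    (h : T ≤ pr₁ R n m ⁻¹ᵁ UU R n i) : MvPolynomial (Fin (n + 1)) R →+* Γ(QQ R n m, T) :=
  ((pr₁ R n m).appLE (UU R n i) T h).hom.comp (sec (gr R n) (X_mem R n i))

/-- pull back of the coordinate sections along the second projection -/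
noncomputable def pull₂ (T : (QQ R n m).Opens) (j : Fin (m + 1))
    (h : T ≤ pr₂ R n m ⁻¹ᵁ UU R m j) : MvPolynomial (Fin (m + 1)) R →+* Γ(QQ R n m, T) :=
  ((pr₂ R n m).appLE (UU R m j) T h).hom.comp (sec (gr R m) (X_mem R m j))

theorem res_pull₁ {T T' : (QQ R n m).Opens} (hT : T' ≤ T) (i : Fin (n + 1))
    (h : T ≤ pr₁ R n m ⁻¹ᵁ UU R n i) (a : MvPolynomial (Fin (n + 1)) R) :
    (QQ R n m).presheaf.map (homOfLE hT).op (pull₁ R n m T i h a) =
      pull₁ R n m T' i (hT.trans h) a := by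
  unfold pull₁
  rw [RingHom.comp_apply, RingHom.comp_apply, ← ConcreteCategory.comp_apply,
    Scheme.Hom.appLE_map]

theorem res_pull₂ {T T' : (QQ R n m).Opens} (hT : T' ≤ T) (j : Fin (m + 1))
    (h : T ≤ pr₂ R n m ⁻¹ᵁ UU R m j) (a : MvPolynomial (Fin (m + 1)) R) :
    (QQ R n m).presheaf.map (homOfLE hT).op (pull₂ R n m T j h a) =
      pull₂ R n m T' j (hT.trans h) a := by
  unfold pull₂
  rw [RingHom.comp_apply, RingHom.comp_apply, ← ConcreteCategory.comp_apply,
    Scheme.Hom.appLE_map]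

theorem pull₁_self (T : (QQ R n m).Opens) (i : Fin (n + 1))
    (h : T ≤ pr₁ R n m ⁻¹ᵁ UU R n i) : pull₁ R n m T i h (MvPolynomial.X i) = 1 := by
  unfold pull₁
  rw [RingHom.comp_apply, sec_self, map_one]

theorem pull₂_self (T : (QQ R n m).Opens) (j : Fin (m + 1))
    (h : T ≤ pr₂ R n m ⁻¹ᵁ UU R m j) : pull₂ R n m T j h (MvPolynomial.X j) = 1 := by
  unfold pull₂
  rw [RingHom.comp_apply, sec_self, map_one]

section constants

theorem toGlobal_comp {X Y : Scheme.{u}} (f : X ⟶ Y) (g : Y ⟶ Spec (CommRingCat.of R)) (a : R) :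
    ProjUP.toGlobal (f ≫ g) a = f.appTop.hom (ProjUP.toGlobal g a) := by
  unfold ProjUP.toGlobal
  rw [RingHom.comp_apply, RingHom.comp_apply, Scheme.Hom.comp_appTop]
  rfl

theorem appLE_res_top {X Y : Scheme.{u}} (f : X ⟶ Y) (U : Y.Opens) (T : X.Opens) (h : T ≤ f ⁻¹ᵁ U)
    (x : Γ(Y, ⊤)) :
    (f.appLE U T h).hom (Y.presheaf.map (homOfLE (le_top : U ≤ ⊤)).op x) =
      X.presheaf.map (homOfLE (le_top : T ≤ ⊤)).op (f.appTop.hom x) := by
  rw [← ConcreteCategory.comp_apply, Scheme.Hom.map_appLE]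
  rw [Scheme.Hom.appLE]
  rfl

theorem pull₁_C (T : (QQ R n m).Opens) (i : Fin (n + 1))
    (h : T ≤ pr₁ R n m ⁻¹ᵁ UU R n i) (a : R) :
    pull₁ R n m T i h (MvPolynomial.C a) = rho R n m T a := by
  unfold pull₁ rho
  rw [RingHom.comp_apply, RingHom.comp_apply]
  have h1 := sec_algebraMap (gr R n) (X_mem R n i) a
  rw [MvPolynomial.algebraMap_eq] at h1
  have h2 : ProjUP.toGlobal (qq R n m) a =
      (pr₁ R n m).appTop.hom (ProjUP.toGlobal (tt R n) a) := toGlobal_comp R _ _ a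
  rw [h1, appLE_res_top, h2]

theorem pull₂_C (T : (QQ R n m).Opens) (j : Fin (m + 1))
    (h : T ≤ pr₂ R n m ⁻¹ᵁ UU R m j) (a : R) :
    pull₂ R n m T j h (MvPolynomial.C a) = rho R n m T a := by
  unfold pull₂ rho
  rw [RingHom.comp_apply, RingHom.comp_apply]
  have h1 := sec_algebraMap (gr R m) (X_mem R m j) a
  rw [MvPolynomial.algebraMap_eq] at h1
  have h2 : ProjUP.toGlobal (qq R n m) a =
      (pr₂ R n m).appTop.hom (ProjUP.toGlobal (tt R m) a) := by
    rw [qq_eq]
    exact toGlobal_comp R _ _ a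
  rw [h1, appLE_res_top, h2]

end constants

section change

theorem appLE_eq_appLE_res {X Y : Scheme.{u}} (f : X ⟶ Y) {U V : Y.Opens} (hVU : V ≤ U)
    (T : X.Opens) (hT : T ≤ f ⁻¹ᵁ U) (hTV : T ≤ f ⁻¹ᵁ V) (x : Γ(Y, U)) :
    (f.appLE U T hT).hom x = (f.appLE V T hTV).hom (Y.presheaf.map (homOfLE hVU).op x) := by
  rw [← ConcreteCategory.comp_apply, Scheme.Hom.map_appLE]

theorem pull₁_change (T : (QQ R n m).Opens) (i i' : Fin (n + 1))
    (h : T ≤ pr₁ R n m ⁻¹ᵁ UU R n i) (h' : T ≤ pr₁ R n m ⁻¹ᵁ UU R n i') {k : ℕ}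
    {a : MvPolynomial (Fin (n + 1)) R} (ha : a ∈ gr R n k) :
    pull₁ R n m T i' h' a =
      (pull₁ R n m T i' h' (MvPolynomial.X i)) ^ k * pull₁ R n m T i h a := by
  have hTV : T ≤ pr₁ R n m ⁻¹ᵁ
      Proj.basicOpen (gr R n) (MvPolynomial.X i * MvPolynomial.X i') := by
    rw [Proj.basicOpen_mul]
    intro x hx
    exact ⟨h hx, h' hx⟩
  have key := res_sec_eq (gr R n) (X_mem R n i) (X_mem R n i') ha
  unfold pull₁
  simp only [RingHom.comp_apply]
  rw [appLE_eq_appLE_res (pr₁ R n m) (basicOpen_mul_le_right (gr R n)) T h' hTV,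
    appLE_eq_appLE_res (pr₁ R n m) (basicOpen_mul_le_right (gr R n)) T h' hTV,
    appLE_eq_appLE_res (pr₁ R n m) (basicOpen_mul_le_left (gr R n)) T h hTV, key, map_mul, map_pow]

theorem pull₂_change (T : (QQ R n m).Opens) (j j' : Fin (m + 1))
    (h : T ≤ pr₂ R n m ⁻¹ᵁ UU R m j) (h' : T ≤ pr₂ R n m ⁻¹ᵁ UU R m j') {k : ℕ}
    {a : MvPolynomial (Fin (m + 1)) R} (ha : a ∈ gr R m k) :
    pull₂ R n m T j' h' a =
      (pull₂ R n m T j' h' (MvPolynomial.X j)) ^ k * pull₂ R n m T j h a := by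
  have hTV : T ≤ pr₂ R n m ⁻¹ᵁ
      Proj.basicOpen (gr R m) (MvPolynomial.X j * MvPolynomial.X j') := by
    rw [Proj.basicOpen_mul]
    intro x hx
    exact ⟨h hx, h' hx⟩
  have key := res_sec_eq (gr R m) (X_mem R m j) (X_mem R m j') ha
  unfold pull₂
  simp only [RingHom.comp_apply]
  rw [appLE_eq_appLE_res (pr₂ R n m) (basicOpen_mul_le_right (gr R m)) T h' hTV,
    appLE_eq_appLE_res (pr₂ R n m) (basicOpen_mul_le_right (gr R m)) T h' hTV,
    appLE_eq_appLE_res (pr₂ R n m) (basicOpen_mul_le_left (gr R m)) T h hTV, key, map_mul, map_pow]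

end change

section cover

/-- if `A` is generated as an algebra by homogeneous elements `f i`, then every point of `Proj` avoids
some `f i` (copied from helper18's `H18/TwistGenCover.lean` to keep imports light) -/
theorem exists_notMem_of_adjoin_eq_top' {R A : Type u} [CommRing R] [CommRing A] [Algebra R A]
    (𝒜 : ℕ → Submodule R A) [GradedAlgebra 𝒜] {ι : Type*} (f : ι → A)
    (hgen : Algebra.adjoin R (Set.range f) = ⊤) (x : ProjectiveSpectrum 𝒜) :
    ∃ i, f i ∉ x.asHomogeneousIdeal := by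
  classical
  by_contra hcon
  push Not at hcon
  have hI : Ideal.span (Set.range f) ≤ x.asHomogeneousIdeal.toIdeal := by
    rw [Ideal.span_le]
    rintro _ ⟨i, rfl⟩
    exact hcon i
  have key : ∀ a : A, ∃ r : R, a - algebraMap R A r ∈ Ideal.span (Set.range f) := by
    intro a
    have ha : a ∈ Algebra.adjoin R (Set.range f) := by rw [hgen]; trivial
    induction ha using Algebra.adjoin_induction with
    | mem a ha => exact ⟨0, by rw [map_zero, sub_zero]; exact Ideal.subset_span ha⟩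
    | algebraMap r => exact ⟨r, by rw [sub_self]; exact zero_mem _⟩
    | add a b _ _ ha hb =>
      obtain ⟨r, hr⟩ := ha
      obtain ⟨r', hr'⟩ := hb
      refine ⟨r + r', ?_⟩
      have : a + b - algebraMap R A (r + r') = (a - algebraMap R A r) + (b - algebraMap R A r') := by
        rw [map_add]; ring
      rw [this]
      exact add_mem hr hr'
    | mul a b _ _ ha hb =>
      obtain ⟨r, hr⟩ := ha
      obtain ⟨r', hr'⟩ := hb
      refine ⟨r * r', ?_⟩
      have : a * b - algebraMap R A (r * r') =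
          (a - algebraMap R A r) * b + algebraMap R A r * (b - algebraMap R A r') := by
        rw [map_mul]; ring
      rw [this]
      exact add_mem (Ideal.mul_mem_right _ _ hr) (Ideal.mul_mem_left _ _ hr')
  apply x.not_irrelevant_le
  rw [HomogeneousIdeal.irrelevant_le]
  intro d hd a ha
  obtain ⟨r, hr⟩ := key a
  have hx : a - algebraMap R A r ∈ x.asHomogeneousIdeal.toIdeal := hI hr
  have hproj := x.asHomogeneousIdeal.isHomogeneous d hx
  have h0 : algebraMap R A r ∈ 𝒜 0 := SetLike.algebraMap_mem_graded 𝒜 r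
  rw [DirectSum.decompose_sub, DirectSum.sub_apply, AddSubgroupClass.coe_sub,
    DirectSum.decompose_of_mem_same 𝒜 ha,
    DirectSum.decompose_of_mem_ne 𝒜 h0 (Nat.pos_iff_ne_zero.mp hd).symm, sub_zero] at hproj
  exact hproj

theorem exists_mem_UU (k : ℕ) (y : PP R k) : ∃ i : Fin (k + 1), y ∈ UU R k i :=
  exists_notMem_of_adjoin_eq_top' (gr R k)
    (fun i : Fin (k + 1) => (MvPolynomial.X i : MvPolynomial (Fin (k + 1)) R))
    MvPolynomial.adjoin_range_X y

end cover

section charts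

/-- the index equivalence -/
noncomputable def idx : Fin (n * m + n + m + 1) ≃ Fin (n + 1) × Fin (m + 1) :=
  (finCongr (by ring)).trans finProdFinEquiv.symm

/-- the product charts -/
noncomputable def WW (c : Fin (n + 1) × Fin (m + 1)) : (QQ R n m).Opens :=
  pr₁ R n m ⁻¹ᵁ UU R n c.1 ⊓ pr₂ R n m ⁻¹ᵁ UU R m c.2

theorem WW_le₁ (c : Fin (n + 1) × Fin (m + 1)) : WW R n m c ≤ pr₁ R n m ⁻¹ᵁ UU R n c.1 :=
  inf_le_left

theorem WW_le₂ (c : Fin (n + 1) × Fin (m + 1)) : WW R n m c ≤ pr₂ R n m ⁻¹ᵁ UU R m c.2 :=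
  inf_le_right

theorem exists_mem_WW (x : QQ R n m) : ∃ c, x ∈ WW R n m c := by
  obtain ⟨i, hi⟩ := exists_mem_UU R n (pr₁ R n m x)
  obtain ⟨j, hj⟩ := exists_mem_UU R m (pr₂ R n m x)
  exact ⟨(i, j), hi, hj⟩

/-- the chart ring homomorphisms `z_{kl} ↦ (x_k / x_i) (y_l / y_j)` -/
noncomputable def FF (c : Fin (n + 1) × Fin (m + 1)) :
    MvPolynomial (Fin (n * m + n + m + 1)) R →+* Γ(QQ R n m, WW R n m c) :=
  MvPolynomial.eval₂Hom (rho R n m (WW R n m c)) (fun k =>
    pull₁ R n m (WW R n m c) c.1 (WW_le₁ R n m c) (MvPolynomial.X (idx n m k).1) *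
      pull₂ R n m (WW R n m c) c.2 (WW_le₂ R n m c) (MvPolynomial.X (idx n m k).2))

theorem FF_X (c : Fin (n + 1) × Fin (m + 1)) (k : Fin (n * m + n + m + 1)) :
    FF R n m c (MvPolynomial.X k) =
      pull₁ R n m (WW R n m c) c.1 (WW_le₁ R n m c) (MvPolynomial.X (idx n m k).1) *
        pull₂ R n m (WW R n m c) c.2 (WW_le₂ R n m c) (MvPolynomial.X (idx n m k).2) := by
  unfold FF
  rw [MvPolynomial.coe_eval₂Hom, MvPolynomial.eval₂_X]

theorem FF_C (c : Fin (n + 1) × Fin (m + 1)) (a : R) :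
    FF R n m c (MvPolynomial.C a) = rho R n m (WW R n m c) a := by
  unfold FF
  rw [MvPolynomial.coe_eval₂Hom, MvPolynomial.eval₂_C]

theorem FF_self (c : Fin (n + 1) × Fin (m + 1)) :
    FF R n m c (MvPolynomial.X ((idx n m).symm c)) = 1 := by
  rw [FF_X, Equiv.apply_symm_apply, pull₁_self, pull₂_self, mul_one]

theorem isUnit_FF (c : Fin (n + 1) × Fin (m + 1)) :
    IsUnit (FF R n m c (MvPolynomial.X ((idx n m).symm c))) := by
  rw [FF_self]
  exact isUnit_one

theorem FF_compat (c c' : Fin (n + 1) × Fin (m + 1)) :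
    ∃ u : Γ(QQ R n m, WW R n m c ⊓ WW R n m c'), ∀ (k : ℕ)
      (a : MvPolynomial (Fin (n * m + n + m + 1)) R), a ∈ gr R (n * m + n + m) k →
      (QQ R n m).presheaf.map (homOfLE (inf_le_right : WW R n m c ⊓ WW R n m c' ≤ WW R n m c')).op
        (FF R n m c' a) =
      u ^ k * (QQ R n m).presheaf.map
        (homOfLE (inf_le_left : WW R n m c ⊓ WW R n m c' ≤ WW R n m c)).op (FF R n m c a) := by
  set T := WW R n m c ⊓ WW R n m c' with hT
  let Φ : MvPolynomial (Fin (n * m + n + m + 1)) R →+* Γ(QQ R n m, T) :=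
    ((QQ R n m).presheaf.map (homOfLE (inf_le_right : T ≤ WW R n m c')).op).hom.comp (FF R n m c')
  let Ψ : MvPolynomial (Fin (n * m + n + m + 1)) R →+* Γ(QQ R n m, T) :=
    ((QQ R n m).presheaf.map (homOfLE (inf_le_left : T ≤ WW R n m c)).op).hom.comp (FF R n m c)
  have h1 : T ≤ pr₁ R n m ⁻¹ᵁ UU R n c.1 := inf_le_left.trans (WW_le₁ R n m c)
  have h2 : T ≤ pr₂ R n m ⁻¹ᵁ UU R m c.2 := inf_le_left.trans (WW_le₂ R n m c)
  have h1' : T ≤ pr₁ R n m ⁻¹ᵁ UU R n c'.1 := inf_le_right.trans (WW_le₁ R n m c')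
  have h2' : T ≤ pr₂ R n m ⁻¹ᵁ UU R m c'.2 := inf_le_right.trans (WW_le₂ R n m c')
  have hΦX : ∀ s, Φ (MvPolynomial.X s) =
      pull₁ R n m T c'.1 h1' (MvPolynomial.X (idx n m s).1) *
        pull₂ R n m T c'.2 h2' (MvPolynomial.X (idx n m s).2) := by
    intro s
    change (QQ R n m).presheaf.map _ (FF R n m c' (MvPolynomial.X s)) = _
    rw [FF_X, map_mul, res_pull₁, res_pull₂]
  have hΨX : ∀ s, Ψ (MvPolynomial.X s) =
      pull₁ R n m T c.1 h1 (MvPolynomial.X (idx n m s).1) *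
        pull₂ R n m T c.2 h2 (MvPolynomial.X (idx n m s).2) := by
    intro s
    change (QQ R n m).presheaf.map _ (FF R n m c (MvPolynomial.X s)) = _
    rw [FF_X, map_mul, res_pull₁, res_pull₂]
  refine ⟨Φ (MvPolynomial.X ((idx n m).symm c)), fun k a ha => ?_⟩
  refine SegreAlg.eq_pow_mul_of_X Φ Ψ _ (fun r => ?_) (fun s => ?_)
    ((MvPolynomial.mem_homogeneousSubmodule k a).mp ha)
  · change (QQ R n m).presheaf.map _ (FF R n m c' (MvPolynomial.C r)) =
      (QQ R n m).presheaf.map _ (FF R n m c (MvPolynomial.C r))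
    rw [FF_C, FF_C, res_rho, res_rho]
  · rw [hΦX, hΦX, hΨX, Equiv.apply_symm_apply,
      pull₁_change R n m T c.1 c'.1 h1 h1' (X_mem R n (idx n m s).1),
      pull₂_change R n m T c.2 c'.2 h2 h2' (X_mem R m (idx n m s).2)]
    ring

end charts

end Groth.Agent.H8.Segre
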