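import Mathlib
import Groth.Agent.H8.SegreChart

/-!
# The Segre embedding over an affine base (helper8)
-/

set_option autoImplicit false
universe u

open AlgebraicGeometry CategoryTheory CategoryTheory.Limits HomogeneousLocalization
  TopologicalSpace Groth.Agent.H18.PUP Groth.Agent.H8.ProjSec Groth.Agent.H8.ProjGlue

namespace Groth.Agent.H8.Segre

variable (R : Type u) [CommRing R] (n m : ℕ)

section affine

theorem isPullback_QQ : IsPullback (pr₁ R n m) (pr₂ R n m) (tt R n) (tt R m) :=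
  IsPullback.of_hasPullback _ _

theorem UU_le_top (k : ℕ) (i : Fin (k + 1)) :
    UU R k i ≤ tt R k ⁻¹ᵁ (⊤ : (Spec (CommRingCat.of R)).Opens) := le_top

theorem isAffineOpen_UU (k : ℕ) (i : Fin (k + 1)) : IsAffineOpen (UU R k i) :=
  Proj.isAffineOpen_basicOpen (gr R k) _ (X_mem R k i) Nat.one_pos

set_option backward.isDefEq.respectTransparency false in
theorem isAffineOpen_WW (c : Fin (n + 1) × Fin (m + 1)) : IsAffineOpen (WW R n m c) := by
  have : IsAffine (⊤ : (Spec (CommRingCat.of R)).Opens).toScheme := isAffineOpen_top _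
  have : IsAffine (UU R n c.1).toScheme := isAffineOpen_UU R n c.1
  have : IsAffine (UU R m c.2).toScheme := isAffineOpen_UU R m c.2
  exact .of_isIso (Scheme.Hom.isPullback_resLE (isPullback_QQ R n m) (UU_le_top R m c.2)
    (UU_le_top R n c.1) (UY := WW R n m c) rfl).isoPullback.hom

set_option backward.isDefEq.respectTransparency false in
theorem isPushout_WW (c : Fin (n + 1) × Fin (m + 1)) :
    IsPushout ((tt R n).appLE ⊤ (UU R n c.1) (UU_le_top R n c.1))
      ((tt R m).appLE ⊤ (UU R m c.2) (UU_le_top R m c.2))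
      ((pr₁ R n m).appLE (UU R n c.1) (WW R n m c) (WW_le₁ R n m c))
      ((pr₂ R n m).appLE (UU R m c.2) (WW R n m c) (WW_le₂ R n m c)) := by
  have hiso : IsIso (pushoutSection (isPullback_QQ R n m) (UU_le_top R m c.2)
      (UU_le_top R n c.1) (UY := WW R n m c) rfl) :=
    isIso_pushoutSection_of_isAffineOpen (isPullback_QQ R n m) (UU_le_top R m c.2)
      (UU_le_top R n c.1) rfl (isAffineOpen_top _) (isAffineOpen_UU R m c.2)
      (isAffineOpen_UU R n c.1)
  exact (isIso_pushoutSection_iff (isPullback_QQ R n m) (UU_le_top R m c.2)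
    (UU_le_top R n c.1) (UY := WW R n m c) rfl).mp hiso

end affine

section surj

local notation "NN" => n * m + n + m

/-- the distinguished coordinate of a chart -/
noncomputable abbrev gg (c : Fin (n + 1) × Fin (m + 1)) : MvPolynomial (Fin (NN + 1)) R :=
  MvPolynomial.X ((idx n m).symm c)

theorem gg_mem (c : Fin (n + 1) × Fin (m + 1)) : gg R n m c ∈ gr R NN 1 := X_mem R NN _

/-- the chart ring map `Γ(D₊(z_c)) ⟶ Γ(W_c)` -/
noncomputable abbrev LL (c : Fin (n + 1) × Fin (m + 1)) :
    Away (gr R NN) (gg R n m c) →+* Γ(QQ R n m, WW R n m c) :=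
  awayLift (gr R NN) (gg R n m c) (FF R n m c) (isUnit_FF R n m c)

theorem FF_mem_range (c : Fin (n + 1) × Fin (m + 1)) {k : ℕ}
    {a : MvPolynomial (Fin (NN + 1)) R} (ha : a ∈ gr R NN k) :
    FF R n m c a ∈ (LL R n m c).range := by
  have h := awayLift_mk_mul (gr R NN) (gg_mem R n m c) (FF R n m c) (isUnit_FF R n m c) k a
    (mem_smul_one (gr R NN) ha)
  rw [FF_self, one_pow, mul_one] at h
  exact ⟨_, h⟩

theorem pull₁_mem_range (c : Fin (n + 1) × Fin (m + 1)) (a : MvPolynomial (Fin (n + 1)) R) :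
    pull₁ R n m (WW R n m c) c.1 (WW_le₁ R n m c) a ∈ (LL R n m c).range := by
  induction a using MvPolynomial.induction_on with
  | C r =>
    rw [pull₁_C, ← FF_C]
    exact FF_mem_range R n m c
      ((MvPolynomial.mem_homogeneousSubmodule 0 _).mpr (MvPolynomial.isHomogeneous_C _ r))
  | add p q hp hq =>
    rw [map_add]
    exact Subring.add_mem _ hp hq
  | mul_X p k hp =>
    rw [map_mul]
    refine Subring.mul_mem _ hp ?_
    have h1 : pull₁ R n m (WW R n m c) c.1 (WW_le₁ R n m c) (MvPolynomial.X k) =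
        FF R n m c (MvPolynomial.X ((idx n m).symm (k, c.2))) := by
      rw [FF_X, Equiv.apply_symm_apply, pull₂_self, mul_one]
    rw [h1]
    exact FF_mem_range R n m c (X_mem R NN _)

theorem pull₂_mem_range (c : Fin (n + 1) × Fin (m + 1)) (a : MvPolynomial (Fin (m + 1)) R) :
    pull₂ R n m (WW R n m c) c.2 (WW_le₂ R n m c) a ∈ (LL R n m c).range := by
  induction a using MvPolynomial.induction_on with
  | C r =>
    rw [pull₂_C, ← FF_C]
    exact FF_mem_range R n m c
      ((MvPolynomial.mem_homogeneousSubmodule 0 _).mpr (MvPolynomial.isHomogeneous_C _ r))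
  | add p q hp hq =>
    rw [map_add]
    exact Subring.add_mem _ hp hq
  | mul_X p k hp =>
    rw [map_mul]
    refine Subring.mul_mem _ hp ?_
    have h1 : pull₂ R n m (WW R n m c) c.2 (WW_le₂ R n m c) (MvPolynomial.X k) =
        FF R n m c (MvPolynomial.X ((idx n m).symm (c.1, k))) := by
      rw [FF_X, Equiv.apply_symm_apply, pull₁_self, one_mul]
    rw [h1]
    exact FF_mem_range R n m c (X_mem R NN _)

theorem LL_surjective (c : Fin (n + 1) × Fin (m + 1)) : Function.Surjective (LL R n m c) := by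
  rw [← RingHom.range_eq_top, eq_top_iff,
    ← SegreAlg.closure_range_eq_top_of_isPushout (isPushout_WW R n m c), Subring.closure_le]
  rintro w (⟨s, rfl⟩ | ⟨s, rfl⟩)
  · obtain ⟨a, rfl⟩ := sec_surjective (gr R n) (X_mem R n c.1) s
    exact pull₁_mem_range R n m c a
  · obtain ⟨a, rfl⟩ := sec_surjective (gr R m) (X_mem R m c.2) s
    exact pull₂_mem_range R n m c a

end surj

section main


theorem basicOpen_appLE_le {X Y : Scheme.{u}} (f : X ⟶ Y) (U : Y.Opens) (T : X.Opens)
    (h : T ≤ f ⁻¹ᵁ U) (s : Γ(Y, U)) :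
    X.basicOpen ((f.appLE U T h).hom s) ≤ f ⁻¹ᵁ Y.basicOpen s := by
  rw [Scheme.Hom.appLE, CommRingCat.hom_comp, RingHom.comp_apply, Scheme.basicOpen_res,
    Scheme.Hom.preimage_basicOpen]
  exact inf_le_right

theorem exists_hom_of_charts :
    ∃ σ : QQ R n m ⟶ PP R (n * m + n + m), ∀ c, (WW R n m c).ι ≫ σ =
      localMap (gr R (n * m + n + m)) (WW R n m c) (gg_mem R n m c) Nat.one_pos (FF R n m c)
        (isUnit_FF R n m c) :=
  exists_glue_localMap (gr R (n * m + n + m)) (WW R n m) (exists_mem_WW R n m) (gg R n m) (gg_mem R n m)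
    (FF R n m) (isUnit_FF R n m) (FF_compat R n m)

variable (σ : QQ R n m ⟶ PP R (n * m + n + m)) (hσ : ∀ c, (WW R n m c).ι ≫ σ =
      localMap (gr R (n * m + n + m)) (WW R n m c) (gg_mem R n m c) Nat.one_pos (FF R n m c)
        (isUnit_FF R n m c))

include hσ in
theorem preimage_le_WW (c : Fin (n + 1) × Fin (m + 1)) :
    σ ⁻¹ᵁ Proj.basicOpen (gr R (n * m + n + m)) (gg R n m c) ≤ WW R n m c := by
  intro x hx
  obtain ⟨c', hc'⟩ := exists_mem_WW R n m x
  have h1 : σ x = ((WW R n m c').ι ≫ σ) ⟨x, hc'⟩ := rfl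
  have h2 : (localMap (gr R (n * m + n + m)) (WW R n m c') (gg_mem R n m c') Nat.one_pos (FF R n m c')
      (isUnit_FF R n m c')) ⟨x, hc'⟩ ∈ Proj.basicOpen (gr R (n * m + n + m)) (gg R n m c) := by
    rw [← hσ c', ← h1]
    exact hx
  have h3 := mem_basicOpen_of_localMap_mem (gr R (n * m + n + m)) (WW R n m c') (gg_mem R n m c')
    (gg_mem R n m c) (FF R n m c') (isUnit_FF R n m c') x hc' h2
  rw [FF_X, Equiv.apply_symm_apply, Scheme.basicOpen_mul] at h3
  constructor
  · have h4 := basicOpen_appLE_le (pr₁ R n m) (UU R n c'.1) (WW R n m c') (WW_le₁ R n m c') _ h3.1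
    exact basicOpen_sec_le (gr R n) (X_mem R n c'.1) (X_mem R n c.1) h4
  · have h4 := basicOpen_appLE_le (pr₂ R n m) (UU R m c'.2) (WW R n m c') (WW_le₂ R n m c') _ h3.2
    exact basicOpen_sec_le (gr R m) (X_mem R m c'.2) (X_mem R m c.2) h4

include hσ in
theorem isClosedImmersion_segre : IsClosedImmersion σ := by
  refine isClosedImmersion_of_charts (gr R (n * m + n + m)) (WW R n m) (gg R n m) (gg_mem R n m)
    (FF R n m) (isUnit_FF R n m) σ hσ ?_ (preimage_le_WW R n m σ hσ) (isAffineOpen_WW R n m)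
    (LL_surjective R n m)
  intro y
  obtain ⟨i, hi⟩ := exists_mem_UU R (n * m + n + m) y
  refine ⟨idx n m i, ?_⟩
  rw [gg, Equiv.symm_apply_apply]
  exact hi

include hσ in
theorem segre_comp_tt : σ ≫ tt R (n * m + n + m) = qq R n m := by
  have hcover : IsOpenCover (WW R n m) :=
    isOpenCover_of_forall_exists (WW R n m) (exists_mem_WW R n m)
  obtain ⟨π, -, huniq⟩ := existsUnique_glue_opens (WW R n m) hcover
    (fun c => (WW R n m c).ι ≫ qq R n m) (by
      intro c c'
      rw [Scheme.homOfLE_ι_assoc, Scheme.homOfLE_ι_assoc])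
  rw [huniq (σ ≫ tt R (n * m + n + m)) (fun c => ?_), ← huniq (qq R n m) (fun c => rfl)]
  rw [← Category.assoc, hσ c]
  refine localMap_comp_toSpecZero (gr R (n * m + n + m)) (WW R n m c) (gg_mem R n m c) Nat.one_pos
    (FF R n m c) (isUnit_FF R n m c) (qq R n m) (fun a => ?_)
  rw [MvPolynomial.algebraMap_eq, FF_C]
  rfl

/-- **The Segre embedding over an affine base.** -/
theorem exists_segre :
    ∃ σ : QQ R n m ⟶ PP R (n * m + n + m), IsClosedImmersion σ ∧ σ ≫ tt R (n * m + n + m) = qq R n m := by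
  obtain ⟨σ, hσ⟩ := exists_hom_of_charts R n m
  exact ⟨σ, isClosedImmersion_segre R n m σ hσ, segre_comp_tt R n m σ hσ⟩

end main

end Groth.Agent.H8.Segre
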