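import Groth.Agent.H8.AssPoints

/-!
# Modules that are "localizing" on an affine open (helper8)

`IsLocalizingOn G V`: sections of `G` over basic opens `D(g) ⊆ V` are the localization of `Γ(G, V)`.
Quasi-coherent modules are localizing on every affine open; so are pushforwards of quasi-coherent
modules along morphisms `f` with `f ⁻¹ V` affine.  For localizing modules, stalks at points of `V` are
localizations of `Γ(G, V)`, and weakly associated points in `V` correspond to weakly associated primes.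
-/

set_option autoImplicit false
universe u
open CategoryTheory CategoryTheory.Limits AlgebraicGeometry TopologicalSpace Opposite

namespace Groth.Agent.H8

open Curv2

/-- `G` is localizing on `V`: sections over `D(g) ⊆ V` are the localization of `Γ(G, V)` at `g`. -/
structure IsLocalizingOn {S : Scheme.{u}} (G : S.Modules) (V : S.Opens) : Prop where
  pow_smul_eq_zero : ∀ (g : Γ(S, V)) (s : Γ(G, V)),
    G.presheaf.map (homOfLE (S.basicOpen_le g)).op s = 0 → ∃ n : ℕ, g ^ n • s = 0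
  res_eq_pow_smul : ∀ (g : Γ(S, V)) (t : Γ(G, S.basicOpen g)),
    ∃ (n : ℕ) (s : Γ(G, V)), G.presheaf.map (homOfLE (S.basicOpen_le g)).op s =
      (S.presheaf.map (homOfLE (S.basicOpen_le g)).op g) ^ n • t

theorem isLocalizingOn_of_isQuasicoherent {X : Scheme.{u}} (F : X.Modules) [F.IsQuasicoherent]
    {V : X.Opens} (hV : IsAffineOpen V) : IsLocalizingOn F V :=
  ⟨fun g s hs => exists_pow_smul_eq_zero_of_res_basicOpen_eq_zero F hV g s hs,
   fun g t => exists_res_eq_pow_smul F hV g t⟩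

set_option backward.isDefEq.respectTransparency false in
/-- Stalks of a localizing module are localizations of its sections over the affine open. -/
theorem IsLocalizingOn.isLocalizedModule_germₗ {X : Scheme.{u}} {F : X.Modules}
    {V : X.Opens} (hF : IsLocalizingOn F V) (hV : IsAffineOpen V) {x : X} (hxV : x ∈ V) :
    letI := stalkModule F hxV
    IsLocalizedModule (hV.primeIdealOf ⟨x, hxV⟩).asIdeal.primeCompl (germₗ F hxV) := by
  let _ := stalkModule F hxV
  refine ⟨?_, ?_, ?_⟩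
  · rintro ⟨g, hg⟩
    have hu : IsUnit (X.presheaf.germ V x hxV g) := by
      by_contra h
      exact hg ((mem_primeIdealOf_iff hV hxV g).mpr h)
    rw [Module.End.isUnit_iff]
    obtain ⟨u, hu⟩ := hu
    refine ⟨fun a b hab => ?_, fun b => ⟨(↑u⁻¹ : X.presheaf.stalk x) • b, ?_⟩⟩
    · have h1 : (X.presheaf.germ V x hxV g) • a = (X.presheaf.germ V x hxV g) • b := hab
      rw [← hu] at h1
      have := congrArg (fun z => (↑u⁻¹ : X.presheaf.stalk x) • z) h1
      simpa [smul_smul] using this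
    · change (X.presheaf.germ V x hxV g) • ((↑u⁻¹ : X.presheaf.stalk x) • b) = b
      rw [← hu, smul_smul]
      simp
  · intro m
    obtain ⟨W, hxW, t, rfl⟩ := TopCat.Presheaf.exists_germ_eq F.presheaf m
    obtain ⟨g, hgW, hxg⟩ := hV.exists_basicOpen_le ⟨x, hxW⟩ hxV
    obtain ⟨n, s, hs⟩ := hF.res_eq_pow_smul g (F.presheaf.map (homOfLE hgW).op t)
    have hgS : g ^ n ∈ (hV.primeIdealOf ⟨x, hxV⟩).asIdeal.primeCompl := by
      apply Submonoid.pow_mem
      exact (notMem_primeIdealOf_iff hV hxV g).mpr hxg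
    refine ⟨(s, ⟨g ^ n, hgS⟩), ?_⟩
    change (X.presheaf.germ V x hxV (g ^ n)) • F.presheaf.germ W x hxW t =
      F.presheaf.germ V x hxV s
    have h1 := congrArg (F.presheaf.germ (X.basicOpen g) x hxg) hs
    rw [TopCat.Presheaf.germ_res_apply, germ_smul, TopCat.Presheaf.germ_res_apply,
      map_pow, TopCat.Presheaf.germ_res_apply] at h1
    rw [h1, map_pow]
  · intro s₁ s₂ h
    have h' : F.presheaf.germ V x hxV (s₁ - s₂) = F.presheaf.germ V x hxV 0 := by
      rw [map_sub, map_zero, sub_eq_zero]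
      exact h
    obtain ⟨W, hxW, iWV, iWV', hW⟩ := TopCat.Presheaf.germ_eq F.presheaf x hxV hxV _ _ h'
    obtain ⟨g, hgW, hxg⟩ := hV.exists_basicOpen_le ⟨x, hxW⟩ hxV
    have hres : F.presheaf.map (homOfLE (X.basicOpen_le g)).op (s₁ - s₂) = 0 := by
      have : (homOfLE (X.basicOpen_le g)).op = iWV.op ≫ (homOfLE hgW).op := rfl
      rw [this, Functor.map_comp, ConcreteCategory.comp_apply, hW, map_zero, map_zero]
    obtain ⟨n, hn⟩ := hF.pow_smul_eq_zero g _ hres
    have hgS : g ^ n ∈ (hV.primeIdealOf ⟨x, hxV⟩).asIdeal.primeCompl := by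
      apply Submonoid.pow_mem
      exact (notMem_primeIdealOf_iff hV hxV g).mpr hxg
    refine ⟨⟨g ^ n, hgS⟩, ?_⟩
    change g ^ n • s₁ = g ^ n • s₂
    rw [← sub_eq_zero, ← smul_sub, hn]

set_option backward.isDefEq.respectTransparency false in
theorem IsLocalizingOn.isWeakAssPoint_iff_mem_weakAss {X : Scheme.{u}} {F : X.Modules}
    {V : X.Opens} (hF : IsLocalizingOn F V) (hV : IsAffineOpen V) {x : X} (hxV : x ∈ V) :
    IsWeakAssPoint F x ↔
      (hV.primeIdealOf ⟨x, hxV⟩).asIdeal ∈ FlatCA.weakAss Γ(X, V) Γ(F, V) := by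
  let _ : Algebra Γ(X, V) (X.presheaf.stalk x) :=
    TopCat.Presheaf.algebra_section_stalk X.presheaf ⟨x, hxV⟩
  have : IsLocalization.AtPrime (X.presheaf.stalk x) (hV.primeIdealOf ⟨x, hxV⟩).asIdeal :=
    hV.isLocalization_stalk ⟨x, hxV⟩
  let _ := stalkModule F hxV
  have : IsScalarTower Γ(X, V) (X.presheaf.stalk x) (F.presheaf.stalk x) :=
    .of_algebraMap_smul fun _ _ => rfl
  have := hF.isLocalizedModule_germₗ hV hxV
  exact exists_radical_ann_eq_maximalIdeal_iff (hV.primeIdealOf ⟨x, hxV⟩).asIdeal (germₗ F hxV)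

lemma smul_pushforward {X S : Scheme.{u}} (f : X ⟶ S) (F : X.Modules) (V : S.Opens) (r : Γ(S, V))
    (s : Γ((Scheme.Modules.pushforward f).obj F, V)) :
    r • s = (F.smul (U := f ⁻¹ᵁ V) (f.app V r)).hom s := rfl

noncomputable section

set_option backward.isDefEq.respectTransparency false in
theorem pow_smul_eq_zero_preimage {X S : Scheme.{u}} (f : X ⟶ S) (F : X.Modules)
    (V : S.Opens) (hF : IsLocalizingOn F (f ⁻¹ᵁ V)) (g : Γ(S, V))
    (s : Γ(F, f ⁻¹ᵁ V))
    (hs : F.presheaf.map ((Opens.map f.base).map (homOfLE (S.basicOpen_le g))).op s = 0) :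
    ∃ n : ℕ, (f.app V g) ^ n • s = 0 := by
  have e : f ⁻¹ᵁ S.basicOpen g = X.basicOpen (f.app V g) := Scheme.preimage_basicOpen f g
  have hs' : F.presheaf.map (homOfLE (X.basicOpen_le (f.app V g))).op s = 0 := by
    have h1 : F.presheaf.map (homOfLE (X.basicOpen_le (f.app V g))).op s =
        F.presheaf.map (eqToHom e.symm).op
          (F.presheaf.map ((Opens.map f.base).map (homOfLE (S.basicOpen_le g))).op s) := by
      rw [presheaf_map_map]
      rfl
    rw [h1, hs, map_zero]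
  exact hF.pow_smul_eq_zero (f.app V g) _ hs'

set_option backward.isDefEq.respectTransparency false in
theorem res_eq_pow_smul_preimage {X S : Scheme.{u}} (f : X ⟶ S) (F : X.Modules)
    (V : S.Opens) (hF : IsLocalizingOn F (f ⁻¹ᵁ V)) (g : Γ(S, V))
    (t : Γ(F, f ⁻¹ᵁ S.basicOpen g)) :
    ∃ (n : ℕ) (s : Γ(F, f ⁻¹ᵁ V)),
      F.presheaf.map ((Opens.map f.base).map (homOfLE (S.basicOpen_le g))).op s =
        (f.app (S.basicOpen g) (S.presheaf.map (homOfLE (S.basicOpen_le g)).op g)) ^ n • t := by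
  have e : f ⁻¹ᵁ S.basicOpen g = X.basicOpen (f.app V g) := Scheme.preimage_basicOpen f g
  let t' : Γ(F, X.basicOpen (f.app V g)) := F.presheaf.map (eqToHom e.symm).op t
  obtain ⟨n, s, hs⟩ := hF.res_eq_pow_smul (f.app V g) t'
  refine ⟨n, s, ?_⟩
  have h2 := congrArg (F.presheaf.map (eqToHom e).op) hs
  rw [presheaf_map_map] at h2
  erw [Scheme.Modules.map_smul F (eqToHom e)] at h2
  have hnat : f.app (S.basicOpen g) (S.presheaf.map (homOfLE (S.basicOpen_le g)).op g) =
      X.presheaf.map (eqToHom e).op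
        (X.presheaf.map (homOfLE (X.basicOpen_le (f.app V g))).op (f.app V g)) := by
    rw [ring_map_map, ← ConcreteCategory.comp_apply, f.naturality]
    rfl
  have ht : F.presheaf.map (eqToHom e).op t' = t := by
    change F.presheaf.map _ (F.presheaf.map _ t) = t
    rw [presheaf_map_map, presheaf_map_eq F _ (𝟙 _)]
    simp
  rw [hnat, ← map_pow]
  rw [ht] at h2
  rw [← h2]
  rfl

/-- If `F` is localizing on `f ⁻¹ V`, then `f_* F` is localizing on `V`. -/
theorem IsLocalizingOn.pushforward {X S : Scheme.{u}} (f : X ⟶ S) {F : X.Modules}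
    {V : S.Opens} (hF : IsLocalizingOn F (f ⁻¹ᵁ V)) :
    IsLocalizingOn ((Scheme.Modules.pushforward f).obj F) V := by
  constructor
  · intro g s hs
    obtain ⟨n, hn⟩ := pow_smul_eq_zero_preimage f F V hF g s hs
    refine ⟨n, ?_⟩
    rw [smul_pushforward, map_pow]
    exact hn
  · intro g t
    obtain ⟨n, s, hs⟩ := res_eq_pow_smul_preimage f F V hF g t
    refine ⟨n, s, ?_⟩
    rw [smul_pushforward, map_pow]
    exact hs

/-- The pushforward of a quasi-coherent module along `f` is localizing on `V` if `f ⁻¹ V` is affine. -/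
theorem isLocalizingOn_pushforward {X S : Scheme.{u}} (f : X ⟶ S) (F : X.Modules)
    [F.IsQuasicoherent] (V : S.Opens) (hU : IsAffineOpen (f ⁻¹ᵁ V)) :
    IsLocalizingOn ((Scheme.Modules.pushforward f).obj F) V :=
  (isLocalizingOn_of_isQuasicoherent F hU).pushforward f


/-- Weakly associated primes under restriction of scalars come from weakly associated primes. -/
theorem exists_mem_weakAss_comap_eq {A B M : Type*} [CommRing A] [CommRing B] [Algebra A B]
    [AddCommGroup M] [Module A M] [Module B M] [IsScalarTower A B M]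
    {p : Ideal A} (hp : p ∈ FlatCA.weakAss A M) :
    ∃ q ∈ FlatCA.weakAss B M, q.comap (algebraMap A B) = p := by
  obtain ⟨m, hm⟩ := hp
  have hann : (Submodule.span A {m}).annihilator =
      (Submodule.span B {m}).annihilator.comap (algebraMap A B) := by
    ext a
    rw [Ideal.mem_comap, Submodule.mem_annihilator_span_singleton,
      Submodule.mem_annihilator_span_singleton, algebraMap_smul]
  rw [hann] at hm
  obtain ⟨q, hq, hqp⟩ := Ideal.exists_minimalPrimes_comap_eq (algebraMap A B) p hm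
  exact ⟨q, ⟨m, hq⟩, hqp⟩

lemma isPrime_of_mem_weakAss {A M : Type*} [CommRing A] [AddCommGroup M] [Module A M]
    {p : Ideal A} (hp : p ∈ FlatCA.weakAss A M) : p.IsPrime := by
  obtain ⟨m, hm⟩ := hp
  exact hm.1.1

open Curv2 in
set_option backward.isDefEq.respectTransparency false in
/-- **Weakly associated points of a pushforward along an affine morphism** come from weakly
associated points. -/
theorem exists_isWeakAssPoint_of_pushforward {X S : Scheme.{u}} (f : X ⟶ S) [IsAffineHom f]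
    (F : X.Modules) [F.IsQuasicoherent] (s : S)
    (hs : IsWeakAssPoint ((Scheme.Modules.pushforward f).obj F) s) :
    ∃ x : X, f x = s ∧ IsWeakAssPoint F x := by
  obtain ⟨_, ⟨V, hV, rfl⟩, hsV, -⟩ :=
    S.isBasis_affineOpens.exists_subset_of_mem_open (Set.mem_univ s) isOpen_univ
  have hV : IsAffineOpen V := hV
  have hsV : s ∈ V := hsV
  have hU : IsAffineOpen (f ⁻¹ᵁ V) := hV.preimage f
  have hloc := isLocalizingOn_pushforward f F V hU
  rw [hloc.isWeakAssPoint_iff_mem_weakAss hV hsV] at hs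
  let _ : Algebra Γ(S, V) Γ(X, f ⁻¹ᵁ V) := (f.app V).hom.toAlgebra
  let _ : Module Γ(S, V) Γ(F, f ⁻¹ᵁ V) :=
    inferInstanceAs (Module Γ(S, V) Γ((Scheme.Modules.pushforward f).obj F, V))
  have : IsScalarTower Γ(S, V) Γ(X, f ⁻¹ᵁ V) Γ(F, f ⁻¹ᵁ V) :=
    .of_algebraMap_smul fun r m => rfl
  obtain ⟨q, hq, hqp⟩ := exists_mem_weakAss_comap_eq (A := Γ(S, V)) (B := Γ(X, f ⁻¹ᵁ V))
    (M := Γ(F, f ⁻¹ᵁ V)) hs
  have hqprime : q.IsPrime := isPrime_of_mem_weakAss hq
  let q' : PrimeSpectrum Γ(X, f ⁻¹ᵁ V) := ⟨q, hqprime⟩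
  refine ⟨hU.fromSpec q', ?_, ?_⟩
  · have h1 := IsAffineOpen.SpecMap_appLE_fromSpec f hV hU le_rfl
    have h2 : f (hU.fromSpec q') = hV.fromSpec (Spec.map (f.appLE V (f ⁻¹ᵁ V) le_rfl) q') := by
      rw [← Scheme.Hom.comp_apply, ← Scheme.Hom.comp_apply, h1]
    refine h2.trans (Eq.trans ?_ (hV.fromSpec_primeIdealOf ⟨s, hsV⟩))
    congr 1
    refine PrimeSpectrum.ext (Eq.trans ?_ hqp)
    change Ideal.comap (f.appLE V (f ⁻¹ᵁ V) le_rfl).hom q = Ideal.comap (f.app V).hom q
    rw [Scheme.Hom.app_eq_appLE]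
  · rw [isWeakAssPoint_iff_mem_weakAss F hU (fromSpec_mem hU q'), primeIdealOf_fromSpec]
    exact hq

/-- For Noetherian `B`, contractions of weakly associated primes of a `B`-module are weakly associated
over `A`. -/
theorem comap_mem_weakAss_of_isNoetherianRing {A B M : Type*} [CommRing A] [CommRing B]
    [Algebra A B] [IsNoetherianRing B] [AddCommGroup M] [Module A M] [Module B M]
    [IsScalarTower A B M] {q : Ideal B} (hq : q ∈ FlatCA.weakAss B M) :
    q.comap (algebraMap A B) ∈ FlatCA.weakAss A M := by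
  obtain ⟨m, hm⟩ := hq
  rw [← Submodule.bot_colon'] at hm
  obtain ⟨m', hm'⟩ := Submodule.exists_eq_colon_of_mem_minimalPrimes hm
  have hqp : q.IsPrime := hm.1.1
  refine ⟨m', ?_⟩
  have h1 : (Submodule.span A {m'}).annihilator = q.comap (algebraMap A B) := by
    ext a
    rw [Submodule.mem_annihilator_span_singleton, Ideal.mem_comap, hm',
      Submodule.mem_colon_singleton, Submodule.mem_bot, algebraMap_smul]
  rw [h1, Ideal.minimalPrimes_eq_subsingleton_self]
  rfl

open Curv2 in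
set_option backward.isDefEq.respectTransparency false in
theorem isWeakAssPoint_pushforward_of_isWeakAssPoint {X S : Scheme.{u}} (f : X ⟶ S)
    [IsAffineHom f] [IsLocallyNoetherian X] (F : X.Modules) [F.IsQuasicoherent] (x : X)
    (hx : IsWeakAssPoint F x) :
    IsWeakAssPoint ((Scheme.Modules.pushforward f).obj F) (f x) := by
  obtain ⟨_, ⟨V, hV, rfl⟩, hsV, -⟩ :=
    S.isBasis_affineOpens.exists_subset_of_mem_open (Set.mem_univ (f x)) isOpen_univ
  have hV : IsAffineOpen V := hV
  have hsV : f x ∈ V := hsV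
  have hU : IsAffineOpen (f ⁻¹ᵁ V) := hV.preimage f
  have hxU : x ∈ f ⁻¹ᵁ V := hsV
  have hloc := isLocalizingOn_pushforward f F V hU
  rw [hloc.isWeakAssPoint_iff_mem_weakAss hV hsV]
  rw [isWeakAssPoint_iff_mem_weakAss F hU hxU] at hx
  have : IsNoetherianRing Γ(X, f ⁻¹ᵁ V) := IsLocallyNoetherian.component_noetherian ⟨_, hU⟩
  let _ : Algebra Γ(S, V) Γ(X, f ⁻¹ᵁ V) := (f.app V).hom.toAlgebra
  let _ : Module Γ(S, V) Γ(F, f ⁻¹ᵁ V) :=
    inferInstanceAs (Module Γ(S, V) Γ((Scheme.Modules.pushforward f).obj F, V))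
  have : IsScalarTower Γ(S, V) Γ(X, f ⁻¹ᵁ V) Γ(F, f ⁻¹ᵁ V) :=
    .of_algebraMap_smul fun r m => rfl
  have h1 := comap_mem_weakAss_of_isNoetherianRing (A := Γ(S, V)) (B := Γ(X, f ⁻¹ᵁ V))
    (M := Γ(F, f ⁻¹ᵁ V)) hx
  have h2 := IsAffineOpen.comap_primeIdealOf_appLE (f := f) (x := x) V hV (f ⁻¹ᵁ V) hU le_rfl hxU
  have h3 : (hV.primeIdealOf ⟨f x, hsV⟩).asIdeal =
      Ideal.comap (algebraMap Γ(S, V) Γ(X, f ⁻¹ᵁ V)) (hU.primeIdealOf ⟨x, hxU⟩).asIdeal := by
    rw [← h2]
    change Ideal.comap (f.appLE V (f ⁻¹ᵁ V) le_rfl).hom _ = Ideal.comap (f.app V).hom _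
    rw [Scheme.Hom.app_eq_appLE]
  rw [h3]
  exact h1

end

end Groth.Agent.H8
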