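import Groth.Agent.H8.AssPoints
import Mathlib.Algebra.Category.ModuleCat.Sheaf.LocallyFree

/-!
# Nonzerodivisors and weakly associated points of the structure sheaf (helper8)

* `isQuasicoherent_structureModule`: the structure module `Coh.structureModule X` is quasi-coherent.
* `exists_isWeakAssPoint_germ_ne_zero_structure`: a nonzero function on an open `W` has a nonzero
  germ (in the local ring) at some weakly associated point of `O_X` in `W`.
* `germ_mem_nonZeroDivisors_of_weakAss`: a function on `W` whose germs at the weakly associated points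
  of `O_X` in `W` are nonzerodivisors has nonzerodivisor germs everywhere on `W`.
* `mem_nonZeroDivisors_of_weakAss`: such a function is a nonzerodivisor of `Γ(X, W')` for all `W' ≤ W`.
-/

set_option autoImplicit false
universe u
open CategoryTheory CategoryTheory.Limits AlgebraicGeometry TopologicalSpace Opposite

namespace Groth.Agent.H8

open Curv2

instance isQuasicoherent_structureModule (X : Scheme.{u}) :
    (Coh.structureModule X).IsQuasicoherent := by
  have e : SheafOfModules.free (R := X.ringCatSheaf) PUnit.{u + 1} ≅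
      SheafOfModules.unit X.ringCatSheaf := coproductUniqueIso _
  exact (SheafOfModules.isQuasicoherent X.ringCatSheaf).prop_of_iso e inferInstance

/-- Sections of the structure module are the functions. -/
noncomputable def structureSecEquiv (X : Scheme.{u}) (V : X.Opens) :
    Γ(Coh.structureModule X, V) ≃ₗ[Γ(X, V)] Γ(X, V) where
  toFun x := x
  invFun x := x
  map_add' _ _ := rfl
  map_smul' _ _ := rfl
  left_inv _ := rfl
  right_inv _ := rfl

set_option backward.isDefEq.respectTransparency false in
/-- A nonzero function on an open `W` has a nonzero germ at some weakly associated point of the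
structure sheaf lying in `W`. -/
theorem exists_isWeakAssPoint_germ_ne_zero_structure {X : Scheme.{u}} {W : X.Opens} (t : Γ(X, W))
    (ht : t ≠ 0) :
    ∃ (y : X) (hyW : y ∈ W), IsWeakAssPoint (Coh.structureModule X) y ∧
      X.presheaf.germ W y hyW t ≠ 0 := by
  let t' : Γ(Coh.structureModule X, W) := t
  have ht' : t' ≠ 0 := ht
  obtain ⟨y, hyW, hy, hne⟩ := exists_isWeakAssPoint_germ_ne_zero' (Coh.structureModule X) t' ht'
  refine ⟨y, hyW, hy, fun h0 => hne ?_⟩
  have h1 : X.presheaf.germ W y hyW t = X.presheaf.germ W y hyW 0 := by rw [h0, map_zero]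
  obtain ⟨V, hyV, iU, iV, e⟩ := X.presheaf.germ_eq y hyW hyW t 0 h1
  rw [map_zero] at e
  have e' : (Coh.structureModule X).presheaf.map iU.op t' = 0 := e
  rw [← TopCat.Presheaf.germ_res_apply (Coh.structureModule X).presheaf iU y hyV t', e', map_zero]

set_option backward.isDefEq.respectTransparency false in
/-- If the germs of `a ∈ Γ(X, W)` at all weakly associated points of `O_X` in `W` are
nonzerodivisors, then `a` restricted to any smaller open is a nonzerodivisor. -/
theorem res_mem_nonZeroDivisors_of_weakAss {X : Scheme.{u}} {W : X.Opens} (a : Γ(X, W))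
    (h : ∀ (y : X) (hy : y ∈ W), IsWeakAssPoint (Coh.structureModule X) y →
      X.presheaf.germ W y hy a ∈ nonZeroDivisors (X.presheaf.stalk y))
    {W' : X.Opens} (hW' : W' ≤ W) :
    X.presheaf.map (homOfLE hW').op a ∈ nonZeroDivisors Γ(X, W') := by
  rw [mem_nonZeroDivisors_iff_right]
  intro t hta
  by_contra ht
  obtain ⟨y, hyW', hy, hne⟩ := exists_isWeakAssPoint_germ_ne_zero_structure t ht
  apply hne
  have h1 := h y (hW' hyW') hy
  rw [mem_nonZeroDivisors_iff_right] at h1
  apply h1
  rw [← TopCat.Presheaf.germ_res_apply X.presheaf (homOfLE hW') y hyW' a, ← map_mul, hta, map_zero]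

set_option backward.isDefEq.respectTransparency false in
/-- If the germs of `a ∈ Γ(X, W)` at all weakly associated points of `O_X` in `W` are
nonzerodivisors, then so are its germs at all points of `W`. -/
theorem germ_mem_nonZeroDivisors_of_weakAss {X : Scheme.{u}} {W : X.Opens} (a : Γ(X, W))
    (h : ∀ (y : X) (hy : y ∈ W), IsWeakAssPoint (Coh.structureModule X) y →
      X.presheaf.germ W y hy a ∈ nonZeroDivisors (X.presheaf.stalk y))
    (x : X) (hx : x ∈ W) :
    X.presheaf.germ W x hx a ∈ nonZeroDivisors (X.presheaf.stalk x) := by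
  rw [mem_nonZeroDivisors_iff_right]
  intro b hb
  obtain ⟨W₁, hxW₁, t, rfl⟩ := X.presheaf.exists_germ_eq b
  -- shrink so that W₁ ≤ W
  let W₂ : X.Opens := W₁ ⊓ W
  have hxW₂ : x ∈ W₂ := ⟨hxW₁, hx⟩
  have h1 : X.presheaf.germ W₂ x hxW₂ (X.presheaf.map (homOfLE inf_le_left).op t *
      X.presheaf.map (homOfLE inf_le_right).op a) = X.presheaf.germ W₂ x hxW₂ 0 := by
    rw [map_mul, TopCat.Presheaf.germ_res_apply, TopCat.Presheaf.germ_res_apply, map_zero]
    exact hb
  obtain ⟨W₃, hxW₃, i₁, i₂, e⟩ := X.presheaf.germ_eq x hxW₂ hxW₂ _ _ h1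
  rw [map_zero, map_mul] at e
  have hW₃ : W₃ ≤ W := i₁.le.trans inf_le_right
  have h2 := res_mem_nonZeroDivisors_of_weakAss a h hW₃
  rw [mem_nonZeroDivisors_iff_right] at h2
  have e2 : X.presheaf.map i₁.op (X.presheaf.map (homOfLE inf_le_right).op a) =
      X.presheaf.map (homOfLE hW₃).op a := by
    rw [← ConcreteCategory.comp_apply, ← X.presheaf.map_comp]
    rfl
  rw [e2] at e
  have h3 := h2 _ e
  rw [← TopCat.Presheaf.germ_res_apply X.presheaf (homOfLE inf_le_left) x hxW₂ t,
    ← TopCat.Presheaf.germ_res_apply X.presheaf i₁ x hxW₃, h3, map_zero]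

end Groth.Agent.H8
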