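import Mathlib

/-!
# Algebra for spreading out a finite separable field extension to a finite étale cover

* `etale_adjoinRoot_of_separable`: `R[X]/(G)` is étale over `R` for `G` monic and separable.
* `isPrime_nilradical_adjoinRoot`: if `φ : R → K` is a ring map to a field whose kernel is the nilradical
  of `R` and `G` is monic with `G.map φ` irreducible, then the nilradical of `R[X]/(G)` is prime
  (so `Spec R[X]/(G)` is irreducible).
-/

set_option autoImplicit false

open Polynomial

namespace Groth.Agent.H8.FinEtSpread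

/-- `R[X]/(G)` is étale when `G` is monic and separable. -/
theorem etale_adjoinRoot_of_separable {R : Type*} [CommRing R] (G : R[X]) (hm : G.Monic)
    (hs : G.Separable) : Algebra.Etale R (AdjoinRoot G) := by
  have hu : IsUnit (AdjoinRoot.mk G (derivative G)) := by
    obtain ⟨a, b, hab⟩ := hs
    refine IsUnit.of_mul_eq_one (AdjoinRoot.mk G b) ?_
    have := congrArg (AdjoinRoot.mk G) hab
    rw [map_add, map_mul, map_mul, AdjoinRoot.mk_self, mul_zero, zero_add, map_one] at this
    rw [mul_comm]
    exact this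
  let P : StandardEtalePair R := ⟨G, hm, derivative G, ⟨1, 0, 1, by ring⟩⟩
  let e₁ : P.Ring ≃ₐ[R] Localization.Away (AdjoinRoot.mk G (derivative G)) := P.equivAwayAdjoinRoot
  let e₂ : AdjoinRoot G ≃ₐ[AdjoinRoot G] Localization.Away (AdjoinRoot.mk G (derivative G)) :=
    IsLocalization.atUnit (AdjoinRoot G) _ (AdjoinRoot.mk G (derivative G)) hu
  exact Algebra.Etale.of_equiv (e₁.trans (e₂.restrictScalars R).symm)

section prime

variable {R K : Type*} [CommRing R] [Field K] (φ : R →+* K) (G : R[X])

/-- the comparison map `R[X]/(G) → K[X]/(G.map φ)` -/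
noncomputable def toAdjoinRootMap : AdjoinRoot G →+* AdjoinRoot (G.map φ) :=
  AdjoinRoot.map φ G (G.map φ) dvd_rfl

theorem toAdjoinRootMap_mk (P : R[X]) :
    toAdjoinRootMap φ G (AdjoinRoot.mk G P) = AdjoinRoot.mk (G.map φ) (P.map φ) := by
  simp only [toAdjoinRootMap, AdjoinRoot.map, AdjoinRoot.lift_mk]
  rw [← Polynomial.eval₂_map, ← AdjoinRoot.algebraMap_eq, ← Polynomial.aeval_def,
    AdjoinRoot.aeval_eq]

theorem toAdjoinRootMap_of (r : R) :
    toAdjoinRootMap φ G (AdjoinRoot.of G r) = AdjoinRoot.of (G.map φ) (φ r) := by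
  rw [← AdjoinRoot.mk_C, toAdjoinRootMap_mk, Polynomial.map_C, AdjoinRoot.mk_C]

theorem toAdjoinRootMap_root :
    toAdjoinRootMap φ G (AdjoinRoot.root G) = AdjoinRoot.root (G.map φ) := by
  rw [AdjoinRoot.root, toAdjoinRootMap_mk, Polynomial.map_X]
  rfl

variable {φ G}

theorem ker_toAdjoinRootMap (hker : RingHom.ker φ = nilradical R) (hm : G.Monic)
    (hirr : Irreducible (G.map φ)) :
    RingHom.ker (toAdjoinRootMap φ G) = nilradical (AdjoinRoot G) := by
  haveI : Fact (Irreducible (G.map φ)) := ⟨hirr⟩
  ext x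
  obtain ⟨P, rfl⟩ := AdjoinRoot.mk_surjective x
  rw [RingHom.mem_ker, toAdjoinRootMap_mk, AdjoinRoot.mk_eq_zero, mem_nilradical]
  constructor
  · intro hdvd
    have hm' : (G.map φ).Monic := hm.map φ
    have h0 : (P %ₘ G).map φ = 0 := by
      rw [Polynomial.map_modByMonic φ hm, Polynomial.modByMonic_eq_zero_iff_dvd hm']
      exact hdvd
    have hnil : IsNilpotent (P %ₘ G) := by
      rw [Polynomial.isNilpotent_iff]
      intro i
      have : φ ((P %ₘ G).coeff i) = 0 := by
        rw [← Polynomial.coeff_map, h0, Polynomial.coeff_zero]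
      have hmem : (P %ₘ G).coeff i ∈ RingHom.ker φ := this
      rw [hker] at hmem
      exact hmem
    have heq : AdjoinRoot.mk G P = AdjoinRoot.mk G (P %ₘ G) := by
      rw [AdjoinRoot.mk_eq_mk]
      exact ⟨P /ₘ G, by
        have := Polynomial.modByMonic_add_div P G
        linear_combination -this⟩
    rw [heq]
    exact hnil.map (AdjoinRoot.mk G)
  · intro hnil
    have h1 : IsNilpotent (toAdjoinRootMap φ G (AdjoinRoot.mk G P)) := hnil.map _
    rw [toAdjoinRootMap_mk] at h1
    have h2 := h1.eq_zero
    rwa [AdjoinRoot.mk_eq_zero] at h2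

/-- the nilradical of `R[X]/(G)` is prime when `G` is monic, irreducible over the field `K` and
`ker (R → K)` is the nilradical. -/
theorem isPrime_nilradical_adjoinRoot (hker : RingHom.ker φ = nilradical R) (hm : G.Monic)
    (hirr : Irreducible (G.map φ)) : (nilradical (AdjoinRoot G)).IsPrime := by
  haveI : Fact (Irreducible (G.map φ)) := ⟨hirr⟩
  rw [← ker_toAdjoinRootMap hker hm hirr]
  exact RingHom.ker_isPrime _

theorem nontrivial_adjoinRoot (hirr : Irreducible (G.map φ)) : Nontrivial (AdjoinRoot G) := by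
  haveI : Fact (Irreducible (G.map φ)) := ⟨hirr⟩
  exact RingHom.domain_nontrivial (toAdjoinRootMap φ G)

end prime

end Groth.Agent.H8.FinEtSpread
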