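import Mathlib

/-!
# Lifting polynomials over a residue field to sections on a neighbourhood
-/

set_option autoImplicit false

universe u

open AlgebraicGeometry CategoryTheory Polynomial TopologicalSpace

namespace Groth.Agent.H8.FinEtSpread

variable {Y : Scheme.{u}} (η : Y)

/-- every element of the residue field is the value of a section over an open neighbourhood -/
theorem exists_evaluation_eq (c : Y.residueField η) :
    ∃ (V : Y.Opens) (hV : η ∈ V) (s : Γ(Y, V)), Y.evaluation V η hV s = c := by
  obtain ⟨t, rfl⟩ := Y.residue_surjective η c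
  obtain ⟨V, hV, s, rfl⟩ := TopCat.Presheaf.germ_exist Y.presheaf t
  exact ⟨V, hV, s, rfl⟩

theorem evaluation_res {V V' : Y.Opens} (hVV' : V' ≤ V) (h : η ∈ V') (s : Γ(Y, V)) :
    Y.evaluation V' η h (Y.presheaf.map (homOfLE hVV').op s) = Y.evaluation V η (hVV' h) s := by
  change (Y.residue η) (Y.presheaf.germ V' η h (Y.presheaf.map (homOfLE hVV').op s)) =
    (Y.residue η) (Y.presheaf.germ V η (hVV' h) s)
  rw [TopCat.Presheaf.germ_res_apply]

theorem evaluation_res_hom {V V' : Y.Opens} (hVV' : V' ≤ V) (h : η ∈ V') :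
    (Y.evaluation V' η h).hom.comp (Y.presheaf.map (homOfLE hVV').op).hom =
      (Y.evaluation V η (hVV' h)).hom :=
  RingHom.ext fun s => evaluation_res η hVV' h s

/-- finitely many elements of the residue field are values of sections over a common open
neighbourhood -/
theorem exists_evaluation_eq_family {ι : Type*} [Finite ι] (c : ι → Y.residueField η) :
    ∃ (V : Y.Opens) (hV : η ∈ V) (s : ι → Γ(Y, V)), ∀ i, Y.evaluation V η hV (s i) = c i := by
  classical
  choose V₀ hV₀ s₀ hs₀ using fun i => exists_evaluation_eq η (c i)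
  haveI := Fintype.ofFinite ι
  obtain ⟨V, hV, hle⟩ : ∃ V : Y.Opens, η ∈ V ∧ ∀ i, V ≤ V₀ i := by
    have key : ∀ t : Finset ι, ∃ V : Y.Opens, η ∈ V ∧ ∀ i ∈ t, V ≤ V₀ i := by
      intro t
      induction t using Finset.induction_on with
      | empty => exact ⟨⊤, trivial, fun i hi => absurd hi (Finset.notMem_empty i)⟩
      | insert a t _ ih =>
        obtain ⟨V, hV, hle⟩ := ih
        refine ⟨V ⊓ V₀ a, ⟨hV, hV₀ a⟩, fun i hi => ?_⟩
        rcases Finset.mem_insert.mp hi with rfl | hi
        · exact inf_le_right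
        · exact inf_le_left.trans (hle i hi)
    obtain ⟨V, hV, hle⟩ := key Finset.univ
    exact ⟨V, hV, fun i => hle i (Finset.mem_univ i)⟩
  refine ⟨V, hV, fun i => Y.presheaf.map (homOfLE (hle i)).op (s₀ i), fun i => ?_⟩
  rw [evaluation_res, hs₀]

/-- a polynomial over the residue field of degree `< m` lifts to a polynomial of degree `< m` over the
sections on some open neighbourhood. -/
theorem exists_polynomial_lift (m : ℕ) (Q : (Y.residueField η)[X]) (hQ : Q.degree < m) :
    ∃ (V : Y.Opens) (hV : η ∈ V) (P : Γ(Y, V)[X]),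
      P.map (Y.evaluation V η hV).hom = Q ∧ P.degree < m := by
  obtain ⟨V, hV, s, hs⟩ := exists_evaluation_eq_family η (fun i : Fin m => Q.coeff i)
  refine ⟨V, hV, ∑ i : Fin m, C (s i) * X ^ (i : ℕ), ?_, Polynomial.degree_sum_fin_lt s⟩
  rw [Polynomial.map_sum]
  simp only [Polynomial.map_mul, Polynomial.map_C, Polynomial.map_pow, Polynomial.map_X]
  have h1 : ∀ i : Fin m, (Y.evaluation V η hV).hom (s i) = Q.coeff i := fun i => hs i
  simp only [h1]
  rw [Polynomial.sum_fin (fun n a => C a * X ^ n) (by simp) hQ]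
  exact Polynomial.sum_C_mul_X_pow_eq Q

/-- a monic polynomial over the residue field lifts to a monic polynomial over the sections on
some open neighbourhood. -/
theorem exists_monic_lift (Q : (Y.residueField η)[X]) (hQ : Q.Monic) :
    ∃ (V : Y.Opens) (hV : η ∈ V) (P : Γ(Y, V)[X]),
      P.map (Y.evaluation V η hV).hom = Q ∧ P.Monic := by
  set n := Q.natDegree with hn
  have hdeg : (Q - X ^ n).degree < (n : WithBot ℕ) := by
    by_cases h0 : n = 0
    · have h1 : Q = 1 := Polynomial.eq_one_of_monic_natDegree_zero hQ (hn ▸ h0)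
      rw [h0, h1]
      simp
    · have h2 : (Q - X ^ n).degree < Q.degree := by
        apply Polynomial.degree_sub_lt
        · rw [Polynomial.degree_X_pow, Polynomial.degree_eq_natDegree hQ.ne_zero]
        · exact hQ.ne_zero
        · rw [hQ.leadingCoeff, Polynomial.leadingCoeff_X_pow]
      rwa [Polynomial.degree_eq_natDegree hQ.ne_zero] at h2
  obtain ⟨V, hV, P₁, hP₁, hd⟩ := exists_polynomial_lift η n (Q - X ^ n) hdeg
  refine ⟨V, hV, X ^ n + P₁, ?_, Polynomial.monic_X_pow_add hd⟩
  rw [Polynomial.map_add, Polynomial.map_pow, Polynomial.map_X, hP₁]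
  ring

end Groth.Agent.H8.FinEtSpread
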