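import Mathlib
import Groth.Agent.H8.FinEtSpreadLift

/-!
# Monic separable lifts over an affine neighbourhood of a generic point
-/

set_option autoImplicit false

universe u

open AlgebraicGeometry CategoryTheory Polynomial TopologicalSpace

namespace Groth.Agent.H8.FinEtSpread

variable {Y : Scheme.{u}} (η : Y)

/-- on an affine open, the kernel of the evaluation at a point specializing to every point is the
nilradical -/
theorem ker_evaluation_eq_nilradical {V : Y.Opens} (hV : IsAffineOpen V) (hηV : η ∈ V)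
    (hgen : ∀ y : Y, η ⤳ y) :
    RingHom.ker (Y.evaluation V η hηV).hom = nilradical Γ(Y, V) := by
  ext s
  rw [RingHom.mem_ker, mem_nilradical]
  change Y.evaluation V η hηV s = 0 ↔ _
  rw [Scheme.evaluation_eq_zero_iff_notMem_basicOpen]
  constructor
  · intro h
    have hbot : Y.basicOpen s = ⊥ := by
      by_contra hne
      obtain ⟨y, hy⟩ : ∃ y, y ∈ Y.basicOpen s := by
        by_contra hcon
        push Not at hcon
        exact hne (Opens.ext (Set.eq_empty_of_forall_notMem hcon))
      exact h ((hgen y).mem_open (Y.basicOpen s).isOpen hy)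
    have h2 : PrimeSpectrum.basicOpen s = ⊥ := by
      rw [← hV.fromSpec_preimage_basicOpen, hbot]
      rfl
    exact (PrimeSpectrum.basicOpen_eq_bot_iff s).mp h2
  · intro hnil hmem
    have h2 : PrimeSpectrum.basicOpen s = ⊥ := (PrimeSpectrum.basicOpen_eq_bot_iff s).mpr hnil
    have h3 : hV.fromSpec ⁻¹ᵁ Y.basicOpen s = ⊥ := by
      rw [hV.fromSpec_preimage_basicOpen, h2]
      rfl
    have h4 : η ∈ Set.range hV.fromSpec := by
      rw [hV.range_fromSpec]; exact hηV
    obtain ⟨z, hz⟩ := h4
    have : z ∈ hV.fromSpec ⁻¹ᵁ Y.basicOpen s := by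
      change hV.fromSpec z ∈ Y.basicOpen s
      rw [hz]; exact hmem
    rw [h3] at this
    exact this

/-- a monic separable polynomial over the residue field of a generic point lifts to a monic
separable polynomial over the sections on an affine open neighbourhood. -/
theorem exists_monic_separable_lift (hgen : ∀ y : Y, η ⤳ y) (g₀ : (Y.residueField η)[X])
    (hm : g₀.Monic) (hs : g₀.Separable) :
    ∃ (V : Y.Opens) (_ : IsAffineOpen V) (hηV : η ∈ V) (G : Γ(Y, V)[X]),
      G.Monic ∧ G.Separable ∧ G.map (Y.evaluation V η hηV).hom = g₀ := by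
  obtain ⟨V₁, hV₁, G₁, hG₁, hG₁m⟩ := exists_monic_lift η g₀ hm
  obtain ⟨u, v, huv⟩ := hs
  obtain ⟨V₂, hV₂, U₂, hU₂, -⟩ := exists_polynomial_lift η (u.natDegree + 1) u
    (by exact_mod_cast Polynomial.degree_le_natDegree.trans_lt (by exact_mod_cast Nat.lt_succ_self _))
  obtain ⟨V₃, hV₃, W₃, hW₃, -⟩ := exists_polynomial_lift η (v.natDegree + 1) v
    (by exact_mod_cast Polynomial.degree_le_natDegree.trans_lt (by exact_mod_cast Nat.lt_succ_self _))
  obtain ⟨_, ⟨V, hV, rfl⟩, hηV, hle⟩ := Y.isBasis_affineOpens.exists_subset_of_mem_open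
    (show η ∈ ((V₁ ⊓ V₂ ⊓ V₃ : Y.Opens) : Set Y) from ⟨⟨hV₁, hV₂⟩, hV₃⟩) (V₁ ⊓ V₂ ⊓ V₃).isOpen
  have hle₁ : V ≤ V₁ := fun y hy => (hle hy).1.1
  have hle₂ : V ≤ V₂ := fun y hy => (hle hy).1.2
  have hle₃ : V ≤ V₃ := fun y hy => (hle hy).2
  set ev := (Y.evaluation V η hηV).hom with hev
  set G := G₁.map (Y.presheaf.map (homOfLE hle₁).op).hom with hG
  set U := U₂.map (Y.presheaf.map (homOfLE hle₂).op).hom with hU
  set W := W₃.map (Y.presheaf.map (homOfLE hle₃).op).hom with hW
  have hGev : G.map ev = g₀ := by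
    rw [hG, Polynomial.map_map, hev, evaluation_res_hom η hle₁ hηV, hG₁]
  have hUev : U.map ev = u := by
    rw [hU, Polynomial.map_map, hev, evaluation_res_hom η hle₂ hηV, hU₂]
  have hWev : W.map ev = v := by
    rw [hW, Polynomial.map_map, hev, evaluation_res_hom η hle₃ hηV, hW₃]
  have hGm : G.Monic := hG₁m.map _
  refine ⟨V, hV, hηV, G, hGm, ?_, hGev⟩
  -- separability
  set E := U * G + W * derivative G - 1 with hE
  have hE0 : E.map ev = 0 := by
    rw [hE, Polynomial.map_sub, Polynomial.map_add, Polynomial.map_mul, Polynomial.map_mul,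
      Polynomial.map_one, ← Polynomial.derivative_map, hGev, hUev, hWev, huv, sub_self]
  have hker := ker_evaluation_eq_nilradical η hV hηV hgen
  have hnil : IsNilpotent E := by
    rw [Polynomial.isNilpotent_iff]
    intro i
    have h1 : ev (E.coeff i) = 0 := by
      rw [← Polynomial.coeff_map, hE0, Polynomial.coeff_zero]
    have h2 : E.coeff i ∈ RingHom.ker ev := h1
    rw [hev, hker] at h2
    exact h2
  have hunit : IsUnit (U * G + W * derivative G) := by
    have : U * G + W * derivative G = E + 1 := by rw [hE]; ring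
    rw [this]
    exact hnil.isUnit_add_one
  obtain ⟨c, hc⟩ := hunit.exists_left_inv
  exact ⟨c * U, c * W, by linear_combination hc⟩

end Groth.Agent.H8.FinEtSpread
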