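import Mathlib
import Groth.Agent.H8.FinEtSpreadAlg
import Groth.Agent.H8.FinEtSpreadSep

/-!
# The finite étale cover `Spec Γ(Y, V)[X]/(G) ⟶ V` attached to a monic separable polynomial
-/

set_option autoImplicit false
set_option linter.style.haveILetI false

universe u

open AlgebraicGeometry CategoryTheory Polynomial TopologicalSpace Opposite

namespace Groth.Agent.H8.FinEtSpread

variable {Y : Scheme.{u}} {V : Y.Opens} (hV : IsAffineOpen V) (G : Γ(Y, V)[X])

/-- the scheme `Spec Γ(Y, V)[X]/(G)` -/
noncomputable abbrev coverScheme : Scheme.{u} := Spec (CommRingCat.of (AdjoinRoot G))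

/-- `Spec Γ(Y, V)[X]/(G) ⟶ Spec Γ(Y, V)` -/
noncomputable abbrev coverHom : coverScheme G ⟶ Spec Γ(Y, V) :=
  Spec.map (CommRingCat.ofHom (algebraMap Γ(Y, V) (AdjoinRoot G)))

/-- `Spec Γ(Y, V)[X]/(G) ⟶ V` -/
noncomputable def coverToOpen : coverScheme G ⟶ (V : Scheme.{u}) := coverHom G ≫ hV.isoSpec.inv

/-- `Spec Γ(Y, V)[X]/(G) ⟶ Y` -/
noncomputable def coverToBase : coverScheme G ⟶ Y := coverHom G ≫ hV.fromSpec

theorem coverToOpen_ι : coverToOpen hV G ≫ V.ι = coverToBase hV G := by
  rw [coverToOpen, coverToBase, Category.assoc, IsAffineOpen.isoSpec_inv_ι]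

variable {G}

theorem isFinite_coverToOpen (hm : G.Monic) : IsFinite (coverToOpen hV G) := by
  haveI : IsFinite (coverHom G) := by
    rw [IsFinite.SpecMap_iff]
    have := hm.finite_adjoinRoot
    exact RingHom.finite_algebraMap.mpr this
  rw [coverToOpen]
  infer_instance

theorem etale_coverToOpen (hm : G.Monic) (hs : G.Separable) : Etale (coverToOpen hV G) := by
  haveI : Etale (coverHom G) := by
    rw [HasRingHomProperty.Spec_iff (P := @Etale)]
    have := etale_adjoinRoot_of_separable G hm hs
    exact RingHom.etale_algebraMap.mpr this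
  rw [coverToOpen]
  infer_instance

theorem surjective_coverToOpen (hm : G.Monic) [Nontrivial (AdjoinRoot G)] :
    Surjective (coverToOpen hV G) := by
  haveI : Surjective (coverHom G) := by
    have := hm.free_adjoinRoot
    have hff : Module.FaithfullyFlat Γ(Y, V) (AdjoinRoot G) := inferInstance
    have := (flat_and_surjective_SpecMap_iff
      (CommRingCat.ofHom (algebraMap Γ(Y, V) (AdjoinRoot G)))).mpr
      (RingHom.faithfullyFlat_algebraMap_iff.mpr hff)
    exact this.2
  rw [coverToOpen]
  infer_instance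

theorem irreducibleSpace_coverScheme {K : Type*} [Field K] (φ : Γ(Y, V) →+* K)
    (hker : RingHom.ker φ = nilradical Γ(Y, V)) (hm : G.Monic) (hirr : Irreducible (G.map φ)) :
    IrreducibleSpace (coverScheme G) := by
  have hp := isPrime_nilradical_adjoinRoot hker hm hirr
  have h1 : IsIrreducible (PrimeSpectrum.zeroLocus ((⊥ : Ideal (AdjoinRoot G)) : Set (AdjoinRoot G))) := by
    rw [PrimeSpectrum.isIrreducible_zeroLocus_iff]
    exact hp
  have h2 : PrimeSpectrum.zeroLocus ((⊥ : Ideal (AdjoinRoot G)) : Set (AdjoinRoot G)) = Set.univ := by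
    simp
  rw [h2] at h1
  have : IrreducibleSpace (PrimeSpectrum (AdjoinRoot G)) :=
    { toPreirreducibleSpace := ⟨h1.isPreirreducible⟩
      toNonempty := h1.nonempty.to_subtype.map Subtype.val |>.elim fun x => ⟨x⟩ }
  exact this

end Groth.Agent.H8.FinEtSpread
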