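import Mathlib
import Groth.Agent.H8.FinEtSpreadCover

/-!
# Residue fields of the cover `Spec Γ(Y, V)[X]/(G)`
-/

set_option autoImplicit false
set_option linter.style.haveILetI false

universe u

open AlgebraicGeometry CategoryTheory Polynomial TopologicalSpace Opposite

namespace Groth.Agent.H8.FinEtSpread

variable {Y : Scheme.{u}} {V : Y.Opens} (hV : IsAffineOpen V) (G : Γ(Y, V)[X])

/-- evaluation of elements of `AdjoinRoot G` at a point of the cover -/
noncomputable def evSpec (η' : coverScheme G) :
    AdjoinRoot G →+* (coverScheme G).residueField η' :=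
  ((Scheme.ΓSpecIso (CommRingCat.of (AdjoinRoot G))).inv ≫ (coverScheme G).Γevaluation η').hom

theorem coverToBase_mem (η' : coverScheme G) : coverToBase hV G η' ∈ V := by
  have : coverToBase hV G η' ∈ Set.range hV.fromSpec := ⟨coverHom G η', rfl⟩
  rw [hV.range_fromSpec] at this
  exact this

theorem evaluation_map {X : Scheme.{u}} (x : X) {U U' : X.Opens} (i : op U ⟶ op U') (h : x ∈ U')
    (s : Γ(X, U)) :
    X.evaluation U' x h (X.presheaf.map i s) = X.evaluation U x (i.unop.le h) s := by
  change (X.residue x) (X.presheaf.germ U' x h (X.presheaf.map i s)) =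
    (X.residue x) (X.presheaf.germ U x (i.unop.le h) s)
  rw [TopCat.Presheaf.germ_res_apply']

theorem residueFieldMap_evaluation (η' : coverScheme G) (s : Γ(Y, V)) :
    (coverToBase hV G).residueFieldMap η'
      (Y.evaluation V (coverToBase hV G η') (coverToBase_mem hV G η') s) =
    evSpec G η' (algebraMap Γ(Y, V) (AdjoinRoot G) s) := by
  rw [Scheme.evaluation_naturality_apply]
  have happ : (coverToBase hV G).app V s =
      (coverHom G).app (hV.fromSpec ⁻¹ᵁ V) (hV.fromSpec.app V s) := by
    rw [← CommRingCat.comp_apply, ← Scheme.Hom.comp_app]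
    rfl
  rw [happ, hV.fromSpec_app_self, CommRingCat.comp_apply]
  have hnat := (coverHom G).naturality (eqToHom hV.fromSpec_preimage_self).op
  have hnat' := congr($(hnat) ((Scheme.ΓSpecIso Γ(Y, V)).inv s))
  simp only [CommRingCat.comp_apply] at hnat'
  rw [hnat']
  refine (evaluation_map (X := coverScheme G) η' _ _ _).trans ?_
  have h4 := Scheme.ΓSpecIso_inv_naturality (CommRingCat.ofHom (algebraMap Γ(Y, V) (AdjoinRoot G)))
  have h5 := congr($(h4) s)
  simp only [CommRingCat.comp_apply] at h5
  have h6 : (coverHom G).appTop ((Scheme.ΓSpecIso Γ(Y, V)).inv s) =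
      (Scheme.ΓSpecIso (CommRingCat.of (AdjoinRoot G))).inv
        (algebraMap Γ(Y, V) (AdjoinRoot G) s) := h5.symm
  exact congrArg ((coverScheme G).Γevaluation η') h6

theorem evSpec_eq (η' : PrimeSpectrum (AdjoinRoot G)) :
    evSpec G η' = (CommRingCat.ofHom (algebraMap (AdjoinRoot G) η'.asIdeal.ResidueField) ≫
      (Scheme.Spec.residueFieldIso (CommRingCat.of (AdjoinRoot G)) η').inv).hom := by
  exact congrArg CommRingCat.Hom.hom
    (Scheme.Spec.algebraMap_residueFieldIso_inv (CommRingCat.of (AdjoinRoot G)) η').symm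

/-- every element of a residue field of the cover is a quotient of values of elements of
`AdjoinRoot G` -/
theorem exists_evSpec_div (η' : PrimeSpectrum (AdjoinRoot G))
    (c : (coverScheme G).residueField η') :
    ∃ a s : AdjoinRoot G, evSpec G η' s ≠ 0 ∧ c * evSpec G η' s = evSpec G η' a := by
  set iso := Scheme.Spec.residueFieldIso (CommRingCat.of (AdjoinRoot G)) η' with hiso
  obtain ⟨x, y, hy, hxy⟩ := IsFractionRing.div_surjective (A := AdjoinRoot G ⧸ η'.asIdeal)
    (iso.hom c)
  obtain ⟨a, rfl⟩ := Ideal.Quotient.mk_surjective x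
  obtain ⟨s, rfl⟩ := Ideal.Quotient.mk_surjective y
  have hev : ∀ b : AdjoinRoot G, evSpec G η' b =
      iso.inv (algebraMap (AdjoinRoot G ⧸ η'.asIdeal) η'.asIdeal.ResidueField
        (Ideal.Quotient.mk _ b)) := by
    intro b
    rw [evSpec_eq]
    rfl
  have hs0 : algebraMap (AdjoinRoot G ⧸ η'.asIdeal) η'.asIdeal.ResidueField
      (Ideal.Quotient.mk _ s) ≠ 0 := by
    intro h0
    have := (IsFractionRing.injective (AdjoinRoot G ⧸ η'.asIdeal) η'.asIdeal.ResidueField)
      (h0.trans (map_zero _).symm)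
    exact nonZeroDivisors.ne_zero hy this
  refine ⟨a, s, ?_, ?_⟩
  · rw [hev]
    intro h0
    apply hs0
    have := congrArg iso.hom h0
    rw [← CommRingCat.comp_apply, Iso.inv_hom_id, CommRingCat.id_apply, map_zero] at this
    exact this
  · rw [hev, hev]
    have h1 : c = iso.inv (iso.hom c) := by
      rw [← CommRingCat.comp_apply, Iso.hom_inv_id, CommRingCat.id_apply]
    rw [h1, ← hxy, ← map_mul]
    congr 1
    rw [div_mul_cancel₀ _ hs0]

section lift

variable (η' : PrimeSpectrum (AdjoinRoot G))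

/-- the evaluation `Γ(Y, V) → κ(y)` at the image `y` of a point `η'` of the cover -/
noncomputable abbrev evBase : Γ(Y, V) →+* Y.residueField (coverToBase hV G η') :=
  (Y.evaluation V (coverToBase hV G η') (coverToBase_mem hV G η')).hom

theorem residueFieldMap_comp_evBase :
    ((coverToBase hV G).residueFieldMap η').hom.comp (evBase hV G η') =
      (evSpec G η').comp (algebraMap Γ(Y, V) (AdjoinRoot G)) :=
  RingHom.ext fun s => residueFieldMap_evaluation hV G η' s

theorem eval₂_evSpec_root :
    (G.map (evBase hV G η')).eval₂ ((coverToBase hV G).residueFieldMap η').hom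
      (evSpec G η' (AdjoinRoot.root G)) = 0 := by
  rw [Polynomial.eval₂_map, residueFieldMap_comp_evBase, ← Polynomial.hom_eval₂,
    AdjoinRoot.algebraMap_eq, AdjoinRoot.eval₂_root, map_zero]

/-- the comparison `κ(y)[X]/(G mod y) → κ(η')` -/
noncomputable def liftHom : AdjoinRoot (G.map (evBase hV G η')) →+*
    (coverScheme G).residueField η' :=
  AdjoinRoot.lift ((coverToBase hV G).residueFieldMap η').hom (evSpec G η' (AdjoinRoot.root G))
    (eval₂_evSpec_root hV G η')

theorem liftHom_of (c : Y.residueField (coverToBase hV G η')) :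
    liftHom hV G η' (AdjoinRoot.of _ c) = (coverToBase hV G).residueFieldMap η' c := by
  rw [liftHom, AdjoinRoot.lift_of]

theorem evSpec_mem_range (b : AdjoinRoot G) : evSpec G η' b ∈ Set.range (liftHom hV G η') := by
  obtain ⟨P, rfl⟩ := AdjoinRoot.mk_surjective b
  refine ⟨AdjoinRoot.mk _ (P.map (evBase hV G η')), ?_⟩
  rw [liftHom, AdjoinRoot.lift_mk, Polynomial.eval₂_map, residueFieldMap_comp_evBase,
    ← Polynomial.hom_eval₂]
  congr 1
  rw [← Polynomial.aeval_def, AdjoinRoot.aeval_eq]

theorem bijective_liftHom (hirr : Irreducible (G.map (evBase hV G η'))) :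
    Function.Bijective (liftHom hV G η') := by
  haveI : Fact (Irreducible (G.map (evBase hV G η'))) := ⟨hirr⟩
  refine ⟨(liftHom hV G η').injective, fun c => ?_⟩
  obtain ⟨a, s, hs, hcs⟩ := exists_evSpec_div G η' c
  obtain ⟨a₁, ha₁⟩ := evSpec_mem_range hV G η' a
  obtain ⟨s₁, hs₁⟩ := evSpec_mem_range hV G η' s
  refine ⟨a₁ / s₁, ?_⟩
  rw [map_div₀, ha₁, hs₁, ← hcs, mul_div_cancel_right₀ _ hs]

end lift

end Groth.Agent.H8.FinEtSpread
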