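import Mathlib
import Groth.Agent.H25.GeomIrrComp
import Groth.Agent.H25.FTResidue

/-!
# Irreducible components of a base change to a finite Galois extension are geometrically irreducible
-/

set_option autoImplicit false
set_option linter.style.haveILetI false

universe u

open AlgebraicGeometry CategoryTheory CategoryTheory.Limits TopologicalSpace

attribute [local instance] Curv2.resAlgebra

namespace Groth.Agent.H8.GeomIrrCompBC

/-- a space embedded onto an irreducible subset is irreducible -/
theorem irreducibleSpace_of_isEmbedding {A B : Type*} [TopologicalSpace A] [TopologicalSpace B]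
    {j : A → B} (hj : Topology.IsEmbedding j) (h : IsIrreducible (Set.range j)) :
    IrreducibleSpace A := by
  have h1 : IrreducibleSpace (Set.range j) := isIrreducible_iff_irreducibleSpace.mp h
  exact hj.toHomeomorph.irreducibleSpace_iff.mpr h1

/-- the image of an irreducible component under a homeomorphism is an irreducible component -/
theorem image_mem_irreducibleComponents {A B : Type*} [TopologicalSpace A] [TopologicalSpace B]
    (e : A ≃ₜ B) {Z : Set A} (hZ : Z ∈ irreducibleComponents A) :
    e '' Z ∈ irreducibleComponents B := by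
  refine ⟨hZ.1.image e e.continuous.continuousOn, ?_⟩
  intro T hT hle
  have h1 : IsIrreducible (e.symm '' T) := hT.image e.symm e.symm.continuous.continuousOn
  have h2 : Z ≤ e.symm '' T := by
    intro z hz
    exact ⟨e z, hle ⟨z, hz, rfl⟩, e.symm_apply_apply z⟩
  have h3 := hZ.2 h1 h2
  rintro t ht
  have hz : e.symm t ∈ Z := h3 ⟨t, ht, rfl⟩
  exact ⟨e.symm t, hz, e.apply_symm_apply t⟩

variable {k L : Type u} [Field k] [Field L] [Algebra k L] [FiniteDimensional k L] [IsGalois k L]
  {X₀ W : Scheme.{u}} [X₀.Over (Spec (CommRingCat.of k))]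
  [LocallyOfFiniteType (X₀ ↘ Spec (CommRingCat.of k))]

/-- **Components of a Galois base change are geometrically irreducible.** -/
theorem geometricallyIrreducible_component (p : W ⟶ X₀) (w : W ⟶ Spec (CommRingCat.of L))
    (hpb : IsPullback p w (X₀ ↘ Spec (CommRingCat.of k))
      (Spec.map (CommRingCat.ofHom (algebraMap k L))))
    (hemb : ∀ x : X₀, closure {x} ∈ irreducibleComponents X₀ →
      Nonempty (separableClosure k (X₀.residueField x) →ₐ[k] L))
    (Z : Set W) (hZ : Z ∈ irreducibleComponents W) :
    GeometricallyIrreducible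
      ((Scheme.IdealSheafData.vanishingIdeal
        (⟨Z, isClosed_of_mem_irreducibleComponents Z hZ⟩ : Closeds W)).subschemeι ≫ w) := by
  set ι := (Scheme.IdealSheafData.vanishingIdeal
    (⟨Z, isClosed_of_mem_irreducibleComponents Z hZ⟩ : Closeds W)).subschemeι with hι
  have hrange : Set.range ι = Z := by
    rw [hι, Scheme.IdealSheafData.range_subschemeι,
      Scheme.IdealSheafData.coe_support_vanishingIdeal]
    rfl
  -- identify `W` with the standard base change
  let e : W ≅ Curv2.bc k X₀ L := hpb.isoPullback
  have he_snd : e.hom ≫ Curv2.bcSnd k X₀ L = w := hpb.isoPullback_hom_snd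
  let Z' : Set (Curv2.bc k X₀ L) := e.hom '' Z
  have hZ' : Z' ∈ irreducibleComponents (Curv2.bc k X₀ L) :=
    image_mem_irreducibleComponents (Scheme.homeoOfIso e) hZ
  have hfin : ∀ x : X₀, closure {x} ∈ irreducibleComponents X₀ →
      FiniteDimensional k (separableClosure k (X₀.residueField x)) ∧
        Nonempty (separableClosure k (X₀.residueField x) →ₐ[k] L) := fun x hx =>
    ⟨Groth.Agent.H25.FTResidue.finiteDimensional_separableClosure k X₀ x, hemb x hx⟩
  rw [geometricallyIrreducible_iff, geometrically_iff_of_commRing_of_isClosedUnderIsomorphisms]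
  intro K' _ _
  have hirr := Groth.Agent.H25.GeomIrrComp.isIrreducible_preimage_of_galois k X₀ L Z' hZ' hfin K'
  set s := Spec.map (CommRingCat.ofHom (algebraMap L K')) with hs
  let i := ι ≫ e.hom
  have hiw : ι ≫ w = i ≫ Curv2.bcSnd k X₀ L := by
    rw [Category.assoc, he_snd]
  let iso1 : pullback (ι ≫ w) s ≅ pullback (i ≫ Curv2.bcSnd k X₀ L) s := pullback.congrHom hiw rfl
  let iso2 : pullback i (pullback.fst (Curv2.bcSnd k X₀ L) s) ≅
      pullback (i ≫ Curv2.bcSnd k X₀ L) s := pullbackRightPullbackFstIso _ s i
  let j := pullback.snd i (pullback.fst (Curv2.bcSnd k X₀ L) s)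
  have hri : Set.range i = Z' := by
    change Set.range (ι ≫ e.hom) = _
    rw [Scheme.Hom.comp_base, TopCat.coe_comp, Set.range_comp, hrange]
  have hrj : Set.range j = (pullback.fst (Curv2.bcSnd k X₀ L) s) ⁻¹' Z' := by
    rw [← hri]
    exact Scheme.Pullback.range_snd i (pullback.fst (Curv2.bcSnd k X₀ L) s)
  have hirrj : IsIrreducible (Set.range j) := by
    rw [hrj]
    exact hirr
  haveI : IrreducibleSpace ↥(pullback i (pullback.fst (Curv2.bcSnd k X₀ L) s)) :=
    irreducibleSpace_of_isEmbedding j.isClosedEmbedding.isEmbedding hirrj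
  exact (Scheme.homeoOfIso (iso1 ≪≫ iso2.symm)).irreducibleSpace_iff.mpr inferInstance

end Groth.Agent.H8.GeomIrrCompBC
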