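import Mathlib

/-!
# Identifying a field with `k[X]/(minpoly)` of a primitive element
-/

set_option autoImplicit false

open Polynomial IntermediateField

namespace Groth.Agent.H8.GeomIrrCover

/-- if `L₀ = k(α)` and `L` is (compatibly) a bijective image of `k[X]/(minpoly k α)`, then
`L₀ ≃ₐ[k] L`. -/
theorem nonempty_algEquiv_of_bijective_lift {k L₀ L : Type*} [Field k] [Field L₀] [Field L]
    [Algebra k L₀] [Algebra k L] (α : L₀) (hint : IsIntegral k α) (hα : k⟮α⟯ = ⊤)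
    (g₁ : k[X]) (hg : g₁ = minpoly k α) (Φ : AdjoinRoot g₁ →+* L) (hΦ : Function.Bijective Φ)
    (hΦof : ∀ c, Φ (AdjoinRoot.of g₁ c) = algebraMap k L c) : Nonempty (L₀ ≃ₐ[k] L) := by
  subst hg
  let e₁ : AdjoinRoot (minpoly k α) ≃ₐ[k] k⟮α⟯ := adjoinRootEquivAdjoin k hint
  let e₂ : k⟮α⟯ ≃ₐ[k] (⊤ : IntermediateField k L₀) := IntermediateField.equivOfEq hα
  let e₃ : (⊤ : IntermediateField k L₀) ≃ₐ[k] L₀ := IntermediateField.topEquiv
  let Φ' : AdjoinRoot (minpoly k α) →ₐ[k] L :=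
    { Φ with
      commutes' := fun c => by
        change Φ (algebraMap k (AdjoinRoot (minpoly k α)) c) = _
        rw [AdjoinRoot.algebraMap_eq, hΦof] }
  let e₄ : AdjoinRoot (minpoly k α) ≃ₐ[k] L := AlgEquiv.ofBijective Φ' hΦ
  exact ⟨((e₁.trans e₂).trans e₃).symm.trans e₄⟩

end Groth.Agent.H8.GeomIrrCover
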