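import Mathlib
import Groth.Agent.H8.FinEtSpreadRes
import Groth.Agent.H8.GeomIrrCompBC
import Groth.Agent.H8.GeomIrrCoverAlg

/-!
# Making the components of the generic fibre geometrically irreducible by a finite étale cover
-/

set_option autoImplicit false
set_option linter.style.haveILetI false

universe u

open AlgebraicGeometry CategoryTheory CategoryTheory.Limits Polynomial TopologicalSpace Opposite
open IntermediateField

attribute [local instance] Curv2.resAlgebra

namespace Groth.Agent.H8.GeomIrrCover

open Groth.Agent.H8.FinEtSpread

/-- the fibre as a scheme over the residue field -/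
@[reducible] noncomputable def fiberOver {X Y : Scheme.{u}} (f : X ⟶ Y) (η : Y) :
    (f.fiber η).Over (Spec (CommRingCat.of (Y.residueField η))) :=
  ⟨f.fiberToSpecResidueField η⟩

attribute [local instance] fiberOver

variable {X Y : Scheme.{u}} (f : X ⟶ Y) [LocallyOfFiniteType f]

instance locallyOfFiniteType_fiberOver (η : Y) :
    LocallyOfFiniteType ((f.fiber η) ↘ Spec (CommRingCat.of (Y.residueField η))) := by
  change LocallyOfFiniteType (pullback.snd f (Y.fromSpecResidueField η))
  infer_instance

set_option backward.isDefEq.respectTransparency false in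
/-- core step: if `κ(η')` is a finite Galois extension of `κ(q η')` containing the separable
closures of `κ(q η')` in the residue fields of the generic points of the fibre, the components of
the fibre of the base change at `η'` are geometrically irreducible. -/
theorem geometricallyIrreducible_of_galois {Y' : Scheme.{u}} (q : Y' ⟶ Y) (η' : Y')
    (hfd : letI : Algebra (Y.residueField (q η')) (Y'.residueField η') :=
      (q.residueFieldMap η').hom.toAlgebra
      FiniteDimensional (Y.residueField (q η')) (Y'.residueField η'))
    (hgal : letI : Algebra (Y.residueField (q η')) (Y'.residueField η') :=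
      (q.residueFieldMap η').hom.toAlgebra
      IsGalois (Y.residueField (q η')) (Y'.residueField η'))
    (hemb : letI : Algebra (Y.residueField (q η')) (Y'.residueField η') :=
      (q.residueFieldMap η').hom.toAlgebra
      ∀ x : f.fiber (q η'), closure {x} ∈ irreducibleComponents (f.fiber (q η')) →
        Nonempty (separableClosure (Y.residueField (q η')) ((f.fiber (q η')).residueField x)
          →ₐ[Y.residueField (q η')] (Y'.residueField η')))
    (Z : Set ↑((pullback.snd f q).fiber η'))
    (hZ : Z ∈ irreducibleComponents ↑((pullback.snd f q).fiber η')) :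
    GeometricallyIrreducible ((Scheme.IdealSheafData.vanishingIdeal
      (⟨Z, isClosed_of_mem_irreducibleComponents Z hZ⟩ : Closeds _)).subschemeι ≫
        (pullback.snd f q).fiberToSpecResidueField η') := by
  letI : Algebra (Y.residueField (q η')) (Y'.residueField η') :=
      (q.residueFieldMap η').hom.toAlgebra
  haveI := hfd
  haveI := hgal
  have hpb := isPullback_fiberToSpecResidueField_of_isPullback
    (IsPullback.of_hasPullback f q) η'
  exact Groth.Agent.H8.GeomIrrCompBC.geometricallyIrreducible_component
    (k := Y.residueField (q η')) (L := Y'.residueField η') (X₀ := f.fiber (q η'))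
    _ _ hpb hemb Z hZ

/-- transporting the Galois data from `L₀ = κ(η)(α)` to the residue field of the cover -/
theorem geometricallyIrreducible_cover (η : Y)
    (L₀ : Type u) [Field L₀] [Algebra (Y.residueField η) L₀]
    [FiniteDimensional (Y.residueField η) L₀] [IsGalois (Y.residueField η) L₀]
    (hemb : ∀ x : f.fiber η, closure {x} ∈ irreducibleComponents (f.fiber η) →
      Nonempty (separableClosure (Y.residueField η) ((f.fiber η).residueField x)
        →ₐ[Y.residueField η] L₀))
    (α : L₀) (hα : (Y.residueField η)⟮α⟯ = ⊤)
    {V : Y.Opens} (hV : IsAffineOpen V) (hηV : η ∈ V) (G : Γ(Y, V)[X])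
    (hG : G.map (Y.evaluation V η hηV).hom = minpoly (Y.residueField η) α)
    (η' : PrimeSpectrum (AdjoinRoot G)) (h : coverToBase hV G η' = η)
    (Z : Set ↑((pullback.snd f (coverToBase hV G)).fiber η'))
    (hZ : Z ∈ irreducibleComponents ↑((pullback.snd f (coverToBase hV G)).fiber η')) :
    GeometricallyIrreducible ((Scheme.IdealSheafData.vanishingIdeal
      (⟨Z, isClosed_of_mem_irreducibleComponents Z hZ⟩ : Closeds _)).subschemeι ≫
        (pullback.snd f (coverToBase hV G)).fiberToSpecResidueField η') := by
  subst h
  have hint : IsIntegral (Y.residueField (coverToBase hV G η')) α := Algebra.IsIntegral.isIntegral α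
  have hG' : G.map (evBase hV G η') = minpoly (Y.residueField (coverToBase hV G η')) α := hG
  have hirr : Irreducible (G.map (evBase hV G η')) := by
    rw [hG']
    exact minpoly.irreducible hint
  letI : Algebra (Y.residueField (coverToBase hV G η')) ((coverScheme G).residueField η') :=
    ((coverToBase hV G).residueFieldMap η').hom.toAlgebra
  obtain ⟨e⟩ := nonempty_algEquiv_of_bijective_lift α hint hα _ hG' (liftHom hV G η')
    (bijective_liftHom hV G η' hirr) (fun c => liftHom_of hV G η' c)
  refine geometricallyIrreducible_of_galois f (coverToBase hV G) η' ?_ ?_ ?_ Z hZ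
  · exact e.toLinearEquiv.finiteDimensional
  · exact IsGalois.of_algEquiv e
  · intro x hx
    obtain ⟨j⟩ := hemb x hx
    exact ⟨(e : L₀ →ₐ[Y.residueField (coverToBase hV G η')] _).comp j⟩

/-- the generic points of the irreducible components of a Noetherian space are finite in number -/
theorem finite_genericPoints (T : Type*) [TopologicalSpace T] [NoetherianSpace T] [T0Space T] :
    Finite {x : T // closure {x} ∈ irreducibleComponents T} := by
  have hfin := NoetherianSpace.finite_irreducibleComponents (α := T)
  haveI : Finite (irreducibleComponents T) := hfin.to_subtype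
  refine Finite.of_injective (fun x : {x : T // closure {x} ∈ irreducibleComponents T} =>
    (⟨closure {x.1}, x.2⟩ : irreducibleComponents T)) ?_
  intro x y hxy
  have h1 : closure {x.1} = closure {y.1} := congrArg Subtype.val hxy
  have h2 : x.1 ⤳ y.1 := by
    rw [specializes_iff_mem_closure, h1]
    exact subset_closure rfl
  have h3 : y.1 ⤳ x.1 := by
    rw [specializes_iff_mem_closure, ← h1]
    exact subset_closure rfl
  exact Subtype.ext (h2.antisymm h3).eq

/-- **Finite étale covers making the components of the generic fibre geometrically irreducible.** -/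
theorem exists_cover [QuasiCompact f] (η : Y) (hgen : ∀ y : Y, η ⤳ y) :
    ∃ (V : Y.Opens) (hV : IsAffineOpen V) (G : Γ(Y, V)[X]) (_ : IrreducibleSpace (coverScheme G)),
      η ∈ V ∧ G.Monic ∧ G.Separable ∧ Nontrivial (AdjoinRoot G) ∧
      ∀ (Z : Set ↑((pullback.snd f (coverToBase hV G)).fiber (genericPoint (coverScheme G))))
        (hZ : Z ∈ irreducibleComponents
          ↑((pullback.snd f (coverToBase hV G)).fiber (genericPoint (coverScheme G)))),
        GeometricallyIrreducible ((Scheme.IdealSheafData.vanishingIdeal
          (⟨Z, isClosed_of_mem_irreducibleComponents Z hZ⟩ : Closeds _)).subschemeι ≫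
            (pullback.snd f (coverToBase hV G)).fiberToSpecResidueField
              (genericPoint (coverScheme G))) := by
  haveI : QuasiCompact (f.fiberToSpecResidueField η) :=
    inferInstanceAs (QuasiCompact (pullback.snd f (Y.fromSpecResidueField η)))
  haveI : LocallyOfFiniteType (f.fiberToSpecResidueField η) :=
    inferInstanceAs (LocallyOfFiniteType (pullback.snd f (Y.fromSpecResidueField η)))
  haveI : IsLocallyNoetherian (f.fiber η) :=
    LocallyOfFiniteType.isLocallyNoetherian (f.fiberToSpecResidueField η)
  haveI : CompactSpace (f.fiber η) := by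
    have := (quasiCompact_iff_compactSpace (f := f.fiberToSpecResidueField η)).mp inferInstance
    exact this
  haveI : IsNoetherian (f.fiber η) := {}
  haveI := finite_genericPoints (f.fiber η)
  let E : {x : f.fiber η // closure {x} ∈ irreducibleComponents (f.fiber η)} → Type u :=
    fun x => separableClosure (Y.residueField η) ((f.fiber η).residueField x.1)
  haveI : ∀ i, FiniteDimensional (Y.residueField η) (E i) := fun i =>
    Groth.Agent.H25.FTResidue.finiteDimensional_separableClosure (Y.residueField η) (f.fiber η) i.1
  haveI : ∀ i, Algebra.IsSeparable (Y.residueField η) (E i) := fun i =>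
    inferInstanceAs (Algebra.IsSeparable (Y.residueField η)
      (separableClosure (Y.residueField η) ((f.fiber η).residueField i.1)))
  obtain ⟨L₀, _, _, hfd, hgal, hemb⟩ :=
    Groth.Agent.H25.GeomIrrComp.exists_finite_galois (k := Y.residueField η) E
  obtain ⟨α, hα⟩ := Field.exists_primitive_element (Y.residueField η) L₀
  have hint : IsIntegral (Y.residueField η) α := Algebra.IsIntegral.isIntegral α
  obtain ⟨V, hV, hηV, G, hGm, hGs, hG⟩ := exists_monic_separable_lift η hgen
    (minpoly (Y.residueField η) α) (minpoly.monic hint)
    (Algebra.IsSeparable.isSeparable (Y.residueField η) α)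
  have hirr : Irreducible (G.map (Y.evaluation V η hηV).hom) := by
    rw [hG]
    exact minpoly.irreducible hint
  have hker := ker_evaluation_eq_nilradical η hV hηV hgen
  haveI hnt : Nontrivial (AdjoinRoot G) := nontrivial_adjoinRoot hirr
  haveI hY' : IrreducibleSpace (coverScheme G) := irreducibleSpace_coverScheme _ hker hGm hirr
  refine ⟨V, hV, G, hY', hηV, hGm, hGs, hnt, ?_⟩
  -- the generic point of the cover lies over `η`
  have hη' : coverToBase hV G (genericPoint (coverScheme G)) = η := by
    have hsurj := surjective_coverToOpen hV hGm
    obtain ⟨z, hz⟩ := hsurj.surj ⟨η, hηV⟩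
    have hz' : coverToBase hV G z = η := by
      rw [← coverToOpen_ι, Scheme.Hom.comp_apply, hz]
      rfl
    have h1 : genericPoint (coverScheme G) ⤳ z := genericPoint_specializes z
    have h2 : coverToBase hV G (genericPoint (coverScheme G)) ⤳ η := by
      rw [← hz']
      exact h1.map (coverToBase hV G).continuous
    exact (h2.antisymm (hgen _)).eq
  intro Z hZ
  exact geometricallyIrreducible_cover f η L₀ (fun x hx => hemb ⟨x, hx⟩) α hα hV hηV G hG
    (genericPoint (coverScheme G)) hη' Z hZ

end Groth.Agent.H8.GeomIrrCover
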