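import Groth.Agent.H8.RegStalk
import Groth.Prelude.Def_MeroSh

/-!
# Sections of the sheaf of meromorphic functions `Mero.kmod X` (helper8)
-/

set_option autoImplicit false
universe u
open CategoryTheory CategoryTheory.Limits AlgebraicGeometry TopologicalSpace Opposite

namespace Groth.Agent.H8

open Curv2 Mero

variable {X : Scheme.{u}}

/-- A fraction `a / s` of `K_{X,x}` vanishes iff its numerator does. -/
lemma kstalk_mk_eq_zero_iff {x : X} (a : X.presheaf.stalk x) (s : regStalk X x) :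
    (LocalizedModule.mk a s : KStalk X x) = 0 ↔ a = 0 := by
  constructor
  · intro h
    rw [← LocalizedModule.zero_mk s, LocalizedModule.mk_eq] at h
    obtain ⟨u, hu⟩ := h
    simp only [smul_zero, Submonoid.smul_def, smul_eq_mul] at hu
    have h1 : (u : X.presheaf.stalk x) * (s : X.presheaf.stalk x) ∈
        nonZeroDivisors (X.presheaf.stalk x) :=
      mul_mem (regStalk_le_nonZeroDivisors x u.2) (regStalk_le_nonZeroDivisors x s.2)
    rw [← mul_assoc] at hu
    exact (mem_nonZeroDivisors_iff_left.mp h1) a hu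
  · rintro rfl
    exact LocalizedModule.zero_mk s

lemma kstalk_mk_one_pow {x : X} (r : X.presheaf.stalk x) (n : ℕ) :
    (LocalizedModule.mk r 1 : KStalk X x) ^ n = LocalizedModule.mk (r ^ n) 1 := by
  induction n with
  | zero => rw [pow_zero, pow_zero]; exact (mk_self_eq_one 1).symm
  | succ k ih =>
    rw [pow_succ, ih, pow_succ]
    exact LocalizedModule.mk_mul_mk.trans (mk_congr rfl (by rw [one_mul]))

lemma kmod_ext {U : X.Opens} {f g : Γ(kmod X, U)} (h : ∀ x : U, f.1 x = g.1 x) : f = g :=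
  Subtype.ext (funext h)

@[simp] lemma kmod_zero_apply {U : X.Opens} (x : U) : (0 : Γ(kmod X, U)).1 x = 0 := rfl

@[simp] lemma kmod_map_apply {U V : X.Opens} (i : V ⟶ U) (f : Γ(kmod X, U)) (x : V) :
    ((kmod X).presheaf.map i.op f).1 x = f.1 ⟨x.1, i.le x.2⟩ := rfl

@[simp] lemma kmod_pow_apply {U : X.Opens} (f : Γ(kmod X, U)) (n : ℕ) (x : U) :
    (f ^ n).1 x = f.1 x ^ n := by
  induction n with
  | zero => rfl
  | succ n ih => rw [pow_succ, pow_succ, kmod_mul_apply, ih]

/-- `toK` is injective. -/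
theorem toK_injective (U : X.Opens) : Function.Injective (toK X U) := by
  rw [injective_iff_map_eq_zero]
  intro a ha
  apply TopCat.Presheaf.section_ext X.sheaf
  intro x hx
  have h1 : (toK X U a).1 ⟨x, hx⟩ = 0 := by rw [ha]; rfl
  rw [toK_apply, kstalk_mk_eq_zero_iff] at h1
  change X.presheaf.germ U x hx a = X.presheaf.germ U x hx 0
  rw [map_zero]
  exact h1

set_option backward.isDefEq.respectTransparency false in
/-- Local form of the vanishing lemma: if `f = a / b` on an affine open `V ≤ U` and `f` vanishes on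
`U_h`, then a power of `h` kills `f` on `V`. -/
lemma exists_pow_mul_eq_zero_on_affine {U V : X.Opens} (hV : IsAffineOpen V) (hVU : V ≤ U)
    (h : Γ(X, U)) (f : Γ(kmod X, U)) (a : Γ(X, V)) (b : regSub X V)
    (hab : ∀ z : V, f.1 ⟨z.1, hVU z.2⟩ = LocalizedModule.mk (X.presheaf.germ V z.1 z.2 a) (regGerm z b))
    (hf : ∀ z : U, z.1 ∈ X.basicOpen h → f.1 z = 0) :
    ∃ n : ℕ, ∀ z : V, ((toK X U h) ^ n * f).1 ⟨z.1, hVU z.2⟩ = 0 := by
  let h' : Γ(X, V) := X.presheaf.map (homOfLE hVU).op h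
  have h1 : X.presheaf.map (homOfLE (X.basicOpen_le h')).op a = 0 := by
    apply TopCat.Presheaf.section_ext X.sheaf
    intro z hz
    change X.presheaf.germ (X.basicOpen h') z hz (X.presheaf.map (homOfLE (X.basicOpen_le h')).op a) =
      X.presheaf.germ (X.basicOpen h') z hz 0
    rw [map_zero, TopCat.Presheaf.germ_res_apply]
    have hzV : z ∈ V := X.basicOpen_le h' hz
    have hzh : z ∈ X.basicOpen h := by
      have : X.basicOpen h' = V ⊓ X.basicOpen h := X.basicOpen_res h (homOfLE hVU).op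
      rw [this] at hz
      exact hz.2
    have h2 := hf ⟨z, hVU hzV⟩ hzh
    rw [hab ⟨z, hzV⟩, kstalk_mk_eq_zero_iff] at h2
    exact h2
  obtain ⟨n, hn⟩ := exists_pow_mul_eq_zero_of_res_basicOpen_eq_zero_of_isAffineOpen X hV a h' h1
  refine ⟨n, fun z => ?_⟩
  rw [kmod_mul_apply, kmod_pow_apply, toK_apply, hab z]
  rw [kstalk_mk_one_pow]
  have h4 : X.presheaf.germ U z.1 (hVU z.2) h ^ n * X.presheaf.germ V z.1 z.2 a = 0 := by
    have := congrArg (X.presheaf.germ V z.1 z.2) hn
    rw [map_mul, map_pow, map_zero, TopCat.Presheaf.germ_res_apply] at this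
    exact this
  refine LocalizedModule.mk_mul_mk.trans ?_
  rw [h4]
  exact LocalizedModule.zero_mk _

set_option backward.isDefEq.respectTransparency false in
/-- Around every point of `U` a section of `K_X` is a fraction over an affine open. -/
lemma exists_affine_frac {U : X.Opens} (f : Γ(kmod X, U)) (x : U) :
    ∃ (V : X.Opens) (_ : IsAffineOpen V) (hVU : V ≤ U) (_ : x.1 ∈ V) (a : Γ(X, V)) (b : regSub X V),
      ∀ z : V, f.1 ⟨z.1, hVU z.2⟩ =
        LocalizedModule.mk (X.presheaf.germ V z.1 z.2 a) (regGerm z b) := by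
  obtain ⟨V₀, hxV₀, i, a₀, b₀, hab⟩ := f.2 x
  obtain ⟨_, ⟨V, hV, rfl⟩, hxV, hVV₀'⟩ :=
    X.isBasis_affineOpens.exists_subset_of_mem_open hxV₀ V₀.2
  have hV : IsAffineOpen V := hV
  have hVV₀ : V ≤ V₀ := hVV₀'
  refine ⟨V, hV, hVV₀.trans i.le, hxV, X.presheaf.map (homOfLE hVV₀).op a₀,
    ⟨X.presheaf.map (homOfLE hVV₀).op b₀.1, regSub_res _ b₀.2⟩, fun z => ?_⟩
  have := hab ⟨z.1, hVV₀ z.2⟩
  dsimp only at this
  refine this.trans (mk_congr ?_ ?_)
  · exact (TopCat.Presheaf.germ_res_apply X.presheaf (homOfLE hVV₀) z.1 z.2 a₀).symm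
  · exact (TopCat.Presheaf.germ_res_apply X.presheaf (homOfLE hVV₀) z.1 z.2 b₀.1).symm

set_option backward.isDefEq.respectTransparency false in
/-- **Vanishing lemma** for meromorphic functions on a quasi-compact open: if `f ∈ K_X(U)` vanishes
on `U_h` then `h ^ n * f = 0` for some `n`. -/
theorem exists_pow_mul_eq_zero_of_isCompact {U : X.Opens} (hU : IsCompact (U : Set X))
    (h : Γ(X, U)) (f : Γ(kmod X, U)) (hf : ∀ z : U, z.1 ∈ X.basicOpen h → f.1 z = 0) :
    ∃ n : ℕ, (toK X U h) ^ n * f = 0 := by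
  let p : Set X → Prop := fun s => ∃ n : ℕ, ∀ z : U, z.1 ∈ s → ((toK X U h) ^ n * f).1 z = 0
  have hp : p (U : Set X) := by
    refine hU.induction_on (p := p) ⟨0, fun z hz => hz.elim⟩ ?_ ?_ ?_
    · rintro s t hst ⟨n, hn⟩
      exact ⟨n, fun z hz => hn z (hst hz)⟩
    · rintro s t ⟨n, hn⟩ ⟨m, hm⟩
      refine ⟨n + m, fun z hz => ?_⟩
      rcases hz with hz | hz
      · have := hn z hz
        rw [pow_add, mul_comm ((toK X U h) ^ n), mul_assoc, kmod_mul_apply, this, mul_zero]
      · have := hm z hz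
        rw [pow_add, mul_assoc, kmod_mul_apply, this, mul_zero]
    · intro x hx
      obtain ⟨V, hV, hVU, hxV, a, b, hab⟩ := exists_affine_frac f ⟨x, hx⟩
      obtain ⟨n, hn⟩ := exists_pow_mul_eq_zero_on_affine hV hVU h f a b hab hf
      refine ⟨V, mem_nhdsWithin_of_mem_nhds (V.2.mem_nhds hxV), n, fun z hz => hn ⟨z.1, hz⟩⟩
  obtain ⟨n, hn⟩ := hp
  exact ⟨n, kmod_ext fun z => hn z z.2⟩

end Groth.Agent.H8
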