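import Groth.Agent.H8.RelCartierAlg
import Groth.Agent.H8.BlowUpBasic
import Mathlib.AlgebraicGeometry.Morphisms.Flat

/-!
# Relative effective Cartier divisors (helper8)

Flatness over the base of the closed subscheme of an ideal sheaf, affine-locally, and the sum and
difference of relative effective Cartier divisors.
-/

set_option autoImplicit false
universe u
open CategoryTheory CategoryTheory.Limits AlgebraicGeometry TopologicalSpace Opposite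

namespace Groth.Agent.H8

variable {X S : Scheme.{u}} (f : X ⟶ S) (𝓘 : X.IdealSheafData)

lemma comp_appLE_subschemeι (U : S.Opens) (W : X.affineOpens) (e : W.1 ≤ f ⁻¹ᵁ U)
    (e' : 𝓘.subschemeι ⁻¹ᵁ W.1 ≤ (𝓘.subschemeι ≫ f) ⁻¹ᵁ U) :
    (𝓘.subschemeι ≫ f).appLE U (𝓘.subschemeι ⁻¹ᵁ W.1) e' =
      f.appLE U W.1 e ≫ 𝓘.subschemeι.app W.1 := by
  rw [Scheme.Hom.app_eq_appLE, Scheme.Hom.appLE_comp_appLE]

set_option backward.isDefEq.respectTransparency false in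
/-- If the closed subscheme of `𝓘` is flat over `S`, the quotients `Γ(X, W)/𝓘(W)` are flat over
`Γ(S, U)` for affine opens `W ≤ f⁻¹ U`. -/
lemma flat_quot_of_flat_subscheme [Flat (𝓘.subschemeι ≫ f)] (U : S.affineOpens)
    (W : X.affineOpens) (e : W.1 ≤ f ⁻¹ᵁ U.1) :
    letI := (f.appLE U.1 W.1 e).hom.toAlgebra
    Module.Flat Γ(S, U.1) (Γ(X, W.1) ⧸ 𝓘.ideal W) := by
  letI := (f.appLE U.1 W.1 e).hom.toAlgebra
  have hV : IsAffineOpen (𝓘.subschemeι ⁻¹ᵁ W.1) := W.2.preimage 𝓘.subschemeι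
  have e' : 𝓘.subschemeι ⁻¹ᵁ W.1 ≤ (𝓘.subschemeι ≫ f) ⁻¹ᵁ U.1 := by
    intro z hz
    exact e hz
  have H := Flat.flat_appLE (𝓘.subschemeι ≫ f) U.2 hV e'
  rw [comp_appLE_subschemeι f 𝓘 U.1 W e e'] at H
  have H' : ((𝓘.subschemeι.app W.1).hom.comp (algebraMap Γ(S, U.1) Γ(X, W.1))).Flat := H
  rw [flat_comp_iff_of_surjective _ (𝓘.subschemeι_app_surjective W), 𝓘.ker_subschemeι_app W] at H'
  exact H'

set_option backward.isDefEq.respectTransparency false in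
/-- Conversely, flatness of the closed subscheme can be checked on one affine chart around every
point of the support. -/
lemma flat_subscheme_of_flat_quot
    (H : ∀ x ∈ 𝓘.support, ∃ (U : S.affineOpens) (W : X.affineOpens) (_ : x ∈ W.1)
      (e : W.1 ≤ f ⁻¹ᵁ U.1),
      letI := (f.appLE U.1 W.1 e).hom.toAlgebra
      Module.Flat Γ(S, U.1) (Γ(X, W.1) ⧸ 𝓘.ideal W)) : Flat (𝓘.subschemeι ≫ f) := by
  rw [HasRingHomProperty.iff_exists_appLE (P := @Flat)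
    (RingHom.Flat.stableUnderComposition.stableUnderCompositionWithLocalizationAway
      RingHom.Flat.holdsForLocalizationAway).left]
  intro z
  have hz : 𝓘.subschemeι z ∈ 𝓘.support := by
    rw [← SetLike.mem_coe, ← 𝓘.range_subschemeι]
    exact ⟨z, rfl⟩
  obtain ⟨U, W, hxW, e, hfl⟩ := H _ hz
  have hV : IsAffineOpen (𝓘.subschemeι ⁻¹ᵁ W.1) := W.2.preimage 𝓘.subschemeι
  have e' : 𝓘.subschemeι ⁻¹ᵁ W.1 ≤ (𝓘.subschemeι ≫ f) ⁻¹ᵁ U.1 := by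
    intro z hz
    exact e hz
  refine ⟨U, ⟨_, hV⟩, hxW, e', ?_⟩
  letI := (f.appLE U.1 W.1 e).hom.toAlgebra
  change ((𝓘.subschemeι ≫ f).appLE U.1 (𝓘.subschemeι ⁻¹ᵁ W.1) e').hom.Flat
  rw [comp_appLE_subschemeι f 𝓘 U.1 W e e']
  change ((𝓘.subschemeι.app W.1).hom.comp (algebraMap Γ(S, U.1) Γ(X, W.1))).Flat
  rw [flat_comp_iff_of_surjective _ (𝓘.subschemeι_app_surjective W), 𝓘.ker_subschemeι_app W]
  exact hfl

/-- A common principal chart for two effective Cartier ideal sheaves inside a given open. -/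
lemma exists_common_chart {𝓘 𝓙 : X.IdealSheafData} (hI : BlowUp.IsEffCartierIdeal 𝓘)
    (hJ : BlowUp.IsEffCartierIdeal 𝓙) (x : X) (O : X.Opens) (hxO : x ∈ O) :
    ∃ W : X.affineOpens, x ∈ W.1 ∧ W.1 ≤ O ∧
      (∃ a : Γ(X, W.1), a ∈ nonZeroDivisors Γ(X, W.1) ∧ 𝓘.ideal W = Ideal.span {a}) ∧
      (∃ b : Γ(X, W.1), b ∈ nonZeroDivisors Γ(X, W.1) ∧ 𝓙.ideal W = Ideal.span {b}) := by
  obtain ⟨U₁, hxU₁, a, ha, haI⟩ := hI x
  obtain ⟨U₂, hxU₂, b, hb, hbJ⟩ := hJ x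
  obtain ⟨t, htle, hxt⟩ := U₁.2.exists_basicOpen_le (V := U₁.1 ⊓ O) ⟨x, ⟨hxU₁, hxO⟩⟩ hxU₁
  obtain ⟨a', ha', haI'⟩ := isEffCartier_basicOpen 𝓘 U₁ a ha haI t
  obtain ⟨r, r', e, hxr⟩ := exists_basicOpen_le_affine_inter (X.affineBasicOpen t).2 U₂.2 x
    ⟨hxt, hxU₂⟩
  obtain ⟨a'', ha'', haI''⟩ := isEffCartier_basicOpen 𝓘 (X.affineBasicOpen t) a' ha' haI' r
  have hJ' : ∃ g' : Γ(X, (X.affineBasicOpen r).1),
      g' ∈ nonZeroDivisors Γ(X, (X.affineBasicOpen r).1) ∧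
      𝓙.ideal (X.affineBasicOpen r) = Ideal.span {g'} := by
    have e' : X.affineBasicOpen r = X.affineBasicOpen r' := Subtype.ext e
    rw [e']
    exact isEffCartier_basicOpen 𝓙 U₂ b hb hbJ r'
  refine ⟨X.affineBasicOpen r, hxr, ?_, ⟨a'', ha'', haI''⟩, hJ'⟩
  exact (X.basicOpen_le r).trans (htle.trans inf_le_right)

/-- **Sum of relative effective Cartier divisors.** -/
theorem flat_subscheme_mul {𝓘₁ 𝓘₂ : X.IdealSheafData} (h₁ : BlowUp.IsEffCartierIdeal 𝓘₁)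
    (h₂ : BlowUp.IsEffCartierIdeal 𝓘₂) [Flat (𝓘₁.subschemeι ≫ f)] [Flat (𝓘₂.subschemeι ≫ f)] :
    Flat ((𝓘₁ * 𝓘₂).subschemeι ≫ f) := by
  apply flat_subscheme_of_flat_quot
  intro x _
  obtain ⟨U, hU, hxU, -⟩ := Opens.isBasis_iff_nbhd.mp S.isBasis_affineOpens
    (Opens.mem_top (f x))
  obtain ⟨W, hxW, hWU, ⟨a, ha, haI⟩, ⟨b, hb, hbI⟩⟩ := exists_common_chart h₁ h₂ x (f ⁻¹ᵁ U) hxU
  refine ⟨⟨U, hU⟩, W, hxW, hWU, ?_⟩
  letI := (f.appLE U W.1 hWU).hom.toAlgebra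
  have e : (𝓘₁ * 𝓘₂).ideal W = Ideal.span {a * b} := by
    change 𝓘₁.ideal _ * 𝓘₂.ideal _ = _
    rw [haI, hbI, Ideal.span_singleton_mul_span_singleton]
  rw [e]
  have F₁ := flat_quot_of_flat_subscheme f 𝓘₁ ⟨U, hU⟩ W hWU
  have F₂ := flat_quot_of_flat_subscheme f 𝓘₂ ⟨U, hU⟩ W hWU
  rw [haI] at F₁
  rw [hbI] at F₂
  exact flat_quot_mul a b hb

/-- **Difference of relative effective Cartier divisors.** -/
theorem flat_subscheme_of_mul {𝓘₁ 𝓘₂ 𝓘 : X.IdealSheafData} (h₁ : BlowUp.IsEffCartierIdeal 𝓘₁)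
    (h : BlowUp.IsEffCartierIdeal 𝓘) (hsum : 𝓘₁ * 𝓘 = 𝓘₂)
    [Flat (𝓘₁.subschemeι ≫ f)] [Flat (𝓘₂.subschemeι ≫ f)] :
    Flat (𝓘.subschemeι ≫ f) := by
  apply flat_subscheme_of_flat_quot
  intro x _
  obtain ⟨U, hU, hxU, -⟩ := Opens.isBasis_iff_nbhd.mp S.isBasis_affineOpens
    (Opens.mem_top (f x))
  obtain ⟨W, hxW, hWU, ⟨a, ha, haI⟩, ⟨b, hb, hbI⟩⟩ := exists_common_chart h h₁ x (f ⁻¹ᵁ U) hxU
  refine ⟨⟨U, hU⟩, W, hxW, hWU, ?_⟩
  letI := (f.appLE U W.1 hWU).hom.toAlgebra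
  have e : 𝓘₂.ideal W = Ideal.span {a * b} := by
    rw [← hsum]
    change 𝓘₁.ideal _ * 𝓘.ideal _ = _
    rw [haI, hbI, Ideal.span_singleton_mul_span_singleton, mul_comm]
  have F₁ := flat_quot_of_flat_subscheme f 𝓘₁ ⟨U, hU⟩ W hWU
  have F₂ := flat_quot_of_flat_subscheme f 𝓘₂ ⟨U, hU⟩ W hWU
  rw [hbI] at F₁
  rw [e] at F₂
  rw [haI]
  exact flat_quot_of_mul a b hb

end Groth.Agent.H8
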