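import Groth.Agent.H8.StalkSubscheme
import Groth.Agent.H14.RegularCM
import Groth.Agent.H14.SkLift
import Mathlib.RingTheory.KrullDimension.NonZeroDivisors

/-!
# Local rings of an effective Cartier divisor (helper8)

`O_{D,d} = O_{X,x}/(h)` with `h` a nonzerodivisor in the maximal ideal; dimension and depth drop.
-/

set_option autoImplicit false
universe u
open CategoryTheory CategoryTheory.Limits AlgebraicGeometry TopologicalSpace Opposite

namespace Groth.Agent.H8

variable {X : Scheme.{u}} (𝓘 : X.IdealSheafData)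

set_option backward.isDefEq.respectTransparency false in
/-- The kernel of `O_{X,x} → O_{D,d}` is generated by a nonzerodivisor of the maximal ideal. -/
theorem exists_gen_ker_stalkMap (hI : BlowUp.IsEffCartierIdeal 𝓘) (d : 𝓘.subscheme) :
    ∃ h : X.presheaf.stalk (𝓘.subschemeι d), h ∈ nonZeroDivisors (X.presheaf.stalk (𝓘.subschemeι d)) ∧
      h ∈ IsLocalRing.maximalIdeal (X.presheaf.stalk (𝓘.subschemeι d)) ∧
      RingHom.ker (𝓘.subschemeι.stalkMap d).hom = Ideal.span {h} := by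
  set x := 𝓘.subschemeι d with hxdef
  obtain ⟨W, hxW, a, ha, haI⟩ := hI x
  letI : Algebra Γ(X, W.1) (X.presheaf.stalk x) := X.presheaf.algebra_section_stalk ⟨x, hxW⟩
  haveI locX : IsLocalization.AtPrime (X.presheaf.stalk x) (W.2.primeIdealOf ⟨x, hxW⟩).asIdeal :=
    W.2.isLocalization_stalk ⟨x, hxW⟩
  set h : X.presheaf.stalk x := algebraMap Γ(X, W.1) (X.presheaf.stalk x) a with hh
  have hreg : h ∈ nonZeroDivisors (X.presheaf.stalk x) :=
    IsLocalization.map_nonZeroDivisors_le (W.2.primeIdealOf ⟨x, hxW⟩).asIdeal.primeCompl _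
      (Submonoid.mem_map_of_mem _ ha)
  have hker : RingHom.ker (𝓘.subschemeι.stalkMap d).hom = Ideal.span {h} := by
    rw [ker_stalkMap_subschemeι 𝓘 W d hxW, haI, Ideal.map_span, Set.image_singleton]
    rfl
  refine ⟨h, hreg, ?_, hker⟩
  rw [IsLocalRing.mem_maximalIdeal, mem_nonunits_iff]
  intro hu
  have h1 : h ∈ RingHom.ker (𝓘.subschemeι.stalkMap d).hom := by
    rw [hker]; exact Ideal.mem_span_singleton_self h
  rw [RingHom.mem_ker] at h1
  have h2 := hu.map (𝓘.subschemeι.stalkMap d).hom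
  rw [h1] at h2
  exact not_isUnit_zero h2

/-- `O_{D,d} ≅ O_{X,x}/(h)`. -/
theorem exists_ringEquiv_stalk_quot (hI : BlowUp.IsEffCartierIdeal 𝓘) (d : 𝓘.subscheme) :
    ∃ h : X.presheaf.stalk (𝓘.subschemeι d), h ∈ nonZeroDivisors (X.presheaf.stalk (𝓘.subschemeι d)) ∧
      h ∈ IsLocalRing.maximalIdeal (X.presheaf.stalk (𝓘.subschemeι d)) ∧
      Nonempty ((X.presheaf.stalk (𝓘.subschemeι d) ⧸ Ideal.span {h}) ≃+*
        𝓘.subscheme.presheaf.stalk d) := by
  obtain ⟨h, hreg, hm, hker⟩ := exists_gen_ker_stalkMap 𝓘 hI d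
  refine ⟨h, hreg, hm, ⟨?_⟩⟩
  exact (Ideal.quotEquivOfEq hker.symm).trans
    (RingHom.quotientKerEquivOfSurjective (𝓘.subschemeι.stalkMap_surjective d))

/-- arithmetic behind `(S_k) ⇒ (S_{k-1})` -/
lemma min_pred_le_of_le (k : ℕ) (b c : WithBot ℕ∞) (δB δC : ℕ∞)
    (h1 : min (k : WithBot ℕ∞) b ≤ ((δB : ℕ∞) : WithBot ℕ∞)) (h2 : δB ≤ δC + 1) (h3 : c + 1 ≤ b) :
    min ((k - 1 : ℕ) : WithBot ℕ∞) c ≤ ((δC : ℕ∞) : WithBot ℕ∞) := by
  induction c using WithBot.recBotCoe with
  | bot => simp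
  | coe c =>
    induction b using WithBot.recBotCoe with
    | bot => simp at h3
    | coe b =>
      have h3' : c + 1 ≤ b := by exact_mod_cast h3
      have h1' : min (k : ℕ∞) b ≤ δB := by exact_mod_cast h1
      have goal : min ((k - 1 : ℕ) : ℕ∞) c ≤ δC := by
        induction δC using ENat.recTopCoe with
        | top => exact le_top
        | coe n =>
          by_contra hcon
          rw [not_le, lt_min_iff] at hcon
          obtain ⟨hk, hc⟩ := hcon
          have hk' : n < k - 1 := by exact_mod_cast hk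
          have hk2 : ((n + 2 : ℕ) : ℕ∞) ≤ (k : ℕ∞) := by exact_mod_cast (by omega : n + 2 ≤ k)
          have hc2 : ((n + 2 : ℕ) : ℕ∞) ≤ b := by
            have : ((n + 1 : ℕ) : ℕ∞) ≤ c := by
              have := Order.add_one_le_of_lt hc
              exact_mod_cast this
            calc ((n + 2 : ℕ) : ℕ∞) = ((n + 1 : ℕ) : ℕ∞) + 1 := by push_cast; ring
              _ ≤ c + 1 := by gcongr
              _ ≤ b := h3'
          have : ((n + 2 : ℕ) : ℕ∞) ≤ ((n : ℕ) : ℕ∞) + 1 :=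
            (le_min hk2 hc2).trans (h1'.trans h2)
          have : n + 2 ≤ n + 1 := by exact_mod_cast this
          omega
      have e1 : ((k - 1 : ℕ) : WithBot ℕ∞) = (((k - 1 : ℕ) : ℕ∞) : WithBot ℕ∞) := rfl
      rw [e1, ← WithBot.coe_min, WithBot.coe_le_coe]
      exact goal

/-- **Serre's condition drops by one on an effective Cartier divisor.** -/
theorem min_pred_le_depth_stalk [IsLocallyNoetherian X] (k : ℕ)
    (hI : BlowUp.IsEffCartierIdeal 𝓘) (d : 𝓘.subscheme)
    (hX : min (k : WithBot ℕ∞) (ringKrullDim (X.presheaf.stalk (𝓘.subschemeι d))) ≤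
      ((LocCoh.depth (X.presheaf.stalk (𝓘.subschemeι d)) (X.presheaf.stalk (𝓘.subschemeι d)) : ℕ∞) :
        WithBot ℕ∞)) :
    min ((k - 1 : ℕ) : WithBot ℕ∞) (ringKrullDim (𝓘.subscheme.presheaf.stalk d)) ≤
      ((LocCoh.depth (𝓘.subscheme.presheaf.stalk d) (𝓘.subscheme.presheaf.stalk d) : ℕ∞) :
        WithBot ℕ∞) := by
  obtain ⟨h, hreg, hm, ⟨e⟩⟩ := exists_ringEquiv_stalk_quot 𝓘 hI d
  haveI : IsLocalRing (X.presheaf.stalk (𝓘.subschemeι d) ⧸ Ideal.span {h}) := e.symm.isLocalRing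
  have hregS : IsSMulRegular (X.presheaf.stalk (𝓘.subschemeι d)) h :=
    Groth.Agent.H14.isSMulRegular_of_mem_nonZeroDivisors hreg
  have hdepth1 := Groth.Agent.H14.idealDepth_le_quotient_add_one
    (X.presheaf.stalk (𝓘.subschemeι d)) h hm hregS
  have hdepth2 := Groth.Agent.H14.idealDepth_maximalIdeal_le_of_ringEquiv e
  have hdim1 := ringKrullDim_quotient_succ_le_of_nonZeroDivisor hreg
  have hdim2 := ringKrullDim_eq_of_ringEquiv e
  unfold LocCoh.depth at hX ⊢
  rw [← hdepth2, ← hdim2]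
  exact min_pred_le_of_le k _ _ _ _ hX hdepth1 hdim1

end Groth.Agent.H8
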