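import Groth.Agent.H8.MeroDense
import Groth.Agent.S8869

/-!
# Extension of pseudo-functions to meromorphic functions (helper8)

* `LocFinWeakAss X`: locally, affine opens contain finitely many weakly associated points of `O_X`
  (holds for locally Noetherian schemes and for reduced schemes with locally finitely many irreducible
  components).
* `exists_kmod_extension`: a function on a schematically dense open `V ≤ U` extends to a section of
  `K_X` over `U`.
-/

set_option autoImplicit false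
universe u
open CategoryTheory CategoryTheory.Limits AlgebraicGeometry TopologicalSpace Opposite

namespace Groth.Agent.H8

open Curv2 Mero

variable {X : Scheme.{u}}

/-- Every point has a neighbourhood all of whose affine opens contain finitely many weakly associated
points of `O_X`. -/
def LocFinWeakAss (X : Scheme.{u}) : Prop :=
  ∀ x : X, ∃ W₀ : X.Opens, x ∈ W₀ ∧ ∀ W : X.Opens, IsAffineOpen W → W ≤ W₀ →
    {y : X | y ∈ W ∧ IsWeakAssPoint (Coh.structureModule X) y}.Finite

theorem locFinWeakAss_of_isLocallyNoetherian (X : Scheme.{u}) [IsLocallyNoetherian X] :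
    LocFinWeakAss X := fun x => ⟨⊤, trivial, fun W hW _ => by
  have hN : IsNoetherianRing Γ(X, W) := IsLocallyNoetherian.component_noetherian ⟨W, hW⟩
  exact finite_weakAssPoints_structure hW⟩

theorem locFinWeakAss_of_isReduced (X : Scheme.{u}) [IsReduced X]
    (hX : ∀ x : X, ∃ W : X.Opens, x ∈ W ∧
      {Z : Set X | Z ∈ irreducibleComponents X ∧ (Z ∩ (W : Set X)).Nonempty}.Finite) :
    LocFinWeakAss X := by
  intro x
  obtain ⟨W₀, hxW₀, hfin⟩ := hX x
  refine ⟨W₀, hxW₀, fun W _ hWW₀ => ?_⟩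
  let g : X → Set X := fun y => closure {y}
  have hg : Function.Injective g := by
    intro y z hyz
    exact (inseparable_iff_closure_eq.mpr hyz).eq
  refine Set.Finite.of_finite_image (f := g) (hfin.subset ?_) hg.injOn
  rintro _ ⟨y, ⟨hyW, hy⟩, rfl⟩
  have hgen := (Groth.Agent.S8869.result X y).mp hy
  refine ⟨⟨isIrreducible_singleton.closure, ?_⟩, ⟨y, subset_closure rfl, hWW₀ hyW⟩⟩
  intro Z hZ hyZ
  have hZc : IsIrreducible (closure Z) := hZ.closure
  obtain ⟨η, hη⟩ := QuasiSober.sober hZc isClosed_closure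
  have h1 : η ⤳ y := by
    rw [specializes_iff_mem_closure, hη.def]
    exact subset_closure (hyZ (subset_closure rfl))
  have h4 : η = y := hgen η h1
  calc Z ⊆ closure Z := subset_closure
    _ = closure {η} := hη.def.symm
    _ = g y := by rw [h4]

set_option backward.isDefEq.respectTransparency false in
/-- **Extension of pseudo-functions**: a function on a schematically dense open `V ≤ U` extends to a
meromorphic function on `U`. -/
theorem exists_kmod_extension (hX : LocFinWeakAss X) {U V : X.Opens} (hVU : V ≤ U)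
    (hV : SchemDense U V) (g : Γ(X, V)) :
    ∃ s : Γ(kmod X, U), (kmod X).presheaf.map (homOfLE hVU).op s = toK X V g := by
  -- local solutions
  have hloc : ∀ x : U, ∃ (W : X.Opens) (_ : x.1 ∈ W) (_ : W ≤ U) (s : Γ(kmod X, W)),
      ∀ z : W, ∀ hzV : z.1 ∈ V, s.1 z = LocalizedModule.mk (X.presheaf.germ V z.1 hzV g) 1 := by
    intro x
    obtain ⟨W₀, hxW₀, hfin⟩ := hX x.1
    obtain ⟨_, ⟨W, hW, rfl⟩, hxW, hWsub⟩ :=
      X.isBasis_affineOpens.exists_subset_of_mem_open (show x.1 ∈ U ⊓ W₀ from ⟨x.2, hxW₀⟩)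
        (U ⊓ W₀).2
    have hW : IsAffineOpen W := hW
    have hWUW₀ : W ≤ U ⊓ W₀ := hWsub
    have hWU : W ≤ U := hWUW₀.trans inf_le_left
    obtain ⟨s, hs⟩ := exists_local_extension hV hW hWU (hfin W hW (hWUW₀.trans inf_le_right)) g
    exact ⟨W, hxW, hWU, s, hs⟩
  choose W hxW hWU s hs using hloc
  -- the local solutions agree on overlaps
  have hagree : ∀ (x y : U) (z : X) (hzx : z ∈ W x) (hzy : z ∈ W y),
      (s x).1 ⟨z, hzx⟩ = (s y).1 ⟨z, hzy⟩ := by
    intro x y z hzx hzy
    let σ : Γ(kmod X, W x ⊓ W y) := (kmod X).presheaf.map (homOfLE inf_le_left).op (s x)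
    let τ : Γ(kmod X, W x ⊓ W y) := (kmod X).presheaf.map (homOfLE inf_le_right).op (s y)
    have hστ : σ = τ := by
      refine kmod_eq_of_dense (schemDense_mono hV (inf_le_left.trans (hWU x))) σ τ ?_
      intro z' hz'
      change (s x).1 ⟨z'.1, z'.2.1⟩ = (s y).1 ⟨z'.1, z'.2.2⟩
      rw [hs x ⟨z'.1, z'.2.1⟩ hz', hs y ⟨z'.1, z'.2.2⟩ hz']
    have h1 := congrArg (fun r : Γ(kmod X, W x ⊓ W y) => r.1 ⟨z, ⟨hzx, hzy⟩⟩) hστ
    exact h1
  -- glue
  let t : ∀ x : U, KStalk X x.1 := fun x => (s x).1 ⟨x.1, hxW x⟩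
  have ht : (kLoc X).pred t := by
    intro x
    obtain ⟨V', hxV', i, a, b, hab⟩ := (s x).2 ⟨x.1, hxW x⟩
    refine ⟨V', hxV', homOfLE (i.le.trans (hWU x)), a, b, fun y => ?_⟩
    have h2 := hab y
    dsimp only at h2
    rw [← h2]
    exact hagree ⟨y.1, _⟩ x y.1 (hxW _) (i.le y.2)
  refine ⟨⟨t, ht⟩, kmod_ext fun z => ?_⟩
  change (s ⟨z.1, hVU z.2⟩).1 ⟨z.1, _⟩ = _
  rw [hs ⟨z.1, hVU z.2⟩ ⟨z.1, hxW _⟩ z.2, toK_apply]

end Groth.Agent.H8
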