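import Groth.Agent.H8.MeroGen
import Groth.Agent.H8.MeroExtend

/-!
# Existence of regular meromorphic sections of invertible modules (helper8)

`hasRegularMero_of_locFinWeakAss`: if locally affine opens contain finitely many weakly associated
points of `O_X` and these points have no proper generizations, every invertible module has a regular
meromorphic section.
-/

set_option autoImplicit false
universe u
open CategoryTheory CategoryTheory.Limits AlgebraicGeometry TopologicalSpace Opposite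

namespace Groth.Agent.H8

open Curv2 Mero

variable {X : Scheme.{u}}

set_option backward.isDefEq.respectTransparency false in
/-- An open containing the weakly associated points of `U` is schematically dense in `U`. -/
theorem schemDense_of_weakAss_subset {U V : X.Opens}
    (h : ∀ y : X, y ∈ U → IsWeakAssPoint (Coh.structureModule X) y → y ∈ V) : SchemDense U V := by
  intro W hW
  rw [injective_iff_map_eq_zero]
  intro t ht
  by_contra hne
  obtain ⟨y, hyW, hy, hgy⟩ := exists_isWeakAssPoint_germ_ne_zero_structure t hne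
  apply hgy
  have hyV : y ∈ V := h y (hW hyW) hy
  rw [← TopCat.Presheaf.germ_res_apply X.presheaf (homOfLE (inf_le_left : W ⊓ V ≤ W)) y
    ⟨hyW, hyV⟩ t, ht, map_zero]

set_option backward.isDefEq.respectTransparency false in
/-- Every point is a specialization of a weakly associated point of `O_X`. -/
theorem exists_weakAss_specializes (hX : LocFinWeakAss X) (z : X) :
    ∃ y : X, IsWeakAssPoint (Coh.structureModule X) y ∧ y ⤳ z := by
  by_contra hcon
  push Not at hcon
  obtain ⟨W₀, hzW₀, hfin⟩ := hX z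
  obtain ⟨_, ⟨W, hW, rfl⟩, hzW, hWW₀⟩ :=
    X.isBasis_affineOpens.exists_subset_of_mem_open hzW₀ W₀.2
  have hW : IsAffineOpen W := hW
  have hWW₀ : W ≤ W₀ := hWW₀
  have hF := hfin W hW hWW₀
  let Z : Set X := ⋃ y ∈ {y : X | y ∈ W ∧ IsWeakAssPoint (Coh.structureModule X) y}, closure {y}
  have hZ : IsClosed Z := hF.isClosed_biUnion fun _ _ => isClosed_closure
  have hzZ : z ∉ Z := by
    intro h
    simp only [Z, Set.mem_iUnion] at h
    obtain ⟨y, hy, hzy⟩ := h
    exact hcon y hy.2 (specializes_iff_mem_closure.mpr hzy)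
  let W' : X.Opens := W ⊓ ⟨Zᶜ, hZ.isOpen_compl⟩
  have hzW' : z ∈ W' := ⟨hzW, hzZ⟩
  have h1 : (1 : Γ(X, W')) ≠ 0 := by
    intro h
    have h2 := congrArg (X.presheaf.germ W' z hzW') h
    rw [map_one, map_zero] at h2
    exact one_ne_zero h2
  obtain ⟨y, hyW', hy, -⟩ := exists_isWeakAssPoint_germ_ne_zero_structure _ h1
  have : y ∈ Z := by
    simp only [Z, Set.mem_iUnion]
    exact ⟨y, ⟨hyW'.1, hy⟩, subset_closure rfl⟩
  exact hyW'.2 this

/-- The closures of the weakly associated points form a locally finite family. -/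
theorem locallyFinite_closure_weakAss (hX : LocFinWeakAss X) (P : X → Prop) :
    LocallyFinite (fun i : {y : X // IsWeakAssPoint (Coh.structureModule X) y ∧ P y} =>
      closure ({i.1} : Set X)) := by
  intro x
  obtain ⟨W₀, hxW₀, hfin⟩ := hX x
  obtain ⟨_, ⟨W, hW, rfl⟩, hxW, hWW₀⟩ :=
    X.isBasis_affineOpens.exists_subset_of_mem_open hxW₀ W₀.2
  have hW : IsAffineOpen W := hW
  have hWW₀ : W ≤ W₀ := hWW₀
  have hF := hfin W hW hWW₀
  refine ⟨W, W.2.mem_nhds hxW, ?_⟩
  have h1 : {i : {y : X // IsWeakAssPoint (Coh.structureModule X) y ∧ P y} |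
      (closure ({i.1} : Set X) ∩ (W : Set X)).Nonempty} ⊆
      Subtype.val ⁻¹' {y : X | y ∈ W ∧ IsWeakAssPoint (Coh.structureModule X) y} := by
    rintro i ⟨z, hz, hzW⟩
    have hs : i.1 ⤳ z := specializes_iff_mem_closure.mpr hz
    exact ⟨hs.mem_open W.2 hzW, i.2.1⟩
  exact (hF.preimage Subtype.val_injective.injOn).subset h1

set_option backward.isDefEq.respectTransparency false in
/-- Sections of an `O_X`-module over pairwise disjoint opens glue. -/
theorem exists_glue_of_disjoint (L : X.Modules) {ι : Type u} (U : ι → X.Opens)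
    (hdis : ∀ i j, i ≠ j → U i ⊓ U j = ⊥) (sf : ∀ i, Γ(L, U i)) :
    ∃ s : Γ(L, iSup U), ∀ i, L.presheaf.map (homOfLE (le_iSup U i)).op s = sf i := by
  let F : TopCat.Sheaf Ab.{u} X.carrier := ⟨L.presheaf, L.isSheaf⟩
  have hcomp : TopCat.Presheaf.IsCompatible F.1 U sf := by
    intro i j
    by_cases hij : i = j
    · subst hij
      rfl
    · apply TopCat.Presheaf.section_ext F
      intro x hx
      have : x ∈ U i ⊓ U j := hx
      rw [hdis i j hij] at this
      exact this.elim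
  obtain ⟨s, hs, -⟩ := F.existsUnique_gluing U sf hcomp
  exact ⟨s, hs⟩

/-- A chart for extending the section `s₀ ∈ Γ(L, U)` to a meromorphic section: an open `W`, a free
generator `τ` of `L` on `W` and a meromorphic function `ũ` on `W` with `ũ • τ = s₀` on `W ⊓ U`. -/
structure MChart (L : X.Modules) (U : X.Opens) (s₀ : Γ(L, U)) where
  W : X.Opens
  τ : Γ(L, W)
  hτ : IsFreeGen L W τ
  ũ : Γ(kmod X, W)
  compat : ∀ (z : X) (hzW : z ∈ W) (hzU : z ∈ U),
    ũ.1 ⟨z, hzW⟩ • (LocalizedModule.mk (L.presheaf.germ W z hzW τ) 1 : MStalk L z) =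
      LocalizedModule.mk (L.presheaf.germ U z hzU s₀) 1

/-- The value of a chart at a point. -/
noncomputable def MChart.val {L : X.Modules} {U : X.Opens} {s₀ : Γ(L, U)} (c : MChart L U s₀)
    (z : X) (hz : z ∈ c.W) : MStalk L z :=
  c.ũ.1 ⟨z, hz⟩ • (LocalizedModule.mk (L.presheaf.germ c.W z hz c.τ) 1 : MStalk L z)

set_option backward.isDefEq.respectTransparency false in
theorem MChart.val_eq {L : X.Modules} {U : X.Opens} {s₀ : Γ(L, U)}
    (hdense : ∀ W' : X.Opens, SchemDense W' U) (c c' : MChart L U s₀)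
    (z : X) (hz : z ∈ c.W) (hz' : z ∈ c'.W) : c.val z hz = c'.val z hz' := by
  let W'' : X.Opens := c.W ⊓ c'.W
  obtain ⟨cc, hcc⟩ := c.hτ.exists_smul_eq (inf_le_left : W'' ≤ c.W)
    (L.presheaf.map (homOfLE (inf_le_right : W'' ≤ c'.W)).op c'.τ)
  have key : ∀ (y : X) (hy : y ∈ W''),
      (LocalizedModule.mk (X.presheaf.germ W'' y hy cc) 1 : KStalk X y) •
        (LocalizedModule.mk (L.presheaf.germ c.W y hy.1 c.τ) 1 : MStalk L y) =
      LocalizedModule.mk (L.presheaf.germ c'.W y hy.2 c'.τ) 1 := by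
    intro y hy
    rw [mk_smul_mk']
    refine mk_congr ?_ (congrArg Subtype.val (mul_one (1 : regStalk X y)))
    have h1 := congrArg (L.presheaf.germ W'' y hy) hcc
    rw [Mero.germ_smul] at h1
    erw [TopCat.Presheaf.germ_res_apply, TopCat.Presheaf.germ_res_apply] at h1
    exact h1
  let A : Γ(kmod X, W'') := (kmod X).presheaf.map (homOfLE (inf_le_left : W'' ≤ c.W)).op c.ũ
  let B : Γ(kmod X, W'') :=
    (kmod X).presheaf.map (homOfLE (inf_le_right : W'' ≤ c'.W)).op c'.ũ * toK X W'' cc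
  have hB : ∀ (y : X) (hy : y ∈ W''),
      B.1 ⟨y, hy⟩ • (LocalizedModule.mk (L.presheaf.germ c.W y hy.1 c.τ) 1 : MStalk L y) =
        c'.val y hy.2 := by
    intro y hy
    change (c'.ũ.1 ⟨y, hy.2⟩ * (toK X W'' cc).1 ⟨y, hy⟩) • _ = _
    rw [toK_apply, mul_smul, key y hy]
    rfl
  have hAB : A = B := by
    refine kmod_eq_of_dense (hdense W'') A B fun y hyU => ?_
    apply (c.hτ.mstalk_bijective y.2.1).1
    change c.ũ.1 ⟨y.1, y.2.1⟩ • _ = B.1 ⟨y.1, y.2⟩ • _
    rw [hB y.1 y.2, c.compat y.1 y.2.1 hyU]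
    exact (c'.compat y.1 y.2.2 hyU).symm
  have h2 := hB z ⟨hz, hz'⟩
  rw [← hAB] at h2
  exact h2

lemma schemDense_inf {U V : X.Opens} (h : SchemDense U V) : SchemDense U (U ⊓ V) := by
  intro W hW
  rw [injective_iff_map_eq_zero]
  intro t ht
  apply h W hW
  rw [map_zero]
  have hle : W ⊓ V ≤ W ⊓ (U ⊓ V) := le_inf inf_le_left (le_inf (inf_le_left.trans hW) inf_le_right)
  have h2 := congrArg (X.presheaf.map (homOfLE hle).op) ht
  rw [map_zero, ← ConcreteCategory.comp_apply, ← X.presheaf.map_comp] at h2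
  exact h2

set_option backward.isDefEq.respectTransparency false in
theorem exists_mchart (hX : LocFinWeakAss X) {L : X.Modules} (hL : PicF.IsInvertible L)
    {U : X.Opens} (hdense : ∀ W' : X.Opens, SchemDense W' U) (s₀ : Γ(L, U)) (x : X) :
    ∃ c : MChart L U s₀, x ∈ c.W := by
  obtain ⟨T, hxT, τ₀, hτ₀⟩ := exists_isFreeGen_of_isInvertible hL x
  obtain ⟨W₀, hxW₀, _⟩ := hX x
  obtain ⟨_, ⟨W, hW, rfl⟩, hxW, hWsub⟩ :=
    X.isBasis_affineOpens.exists_subset_of_mem_open (show x ∈ W₀ ⊓ T from ⟨hxW₀, hxT⟩) (W₀ ⊓ T).2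
  have hWT : W ≤ T := (show W ≤ W₀ ⊓ T from hWsub).trans inf_le_right
  obtain ⟨τ, hτ⟩ : ∃ τ : Γ(L, W), IsFreeGen L W τ := ⟨_, hτ₀.res hWT⟩
  let V : X.Opens := W ⊓ U
  obtain ⟨u, hu⟩ := hτ.exists_smul_eq (inf_le_left : V ≤ W)
    (L.presheaf.map (homOfLE (inf_le_right : V ≤ U)).op s₀)
  obtain ⟨ũ, hũ⟩ := exists_kmod_extension hX (inf_le_left : V ≤ W) (schemDense_inf (hdense W)) u
  refine ⟨⟨W, τ, hτ, ũ, ?_⟩, hxW⟩
  intro z hzW hzU
  have hzV : z ∈ V := ⟨hzW, hzU⟩
  have h1 := congrArg (fun r : Γ(kmod X, V) => r.1 ⟨z, hzV⟩) hũ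
  have h1' : ũ.1 ⟨z, hzW⟩ = LocalizedModule.mk (X.presheaf.germ V z hzV u) 1 := h1
  rw [h1', mk_smul_mk']
  refine mk_congr ?_ (congrArg Subtype.val (mul_one (1 : regStalk X z)))
  have h2 := congrArg (L.presheaf.germ V z hzV) hu
  rw [Mero.germ_smul] at h2
  erw [TopCat.Presheaf.germ_res_apply, TopCat.Presheaf.germ_res_apply] at h2
  exact h2

set_option backward.isDefEq.respectTransparency false in
/-- Existence of a generating section of an invertible module over an open containing all weakly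
associated points: data for the construction of a regular meromorphic section. -/
theorem exists_generic_section (hX : LocFinWeakAss X)
    (hgen : ∀ x : X, IsWeakAssPoint (Coh.structureModule X) x → ∀ y : X, y ⤳ x → y = x)
    {L : X.Modules} (hL : PicF.IsInvertible L) :
    ∃ (U : X.Opens) (s₀ : Γ(L, U)),
      (∀ η : X, IsWeakAssPoint (Coh.structureModule X) η → ∃ hη : η ∈ U,
        ∀ d : X.presheaf.stalk η, d • L.presheaf.germ U η hη s₀ = 0 → d = 0) := by
  choose T hxT τ hτ using fun x => exists_isFreeGen_of_isInvertible hL x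
  let ι : Type u := {η : X // IsWeakAssPoint (Coh.structureModule X) η}
  let Z : ι → Set X := fun η =>
    ⋃ i : {y : X // IsWeakAssPoint (Coh.structureModule X) y ∧ y ≠ η.1}, closure ({i.1} : Set X)
  have hZ : ∀ η, IsClosed (Z η) := fun η =>
    (locallyFinite_closure_weakAss hX (fun y => y ≠ η.1)).isClosed_iUnion fun _ => isClosed_closure
  let Uη : ι → X.Opens := fun η => T η.1 ⊓ ⟨(Z η)ᶜ, (hZ η).isOpen_compl⟩
  have hmem : ∀ η : ι, η.1 ∈ Uη η := by
    intro η
    refine ⟨hxT η.1, ?_⟩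
    intro h
    simp only [Z, Set.mem_iUnion] at h
    obtain ⟨i, hi⟩ := h
    have hs : i.1 ⤳ η.1 := specializes_iff_mem_closure.mpr hi
    exact i.2.2 (hgen η.1 η.2 i.1 hs)
  have hdis : ∀ η η' : ι, η ≠ η' → Uη η ⊓ Uη η' = ⊥ := by
    intro η η' hne
    rw [eq_bot_iff]
    intro z hz
    exfalso
    obtain ⟨y, hy, hyz⟩ := exists_weakAss_specializes hX z
    have hzy : z ∈ closure ({y} : Set X) := specializes_iff_mem_closure.mp hyz
    by_cases h1 : y = η.1
    · have h2 : y ≠ η'.1 := fun h => hne (Subtype.ext (h1.symm.trans h))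
      have : z ∈ Z η' := by
        simp only [Z, Set.mem_iUnion]
        exact ⟨⟨y, hy, h2⟩, hzy⟩
      exact hz.2.2 this
    · have : z ∈ Z η := by
        simp only [Z, Set.mem_iUnion]
        exact ⟨⟨y, hy, h1⟩, hzy⟩
      exact hz.1.2 this
  obtain ⟨s₀, hs₀⟩ := exists_glue_of_disjoint L Uη hdis
    (fun η => L.presheaf.map (homOfLE (inf_le_left : Uη η ≤ T η.1)).op (τ η.1))
  refine ⟨iSup Uη, s₀, fun η hη => ?_⟩
  have hηU : η ∈ iSup Uη := (le_iSup Uη ⟨η, hη⟩) (hmem ⟨η, hη⟩)
  refine ⟨hηU, fun d hd => ?_⟩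
  have h1 : L.presheaf.germ (iSup Uη) η hηU s₀ = L.presheaf.germ (T η) η (hxT η) (τ η) := by
    rw [← TopCat.Presheaf.germ_res_apply L.presheaf (homOfLE (le_iSup Uη ⟨η, hη⟩)) η
      (hmem ⟨η, hη⟩) s₀, hs₀ ⟨η, hη⟩, TopCat.Presheaf.germ_res_apply]
  rw [h1] at hd
  exact (hτ η).germ_eq_zero_of_smul_eq_zero (hxT η) d hd

set_option backward.isDefEq.respectTransparency false in
/-- Local fraction form of a chart. -/
theorem MChart.exists_frac {L : X.Modules} {U : X.Opens} {s₀ : Γ(L, U)} (c : MChart L U s₀)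
    (x : X) (hx : x ∈ c.W) :
    ∃ (V : X.Opens) (hVW : V ≤ c.W) (_ : x ∈ V) (a : Γ(X, V)) (b : regSub X V),
      ∀ (z : X) (hz : z ∈ V),
        c.ũ.1 ⟨z, hVW hz⟩ = LocalizedModule.mk (X.presheaf.germ V z hz a) (regGerm ⟨z, hz⟩ b) ∧
        c.val z (hVW hz) = LocalizedModule.mk
          (L.presheaf.germ V z hz (a • L.presheaf.map (homOfLE hVW).op c.τ)) (regGerm ⟨z, hz⟩ b) := by
  obtain ⟨V, -, hVW, hxV, a, b, hab⟩ := exists_affine_frac c.ũ ⟨x, hx⟩
  refine ⟨V, hVW, hxV, a, b, fun z hz => ⟨hab ⟨z, hz⟩, ?_⟩⟩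
  change c.ũ.1 ⟨z, hVW hz⟩ • _ = _
  rw [hab ⟨z, hz⟩, mk_smul_mk']
  refine mk_congr ?_ (congrArg Subtype.val (mul_one _))
  rw [Mero.germ_smul]
  erw [TopCat.Presheaf.germ_res_apply]

set_option backward.isDefEq.respectTransparency false in
theorem hasRegularMero_of_locFinWeakAss (hX : LocFinWeakAss X)
    (hgen : ∀ x : X, IsWeakAssPoint (Coh.structureModule X) x → ∀ y : X, y ⤳ x → y = x)
    {L : X.Modules} (hL : PicF.IsInvertible L) : Mero.HasRegularMero L := by
  obtain ⟨U, s₀, hU⟩ := exists_generic_section hX hgen hL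
  have hdense : ∀ W' : X.Opens, SchemDense W' U := fun W' =>
    schemDense_of_weakAss_subset (fun y _ hy => (hU y hy).1)
  choose c hc using fun x => exists_mchart hX hL hdense s₀ x
  let t : ∀ x : (⊤ : X.Opens), MStalk L x.1 := fun x => (c x.1).val x.1 (hc x.1)
  have ht : (mLoc L).pred t := by
    intro x
    obtain ⟨V, hVW, hxV, a, b, hab⟩ := (c x.1).exists_frac x.1 (hc x.1)
    refine ⟨V, hxV, homOfLE le_top, a • L.presheaf.map (homOfLE hVW).op (c x.1).τ, b, fun z => ?_⟩
    change (c z.1).val z.1 (hc z.1) = _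
    rw [MChart.val_eq hdense (c z.1) (c x.1) z.1 (hc z.1) (hVW z.2)]
    exact (hab z.1 z.2).2
  refine ⟨⟨t, ht⟩, ?_⟩
  intro x q hq
  change q • (c x).val x (hc x) = 0 at hq
  obtain ⟨V, hVW, hxV, a, b, hab⟩ := (c x).exists_frac x (hc x)
  -- the numerator is regular at `x`
  have hax : X.presheaf.germ V x hxV a ∈ nonZeroDivisors (X.presheaf.stalk x) := by
    refine germ_mem_nonZeroDivisors_of_weakAss a ?_ x hxV
    intro η hηV hη
    obtain ⟨hηU, hfree⟩ := hU η hη
    rw [mem_nonZeroDivisors_iff_right]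
    intro d hd
    have h1 := (c x).compat η (hVW hηV) hηU
    have h2 := congrArg (fun m : MStalk L η => (LocalizedModule.mk d 1 : KStalk X η) • m) h1
    simp only at h2
    rw [← mul_smul, (hab η hηV).1] at h2
    have h3 : (LocalizedModule.mk d 1 : KStalk X η) *
        LocalizedModule.mk (X.presheaf.germ V η hηV a) (regGerm ⟨η, hηV⟩ b) = 0 := by
      refine LocalizedModule.mk_mul_mk.trans ?_
      rw [hd]
      exact LocalizedModule.zero_mk _
    rw [h3, zero_smul, mk_smul_mk'] at h2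
    obtain ⟨u, hu⟩ := (mstalk_mk_eq_zero_iff _ _).mp h2.symm
    rw [smul_smul] at hu
    have h4 := hfree _ hu
    exact (mem_nonZeroDivisors_iff_left.mp (regStalk_le_nonZeroDivisors η u.2)) d h4
  have h5 : q * (c x).ũ.1 ⟨x, hc x⟩ = 0 := by
    apply ((c x).hτ.mstalk_bijective (hc x)).1
    change (q * (c x).ũ.1 ⟨x, hc x⟩) • _ = (0 : KStalk X x) • _
    rw [mul_smul, zero_smul]
    exact hq
  rw [(hab x hxV).1] at h5
  induction q using LocalizedModule.induction_on with
  | h cq sq =>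
    have h6 : (LocalizedModule.mk cq sq : KStalk X x) *
        LocalizedModule.mk (X.presheaf.germ V x hxV a) (regGerm ⟨x, hxV⟩ b) =
        LocalizedModule.mk (cq * X.presheaf.germ V x hxV a) (sq * regGerm ⟨x, hxV⟩ b) :=
      LocalizedModule.mk_mul_mk
    rw [h6, kstalk_mk_eq_zero_iff] at h5
    have h7 : cq = 0 := (mem_nonZeroDivisors_iff_right.mp hax) cq h5
    rw [h7]
    exact LocalizedModule.zero_mk sq

end Groth.Agent.H8
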