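import Groth.Agent.H18.EpiLocSurj
import Groth.Agent.H18.QCohLocalize

/-!
# Globally generated quasi-coherent modules on affine opens (helper8)

If `F` is a quasi-coherent module on a scheme `X` generated by the global sections `s i` (i.e. the
morphism `free ι ⟶ F` they define is an epimorphism), then for every affine open `V` the
`Γ(X, V)`-module `Γ(F, V)` is spanned by the restrictions of the `s i`.
-/

set_option autoImplicit false
universe u
open CategoryTheory CategoryTheory.Limits AlgebraicGeometry TopologicalSpace Opposite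

namespace Groth.Agent.H8

open Groth.Agent.H18

variable {X : Scheme.{u}} (F : X.Modules)

/-- The restriction of a global section to an open. -/
noncomputable abbrev gsec (s : SheafOfModules.sections F) (V : X.Opens) : Γ(F, V) :=
  PresheafOfModules.sections.eval s (op V)

lemma mres_gsec (s : SheafOfModules.sections F) {V W : X.Opens} (h : W ≤ V) :
    mres F h (gsec F s V) = gsec F s W :=
  PresheafOfModules.sections_property s (homOfLE h).op

set_option backward.isDefEq.respectTransparency false in
/-- Auxiliary: sections over a basic open `D(r)` of an affine `V` that lie in the span of the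
restricted global sections come, after multiplication by a power of `r`, from the span over `V`. -/
lemma exists_pow_smul_eq_mres_of_mem_span [F.IsQuasicoherent] {ι : Type u}
    (s : ι → SheafOfModules.sections F) {V : X.Opens} (hV : IsAffineOpen V) (r : Γ(X, V))
    (t' : Γ(F, X.basicOpen r))
    (ht' : t' ∈ Submodule.span Γ(X, X.basicOpen r)
      (Set.range fun i => gsec F (s i) (X.basicOpen r))) :
    ∃ (k : ℕ) (n : Γ(F, V)), n ∈ Submodule.span Γ(X, V) (Set.range fun i => gsec F (s i) V) ∧
      (X.presheaf.map (homOfLE (X.basicOpen_le r)).op r) ^ k • t' =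
        mres F (X.basicOpen_le r) n := by
  have hD := X.basicOpen_le r
  induction ht' using Submodule.span_induction with
  | mem x hx =>
    obtain ⟨i, rfl⟩ := hx
    refine ⟨0, gsec F (s i) V, Submodule.subset_span ⟨i, rfl⟩, ?_⟩
    rw [pow_zero, one_smul, mres_gsec]
  | zero => exact ⟨0, 0, Submodule.zero_mem _, by rw [smul_zero, map_zero]⟩
  | add x y _ _ ihx ihy =>
    obtain ⟨k₁, n₁, hn₁, e₁⟩ := ihx
    obtain ⟨k₂, n₂, hn₂, e₂⟩ := ihy
    refine ⟨k₁ + k₂, r ^ k₂ • n₁ + r ^ k₁ • n₂,
      Submodule.add_mem _ (Submodule.smul_mem _ _ hn₁) (Submodule.smul_mem _ _ hn₂), ?_⟩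
    rw [map_add, mres_smul, mres_smul, ← e₁, ← e₂, map_pow, map_pow, smul_smul, smul_smul,
      smul_add, ← pow_add, ← pow_add, add_comm k₂ k₁]
  | smul c x _ ih =>
    obtain ⟨k, n, hn, e⟩ := ih
    have hloc : IsLocalization.Away r Γ(X, X.basicOpen r) := hV.isLocalization_basicOpen r
    obtain ⟨m, a, ha⟩ := IsLocalization.Away.surj r c
    refine ⟨m + k, a • n, Submodule.smul_mem _ _ hn, ?_⟩
    have ha' : c * (X.presheaf.map (homOfLE hD).op r) ^ m = X.presheaf.map (homOfLE hD).op a := ha
    rw [mres_smul, ← e, ← ha', smul_smul, smul_smul, pow_add]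
    congr 1
    ring

set_option backward.isDefEq.respectTransparency false in
/-- **Global generation on affine opens**: if the global sections `s i` generate the quasi-coherent
module `F`, their restrictions span `Γ(F, V)` over `Γ(X, V)` for every affine open `V`. -/
theorem mem_span_gsec_of_isAffineOpen [F.IsQuasicoherent] {ι : Type u}
    (s : ι → SheafOfModules.sections F) [Epi (F.freeHomEquiv.symm s)]
    {V : X.Opens} (hV : IsAffineOpen V) (t : Γ(F, V)) :
    t ∈ Submodule.span Γ(X, V) (Set.range fun i => gsec F (s i) V) := by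
  obtain ⟨S, hS, hSt⟩ := exists_cover_mem_span_of_epi F s V t
  let R : Set Γ(X, V) :=
    {r | ∃ n : ℕ, (r ^ n) • t ∈ Submodule.span Γ(X, V) (Set.range fun i => gsec F (s i) V)}
  refine Submodule.mem_of_span_eq_top_of_smul_pow_mem _ R ?_ t (fun r => r.2)
  rw [← hV.self_le_iSup_basicOpen_iff]
  intro x hx
  obtain ⟨W, f, hf, hxW⟩ := hS x hx
  obtain ⟨r, hrW, hxr⟩ := hV.exists_basicOpen_le ⟨x, hxW⟩ hx
  have hD := X.basicOpen_le r
  have hmem : mres F hD t ∈ Submodule.span Γ(X, X.basicOpen r)
      (Set.range fun i => gsec F (s i) (X.basicOpen r)) :=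
    hSt (homOfLE hrW ≫ f) (S.downward_closed hf (homOfLE hrW))
  obtain ⟨k, n, hn, e⟩ := exists_pow_smul_eq_mres_of_mem_span F s hV r _ hmem
  have e' : mres F hD (r ^ k • t - n) = 0 := by
    rw [map_sub, mres_smul, map_pow, e, sub_self]
  obtain ⟨m, hm⟩ := exists_pow_smul_eq_zero_of_isQuasicoherent F hV r _ e'
  have hr : r ∈ R := by
    refine ⟨m + k, ?_⟩
    rw [smul_sub, sub_eq_zero, smul_smul, ← pow_add] at hm
    rw [hm]
    exact Submodule.smul_mem _ _ hn
  exact Opens.mem_iSup.mpr ⟨⟨r, hr⟩, hxr⟩

end Groth.Agent.H8
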