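import Groth.Agent.H8.MeroLoc

/-!
# Meromorphic functions and schematically dense opens (helper8)

* `kmod_eq_zero_of_dense`, `kmod_map_injective_of_dense`: restriction of sections of `K_X` to a
  schematically dense open is injective.
-/

set_option autoImplicit false
universe u
open CategoryTheory CategoryTheory.Limits AlgebraicGeometry TopologicalSpace Opposite

namespace Groth.Agent.H8

open Curv2 Mero

variable {X : Scheme.{u}}

/-- `V` is schematically dense in `U`, in the form used by the statements. -/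
def SchemDense (U V : X.Opens) : Prop :=
  ∀ W : X.Opens, W ≤ U →
    Function.Injective ⇑(X.presheaf.map (homOfLE (inf_le_left : W ⊓ V ≤ W)).op)

set_option backward.isDefEq.respectTransparency false in
/-- A section of `K_X` over `U` vanishing at all points of a schematically dense open is zero. -/
theorem kmod_eq_zero_of_dense {U V : X.Opens} (hV : SchemDense U V) (σ : Γ(kmod X, U))
    (h0 : ∀ z : U, z.1 ∈ V → σ.1 z = 0) : σ = 0 := by
  refine kmod_ext fun x => ?_
  obtain ⟨W, -, hWU, hxW, a, b, hab⟩ := exists_affine_frac σ x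
  have ha : a = 0 := by
    apply hV W hWU
    rw [map_zero]
    apply TopCat.Presheaf.section_ext X.sheaf
    intro z hz
    change X.presheaf.germ (W ⊓ V) z hz (X.presheaf.map (homOfLE inf_le_left).op a) =
      X.presheaf.germ (W ⊓ V) z hz 0
    rw [map_zero, TopCat.Presheaf.germ_res_apply]
    have h1 := h0 ⟨z, hWU hz.1⟩ hz.2
    rw [hab ⟨z, hz.1⟩, kstalk_mk_eq_zero_iff] at h1
    exact h1
  have h2 := hab ⟨x.1, hxW⟩
  rw [ha, map_zero, LocalizedModule.zero_mk] at h2
  exact h2

/-- Two sections of `K_X` over `U` agreeing at all points of a schematically dense open are equal. -/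
theorem kmod_eq_of_dense {U V : X.Opens} (hV : SchemDense U V) (σ τ : Γ(kmod X, U))
    (h : ∀ z : U, z.1 ∈ V → σ.1 z = τ.1 z) : σ = τ := by
  rw [← sub_eq_zero]
  refine kmod_eq_zero_of_dense hV _ fun z hz => ?_
  rw [kmod_sub_apply, h z hz, sub_self]

theorem kmod_map_injective_of_dense {U V : X.Opens} (hVU : V ≤ U) (hV : SchemDense U V) :
    Function.Injective ⇑((kmod X).presheaf.map (homOfLE hVU).op) := by
  intro σ τ h
  refine kmod_eq_of_dense hV σ τ fun z hz => ?_
  have h1 := congrArg (fun f : Γ(kmod X, V) => f.1 ⟨z.1, hz⟩) h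
  exact h1

lemma primeIdealOf_injective {W : X.Opens} (hW : IsAffineOpen W) {x y : X} (hx : x ∈ W) (hy : y ∈ W)
    (h : (hW.primeIdealOf ⟨x, hx⟩).asIdeal = (hW.primeIdealOf ⟨y, hy⟩).asIdeal) : x = y := by
  have h1 : hW.primeIdealOf ⟨x, hx⟩ = hW.primeIdealOf ⟨y, hy⟩ := PrimeSpectrum.ext h
  have h2 := congrArg (fun z => hW.fromSpec z) h1
  simp only [IsAffineOpen.fromSpec_primeIdealOf] at h2
  exact h2

set_option backward.isDefEq.respectTransparency false in
/-- If the germ of `t` at `z` is nonzero then the annihilator of `t` lies in the prime of `z`. -/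
lemma annihilator_le_primeIdealOf_of_germ_ne_zero {W : X.Opens} (hW : IsAffineOpen W) {z : X}
    (hz : z ∈ W) (t : Γ(X, W)) (ht : X.presheaf.germ W z hz t ≠ 0) :
    (Submodule.span Γ(X, W) {t}).annihilator ≤ (hW.primeIdealOf ⟨z, hz⟩).asIdeal := by
  intro a ha
  rw [Submodule.mem_annihilator_span_singleton, smul_eq_mul] at ha
  by_contra hcon
  have hu : IsUnit (X.presheaf.germ W z hz a) := by
    by_contra h
    exact hcon ((mem_primeIdealOf_iff hW hz a).mpr h)
  have h1 := congrArg (X.presheaf.germ W z hz) ha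
  rw [map_mul, map_zero] at h1
  exact ht ((hu.mul_right_eq_zero).mp h1)

set_option backward.isDefEq.respectTransparency false in
/-- If the germ of `t` at `y` vanishes, the annihilator of `t` is not contained in the prime of `y`. -/
lemma not_annihilator_le_primeIdealOf_of_germ_eq_zero {W : X.Opens} (hW : IsAffineOpen W) {y : X}
    (hy : y ∈ W) (t : Γ(X, W)) (ht : X.presheaf.germ W y hy t = 0) :
    ¬ (Submodule.span Γ(X, W) {t}).annihilator ≤ (hW.primeIdealOf ⟨y, hy⟩).asIdeal := by
  intro hle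
  let _ : Algebra Γ(X, W) (X.presheaf.stalk y) :=
    TopCat.Presheaf.algebra_section_stalk X.presheaf ⟨y, hy⟩
  have : IsLocalization.AtPrime (X.presheaf.stalk y) (hW.primeIdealOf ⟨y, hy⟩).asIdeal :=
    hW.isLocalization_stalk ⟨y, hy⟩
  have h9 : algebraMap Γ(X, W) (X.presheaf.stalk y) t = 0 := ht
  obtain ⟨s, hs⟩ := (IsLocalization.map_eq_zero_iff (hW.primeIdealOf ⟨y, hy⟩).asIdeal.primeCompl
    (X.presheaf.stalk y) t).mp h9
  have h10 : (s : Γ(X, W)) ∈ (Submodule.span Γ(X, W) {t}).annihilator := by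
    rw [Submodule.mem_annihilator_span_singleton, smul_eq_mul]
    exact hs
  exact s.2 (hle h10)

set_option backward.isDefEq.respectTransparency false in
/-- A schematically dense open contains the weakly associated points of `O_X` (in affine opens with
finitely many weakly associated points). -/
theorem mem_of_schemDense_of_weakAss {U V W : X.Opens} (hV : SchemDense U V) (hW : IsAffineOpen W)
    (hWU : W ≤ U)
    (hfin : {y : X | y ∈ W ∧ IsWeakAssPoint (Coh.structureModule X) y}.Finite) {y : X} (hy : y ∈ W)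
    (hw : IsWeakAssPoint (Coh.structureModule X) y) : y ∈ V := by
  by_contra hyV
  have h4 := (isWeakAssPoint_iff_mem_weakAss (Coh.structureModule X) hW hy).mp hw
  have h5 : (hW.primeIdealOf ⟨y, hy⟩).asIdeal ∈ FlatCA.weakAss Γ(X, W) Γ(X, W) :=
    weakAss_subset_of_injective (structureSecEquiv X W).toLinearMap
      (structureSecEquiv X W).injective h4
  obtain ⟨t, ht⟩ := h5
  -- remove the closures of the weakly associated points not specializing to `y`
  let bad : Set X := {z | (z ∈ W ∧ IsWeakAssPoint (Coh.structureModule X) z) ∧ ¬ z ⤳ y}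
  have hbad : bad.Finite := hfin.subset fun z hz => hz.1
  let Z : Set X := ⋃ z ∈ bad, closure {z}
  have hZ : IsClosed Z := hbad.isClosed_biUnion fun _ _ => isClosed_closure
  have hyZ : y ∉ Z := by
    intro h
    simp only [Z, Set.mem_iUnion] at h
    obtain ⟨z, hz, hyz⟩ := h
    exact hz.2 (specializes_iff_mem_closure.mpr hyz)
  let W' : X.Opens := W ⊓ ⟨Zᶜ, hZ.isOpen_compl⟩
  have hyW' : y ∈ W' := ⟨hy, hyZ⟩
  have hW'W : W' ≤ W := inf_le_left
  let t' : Γ(X, W') := X.presheaf.map (homOfLE hW'W).op t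
  -- `t'` vanishes on `W' ⊓ V`
  have h6 : X.presheaf.map (homOfLE (inf_le_left : W' ⊓ V ≤ W')).op t' = 0 := by
    by_contra hne
    obtain ⟨z, hzWV, hzw, hzne⟩ := exists_isWeakAssPoint_germ_ne_zero_structure _ hne
    have hzW' : z ∈ W' := hzWV.1
    have hzW : z ∈ W := hW'W hzW'
    have hzy : z ⤳ y := by
      by_contra hcon
      have : z ∈ Z := by
        simp only [Z, Set.mem_iUnion]
        exact ⟨z, ⟨⟨hzW, hzw⟩, hcon⟩, subset_closure rfl⟩
      exact hzW'.2 this
    rw [TopCat.Presheaf.germ_res_apply, TopCat.Presheaf.germ_res_apply] at hzne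
    have h7 := annihilator_le_primeIdealOf_of_germ_ne_zero hW hzW t hzne
    have h8 := primeIdealOf_le_of_specializes hW hy hzW hzy
    have h9 : (hW.primeIdealOf ⟨y, hy⟩).asIdeal ≤ (hW.primeIdealOf ⟨z, hzW⟩).asIdeal :=
      ht.2 ⟨(hW.primeIdealOf ⟨z, hzW⟩).2, h7⟩ h8
    have h10 : z = y := primeIdealOf_injective hW hzW hy (le_antisymm h8 h9)
    exact hyV (h10 ▸ hzWV.2)
  have h11 : t' = 0 := by
    apply hV W' (hW'W.trans hWU)
    rw [map_zero]
    exact h6
  have h12 : X.presheaf.germ W y hy t = 0 := by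
    rw [← TopCat.Presheaf.germ_res_apply X.presheaf (homOfLE hW'W) y hyW' t]
    change X.presheaf.germ W' y hyW' t' = 0
    rw [h11, map_zero]
  exact not_annihilator_le_primeIdealOf_of_germ_eq_zero hW hy t h12 ht.1.2

set_option backward.isDefEq.respectTransparency false in
/-- There is a regular function on `W` whose nonvanishing locus lies in a given open containing all
weakly associated points of `W`. -/
theorem exists_regular_basicOpen_le {V W : X.Opens} (hW : IsAffineOpen W)
    (hfin : {y : X | y ∈ W ∧ IsWeakAssPoint (Coh.structureModule X) y}.Finite)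
    (hass : ∀ y : X, y ∈ W → IsWeakAssPoint (Coh.structureModule X) y → y ∈ V) :
    ∃ f : Γ(X, W), f ∈ regSub X W ∧ X.basicOpen f ≤ V := by
  classical
  -- the vanishing ideal of `W \ V`
  let I : Ideal Γ(X, W) := ⨅ z : {z : W // z.1 ∉ V}, (hW.primeIdealOf z.1).asIdeal
  have hI : ∀ a : Γ(X, W), a ∈ I ↔ X.basicOpen a ≤ V := by
    intro a
    simp only [I, Ideal.mem_iInf]
    constructor
    · intro h z hz
      by_contra hzV
      have hzW : z ∈ W := X.basicOpen_le a hz
      exact (notMem_primeIdealOf_iff hW hzW a).mpr hz (h ⟨⟨z, hzW⟩, hzV⟩)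
    · rintro h ⟨⟨z, hzW⟩, hzV⟩
      by_contra hcon
      exact hzV (h ((notMem_primeIdealOf_iff hW hzW a).mp hcon))
  let f : X → Ideal Γ(X, W) := fun y =>
    if hy : y ∈ W then (hW.primeIdealOf ⟨y, hy⟩).asIdeal else ⊤
  have hnsub : ¬ (I : Set Γ(X, W)) ⊆ ⋃ y ∈ (hfin.toFinset : Set X), f y := by
    intro hsub
    have h0 : (0 : Γ(X, W)) ∈ ⋃ y ∈ (hfin.toFinset : Set X), f y := hsub I.zero_mem
    obtain ⟨y₀, -⟩ := Set.mem_iUnion.mp h0
    have hprime : ∀ i ∈ hfin.toFinset, i ≠ y₀ → i ≠ y₀ → (f i).IsPrime := by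
      intro i hi _ _
      have hiW : i ∈ W := ((Set.Finite.mem_toFinset hfin).mp hi).1
      simp only [f, dif_pos hiW]
      exact (hW.primeIdealOf ⟨i, hiW⟩).2
    obtain ⟨y, hyS, hIy⟩ := (Ideal.subset_union_prime y₀ y₀ hprime).mp hsub
    obtain ⟨hyW, hw⟩ := (Set.Finite.mem_toFinset hfin).mp hyS
    simp only [f, dif_pos hyW] at hIy
    have hyV : y ∈ V := hass y hyW hw
    obtain ⟨a, haV, hya⟩ := hW.exists_basicOpen_le ⟨y, hyV⟩ hyW
    exact (notMem_primeIdealOf_iff hW hyW a).mpr hya (hIy ((hI a).mpr haV))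
  obtain ⟨r, hrI, hr⟩ := Set.not_subset.mp hnsub
  refine ⟨r, ?_, (hI r).mp hrI⟩
  intro x
  refine germ_mem_nonZeroDivisors_of_weakAss r ?_ x.1 x.2
  intro y hy hw
  have hyS : y ∈ (hfin.toFinset : Set X) := by
    rw [Set.Finite.coe_toFinset]
    exact ⟨hy, hw⟩
  have h4 : r ∉ f y := fun h5 => hr (Set.mem_biUnion hyS h5)
  simp only [f, dif_pos hy] at h4
  have h5 : IsUnit (X.presheaf.germ W y hy r) := by
    by_contra h6
    exact h4 ((mem_primeIdealOf_iff hW hy r).mpr h6)
  exact h5.mem_nonZeroDivisors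

set_option backward.isDefEq.respectTransparency false in
/-- The nonvanishing locus of a regular section is schematically dense. -/
theorem schemDense_basicOpen_of_regular {W : X.Opens} (f : Γ(X, W)) (hf : f ∈ regSub X W)
    (W' : X.Opens) (hW' : W' ≤ W) : SchemDense W' (X.basicOpen f) := by
  intro W'' hW''
  rw [injective_iff_map_eq_zero]
  intro t ht
  apply TopCat.Presheaf.section_ext X.sheaf
  intro z hz
  change X.presheaf.germ W'' z hz t = X.presheaf.germ W'' z hz 0
  rw [map_zero]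
  obtain ⟨_, ⟨W₃, hW₃, rfl⟩, hzW₃, hW₃W''⟩ :=
    X.isBasis_affineOpens.exists_subset_of_mem_open hz W''.2
  have hW₃ : IsAffineOpen W₃ := hW₃
  have hW₃' : W₃ ≤ W'' := hW₃W''
  have hW₃W : W₃ ≤ W := hW₃'.trans (hW''.trans hW')
  let t₃ : Γ(X, W₃) := X.presheaf.map (homOfLE hW₃').op t
  let f₃ : Γ(X, W₃) := X.presheaf.map (homOfLE hW₃W).op f
  have hD : X.basicOpen f₃ ≤ W'' ⊓ X.basicOpen f := by
    have : X.basicOpen f₃ = W₃ ⊓ X.basicOpen f := X.basicOpen_res f (homOfLE hW₃W).op
    rw [this]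
    exact inf_le_inf_right _ hW₃'
  have h1 : X.presheaf.map (homOfLE (X.basicOpen_le f₃)).op t₃ = 0 := by
    have h2 := congrArg (X.presheaf.map (homOfLE hD).op) ht
    rw [map_zero] at h2
    rw [← h2]
    simp only [t₃, ← ConcreteCategory.comp_apply, ← X.presheaf.map_comp]
    rfl
  obtain ⟨k, hk⟩ := exists_pow_mul_eq_zero_of_res_basicOpen_eq_zero_of_isAffineOpen X hW₃ t₃ f₃ h1
  have h3 := congrArg (X.presheaf.germ W₃ z hzW₃) hk
  rw [map_mul, map_pow, map_zero, TopCat.Presheaf.germ_res_apply,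
    TopCat.Presheaf.germ_res_apply] at h3
  have hnzd := hf ⟨z, hW₃W hzW₃⟩
  exact (mem_nonZeroDivisors_iff_left.mp (pow_mem hnzd k)) _ h3

lemma schemDense_mono {U V U' : X.Opens} (hV : SchemDense U V) (hU' : U' ≤ U) : SchemDense U' V :=
  fun W hW => hV W (hW.trans hU')

set_option backward.isDefEq.respectTransparency false in
/-- Local extension of a function on a schematically dense open to a meromorphic function. -/
theorem exists_local_extension {U V W : X.Opens} (hV : SchemDense U V) (hW : IsAffineOpen W)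
    (hWU : W ≤ U)
    (hfin : {y : X | y ∈ W ∧ IsWeakAssPoint (Coh.structureModule X) y}.Finite) (g : Γ(X, V)) :
    ∃ s : Γ(kmod X, W), ∀ z : W, ∀ hzV : z.1 ∈ V,
      s.1 z = LocalizedModule.mk (X.presheaf.germ V z.1 hzV g) 1 := by
  obtain ⟨f, hf, hfV⟩ := exists_regular_basicOpen_le (V := V) hW hfin
    (fun y hy hw => mem_of_schemDense_of_weakAss hV hW hWU hfin hy hw)
  have hDW : X.basicOpen f ≤ W := X.basicOpen_le f
  obtain ⟨n, a, ha⟩ := exists_eq_pow_mul_of_isAffineOpen X W hW f
    (X.presheaf.map (homOfLE hfV).op g)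
  have ha' : ∀ (z : X) (hz : z ∈ X.basicOpen f), X.presheaf.germ W z (hDW hz) a =
      X.presheaf.germ W z (hDW hz) f ^ n * X.presheaf.germ V z (hfV hz) g := by
    intro z hz
    have := congrArg (X.presheaf.germ (X.basicOpen f) z hz) ha
    rw [map_mul, map_pow] at this
    erw [TopCat.Presheaf.germ_res_apply, TopCat.Presheaf.germ_res_apply,
      TopCat.Presheaf.germ_res_apply] at this
    exact this
  let b : regSub X W := ⟨f ^ n, pow_mem hf n⟩
  let s : Γ(kmod X, W) := toK X W a * invK b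
  refine ⟨s, ?_⟩
  -- compare `s` and `g / 1` on `W ⊓ V` via the schematically dense `D(f)`
  let σ : Γ(kmod X, W ⊓ V) := (kmod X).presheaf.map (homOfLE (inf_le_left : W ⊓ V ≤ W)).op s
  let τ : Γ(kmod X, W ⊓ V) := toK X (W ⊓ V) (X.presheaf.map (homOfLE (inf_le_right : W ⊓ V ≤ V)).op g)
  have hστ : σ = τ := by
    refine kmod_eq_of_dense (schemDense_basicOpen_of_regular f hf (W ⊓ V) inf_le_left) σ τ ?_
    intro z hz
    have hzW : z.1 ∈ W := z.2.1
    have hzV : z.1 ∈ V := z.2.2
    change s.1 ⟨z.1, hzW⟩ = _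
    rw [toK_apply, TopCat.Presheaf.germ_res_apply]
    change (toK X W a).1 ⟨z.1, hzW⟩ * (invK b).1 ⟨z.1, hzW⟩ = _
    rw [toK_apply]
    change LocalizedModule.mk _ _ * LocalizedModule.mk 1 (regGerm ⟨z.1, hzW⟩ b) = _
    refine LocalizedModule.mk_mul_mk.trans ?_
    rw [LocalizedModule.mk_eq]
    refine ⟨1, ?_⟩
    simp only [one_smul, Submonoid.smul_def, smul_eq_mul, one_mul, mul_one, b, map_pow]
    rw [ha' z.1 hz]
  intro z hzV
  have h1 := congrArg (fun r : Γ(kmod X, W ⊓ V) => r.1 ⟨z.1, ⟨z.2, hzV⟩⟩) hστ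
  simp only [σ, τ, toK_apply, TopCat.Presheaf.germ_res_apply] at h1
  exact h1

end Groth.Agent.H8
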