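import Groth.Agent.H8.CartierPrimeFactor

/-!
# Codimension one of effective Cartier divisors (helper8)

* `one_le_ringKrullDim_stalk_of_mem_support`: the local ring at a point of an effective Cartier
  divisor has dimension at least one.
* `ringKrullDim_stalk_eq_one_of_maximal`: at a maximal point of the divisor (locally Noetherian
  ambient scheme) it is exactly one.
* `iInf_ringKrullDim_stalk_support`: the codimension of a nonempty effective Cartier divisor is one.
-/

set_option autoImplicit false
universe u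
open CategoryTheory AlgebraicGeometry TopologicalSpace Opposite

namespace Groth.Agent.H8

variable {X : Scheme.{u}}

/-- A prime containing a nonzerodivisor has height at least one. -/
theorem one_le_height_of_mem_nonZeroDivisors {R : Type*} [CommRing R] (p : Ideal R) [p.IsPrime]
    (f : R) (hf : f ∈ nonZeroDivisors R) (hfp : f ∈ p) : 1 ≤ p.height := by
  rw [Order.one_le_iff_ne_zero]
  intro h0
  rw [Ideal.height_eq_zero_iff] at h0
  exact (Ideal.disjoint_nonZeroDivisors_of_mem_minimalPrimes h0).le_bot ⟨hfp, hf⟩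

/-- The local ring at a point of an effective Cartier divisor has dimension at least one. -/
theorem one_le_ringKrullDim_stalk_of_mem_support (𝓘 : X.IdealSheafData)
    (h𝓘 : BlowUp.IsEffCartierIdeal 𝓘) (y : X) (hy : y ∈ 𝓘.support) :
    1 ≤ ringKrullDim (X.presheaf.stalk y) := by
  obtain ⟨U, hyU, f, hf, hU⟩ := h𝓘 y
  rw [ringKrullDim_stalk_eq_height U.2 y hyU]
  have hle := (mem_support_iff_le_primeIdealOf 𝓘 U.2 y hyU).mp hy
  have hfp : f ∈ (U.2.primeIdealOf ⟨y, hyU⟩).asIdeal := hle (by
    change f ∈ 𝓘.ideal U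
    rw [hU]; exact Ideal.mem_span_singleton_self f)
  have := one_le_height_of_mem_nonZeroDivisors (U.2.primeIdealOf ⟨y, hyU⟩).asIdeal f hf hfp
  exact_mod_cast this

/-- At a maximal point of an effective Cartier divisor on a locally Noetherian scheme the local
ring has dimension exactly one. -/
theorem ringKrullDim_stalk_eq_one_of_maximal [IsLocallyNoetherian X] (𝓘 : X.IdealSheafData)
    (h𝓘 : BlowUp.IsEffCartierIdeal 𝓘) (y : X) (hy : y ∈ 𝓘.support)
    (hmax : ∀ y' ∈ (𝓘.support : Set X), y' ⤳ y → y' = y) :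
    ringKrullDim (X.presheaf.stalk y) = 1 := by
  refine le_antisymm ?_ (one_le_ringKrullDim_stalk_of_mem_support 𝓘 h𝓘 y hy)
  obtain ⟨U, hyU, f, hf, hU⟩ := h𝓘 y
  have : IsNoetherianRing Γ(X, U.1) := IsLocallyNoetherian.component_noetherian U
  rw [ringKrullDim_stalk_eq_height U.2 y hyU]
  have hmin := primeIdealOf_mem_minimalPrimes 𝓘 U.2 y hyU hy hmax
  have hmin' : (U.2.primeIdealOf ⟨y, hyU⟩).asIdeal ∈ (Ideal.span {f}).minimalPrimes := by
    rw [← hU]; exact hmin
  have := Ideal.height_le_one_of_isPrincipal_of_mem_minimalPrimes (Ideal.span {f}) _ hmin'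
  exact_mod_cast this

/-- The codimension of a nonempty effective Cartier divisor in a locally Noetherian scheme is
one. -/
theorem iInf_ringKrullDim_stalk_support [IsLocallyNoetherian X] (𝓘 : X.IdealSheafData)
    (h𝓘 : BlowUp.IsEffCartierIdeal 𝓘) (hne : (𝓘.support : Set X).Nonempty) :
    (⨅ y : (𝓘.support : Set X), ringKrullDim (X.presheaf.stalk y.1)) = 1 := by
  apply le_antisymm
  · have hI : 𝓘 ≠ ⊤ := by
      rintro rfl
      obtain ⟨x, hx⟩ := hne
      exact hx
    obtain ⟨η, hη, hmax⟩ := exists_maximal_point_support 𝓘 hI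
    refine (iInf_le _ (⟨η, hη⟩ : (𝓘.support : Set X))).trans ?_
    exact (ringKrullDim_stalk_eq_one_of_maximal 𝓘 h𝓘 η hη hmax).le
  · exact le_iInf fun y => one_le_ringKrullDim_stalk_of_mem_support 𝓘 h𝓘 y.1 y.2

end Groth.Agent.H8
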