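import Groth.Agent.H8.RelCartierFlat

/-!
# Stalks of a closed subscheme (helper8)

The kernel of the stalk map `O_{X,x} → O_{Z,d}` of the closed subscheme `Z` of an ideal sheaf `𝓘` is
generated by `𝓘(W)` for any affine open `W ∋ x`.  Application: flatness of the ambient scheme at
points of a relative effective Cartier divisor with Noetherian local ring.
-/

set_option autoImplicit false
universe u
open CategoryTheory CategoryTheory.Limits AlgebraicGeometry TopologicalSpace Opposite

namespace Groth.Agent.H8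

variable {X S : Scheme.{u}} (𝓘 : X.IdealSheafData)

set_option backward.isDefEq.respectTransparency false in
/-- the kernel of the stalk map of the closed subscheme of `𝓘` -/
theorem ker_stalkMap_subschemeι (W : X.affineOpens) (d : 𝓘.subscheme)
    (hx : 𝓘.subschemeι d ∈ W.1) :
    RingHom.ker (𝓘.subschemeι.stalkMap d).hom =
      (𝓘.ideal W).map (X.presheaf.germ W.1 (𝓘.subschemeι d) hx).hom := by
  set x := 𝓘.subschemeι d with hxdef
  have hV : IsAffineOpen (𝓘.subschemeι ⁻¹ᵁ W.1) := W.2.preimage 𝓘.subschemeι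
  letI : Algebra Γ(X, W.1) (X.presheaf.stalk x) := X.presheaf.algebra_section_stalk ⟨x, hx⟩
  haveI locX : IsLocalization.AtPrime (X.presheaf.stalk x) (W.2.primeIdealOf ⟨x, hx⟩).asIdeal :=
    W.2.isLocalization_stalk ⟨x, hx⟩
  letI : Algebra Γ(𝓘.subscheme, 𝓘.subschemeι ⁻¹ᵁ W.1) (𝓘.subscheme.presheaf.stalk d) :=
    𝓘.subscheme.presheaf.algebra_section_stalk ⟨d, hx⟩
  haveI locZ : IsLocalization.AtPrime (𝓘.subscheme.presheaf.stalk d)
      (hV.primeIdealOf ⟨d, hx⟩).asIdeal := hV.isLocalization_stalk ⟨d, hx⟩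
  have nat : ∀ r : Γ(X, W.1), (𝓘.subschemeι.stalkMap d).hom (algebraMap _ (X.presheaf.stalk x) r) =
      algebraMap _ (𝓘.subscheme.presheaf.stalk d) ((𝓘.subschemeι.app W.1).hom r) := by
    intro r
    exact Scheme.Hom.germ_stalkMap_apply 𝓘.subschemeι W.1 d hx r
  apply le_antisymm
  · intro k hk
    rw [RingHom.mem_ker] at hk
    obtain ⟨⟨r, s⟩, hrs⟩ := IsLocalization.surj (W.2.primeIdealOf ⟨x, hx⟩).asIdeal.primeCompl k
    have hrs' : k * algebraMap _ _ (s : Γ(X, W.1)) = algebraMap _ _ r := hrs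
    have h0 : algebraMap _ (𝓘.subscheme.presheaf.stalk d) ((𝓘.subschemeι.app W.1).hom r) = 0 := by
      rw [← nat, ← hrs', map_mul, hk, zero_mul]
    obtain ⟨m, hm⟩ := (IsLocalization.map_eq_zero_iff
      (hV.primeIdealOf ⟨d, hx⟩).asIdeal.primeCompl _ _).mp h0
    obtain ⟨t, ht⟩ := 𝓘.subschemeι_app_surjective W (m : Γ(𝓘.subscheme, 𝓘.subschemeι ⁻¹ᵁ W.1))
    have htr : t * r ∈ 𝓘.ideal W := by
      rw [← 𝓘.ker_subschemeι_app W, RingHom.mem_ker, map_mul]
      rw [show (𝓘.subschemeι.app W.1).hom t = m from ht]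
      exact hm
    have hunit_t : IsUnit (algebraMap Γ(X, W.1) (X.presheaf.stalk x) t) := by
      have h1 : IsUnit ((𝓘.subschemeι.stalkMap d).hom (algebraMap _ (X.presheaf.stalk x) t)) := by
        rw [nat, show (𝓘.subschemeι.app W.1).hom t = m from ht]
        exact IsLocalization.map_units _ m
      exact isUnit_of_map_unit (𝓘.subschemeι.stalkMap d).hom _ h1
    have hunit_s : IsUnit (algebraMap Γ(X, W.1) (X.presheaf.stalk x) s) :=
      IsLocalization.map_units _ s
    have h2 : algebraMap Γ(X, W.1) (X.presheaf.stalk x) (t * r) ∈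
        (𝓘.ideal W).map (algebraMap Γ(X, W.1) (X.presheaf.stalk x)) :=
      Ideal.mem_map_of_mem _ htr
    rw [map_mul] at h2
    have h3 : algebraMap Γ(X, W.1) (X.presheaf.stalk x) r ∈
        (𝓘.ideal W).map (algebraMap Γ(X, W.1) (X.presheaf.stalk x)) := by
      have := Ideal.mul_mem_left _ (↑hunit_t.unit⁻¹ : X.presheaf.stalk x) h2
      rwa [← mul_assoc, IsUnit.val_inv_mul, one_mul] at this
    rw [← hrs'] at h3
    have := Ideal.mul_mem_right (↑hunit_s.unit⁻¹ : X.presheaf.stalk x) _ h3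
    rwa [mul_assoc, IsUnit.mul_val_inv, mul_one] at this
  · rw [Ideal.map_le_iff_le_comap]
    intro r hr
    rw [Ideal.mem_comap, RingHom.mem_ker]
    change (𝓘.subschemeι.stalkMap d).hom (algebraMap _ (X.presheaf.stalk x) r) = 0
    rw [nat]
    have : (𝓘.subschemeι.app W.1).hom r = 0 := by
      rw [← RingHom.mem_ker, 𝓘.ker_subschemeι_app W]
      exact hr
    rw [this, map_zero]

set_option backward.isDefEq.respectTransparency false in
/-- **Flatness at points of a relative effective Cartier divisor** with Noetherian local ring. -/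
theorem flat_stalkMap_of_relCartier (f : X ⟶ S) (hI : BlowUp.IsEffCartierIdeal 𝓘)
    [Flat (𝓘.subschemeι ≫ f)] (d : 𝓘.subscheme)
    [IsNoetherianRing (X.presheaf.stalk (𝓘.subschemeι d))] :
    (f.stalkMap (𝓘.subschemeι d)).hom.Flat := by
  set x := 𝓘.subschemeι d with hxdef
  obtain ⟨W, hxW, a, ha, haI⟩ := hI x
  letI : Algebra Γ(X, W.1) (X.presheaf.stalk x) := X.presheaf.algebra_section_stalk ⟨x, hxW⟩
  haveI locX : IsLocalization.AtPrime (X.presheaf.stalk x) (W.2.primeIdealOf ⟨x, hxW⟩).asIdeal :=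
    W.2.isLocalization_stalk ⟨x, hxW⟩
  set h : X.presheaf.stalk x := algebraMap Γ(X, W.1) (X.presheaf.stalk x) a with hh
  have hreg : h ∈ nonZeroDivisors (X.presheaf.stalk x) :=
    IsLocalization.map_nonZeroDivisors_le (W.2.primeIdealOf ⟨x, hxW⟩).asIdeal.primeCompl _
      (Submonoid.mem_map_of_mem _ ha)
  have hker : RingHom.ker (𝓘.subschemeι.stalkMap d).hom = Ideal.span {h} := by
    rw [ker_stalkMap_subschemeι 𝓘 W d hxW, haI, Ideal.map_span, Set.image_singleton]
    rfl
  letI : Algebra (S.presheaf.stalk (f x)) (X.presheaf.stalk x) := (f.stalkMap x).hom.toAlgebra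
  change Module.Flat (S.presheaf.stalk (f x)) (X.presheaf.stalk x)
  have hsurj : Function.Surjective (𝓘.subschemeι.stalkMap d).hom :=
    𝓘.subschemeι.stalkMap_surjective d
  have hfl := Flat.stalkMap (𝓘.subschemeι ≫ f) d
  rw [Scheme.Hom.stalkMap_comp] at hfl
  have hfl' : ((𝓘.subschemeι.stalkMap d).hom.comp
      (algebraMap (S.presheaf.stalk (f x)) (X.presheaf.stalk x))).Flat := hfl
  rw [flat_comp_iff_of_surjective _ hsurj, hker] at hfl'
  have hjac : h ∈ Ideal.jacobson (⊥ : Ideal (X.presheaf.stalk x)) := by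
    rw [IsLocalRing.jacobson_eq_maximalIdeal ⊥ bot_ne_top, IsLocalRing.mem_maximalIdeal, mem_nonunits_iff]
    intro hu
    have h1 : h ∈ RingHom.ker (𝓘.subschemeι.stalkMap d).hom := by
      rw [hker]; exact Ideal.mem_span_singleton_self h
    rw [RingHom.mem_ker] at h1
    have h2 := hu.map (𝓘.subschemeι.stalkMap d).hom
    rw [h1] at h2
    exact not_isUnit_zero h2
  exact flat_of_flat_quot_of_mem_jacobson h hjac hreg

end Groth.Agent.H8
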