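import Groth.Agent.S1570
import Groth.Agent.H8.StalkSubscheme
import Mathlib.RingTheory.Ideal.UFD
import Mathlib.AlgebraicGeometry.FunctionField

/-!
# Integral codimension-one closed subschemes with factorial local rings are Cartier (helper8)
-/

set_option autoImplicit false
universe u
open CategoryTheory CategoryTheory.Limits AlgebraicGeometry TopologicalSpace Opposite

namespace Groth.Agent.H8

variable {X : Scheme.{u}} (𝓘 : X.IdealSheafData)

/-- On an affine chart meeting an integral closed subscheme, its ideal is prime. -/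
theorem isPrime_ideal_of_isIntegral_subscheme [IsIntegral 𝓘.subscheme] (U : X.affineOpens)
    (d : 𝓘.subscheme) (hd : 𝓘.subschemeι d ∈ U.1) : (𝓘.ideal U).IsPrime := by
  rw [← 𝓘.ker_subschemeι_app U]
  haveI : IsDomain Γ(𝓘.subscheme, 𝓘.subschemeι ⁻¹ᵁ U.1) :=
    @IsIntegral.component_integral _ _ (𝓘.subschemeι ⁻¹ᵁ U.1) ⟨⟨d, hd⟩⟩
  exact RingHom.ker_isPrime _

set_option backward.isDefEq.respectTransparency false in
/-- If the local ring of `X` at the generic point of an integral closed subscheme `D` has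
dimension one, the ideal of `D` in any affine chart meeting `D` has height one. -/
theorem height_ideal_eq_one_of_codim [IsIntegral 𝓘.subscheme]
    (hcodim : ringKrullDim (X.presheaf.stalk (𝓘.subschemeι (genericPoint ↥𝓘.subscheme))) = 1)
    (U : X.affineOpens) (d : 𝓘.subscheme) (hd : 𝓘.subschemeι d ∈ U.1) :
    (𝓘.ideal U).height = 1 := by
  haveI hprime := isPrime_ideal_of_isIntegral_subscheme 𝓘 U d hd
  set ξ := genericPoint ↥𝓘.subscheme with hξ
  have hξU : 𝓘.subschemeι ξ ∈ U.1 := by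
    have h1 : ξ ∈ (𝓘.subschemeι ⁻¹ᵁ U.1 : 𝓘.subscheme.Opens) :=
      (genericPoint_specializes d).mem_open (𝓘.subschemeι ⁻¹ᵁ U.1).2 hd
    exact h1
  letI : Algebra Γ(X, U.1) (X.presheaf.stalk (𝓘.subschemeι ξ)) :=
    X.presheaf.algebra_section_stalk ⟨𝓘.subschemeι ξ, hξU⟩
  haveI loc : IsLocalization.AtPrime (X.presheaf.stalk (𝓘.subschemeι ξ))
      (U.2.primeIdealOf ⟨𝓘.subschemeι ξ, hξU⟩).asIdeal := U.2.isLocalization_stalk ⟨_, hξU⟩
  have hker := ker_stalkMap_subschemeι 𝓘 U ξ hξU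
  have hmax : (RingHom.ker (𝓘.subschemeι.stalkMap ξ).hom).IsMaximal := by
    have hF : IsField (𝓘.subscheme.presheaf.stalk ξ) :=
      Field.toIsField 𝓘.subscheme.functionField
    exact Ideal.Quotient.maximal_of_isField _ (MulEquiv.isField hF
      (RingHom.quotientKerEquivOfSurjective (𝓘.subschemeι.stalkMap_surjective ξ)).toMulEquiv)
  have hmap : (𝓘.ideal U).map (algebraMap Γ(X, U.1) (X.presheaf.stalk (𝓘.subschemeι ξ))) =
      IsLocalRing.maximalIdeal _ := by
    have := IsLocalRing.eq_maximalIdeal hmax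
    rw [hker] at this
    exact this
  have hle : 𝓘.ideal U ≤ (U.2.primeIdealOf ⟨𝓘.subschemeι ξ, hξU⟩).asIdeal := by
    refine (mem_support_iff_le_primeIdealOf 𝓘 U.2 _ hξU).mp ?_
    have := 𝓘.range_subschemeι
    rw [Set.ext_iff] at this
    exact (this _).mp ⟨ξ, rfl⟩
  have hdisj : Disjoint ((U.2.primeIdealOf ⟨𝓘.subschemeι ξ, hξU⟩).asIdeal.primeCompl : Set Γ(X, U.1))
      (𝓘.ideal U : Set Γ(X, U.1)) := by
    rw [Set.disjoint_left]
    intro a ha haI
    exact ha (hle haI)
  have h1 := IsLocalization.height_map_of_disjoint (S := X.presheaf.stalk (𝓘.subschemeι ξ))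
    (U.2.primeIdealOf ⟨𝓘.subschemeι ξ, hξU⟩).asIdeal.primeCompl (𝓘.ideal U) hdisj
  rw [hmap] at h1
  have h2 := IsLocalRing.maximalIdeal_height_eq_ringKrullDim
    (R := X.presheaf.stalk (𝓘.subschemeι ξ))
  rw [hcodim, h1] at h2
  exact_mod_cast h2

set_option backward.isDefEq.respectTransparency false in
/-- **S1684**: an integral closed subscheme of codimension one all of whose ambient local rings
are factorial is an effective Cartier divisor. -/
theorem isEffCartier_of_integral_codim_one_ufd [IsLocallyNoetherian X] [IsIntegral 𝓘.subscheme]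
    (hcodim : ringKrullDim (X.presheaf.stalk (𝓘.subschemeι (genericPoint ↥𝓘.subscheme))) = 1)
    (hufd : ∀ x : ↥X, x ∈ 𝓘.support →
      IsDomain (X.presheaf.stalk x) ∧ UniqueFactorizationMonoid (X.presheaf.stalk x)) :
    BlowUp.IsEffCartierIdeal 𝓘 := by
  apply Groth.Agent.S1570.result
  intro x hx U hxU
  obtain ⟨d, rfl⟩ : ∃ d, 𝓘.subschemeι d = x := by
    have := 𝓘.range_subschemeι
    rw [Set.ext_iff] at this
    exact (this _).mpr hx
  obtain ⟨hdom, hU⟩ := hufd _ hx
  haveI hprime := isPrime_ideal_of_isIntegral_subscheme 𝓘 U d hxU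
  have hht := height_ideal_eq_one_of_codim 𝓘 hcodim U d hxU
  letI : Algebra Γ(X, U.1) (X.presheaf.stalk (𝓘.subschemeι d)) :=
    X.presheaf.algebra_section_stalk ⟨𝓘.subschemeι d, hxU⟩
  haveI loc : IsLocalization.AtPrime (X.presheaf.stalk (𝓘.subschemeι d))
      (U.2.primeIdealOf ⟨𝓘.subschemeι d, hxU⟩).asIdeal := U.2.isLocalization_stalk ⟨_, hxU⟩
  have hle : 𝓘.ideal U ≤ (U.2.primeIdealOf ⟨𝓘.subschemeι d, hxU⟩).asIdeal :=
    (mem_support_iff_le_primeIdealOf 𝓘 U.2 _ hxU).mp hx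
  have hdisj : Disjoint ((U.2.primeIdealOf ⟨𝓘.subschemeι d, hxU⟩).asIdeal.primeCompl : Set Γ(X, U.1))
      (𝓘.ideal U : Set Γ(X, U.1)) := by
    rw [Set.disjoint_left]
    intro a ha haI
    exact ha (hle haI)
  haveI hP : ((𝓘.ideal U).map (algebraMap Γ(X, U.1) (X.presheaf.stalk (𝓘.subschemeι d)))).IsPrime :=
    IsLocalization.isPrime_of_isPrime_disjoint _ _ _ hprime hdisj
  have h1 := IsLocalization.height_map_of_disjoint (S := X.presheaf.stalk (𝓘.subschemeι d))
    (U.2.primeIdealOf ⟨𝓘.subschemeι d, hxU⟩).asIdeal.primeCompl (𝓘.ideal U) hdisj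
  rw [hht] at h1
  obtain ⟨g, hg⟩ := (UniqueFactorizationMonoid.isPrincipal_of_height_eq_one h1).principal
  refine ⟨g, mem_nonZeroDivisors_of_ne_zero ?_, hg⟩
  rintro rfl
  refine Ideal.ne_bot_of_height_eq_one h1 ?_
  rw [hg]
  simp

end Groth.Agent.H8
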