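import Groth.Agent.H8.CartierCodim
import Groth.Agent.H8.CartierUFD

/-!
# Prime decomposition of an effective Cartier divisor on a locally factorial scheme (helper8)
-/

set_option autoImplicit false
set_option linter.style.haveILetI false
set_option linter.unusedSectionVars false
universe u
open CategoryTheory AlgebraicGeometry TopologicalSpace Opposite

namespace Groth.Agent.H8

variable {X : Scheme.{u}}

/-- The image of the generic point of an integral scheme under a closed immersion is a generic
point of the image. -/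
theorem closure_image_genericPoint {Z : Scheme.{u}} (f : Z ⟶ X) [IsClosedImmersion f]
    [IsIntegral Z] : closure {f (genericPoint ↥Z)} = Set.range f.base := by
  apply subset_antisymm
  · exact closure_minimal (Set.singleton_subset_iff.mpr ⟨_, rfl⟩)
      f.isClosedEmbedding.isClosed_range
  · have h1 : closure {genericPoint ↥Z} = Set.univ := (genericPoint_spec ↥Z).def
    have h2 := image_closure_subset_closure_image (s := {genericPoint ↥Z}) f.continuous
    rw [h1, Set.image_univ, Set.image_singleton] at h2
    exact h2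

/-- The support of the kernel of a closed immersion is its range. -/
theorem support_ker_of_isClosedImmersion {Z : Scheme.{u}} (f : Z ⟶ X) [IsClosedImmersion f] :
    (f.ker.support : Set X) = Set.range f.base := by
  rw [Scheme.Hom.support_ker]
  exact f.isClosedEmbedding.isClosed_range.closure_eq

/-- Every point of a support is a specialization of a maximal point of the support. -/
theorem exists_maximal_point_support_specializes (I : X.IdealSheafData) (x : X)
    (hx : x ∈ I.support) :
    ∃ η ∈ (I.support : Set X), η ⤳ x ∧ ∀ ζ ∈ (I.support : Set X), ζ ⤳ η → ζ = η := by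
  obtain ⟨_, ⟨W, hW, rfl⟩, hxW, -⟩ :=
    X.isBasis_affineOpens.exists_subset_of_mem_open (Set.mem_univ x) isOpen_univ
  have hle := (mem_support_iff_le_primeIdealOf I hW x hxW).mp hx
  obtain ⟨q, hq, hqle⟩ := Ideal.exists_minimalPrimes_le hle
  have hqprime : q.IsPrime := hq.1.1
  let q' : PrimeSpectrum Γ(X, W) := ⟨q, hqprime⟩
  refine ⟨hW.fromSpec q', ?_, ?_, ?_⟩
  · rw [SetLike.mem_coe, mem_support_iff_le_primeIdealOf I hW _ (fromSpec_mem hW q'),
      primeIdealOf_fromSpec]
    exact hq.1.2
  · rw [specializes_iff_primeIdealOf_le hW _ _ (fromSpec_mem hW q') hxW, primeIdealOf_fromSpec]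
    exact hqle
  · intro ζ hζ hsp
    have hζW : ζ ∈ W := hsp.mem_open W.2 (fromSpec_mem hW q')
    have h1 := (specializes_iff_primeIdealOf_le hW ζ _ hζW (fromSpec_mem hW q')).mp hsp
    rw [primeIdealOf_fromSpec] at h1
    have h2 := (mem_support_iff_le_primeIdealOf I hW ζ hζW).mp hζ
    have h3 : q ≤ (hW.primeIdealOf ⟨ζ, hζW⟩).asIdeal :=
      hq.2 ⟨(hW.primeIdealOf ⟨ζ, hζW⟩).isPrime, h2⟩ h1
    have h4 : hW.primeIdealOf ⟨ζ, hζW⟩ = q' := PrimeSpectrum.ext (le_antisymm h1 h3)
    rw [← h4, hW.fromSpec_primeIdealOf ⟨ζ, hζW⟩]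

/-- Evaluation of ideal sheaves on an affine open, as a monoid homomorphism. -/
def idealHom (U : X.affineOpens) : X.IdealSheafData →* Ideal Γ(X, U.1) where
  toFun I := I.ideal U
  map_one' := by rw [Ideal.one_eq_top]; rfl
  map_mul' _ _ := rfl

theorem ideal_prod_pow {n : ℕ} (J : Fin n → X.IdealSheafData) (a : Fin n → ℕ)
    (U : X.affineOpens) : (∏ i, J i ^ a i).ideal U = ∏ i, (J i).ideal U ^ a i := by
  change idealHom U (∏ i, J i ^ a i) = _
  rw [map_prod]
  refine Finset.prod_congr rfl fun i _ => ?_
  rw [map_pow]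
  rfl


/-- In a T0 space, two points with the same closure are equal. -/
theorem eq_of_closure_singleton_eq {α : Type*} [TopologicalSpace α] [T0Space α] {x y : α}
    (h : closure ({x} : Set α) = closure {y}) : x = y := by
  have hx : IsGenericPoint x (closure {y}) := h
  have hy : IsGenericPoint y (closure {y}) := rfl
  exact hx.eq hy

set_option backward.isDefEq.respectTransparency false in
/-- On an affine open containing the generic point of an integral closed subscheme, the ideal of
the subscheme is the prime of that generic point. -/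
theorem ideal_eq_primeIdealOf_genericPoint (𝓘 : X.IdealSheafData) [IsIntegral 𝓘.subscheme]
    {U : X.Opens} (hU : IsAffineOpen U)
    (hξ : 𝓘.subschemeι (genericPoint ↥𝓘.subscheme) ∈ U) :
    𝓘.ideal ⟨U, hU⟩ = (hU.primeIdealOf ⟨_, hξ⟩).asIdeal := by
  have hsupp : 𝓘.subschemeι (genericPoint ↥𝓘.subscheme) ∈ 𝓘.support := by
    have : 𝓘.subschemeι (genericPoint ↥𝓘.subscheme) ∈ Set.range 𝓘.subschemeι := ⟨_, rfl⟩
    rwa [𝓘.range_subschemeι] at this
  apply le_antisymm ((mem_support_iff_le_primeIdealOf 𝓘 hU _ hξ).mp hsupp)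
  have hprime : (𝓘.ideal ⟨U, hU⟩).IsPrime :=
    isPrime_ideal_of_isIntegral_subscheme 𝓘 ⟨U, hU⟩ (genericPoint ↥𝓘.subscheme) hξ
  let P : PrimeSpectrum Γ(X, U) := ⟨𝓘.ideal ⟨U, hU⟩, hprime⟩
  have hθ : hU.fromSpec P ∈ (𝓘.support : Set X) := by
    rw [SetLike.mem_coe, mem_support_iff_le_primeIdealOf 𝓘 hU _ (fromSpec_mem hU P),
      primeIdealOf_fromSpec]
  have hcl : closure {𝓘.subschemeι (genericPoint ↥𝓘.subscheme)} = (𝓘.support : Set X) := by
    rw [closure_image_genericPoint 𝓘.subschemeι, 𝓘.range_subschemeι]
  rw [← hcl] at hθ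
  have hsp : 𝓘.subschemeι (genericPoint ↥𝓘.subscheme) ⤳ hU.fromSpec P :=
    specializes_iff_mem_closure.mpr hθ
  have := (specializes_iff_primeIdealOf_le hU _ _ hξ (fromSpec_mem hU P)).mp hsp
  rwa [primeIdealOf_fromSpec] at this


/-- The scheme-theoretic image of a closed immersion from an integral scheme is integral. -/
theorem isIntegral_ker_subscheme {Z : Scheme.{u}} (f : Z ⟶ X) [IsClosedImmersion f]
    [IsIntegral Z] : IsIntegral f.ker.subscheme := by
  haveI : Nonempty ↥f.ker.subscheme := ⟨f.toImage (Classical.arbitrary ↥Z)⟩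
  exact isIntegral_of_isOpenImmersion (inv f.toImage)

/-- The generic point of the scheme-theoretic image of a closed immersion from an integral scheme
is the image of the generic point. -/
theorem subschemeι_genericPoint_ker {Z : Scheme.{u}} (f : Z ⟶ X) [IsClosedImmersion f]
    [IsIntegral Z] :
    haveI := isIntegral_ker_subscheme f
    f.ker.subschemeι (genericPoint ↥f.ker.subscheme) = f (genericPoint ↥Z) := by
  haveI := isIntegral_ker_subscheme f
  apply eq_of_closure_singleton_eq
  rw [closure_image_genericPoint f.ker.subschemeι, closure_image_genericPoint f,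
    f.ker.range_subschemeι, support_ker_of_isClosedImmersion]


section Main

variable [IsNoetherian X] (D : X.IdealSheafData) (hD : BlowUp.IsEffCartierIdeal D)
  {n : ℕ} (Z : Fin n → Scheme.{u}) (ι : ∀ i, Z i ⟶ X) [∀ i, IsClosedImmersion (ι i)]
  [∀ i, IsIntegral (Z i)]
  (hrange : Set.range (fun i => Set.range (ι i).base) =
    {S : Set X | Maximal (fun S : Set X => IsIrreducible S ∧ S ⊆ (D.support : Set X)) S})

include hrange in
theorem maximal_range (i : Fin n) :
    Maximal (fun S : Set X => IsIrreducible S ∧ S ⊆ (D.support : Set X))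
      (Set.range (ι i).base) := by
  have : Set.range (ι i).base ∈ Set.range (fun i => Set.range (ι i).base) := ⟨i, rfl⟩
  rw [hrange] at this
  exact this

include hrange in
theorem genericPoint_mem_support (i : Fin n) : ι i (genericPoint ↥(Z i)) ∈ D.support :=
  (maximal_range D Z ι hrange i).1.2 ⟨_, rfl⟩

include hrange in
theorem genericPoint_maximal (i : Fin n) (y : X) (hy : y ∈ (D.support : Set X))
    (hsp : y ⤳ ι i (genericPoint ↥(Z i))) : y = ι i (genericPoint ↥(Z i)) := by
  have hmax := maximal_range D Z ι hrange i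
  have h1 : IsIrreducible (closure ({y} : Set X)) := isIrreducible_singleton.closure
  have h2 : closure ({y} : Set X) ⊆ (D.support : Set X) :=
    closure_minimal (Set.singleton_subset_iff.mpr hy) D.support.isClosed
  have h3 : Set.range (ι i).base ⊆ closure ({y} : Set X) := by
    rw [← closure_image_genericPoint (ι i)]
    exact closure_minimal (Set.singleton_subset_iff.mpr (specializes_iff_mem_closure.mp hsp))
      isClosed_closure
  have h4 := hmax.2 ⟨h1, h2⟩ h3
  have h5 : y ∈ closure ({ι i (genericPoint ↥(Z i))} : Set X) := by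
    rw [closure_image_genericPoint (ι i)]
    exact h4 (subset_closure rfl)
  exact (hsp.antisymm (specializes_iff_mem_closure.mpr h5)).eq

include hD hrange in
theorem ringKrullDim_stalk_genericPoint (i : Fin n) :
    ringKrullDim (X.presheaf.stalk (ι i (genericPoint ↥(Z i)))) = 1 :=
  ringKrullDim_stalk_eq_one_of_maximal D hD _ (genericPoint_mem_support D Z ι hrange i)
    (fun y hy hsp => genericPoint_maximal D Z ι hrange i y hy hsp)

include hD hrange in
theorem isEffCartier_ker_of_components
    (hufd : ∀ x : X, x ∈ D.support →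
      IsDomain (X.presheaf.stalk x) ∧ UniqueFactorizationMonoid (X.presheaf.stalk x))
    (i : Fin n) : BlowUp.IsEffCartierIdeal (ι i).ker := by
  haveI := isIntegral_ker_subscheme (ι i)
  refine isEffCartier_of_integral_codim_one_ufd (ι i).ker ?_ ?_
  · rw [subschemeι_genericPoint_ker (ι i)]
    exact ringKrullDim_stalk_genericPoint D hD Z ι hrange i
  · intro x hx
    refine hufd x ?_
    have h1 : x ∈ ((ι i).ker.support : Set X) := hx
    rw [support_ker_of_isClosedImmersion] at h1
    exact (maximal_range D Z ι hrange i).1.2 h1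

include hrange in
theorem support_subset_iUnion_of_components :
    (D.support : Set X) ⊆ ⋃ i, (((ι i).ker).support : Set X) := by
  intro y hy
  obtain ⟨η, hη, hηy, hηmax⟩ := exists_maximal_point_support_specializes D y hy
  have hP : (fun S : Set X => IsIrreducible S ∧ S ⊆ (D.support : Set X)) (closure {η}) :=
    ⟨isIrreducible_singleton.closure,
      closure_minimal (Set.singleton_subset_iff.mpr hη) D.support.isClosed⟩
  have hmax : Maximal (fun S : Set X => IsIrreducible S ∧ S ⊆ (D.support : Set X))
      (closure {η}) := by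
    refine ⟨hP, fun S hS hle => ?_⟩
    have hcl : closure S ⊆ (D.support : Set X) := closure_minimal hS.2 D.support.isClosed
    have hg := hS.1.isGenericPoint_genericPoint_closure
    have hs_mem : hS.1.genericPoint ∈ (D.support : Set X) := hcl hg.mem
    have hηS : η ∈ closure S := subset_closure (hle (subset_closure rfl))
    have hsp : hS.1.genericPoint ⤳ η := hg.specializes hηS
    have heq := hηmax _ hs_mem hsp
    have : closure S = closure {η} := by rw [← heq]; exact hg.def.symm
    rw [← this]
    exact subset_closure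
  have hmem : closure ({η} : Set X) ∈ Set.range (fun i => Set.range (ι i).base) := by
    rw [hrange]; exact hmax
  obtain ⟨i, hi⟩ := hmem
  refine Set.mem_iUnion.mpr ⟨i, ?_⟩
  rw [support_ker_of_isClosedImmersion]
  have hi' : Set.range (ι i).base = closure ({η} : Set X) := hi
  rw [hi']
  exact specializes_iff_mem_closure.mp hηy


set_option backward.isDefEq.respectTransparency false in
/-- If the point `x` of the affine open `U` is not in the support of `J`, the ideal of `J` on `U`
generates the unit ideal in the stalk at `x`. -/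
theorem map_germ_eq_top_of_notMem_support (J : X.IdealSheafData) {U : X.Opens}
    (hU : IsAffineOpen U) (x : X) (hx : x ∈ U) (hxJ : x ∉ J.support) :
    (J.ideal ⟨U, hU⟩).map (X.presheaf.germ U x hx).hom = ⊤ := by
  letI : Algebra Γ(X, U) (X.presheaf.stalk x) := X.presheaf.algebra_section_stalk ⟨x, hx⟩
  haveI loc : IsLocalization.AtPrime (X.presheaf.stalk x) (hU.primeIdealOf ⟨x, hx⟩).asIdeal :=
    hU.isLocalization_stalk ⟨x, hx⟩
  change (J.ideal ⟨U, hU⟩).map (algebraMap Γ(X, U) (X.presheaf.stalk x)) = ⊤
  rw [mem_support_iff_le_primeIdealOf J hU x hx, SetLike.not_le_iff_exists] at hxJ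
  obtain ⟨s, hsJ, hs⟩ := hxJ
  have hunit : IsUnit (algebraMap Γ(X, U) (X.presheaf.stalk x) s) :=
    IsLocalization.map_units (X.presheaf.stalk x)
      (⟨s, hs⟩ : (hU.primeIdealOf ⟨x, hx⟩).asIdeal.primeCompl)
  exact Ideal.eq_top_of_isUnit_mem _ (Ideal.mem_map_of_mem _ hsJ) hunit

set_option backward.isDefEq.respectTransparency false in
/-- The prime of a point of an affine open generates the maximal ideal of the stalk. -/
theorem map_germ_primeIdealOf {U : X.Opens} (hU : IsAffineOpen U) (x : X) (hx : x ∈ U) :
    (hU.primeIdealOf ⟨x, hx⟩).asIdeal.map (X.presheaf.germ U x hx).hom =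
      IsLocalRing.maximalIdeal (X.presheaf.stalk x) := by
  letI : Algebra Γ(X, U) (X.presheaf.stalk x) := X.presheaf.algebra_section_stalk ⟨x, hx⟩
  haveI loc : IsLocalization.AtPrime (X.presheaf.stalk x) (hU.primeIdealOf ⟨x, hx⟩).asIdeal :=
    hU.isLocalization_stalk ⟨x, hx⟩
  exact IsLocalization.AtPrime.map_eq_maximalIdeal (hU.primeIdealOf ⟨x, hx⟩).asIdeal
    (X.presheaf.stalk x)

include hD hrange in
/-- **Prime decomposition.** On a Noetherian scheme whose local rings along `D` are factorial, an
effective Cartier divisor `D` is the sum of its irreducible components (each an effective Cartier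
divisor) with multiplicities read off in the local rings at their generic points. -/
theorem exists_prod_pow_of_components
    (hufd : ∀ x : X, x ∈ D.support →
      IsDomain (X.presheaf.stalk x) ∧ UniqueFactorizationMonoid (X.presheaf.stalk x))
    (hinj : Function.Injective (fun i => Set.range (ι i).base)) :
    (∀ i, BlowUp.IsEffCartierIdeal (ι i).ker) ∧
      ∃ a : Fin n → ℕ, D = ∏ i, (ι i).ker ^ a i ∧
        ∀ (i : Fin n) (U : X.Opens) (hU : IsAffineOpen U) (hξ : ι i (genericPoint ↥(Z i)) ∈ U),
          (D.ideal ⟨U, hU⟩).map (X.presheaf.germ U _ hξ).hom =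
            IsLocalRing.maximalIdeal (X.presheaf.stalk (ι i (genericPoint ↥(Z i)))) ^ a i := by
  have hcart := isEffCartier_ker_of_components D hD Z ι hrange hufd
  refine ⟨hcart, ?_⟩
  haveI hint : ∀ i, IsIntegral (ι i).ker.subscheme := fun i => isIntegral_ker_subscheme (ι i)
  obtain ⟨a, ha⟩ := exists_eq_prod_pow (fun i => (ι i).ker) hcart hint D hD
    (support_subset_iUnion_of_components D Z ι hrange)
  refine ⟨a, ha, fun i U hU hξ => ?_⟩
  have h1 : D.ideal ⟨U, hU⟩ = ∏ j, ((ι j).ker).ideal ⟨U, hU⟩ ^ a j := by
    conv_lhs => rw [ha]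
    exact ideal_prod_pow _ a ⟨U, hU⟩
  rw [h1]
  change Ideal.mapHom (X.presheaf.germ U _ hξ).hom (∏ j, ((ι j).ker).ideal ⟨U, hU⟩ ^ a j) = _
  rw [map_prod]
  rw [Finset.prod_eq_single i]
  · rw [map_pow]
    congr 1
    change (((ι i).ker).ideal ⟨U, hU⟩).map (X.presheaf.germ U _ hξ).hom = _
    have hξ' : (ι i).ker.subschemeι (genericPoint ↥(ι i).ker.subscheme) ∈ U := by
      rw [subschemeι_genericPoint_ker (ι i)]; exact hξ
    have h2 := ideal_eq_primeIdealOf_genericPoint (ι i).ker hU hξ'
    have h3 : hU.primeIdealOf ⟨_, hξ'⟩ = hU.primeIdealOf ⟨_, hξ⟩ := by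
      congr 1
      exact Subtype.ext (subschemeι_genericPoint_ker (ι i))
    rw [h2, h3]
    exact map_germ_primeIdealOf hU _ hξ
  · intro j _ hji
    rw [map_pow]
    have hnot : ι i (genericPoint ↥(Z i)) ∉ (ι j).ker.support := by
      intro hmem
      have h4 : ι i (genericPoint ↥(Z i)) ∈ ((ι j).ker.support : Set X) := hmem
      rw [support_ker_of_isClosedImmersion] at h4
      have h5 : Set.range (ι i).base ⊆ Set.range (ι j).base := by
        rw [← closure_image_genericPoint (ι i)]
        exact closure_minimal (Set.singleton_subset_iff.mpr h4)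
          (ι j).isClosedEmbedding.isClosed_range
      have h6 := (maximal_range D Z ι hrange i).2 (maximal_range D Z ι hrange j).1 h5
      exact hji (hinj (subset_antisymm h6 h5))
    change (((ι j).ker).ideal ⟨U, hU⟩).map (X.presheaf.germ U _ hξ).hom ^ a j = 1
    rw [map_germ_eq_top_of_notMem_support (ι j).ker hU _ hξ hnot, ← Ideal.one_eq_top, one_pow]
  · intro hi
    exact absurd (Finset.mem_univ i) hi

end Main

end Groth.Agent.H8
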