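import Groth.Agent.H8.ColonSheaf
import Groth.Agent.H8.CartierCodim
import Groth.Agent.H8.PrimeDecomp

/-!
# Closed subschemes inside a union of integral Cartier divisors, up to codimension two (helper8)

* `ringKrullDim_stalk_mono_of_specializes`, `two_le_ringKrullDim_stalk_of_specializes`.
* `exists_dim_zero_point_of_eq_mul`: `𝓩 = 𝓓 * 𝓩` forces a point of dimension zero in `supp 𝓩`.
* `comap_mul_of_isOpenImmersion`.
* `exists_prod_pow_codim_two`: the main decomposition (Stacks, Divisors, "Weil divisors inside a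
  closed subscheme").
-/

set_option autoImplicit false
set_option linter.style.haveILetI false
universe u
open CategoryTheory AlgebraicGeometry TopologicalSpace Opposite

namespace Groth.Agent.H8

variable {X : Scheme.{u}}

/-- Dimension of local rings is monotone under specialization. -/
theorem ringKrullDim_stalk_mono_of_specializes (y z : X) (h : y ⤳ z) :
    ringKrullDim (X.presheaf.stalk y) ≤ ringKrullDim (X.presheaf.stalk z) := by
  obtain ⟨_, ⟨W, hW, rfl⟩, hzW, -⟩ :=
    X.isBasis_affineOpens.exists_subset_of_mem_open (Set.mem_univ z) isOpen_univ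
  have hyW : y ∈ W := h.mem_open W.2 hzW
  rw [ringKrullDim_stalk_eq_height hW y hyW, ringKrullDim_stalk_eq_height hW z hzW]
  have h1 := (specializes_iff_primeIdealOf_le hW y z hyW hzW).mp h
  exact WithBot.coe_le_coe.mpr (Ideal.height_mono h1)

theorem primeIdealOf_lt_of_specializes_ne {W : X.Opens} (hW : IsAffineOpen W)
    (a b : X) (haW : a ∈ W) (hbW : b ∈ W) (hab : a ⤳ b) (hne : a ≠ b) :
    hW.primeIdealOf ⟨a, haW⟩ < hW.primeIdealOf ⟨b, hbW⟩ := by
  refine lt_of_le_of_ne ((specializes_iff_primeIdealOf_le hW a b haW hbW).mp hab) (fun h => hne ?_)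
  have h1 := hW.fromSpec_primeIdealOf ⟨a, haW⟩
  have h2 := hW.fromSpec_primeIdealOf ⟨b, hbW⟩
  rw [h] at h1
  exact h1.symm.trans h2

/-- A proper specialization of a point of positive codimension has codimension at least two. -/
theorem two_le_ringKrullDim_stalk_of_specializes (a b : X) (hab : a ⤳ b) (hne : a ≠ b)
    (h1 : 1 ≤ ringKrullDim (X.presheaf.stalk a)) : 2 ≤ ringKrullDim (X.presheaf.stalk b) := by
  obtain ⟨_, ⟨W, hW, rfl⟩, hbW, -⟩ :=
    X.isBasis_affineOpens.exists_subset_of_mem_open (Set.mem_univ b) isOpen_univ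
  have haW : a ∈ W := hab.mem_open W.2 hbW
  rw [ringKrullDim_stalk_eq_height hW a haW] at h1
  rw [ringKrullDim_stalk_eq_height hW b hbW]
  have h2 := primeIdealOf_lt_of_specializes_ne hW a b haW hbW hab hne
  have h3 := Ideal.height_add_one_le_of_lt_of_isPrime
    (I := (hW.primeIdealOf ⟨a, haW⟩).asIdeal) (J := (hW.primeIdealOf ⟨b, hbW⟩).asIdeal) h2
  have h1' : (1 : ℕ∞) ≤ (hW.primeIdealOf ⟨a, haW⟩).asIdeal.height := by
    have : ((1 : ℕ∞) : WithBot ℕ∞) ≤ ((hW.primeIdealOf ⟨a, haW⟩).asIdeal.height : WithBot ℕ∞) := h1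
    exact WithBot.coe_le_coe.mp this
  have h5 : (2 : ℕ∞) ≤ (hW.primeIdealOf ⟨b, hbW⟩).asIdeal.height := by
    calc (2 : ℕ∞) = 1 + 1 := by norm_num
      _ ≤ (hW.primeIdealOf ⟨a, haW⟩).asIdeal.height + 1 := by gcongr
      _ ≤ _ := h3
  have h6 : ((2 : ℕ∞) : WithBot ℕ∞) ≤ ((hW.primeIdealOf ⟨b, hbW⟩).asIdeal.height : WithBot ℕ∞) :=
    WithBot.coe_le_coe.mpr h5
  exact h6

/-- If `𝓩 = 𝓓 * 𝓩` with `𝓓` effective Cartier and nonempty, then the support of `𝓩` contains a
point whose local ring has dimension zero. -/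
theorem exists_dim_zero_point_of_eq_mul [IsLocallyNoetherian X] (𝓩 𝓓 : X.IdealSheafData)
    (hD : BlowUp.IsEffCartierIdeal 𝓓) (h : 𝓩 = 𝓓 * 𝓩) (x : X) (hx : x ∈ 𝓓.support) :
    ∃ η ∈ (𝓩.support : Set X), ringKrullDim (X.presheaf.stalk η) = 0 := by
  obtain ⟨U, hxU, g, hg, hU⟩ := hD x
  have hnoeth : IsNoetherianRing Γ(X, U.1) := IsLocallyNoetherian.component_noetherian U
  have h1 : 𝓩.ideal U = 𝓓.ideal U * 𝓩.ideal U := by
    conv_lhs => rw [h]
    rfl
  have hfg : (𝓩.ideal U).FG := (isNoetherianRing_iff_ideal_fg _).mp hnoeth _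
  obtain ⟨r, hr1, hr2⟩ := Submodule.exists_sub_one_mem_and_smul_eq_zero_of_fg_of_le_smul
    (𝓓.ideal U) (𝓩.ideal U) hfg (by rw [smul_eq_mul]; exact h1.le)
  have hDp : 𝓓.ideal U ≤ (U.2.primeIdealOf ⟨x, hxU⟩).asIdeal :=
    (mem_support_iff_le_primeIdealOf 𝓓 U.2 x hxU).mp hx
  have hrp : r ∉ (U.2.primeIdealOf ⟨x, hxU⟩).asIdeal := by
    intro hmem
    have h2 : r - (r - 1) ∈ (U.2.primeIdealOf ⟨x, hxU⟩).asIdeal :=
      Ideal.sub_mem _ hmem (hDp hr1)
    rw [sub_sub_cancel] at h2
    exact (U.2.primeIdealOf ⟨x, hxU⟩).isPrime.ne_top ((Ideal.eq_top_iff_one _).mpr h2)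
  obtain ⟨p₀, hp₀, hp₀le⟩ := Ideal.exists_minimalPrimes_le
    (bot_le : (⊥ : Ideal Γ(X, U.1)) ≤ (U.2.primeIdealOf ⟨x, hxU⟩).asIdeal)
  have hp₀prime : p₀.IsPrime := hp₀.1.1
  let P : PrimeSpectrum Γ(X, U.1) := ⟨p₀, hp₀prime⟩
  have hZp : 𝓩.ideal U ≤ p₀ := by
    intro n hn
    have h3 : r * n ∈ p₀ := by
      have := hr2 n hn
      rw [smul_eq_mul] at this
      rw [this]; exact p₀.zero_mem
    rcases hp₀prime.mem_or_mem h3 with h4 | h4
    · exact absurd (hp₀le h4) hrp
    · exact h4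
  refine ⟨U.2.fromSpec P, ?_, ?_⟩
  · rw [SetLike.mem_coe, mem_support_iff_le_primeIdealOf 𝓩 U.2 _ (fromSpec_mem U.2 P),
      primeIdealOf_fromSpec]
    exact hZp
  · rw [ringKrullDim_stalk_eq_height U.2 _ (fromSpec_mem U.2 P), primeIdealOf_fromSpec]
    have : p₀.height = 0 := Ideal.height_eq_zero_iff.mpr hp₀
    change ((p₀.height : ℕ∞) : WithBot ℕ∞) = 0
    rw [this]; rfl

set_option backward.isDefEq.respectTransparency false in
/-- Pullback of ideal sheaves along an open immersion is multiplicative. -/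
theorem comap_mul_of_isOpenImmersion {Y : Scheme.{u}} (f : Y ⟶ X) [IsOpenImmersion f]
    (I J : X.IdealSheafData) : (I * J).comap f = I.comap f * J.comap f := by
  ext U : 2
  change ((I * J).comap f).ideal U = (I.comap f).ideal U * (J.comap f).ideal U
  rw [Scheme.IdealSheafData.ideal_comap_of_isOpenImmersion,
    Scheme.IdealSheafData.ideal_comap_of_isOpenImmersion,
    Scheme.IdealSheafData.ideal_comap_of_isOpenImmersion]
  change Ideal.comap _ (I.ideal _ * J.ideal _) = _
  let e : Γ(Y, U.1) ≃+* Γ(X, f ''ᵁ U.1) := (f.appIso U.1).symm.commRingCatIsoToRingEquiv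
  have he : ∀ K : Ideal Γ(X, f ''ᵁ U.1), K.comap (f.appIso U.1).inv.hom = K.map e.symm := by
    intro K
    exact (Ideal.map_symm e).symm
  rw [he, he, he, Ideal.map_mul]

/-- The support of an integral closed subscheme lies in every closed set containing its generic
point. -/
theorem support_subset_of_genericPoint_mem (𝓘 : X.IdealSheafData) [IsIntegral 𝓘.subscheme]
    (C : Set X) (hC : IsClosed C) (h : 𝓘.subschemeι (genericPoint ↥𝓘.subscheme) ∈ C) :
    (𝓘.support : Set X) ⊆ C := by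
  intro z hz
  obtain ⟨d, rfl⟩ : ∃ d : 𝓘.subscheme, 𝓘.subschemeι d = z := by
    have : z ∈ Set.range 𝓘.subschemeι := by rw [𝓘.range_subschemeι]; exact hz
    exact this
  exact ((genericPoint_specializes d).map 𝓘.subschemeι.continuous).mem_closed hC h

theorem genericPoint_specializes_of_mem_support (𝓘 : X.IdealSheafData) [IsIntegral 𝓘.subscheme]
    (z : X) (hz : z ∈ 𝓘.support) : 𝓘.subschemeι (genericPoint ↥𝓘.subscheme) ⤳ z := by
  obtain ⟨d, rfl⟩ : ∃ d : 𝓘.subscheme, 𝓘.subschemeι d = z := by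
    have : z ∈ Set.range 𝓘.subschemeι := by rw [𝓘.range_subschemeι]; exact hz
    exact this
  exact (genericPoint_specializes d).map 𝓘.subschemeι.continuous

theorem genericPoint_mem_support_self (𝓘 : X.IdealSheafData) [IsIntegral 𝓘.subscheme] :
    𝓘.subschemeι (genericPoint ↥𝓘.subscheme) ∈ 𝓘.support := by
  have : 𝓘.subschemeι (genericPoint ↥𝓘.subscheme) ∈ Set.range 𝓘.subschemeι := ⟨_, rfl⟩
  rwa [𝓘.range_subschemeι] at this

section Main

variable [AlgebraicGeometry.IsNoetherian X] {I : Type u} (𝓓 : I → X.IdealSheafData)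
  (hD : ∀ i, BlowUp.IsEffCartierIdeal (𝓓 i)) (hDint : ∀ i, IsIntegral (𝓓 i).subscheme)
  (Z' : Set X) (hZ' : IsClosed Z')
  (hcodim : ∀ z ∈ Z', (∀ y ∈ Z', y ⤳ z → y = z) →
    (2 : WithBot ℕ∞) ≤ ringKrullDim (X.presheaf.stalk z))

include hZ' hcodim in
omit [AlgebraicGeometry.IsNoetherian X] in
theorem two_le_of_mem_closed (z : X) (hz : z ∈ Z') :
    (2 : WithBot ℕ∞) ≤ ringKrullDim (X.presheaf.stalk z) := by
  let J := Scheme.IdealSheafData.vanishingIdeal ⟨Z', hZ'⟩
  have hJ : (J.support : Set X) = Z' := Scheme.IdealSheafData.coe_support_vanishingIdeal _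
  obtain ⟨η, hη, hsp, hmax⟩ := exists_maximal_point_support_specializes J z
    (by rw [← SetLike.mem_coe, hJ]; exact hz)
  rw [hJ] at hη hmax
  exact (hcodim η hη hmax).trans (ringKrullDim_stalk_mono_of_specializes η z hsp)

include hD hZ' hcodim in
omit [AlgebraicGeometry.IsNoetherian X] in
theorem one_le_of_mem_cover (z : X) (hz : z ∈ Z' ∪ ⋃ i, ((𝓓 i).support : Set X)) :
    (1 : WithBot ℕ∞) ≤ ringKrullDim (X.presheaf.stalk z) := by
  rcases hz with hz | hz
  · refine le_trans ?_ (two_le_of_mem_closed Z' hZ' hcodim z hz)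
    norm_num
  · obtain ⟨i, hi⟩ := Set.mem_iUnion.mp hz
    exact one_le_ringKrullDim_stalk_of_mem_support (𝓓 i) (hD i) z hi

include hD hDint hZ' hcodim in
/-- **Main decomposition.** -/
theorem exists_prod_pow_codim_two (𝓩 : X.IdealSheafData)
    (hcover : (𝓩.support : Set X) ⊆ Z' ∪ ⋃ i, ((𝓓 i).support : Set X)) :
    ∃ a : I →₀ ℕ, 𝓩 ≤ a.prod (fun i n => 𝓓 i ^ n) ∧
      ∃ U : X.Opens, (a.prod (fun i n => 𝓓 i ^ n)).comap U.ι = 𝓩.comap U.ι ∧
        ∀ z ∉ U, z ∈ (𝓩.support : Set X) ∧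
          (2 : WithBot ℕ∞) ≤ ringKrullDim (X.presheaf.stalk z) := by
  have hwf := wellFoundedGT_idealSheafData (X := X)
  revert hcover
  induction 𝓩 using hwf.induction with
  | ind 𝓩 ih =>
    intro hcover
    by_cases hex : ∃ i, ((𝓓 i).support : Set X) ⊆ (𝓩.support : Set X)
    · -- Case B: divide by `𝓓 i`
      obtain ⟨i, hi⟩ := hex
      have := hDint i
      have hle : 𝓩 ≤ 𝓓 i := le_of_support_le_of_isReduced 𝓩 (𝓓 i) (SetLike.coe_subset_coe.mp hi)
      set 𝓩' := colonSheaf 𝓩 (𝓓 i) with h𝓩'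
      have heq : 𝓩 = 𝓓 i * 𝓩' := eq_mul_colonSheaf 𝓩 (𝓓 i) (hD i) hle
      have hle' : 𝓩 ≤ 𝓩' := le_colonSheaf 𝓩 (𝓓 i)
      have hsupp' : (𝓩'.support : Set X) ⊆ (𝓩.support : Set X) :=
        SetLike.coe_subset_coe.mpr (Scheme.IdealSheafData.support_antitone hle')
      have hne : 𝓩 ≠ 𝓩' := by
        intro hcon
        have h1 : 𝓩 = 𝓓 i * 𝓩 := by
          conv_lhs => rw [heq]
          rw [← hcon]
        obtain ⟨η, hη, hdim⟩ := exists_dim_zero_point_of_eq_mul 𝓩 (𝓓 i) (hD i) h1 _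
          (genericPoint_mem_support_self (𝓓 i))
        have h2 := one_le_of_mem_cover 𝓓 hD Z' hZ' hcodim η (hcover hη)
        rw [hdim] at h2
        exact absurd h2 (by norm_num)
      obtain ⟨a', ha', U', hU', hcod'⟩ := ih 𝓩' (lt_of_le_of_ne hle' hne) (hsupp'.trans hcover)
      have hprod : (a' + Finsupp.single i 1).prod (fun i n => 𝓓 i ^ n) =
          a'.prod (fun i n => 𝓓 i ^ n) * 𝓓 i := by
        rw [Finsupp.prod_add_index' (h := fun i n => 𝓓 i ^ n) (fun _ => pow_zero _)
          (fun _ _ _ => pow_add _ _ _),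
          Finsupp.prod_single_index (h := fun i n => 𝓓 i ^ n) (pow_zero _), pow_one]
      refine ⟨a' + Finsupp.single i 1, ?_, U', ?_, ?_⟩
      · rw [hprod, mul_comm]
        conv_lhs => rw [heq]
        intro V
        exact Ideal.mul_mono_right (ha' V)
      · rw [hprod, comap_mul_of_isOpenImmersion, hU', mul_comm, ← comap_mul_of_isOpenImmersion,
          ← heq]
      · intro z hz
        exact ⟨hsupp' (hcod' z hz).1, (hcod' z hz).2⟩
    · -- Case A: no divisor lies in the support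
      push Not at hex
      refine ⟨0, ?_, ⟨(𝓩.support : Set X)ᶜ, 𝓩.support.isClosed.isOpen_compl⟩, ?_, ?_⟩
      · rw [Finsupp.prod_zero_index, Scheme.IdealSheafData.one_eq_top]
        exact le_top
      · rw [Finsupp.prod_zero_index, Scheme.IdealSheafData.one_eq_top,
          Scheme.IdealSheafData.comap_top]
        symm
        rw [← Scheme.IdealSheafData.support_eq_bot_iff, Scheme.IdealSheafData.support_comap]
        apply SetLike.coe_injective
        rw [TopologicalSpace.Closeds.coe_preimage, TopologicalSpace.Closeds.coe_bot]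
        ext y
        simp only [Set.mem_preimage, Set.mem_empty_iff_false, iff_false]
        exact y.2
      · intro z hz
        have hzs : z ∈ (𝓩.support : Set X) := by
          by_contra hcon
          exact hz hcon
        refine ⟨hzs, ?_⟩
        rcases hcover hzs with hzZ | hzD
        · exact two_le_of_mem_closed Z' hZ' hcodim z hzZ
        · obtain ⟨i, hi⟩ := Set.mem_iUnion.mp hzD
          have := hDint i
          refine two_le_ringKrullDim_stalk_of_specializes _ z
            (genericPoint_specializes_of_mem_support (𝓓 i) z hi) ?_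
            (one_le_ringKrullDim_stalk_of_mem_support (𝓓 i) (hD i) _
              (genericPoint_mem_support_self (𝓓 i)))
          intro hcon
          apply hex i
          apply support_subset_of_genericPoint_mem (𝓓 i) _ 𝓩.support.isClosed
          rw [hcon]
          exact hzs

end Main

end Groth.Agent.H8
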