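import Mathlib
import Groth.Agent.H8.FinEtSpreadRes

/-!
# The affine scheme `Spec B ⟶ V` attached to an algebra `B` over the sections of an affine open `V`
-/

set_option autoImplicit false
set_option linter.style.haveILetI false

universe u

open AlgebraicGeometry CategoryTheory TopologicalSpace Opposite

namespace Groth.Agent.H8.AffCover

variable {Y : Scheme.{u}} {V : Y.Opens} (hV : IsAffineOpen V) (B : Type u) [CommRing B]
  [Algebra Γ(Y, V) B]

/-- the scheme `Spec B` -/
noncomputable abbrev affScheme : Scheme.{u} := Spec (CommRingCat.of B)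

/-- `Spec B ⟶ Spec Γ(Y, V)` -/
noncomputable abbrev affHom : affScheme B ⟶ Spec Γ(Y, V) :=
  Spec.map (CommRingCat.ofHom (algebraMap Γ(Y, V) B))

/-- `Spec B ⟶ V` -/
noncomputable def affToOpen : affScheme B ⟶ (V : Scheme.{u}) := affHom B ≫ hV.isoSpec.inv

/-- `Spec B ⟶ Y` -/
noncomputable def affToBase : affScheme B ⟶ Y := affHom B ≫ hV.fromSpec

theorem affToOpen_ι : affToOpen hV B ≫ V.ι = affToBase hV B := by
  rw [affToOpen, affToBase, Category.assoc, IsAffineOpen.isoSpec_inv_ι]

theorem isFinite_affToOpen [Module.Finite Γ(Y, V) B] : IsFinite (affToOpen hV B) := by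
  haveI : IsFinite (affHom B) := by
    rw [IsFinite.SpecMap_iff]
    exact RingHom.finite_algebraMap.mpr (inferInstance : Module.Finite Γ(Y, V) B)
  rw [affToOpen]
  infer_instance

/-- evaluation of elements of `B` at a point of `Spec B` -/
noncomputable def evSpec (η' : affScheme B) : B →+* (affScheme B).residueField η' :=
  ((Scheme.ΓSpecIso (CommRingCat.of B)).inv ≫ (affScheme B).Γevaluation η').hom

theorem affToBase_mem (η' : affScheme B) : affToBase hV B η' ∈ V := by
  have : affToBase hV B η' ∈ Set.range hV.fromSpec := ⟨affHom B η', rfl⟩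
  rw [hV.range_fromSpec] at this
  exact this

theorem residueFieldMap_evaluation (η' : affScheme B) (s : Γ(Y, V)) :
    (affToBase hV B).residueFieldMap η'
      (Y.evaluation V (affToBase hV B η') (affToBase_mem hV B η') s) =
    evSpec B η' (algebraMap Γ(Y, V) B s) := by
  rw [Scheme.evaluation_naturality_apply]
  have happ : (affToBase hV B).app V s =
      (affHom B).app (hV.fromSpec ⁻¹ᵁ V) (hV.fromSpec.app V s) := by
    rw [← CommRingCat.comp_apply, ← Scheme.Hom.comp_app]
    rfl
  rw [happ, hV.fromSpec_app_self, CommRingCat.comp_apply]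
  have hnat := (affHom B).naturality (eqToHom hV.fromSpec_preimage_self).op
  have hnat' := congr($(hnat) ((Scheme.ΓSpecIso Γ(Y, V)).inv s))
  simp only [CommRingCat.comp_apply] at hnat'
  rw [hnat']
  refine (Groth.Agent.H8.FinEtSpread.evaluation_map (X := affScheme B) η' _ _ _).trans ?_
  have h4 := Scheme.ΓSpecIso_inv_naturality (CommRingCat.ofHom (algebraMap Γ(Y, V) B))
  have h5 := congr($(h4) s)
  simp only [CommRingCat.comp_apply] at h5
  have h6 : (affHom B).appTop ((Scheme.ΓSpecIso Γ(Y, V)).inv s) =
      (Scheme.ΓSpecIso (CommRingCat.of B)).inv (algebraMap Γ(Y, V) B s) := h5.symm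
  exact congrArg ((affScheme B).Γevaluation η') h6

theorem evSpec_eq (η' : PrimeSpectrum B) :
    evSpec B η' = (CommRingCat.ofHom (algebraMap B η'.asIdeal.ResidueField) ≫
      (Scheme.Spec.residueFieldIso (CommRingCat.of B) η').inv).hom := by
  exact congrArg CommRingCat.Hom.hom
    (Scheme.Spec.algebraMap_residueFieldIso_inv (CommRingCat.of B) η').symm

/-- the kernel of the evaluation at a point is the prime ideal of the point -/
theorem ker_evSpec (η' : PrimeSpectrum B) : RingHom.ker (evSpec B η') = η'.asIdeal := by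
  rw [evSpec_eq]
  ext b
  rw [RingHom.mem_ker]
  change (Scheme.Spec.residueFieldIso (CommRingCat.of B) η').inv.hom
    (algebraMap B η'.asIdeal.ResidueField b) = 0 ↔ _
  have hinj : Function.Injective (Scheme.Spec.residueFieldIso (CommRingCat.of B) η').inv.hom :=
    RingHom.injective _
  rw [map_eq_zero_iff _ hinj]
  exact Ideal.algebraMap_residueField_eq_zero

/-- every element of a residue field of `Spec B` is a quotient of values of elements of `B` -/
theorem exists_evSpec_div (η' : PrimeSpectrum B) (c : (affScheme B).residueField η') :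
    ∃ a s : B, evSpec B η' s ≠ 0 ∧ c * evSpec B η' s = evSpec B η' a := by
  set iso := Scheme.Spec.residueFieldIso (CommRingCat.of B) η' with hiso
  obtain ⟨x, y, hy, hxy⟩ := IsFractionRing.div_surjective (A := B ⧸ η'.asIdeal) (iso.hom c)
  obtain ⟨a, rfl⟩ := Ideal.Quotient.mk_surjective x
  obtain ⟨s, rfl⟩ := Ideal.Quotient.mk_surjective y
  have hev : ∀ b : B, evSpec B η' b =
      iso.inv (algebraMap (B ⧸ η'.asIdeal) η'.asIdeal.ResidueField (Ideal.Quotient.mk _ b)) := by
    intro b
    rw [evSpec_eq]
    rfl
  have hs0 : algebraMap (B ⧸ η'.asIdeal) η'.asIdeal.ResidueField (Ideal.Quotient.mk _ s) ≠ 0 := by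
    intro h0
    have := (IsFractionRing.injective (B ⧸ η'.asIdeal) η'.asIdeal.ResidueField)
      (h0.trans (map_zero _).symm)
    exact nonZeroDivisors.ne_zero hy this
  refine ⟨a, s, ?_, ?_⟩
  · rw [hev]
    intro h0
    apply hs0
    have := congrArg iso.hom h0
    rw [← CommRingCat.comp_apply, Iso.inv_hom_id, CommRingCat.id_apply, map_zero] at this
    exact this
  · rw [hev, hev]
    have h1 : c = iso.inv (iso.hom c) := by
      rw [← CommRingCat.comp_apply, Iso.hom_inv_id, CommRingCat.id_apply]
    rw [h1, ← hxy, ← map_mul]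
    congr 1
    rw [div_mul_cancel₀ _ hs0]

end Groth.Agent.H8.AffCover
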