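import Groth.Prelude.Def_MoreMor
import Mathlib.AlgebraicGeometry.Morphisms.Immersion
import Mathlib.AlgebraicGeometry.Morphisms.Affine
import Mathlib.AlgebraicGeometry.IdealSheaf.Subscheme
import Mathlib.AlgebraicGeometry.Noetherian

/-!
# Affine stratifications: basic constructions (helper8)
-/

set_option autoImplicit false
universe u
open CategoryTheory AlgebraicGeometry TopologicalSpace

namespace Groth.Agent.H8

/-- `S` is the image of an affine immersion from an affine scheme. -/
def GoodStratum (X : Scheme.{u}) (S : Set X) : Prop :=
  ∃ (Z : Scheme.{u}) (ι : Z ⟶ X), IsImmersion ι ∧ IsAffine Z ∧ IsAffineHom ι ∧ Set.range ι = S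

/-- an affine stratification indexed by `Fin m` -/
def HasStratFin (X : Scheme.{u}) (m : ℕ) : Prop :=
  ∃ s : X → Fin m, (∀ i : Fin m, IsClosed {x : X | s x ≤ i}) ∧
    ∀ i : Fin m, GoodStratum X {x : X | s x = i}

lemma hasAffineStratification_iff (X : Scheme.{u}) (n : ℕ) :
    MoreMor.HasAffineStratification X n ↔ HasStratFin X (n + 1) := Iff.rfl

lemma GoodStratum.image {X Z : Scheme.{u}} (i : Z ⟶ X) [IsImmersion i] [IsAffineHom i]
    {S : Set Z} (hS : GoodStratum Z S) : GoodStratum X (i '' S) := by
  obtain ⟨W, ι, h1, h2, h3, h4⟩ := hS
  refine ⟨W, ι ≫ i, inferInstance, h2, inferInstance, ?_⟩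
  rw [Scheme.Hom.comp_base, TopCat.coe_comp, Set.range_comp, h4]

lemma goodStratum_empty (X : Scheme.{u}) : GoodStratum X (∅ : Set X) := by
  refine ⟨⊥_ Scheme, Limits.initial.to X, inferInstance, inferInstance, inferInstance, ?_⟩
  exact Set.range_eq_empty _

lemma GoodStratum.of_isAffineOpen {X : Scheme.{u}} (U : X.Opens) (hU : IsAffineOpen U)
    [IsAffineHom U.ι] : GoodStratum X (U : Set X) :=
  ⟨U, U.ι, inferInstance, hU, inferInstance, by simp⟩

/-- Adding an open affine stratum on top of a stratification of the closed complement. -/
theorem hasStratFin_succ {X Z : Scheme.{u}} (i : Z ⟶ X) [IsClosedImmersion i] (U : X.Opens)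
    (hU : IsAffineOpen U) [IsAffineHom U.ι] (h : Set.range i = (U : Set X)ᶜ) (m : ℕ)
    (hZ : HasStratFin Z m) : HasStratFin X (m + 1) := by
  classical
  obtain ⟨s, hs1, hs2⟩ := hZ
  have hinj : Function.Injective i := i.isEmbedding.injective
  let t : X → Fin (m + 1) := fun x =>
    if hx : x ∈ Set.range i then (s hx.choose).castSucc else Fin.last m
  have ht1 : ∀ z : Z, t (i z) = (s z).castSucc := by
    intro z
    have hx : i z ∈ Set.range i := ⟨z, rfl⟩
    simp only [t, dif_pos hx]
    rw [hinj hx.choose_spec]
  have ht2 : ∀ x : X, x ∈ U → t x = Fin.last m := by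
    intro x hx
    have : x ∉ Set.range i := by rw [h]; exact fun hh => hh hx
    simp only [t, dif_neg this]
  have hcases : ∀ x : X, x ∈ U ∨ ∃ z, i z = x := by
    intro x
    by_cases hx : x ∈ U
    · exact Or.inl hx
    · right
      have : x ∈ Set.range i := by rw [h]; exact hx
      exact this
  refine ⟨t, ?_, ?_⟩
  · intro j
    induction j using Fin.lastCases with
    | last =>
      convert isClosed_univ
      ext x
      simp [Fin.le_last]
    | cast j =>
      have : {x : X | t x ≤ j.castSucc} = i '' {z | s z ≤ j} := by
        ext x
        constructor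
        · intro hx
          rcases hcases x with hxU | ⟨z, rfl⟩
          · exfalso
            have h1 : t x ≤ j.castSucc := hx
            rw [ht2 x hxU] at h1
            exact absurd (Fin.last_le_iff.mp h1) (Fin.castSucc_lt_last j).ne
          · refine ⟨z, ?_, rfl⟩
            have h1 : t (i z) ≤ j.castSucc := hx
            rw [ht1] at h1
            exact Fin.castSucc_le_castSucc_iff.mp h1
        · rintro ⟨z, hz, rfl⟩
          show t (i z) ≤ j.castSucc
          rw [ht1]
          exact Fin.castSucc_le_castSucc_iff.mpr hz
      rw [this]
      exact i.isClosedEmbedding.isClosedMap _ (hs1 j)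
  · intro j
    induction j using Fin.lastCases with
    | last =>
      have : {x : X | t x = Fin.last m} = (U : Set X) := by
        ext x
        constructor
        · intro hx
          rcases hcases x with hxU | ⟨z, rfl⟩
          · exact hxU
          · exfalso
            have h1 : t (i z) = Fin.last m := hx
            rw [ht1] at h1
            exact (Fin.castSucc_lt_last (s z)).ne h1
        · intro hx
          exact ht2 x hx
      rw [this]
      exact GoodStratum.of_isAffineOpen U hU
    | cast j =>
      have : {x : X | t x = j.castSucc} = i '' {z | s z = j} := by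
        ext x
        constructor
        · intro hx
          rcases hcases x with hxU | ⟨z, rfl⟩
          · exfalso
            have h1 : t x = j.castSucc := hx
            rw [ht2 x hxU] at h1
            exact (Fin.castSucc_lt_last j).ne h1.symm
          · refine ⟨z, ?_, rfl⟩
            have h1 : t (i z) = j.castSucc := hx
            rw [ht1] at h1
            exact Fin.castSucc_injective _ h1
        · rintro ⟨z, hz, rfl⟩
          show t (i z) = j.castSucc
          rw [ht1]
          have hz' : s z = j := hz
          rw [hz']
      rw [this]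
      exact (hs2 j).image i

end Groth.Agent.H8
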