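import Groth.Agent.H8.AffStrat
import Groth.Agent.H8.DimOneAffine
import Mathlib.Topology.KrullDimension
import Mathlib.Topology.Sober

/-!
# Affine stratifications of Noetherian schemes of finite dimension (helper8)
-/

set_option autoImplicit false
universe u
open CategoryTheory AlgebraicGeometry TopologicalSpace

namespace Groth.Agent.H8

/-- all chains of irreducible closed subsets have length `< m` -/
def DimLT (T : Type*) [TopologicalSpace T] (m : ℕ) : Prop :=
  ∀ p : LTSeries (IrreducibleCloseds T), p.length < m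

lemma dimLT_of_topologicalKrullDim_le (T : Type*) [TopologicalSpace T] (d : ℕ)
    (h : topologicalKrullDim T ≤ d) : DimLT T (d + 1) := by
  intro p
  have h1 : (p.length : WithBot ℕ∞) ≤ (d : WithBot ℕ∞) :=
    (Order.LTSeries.length_le_krullDim p).trans h
  have h2 : p.length ≤ d := by exact_mod_cast h1
  omega

lemma isEmpty_of_dimLT_zero (T : Type*) [TopologicalSpace T] (h : DimLT T 0) : IsEmpty T := by
  constructor
  intro x
  have := h (RelSeries.singleton _
    ⟨closure {x}, isIrreducible_singleton.closure, isClosed_closure⟩)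
  simp at this

/-- dimension drops on a closed subspace containing no irreducible component -/
lemma dimLT_of_isClosedEmbedding {Z X : Type*} [TopologicalSpace Z] [TopologicalSpace X]
    (i : Z → X) (hi : Topology.IsClosedEmbedding i)
    (hcomp : ∀ Y ∈ irreducibleComponents X, ¬ Y ⊆ Set.range i) (m : ℕ) (hX : DimLT X (m + 1)) :
    DimLT Z m := by
  intro p
  let f := IrreducibleCloseds.map i hi.continuous
  have hf : StrictMono f := IrreducibleCloseds.map_strictMono_of_isInducing hi.isInducing
  let p' : LTSeries (IrreducibleCloseds X) := p.map f hf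
  have hlast : (p'.last : Set X) ⊆ Set.range i := by
    have : (p'.last : Set X) = closure (i '' (p.last : Set Z)) := by
      simp only [p', LTSeries.last_map]
      exact IrreducibleCloseds.coe_map i hi.continuous _
    rw [this, (hi.isClosedMap _ p.last.isClosed).closure_eq]
    exact Set.image_subset_range _ _
  obtain ⟨Y, hY, hle⟩ := exists_mem_irreducibleComponents_subset_of_isIrreducible
    (p'.last : Set X) p'.last.isIrreducible'
  let Y' : IrreducibleCloseds X := ⟨Y, hY.1, isClosed_of_mem_irreducibleComponents Y hY⟩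
  have hlt : p'.last < Y' := by
    refine lt_of_le_of_ne hle ?_
    intro heq
    apply hcomp Y hY
    have : (p'.last : Set X) = Y := congrArg (fun W : IrreducibleCloseds X => (W : Set X)) heq
    rw [← this]
    exact hlast
  have := hX (p'.snoc Y' hlt)
  simp only [RelSeries.snoc_length, p', LTSeries.map_length] at this
  omega

section Scheme

variable {X : Scheme.{u}}

/-- every point lies in the closure of a generic point of an irreducible component -/
lemma exists_genericPoint_specializes (x : X) : ∃ η ∈ genericPoints X, η ⤳ x := by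
  let C : irreducibleComponents X :=
    ⟨irreducibleComponent x, irreducibleComponent_mem_irreducibleComponents x⟩
  refine ⟨(genericPoints.ofComponent C).1, (genericPoints.ofComponent C).2, ?_⟩
  have h := genericPoints.isGenericPoint_ofComponent C
  rw [specializes_iff_mem_closure, h.def]
  exact mem_irreducibleComponent

lemma eq_of_specializes_of_mem_genericPoints {η η' : X} (hη : η ∈ genericPoints X)
    (h : η' ⤳ η) : η' = η := by
  have h1 : closure {η} ⊆ closure {η'} := h.closure_subset
  have h2 : closure {η'} ⊆ closure {η} :=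
    hη.2 (isIrreducible_singleton.closure) h1
  have h3 : closure {η'} = closure {η} := le_antisymm h2 h1
  have : Inseparable η' η := inseparable_iff_closure_eq.mpr h3
  exact this.eq

/-- an affine open can be enlarged to an affine open containing all generic points -/
theorem exists_isAffineOpen_ge_genericPoints (hfin : (genericPoints X).Finite)
    (V : X.Opens) (hV : IsAffineOpen V) :
    ∃ V' : X.Opens, IsAffineOpen V' ∧ V ≤ V' ∧ genericPoints X ⊆ (V' : Set X) := by
  classical
  let G := genericPoints X
  let O : X → Set X := fun η => (⋃ η' ∈ G \ {η}, closure {η'})ᶜ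
  have hOopen : ∀ η, IsOpen (O η) := by
    intro η
    rw [isOpen_compl_iff]
    exact (hfin.subset Set.sdiff_subset).isClosed_biUnion fun _ _ => isClosed_closure
  have hOmem : ∀ η ∈ G, η ∈ O η := by
    intro η hη hmem
    simp only [Set.mem_iUnion, exists_prop] at hmem
    obtain ⟨η', ⟨_, hne⟩, h⟩ := hmem
    exact hne (eq_of_specializes_of_mem_genericPoints hη (specializes_iff_mem_closure.mpr h))
  have hOuniq : ∀ η y, y ∈ O η → ∀ η'' ∈ G, η'' ⤳ y → η'' = η := by
    intro η y hy η'' hη'' hspec
    by_contra hne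
    apply hy
    simp only [Set.mem_iUnion, exists_prop]
    exact ⟨η'', ⟨hη'', hne⟩, specializes_iff_mem_closure.mp hspec⟩
  let E : Set X := G \ (V : Set X)
  have hEfin : E.Finite := hfin.subset Set.sdiff_subset
  have hW : ∀ η : E, ∃ W : X.Opens, IsAffineOpen W ∧ η.1 ∈ W ∧ (W : Set X) ⊆ O η.1 := by
    intro η
    obtain ⟨_, ⟨W, hW, rfl⟩, h1, h2⟩ := X.isBasis_affineOpens.exists_subset_of_mem_open
      (hOmem η.1 η.2.1) (hOopen η.1)
    exact ⟨W, hW, h1, h2⟩
  choose W hWaff hWmem hWsub using hW
  let U : Option E → X.Opens := fun o => o.elim V W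
  haveI : Finite E := hEfin.to_subtype
  have hUaff : ∀ o, IsAffineOpen (U o) := by
    intro o
    cases o with
    | none => exact hV
    | some η => exact hWaff η
  have hVW : ∀ η : E, Disjoint V (W η) := by
    intro η
    rw [← Opens.coe_disjoint, Set.disjoint_left]
    intro y hyV hyW
    obtain ⟨η'', hη'', hspec⟩ := exists_genericPoint_specializes y
    have := hOuniq η.1 y (hWsub η hyW) η'' hη'' hspec
    subst this
    exact η.2.2 (hspec.mem_open V.isOpen hyV)
  have hWW : ∀ η η' : E, η ≠ η' → Disjoint (W η) (W η') := by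
    intro η η' hne
    rw [← Opens.coe_disjoint, Set.disjoint_left]
    intro y hy hy'
    obtain ⟨η'', hη'', hspec⟩ := exists_genericPoint_specializes y
    have h1 := hOuniq η.1 y (hWsub η hy) η'' hη'' hspec
    have h2 := hOuniq η'.1 y (hWsub η' hy') η'' hη'' hspec
    exact hne (Subtype.ext (h1.symm.trans h2))
  have hdisj : Pairwise (Function.onFun Disjoint U) := by
    intro o o' hne
    cases o with
    | none =>
      cases o' with
      | none => exact absurd rfl hne
      | some η' => exact hVW η'
    | some η =>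
      cases o' with
      | none => exact (hVW η).symm
      | some η' => exact hWW η η' (fun h => hne (by rw [h]))
  refine ⟨iSup U, IsAffineOpen.iSup_of_disjoint hUaff hdisj, le_iSup U none, ?_⟩
  intro η hη
  by_cases hηV : η ∈ (V : Set X)
  · exact (le_iSup U none) hηV
  · exact (le_iSup U (some ⟨η, hη, hηV⟩)) (hWmem ⟨η, hη, hηV⟩)

set_option backward.isDefEq.respectTransparency false in
/-- finitely many points of an affine open lying in an open `W` have a common basic open
neighbourhood inside `W`. -/
theorem exists_basicOpen_le_of_finite (U : X.Opens) (hU : IsAffineOpen U) (W : X.Opens)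
    (F : Set X) (hF : F.Finite) (hFU : F ⊆ (U : Set X)) (hFW : F ⊆ (W : Set X)) :
    ∃ f : Γ(X, U), X.basicOpen f ≤ W ∧ F ⊆ (X.basicOpen f : Set X) := by
  classical
  by_cases hne : F.Nonempty
  swap
  · refine ⟨0, ?_, ?_⟩
    · rw [Scheme.basicOpen_zero]; exact bot_le
    · rw [Set.not_nonempty_iff_eq_empty.mp hne]; exact Set.empty_subset _
  obtain ⟨x₀, hx₀⟩ := hne
  let P : F → Ideal Γ(X, U) := fun x => (hU.primeIdealOf ⟨x.1, hFU x.2⟩).asIdeal
  let I : Ideal Γ(X, U) :=
    ⨅ y : {y : X // y ∈ U ∧ y ∉ W}, (hU.primeIdealOf ⟨y.1, y.2.1⟩).asIdeal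
  have hI : ∀ f ∈ I, X.basicOpen f ≤ W := by
    intro f hf y hy
    by_contra hyW
    have hyU : y ∈ U := X.basicOpen_le f hy
    have h1 : f ∈ (hU.primeIdealOf ⟨y, hyU⟩).asIdeal :=
      (Ideal.mem_iInf.mp hf) ⟨y, hyU, hyW⟩
    exact (mem_basicOpen_iff_notMem_primeIdealOf hU f y hyU).mp hy h1
  haveI : Finite F := hF.to_subtype
  haveI : Fintype F := Fintype.ofFinite F
  have hnot : ¬ ((I : Set Γ(X, U)) ⊆ ⋃ x ∈ ((Finset.univ : Finset F) : Set F), (P x : Set _)) := by
    rw [Ideal.subset_union_prime (⟨x₀, hx₀⟩ : F) ⟨x₀, hx₀⟩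
      (fun x _ _ _ => (hU.primeIdealOf ⟨x.1, hFU x.2⟩).isPrime)]
    rintro ⟨x, -, hle⟩
    obtain ⟨f, hfW, hxf⟩ := hU.exists_basicOpen_le (V := W) ⟨x.1, hFW x.2⟩ (hFU x.2)
    have hfI : f ∈ I := by
      rw [Ideal.mem_iInf]
      rintro ⟨y, hyU, hyW⟩
      by_contra hn
      exact hyW (hfW ((mem_basicOpen_iff_notMem_primeIdealOf hU f y hyU).mpr hn))
    exact (mem_basicOpen_iff_notMem_primeIdealOf hU f x.1 (hFU x.2)).mp hxf (hle hfI)
  rw [Set.not_subset] at hnot
  obtain ⟨f, hfI, hfP⟩ := hnot
  refine ⟨f, hI f hfI, ?_⟩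
  intro x hx
  rw [SetLike.mem_coe, mem_basicOpen_iff_notMem_primeIdealOf hU f x (hFU hx)]
  intro hmem
  apply hfP
  simp only [Set.mem_iUnion]
  exact ⟨⟨x, hx⟩, by simp, hmem⟩

/-- an affine open contained in all members of an affine open cover has affine inclusion -/
lemma isAffineHom_ι_of_le_cover (U : X.Opens) (hU : IsAffineOpen U)
    (h : ∀ x : X, ∃ V : X.Opens, IsAffineOpen V ∧ x ∈ V ∧ U ≤ V) : IsAffineHom U.ι := by
  apply isAffineHom_of_forall_exists_isAffineOpen
  intro x
  obtain ⟨V, hV, hxV, hUV⟩ := h x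
  refine ⟨V, hxV, hV, ?_⟩
  have : U.ι ⁻¹ᵁ V = ⊤ := by
    rw [eq_top_iff]
    intro y _
    exact hUV y.2
  rw [this]
  haveI : IsAffine U := hU
  exact isAffineOpen_top _

/-- a Noetherian scheme has an affine open containing all generic points whose inclusion is an
affine morphism. -/
theorem exists_affine_dense_affineHom (X : Scheme.{u}) [IsNoetherian X] :
    ∃ U : X.Opens, IsAffineOpen U ∧ IsAffineHom U.ι ∧ genericPoints X ⊆ (U : Set X) := by
  classical
  have hfin : (genericPoints X).Finite :=
    genericPoints.finite NoetherianSpace.finite_irreducibleComponents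
  have h1 : ∀ x : X, ∃ V : X.Opens, IsAffineOpen V ∧ x ∈ V ∧ genericPoints X ⊆ (V : Set X) := by
    intro x
    obtain ⟨_, ⟨V, hV, rfl⟩, hxV, -⟩ := X.isBasis_affineOpens.exists_subset_of_mem_open
      (Set.mem_univ x) isOpen_univ
    obtain ⟨V', hV', hle, hG⟩ := exists_isAffineOpen_ge_genericPoints hfin V hV
    exact ⟨V', hV', hle hxV, hG⟩
  choose V hVaff hVmem hVG using h1
  obtain ⟨t, ht⟩ := isCompact_univ.elim_finite_subcover (fun x => (V x : Set X))
    (fun x => (V x).isOpen) (fun x _ => Set.mem_iUnion.mpr ⟨x, hVmem x⟩)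
  by_cases hemp : t = ∅
  · subst hemp
    have hX : IsEmpty X := by
      constructor
      intro x
      have := ht (Set.mem_univ x)
      simp at this
    refine ⟨⊥, isAffineOpen_bot X, ?_, ?_⟩
    · apply isAffineHom_ι_of_le_cover _ (isAffineOpen_bot X)
      intro x
      exact (hX.false x).elim
    · intro η _
      exact (hX.false η).elim
  obtain ⟨x₀, hx₀⟩ := Finset.nonempty_iff_ne_empty.mpr hemp
  let W : X.Opens := ⟨⋂ x ∈ t, (V x : Set X), isOpen_biInter_finset fun x _ => (V x).isOpen⟩
  have hGW : genericPoints X ⊆ (W : Set X) := by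
    intro η hη
    simp only [W, Opens.coe_mk, Set.mem_iInter]
    intro x _
    exact hVG x hη
  obtain ⟨f, hfW, hGf⟩ := exists_basicOpen_le_of_finite (V x₀) (hVaff x₀) W (genericPoints X) hfin
    (hVG x₀) hGW
  have hUaff : IsAffineOpen (X.basicOpen f) := (hVaff x₀).basicOpen f
  refine ⟨X.basicOpen f, hUaff, ?_, hGf⟩
  apply isAffineHom_ι_of_le_cover _ hUaff
  intro x
  have := ht (Set.mem_univ x)
  simp only [Set.mem_iUnion, exists_prop] at this
  obtain ⟨y, hyt, hxy⟩ := this
  refine ⟨V y, hVaff y, hxy, hfW.trans ?_⟩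
  intro z hz
  have hz' : z ∈ ⋂ x ∈ t, (V x : Set X) := hz
  simp only [Set.mem_iInter] at hz'
  exact hz' y hyt

/-- **Affine stratification of a finite-dimensional Noetherian scheme.** -/
theorem hasStratFin_of_dimLT (m : ℕ) :
    ∀ (X : Scheme.{u}) [IsNoetherian X], DimLT X m → HasStratFin X m := by
  induction m with
  | zero =>
    intro X _ h
    haveI := isEmpty_of_dimLT_zero X h
    exact ⟨fun x => isEmptyElim x, fun i => i.elim0, fun i => i.elim0⟩
  | succ m ih =>
    intro X _ h
    obtain ⟨U, hU, hUaff, hG⟩ := exists_affine_dense_affineHom X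
    let C : Closeds X := ⟨(U : Set X)ᶜ, U.isOpen.isClosed_compl⟩
    let 𝓘 := Scheme.IdealSheafData.vanishingIdeal C
    have hsupp : (𝓘.support : Set X) = (U : Set X)ᶜ :=
      Scheme.IdealSheafData.coe_support_vanishingIdeal C
    have hrange : Set.range 𝓘.subschemeι = (U : Set X)ᶜ := by
      rw [𝓘.range_subschemeι, hsupp]
    haveI : IsLocallyNoetherian 𝓘.subscheme :=
      LocallyOfFiniteType.isLocallyNoetherian 𝓘.subschemeι
    haveI : CompactSpace 𝓘.subscheme := 𝓘.subschemeι.isClosedEmbedding.compactSpace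
    haveI : IsNoetherian 𝓘.subscheme := {}
    have hdim : DimLT 𝓘.subscheme m := by
      apply dimLT_of_isClosedEmbedding 𝓘.subschemeι 𝓘.subschemeι.isClosedEmbedding _ m h
      intro Y hY hsub
      let η := genericPoints.ofComponent ⟨Y, hY⟩
      have h1 : η.1 ∈ Y := by
        have := genericPoints.isGenericPoint_ofComponent ⟨Y, hY⟩
        have h2 : η.1 ∈ closure {η.1} := subset_closure rfl
        rw [this.def] at h2
        exact h2
      have h2 := hsub h1
      rw [hrange] at h2
      exact h2 (hG η.2)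
    exact hasStratFin_succ 𝓘.subschemeι U hU hrange m (ih 𝓘.subscheme hdim)

end Scheme

end Groth.Agent.H8
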