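import Groth.Agent.H8.AffStrat
import Mathlib.AlgebraicGeometry.Morphisms.QuasiSeparated
import Mathlib.AlgebraicGeometry.Morphisms.QuasiCompact

/-!
# Finite affine stratifications of quasi-compact quasi-separated schemes (helper8)
-/

set_option autoImplicit false
universe u
open CategoryTheory AlgebraicGeometry TopologicalSpace

namespace Groth.Agent.H8

/-- a finite affine stratification of a subset `T` of `X` (sublevel sets closed relative to `T`,
strata images of affine immersions into `X` from affine schemes). -/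
def HasStratOn (X : Scheme.{u}) (T : Set X) (m : ℕ) : Prop :=
  ∃ s : X → ℕ, (∀ x ∈ T, s x < m) ∧
    (∀ i : ℕ, ∃ C : Set X, IsClosed C ∧ {x | x ∈ T ∧ s x ≤ i} = T ∩ C) ∧
    ∀ i < m, GoodStratum X {x | x ∈ T ∧ s x = i}

lemma hasStratFin_of_hasStratOn_univ {X : Scheme.{u}} {m : ℕ}
    (h : HasStratOn X Set.univ m) : HasStratFin X m := by
  obtain ⟨s, h1, h2, h3⟩ := h
  refine ⟨fun x => ⟨s x, h1 x trivial⟩, ?_, ?_⟩
  · intro i
    obtain ⟨C, hC, hCeq⟩ := h2 i.1
    convert hC using 1
    rw [Set.univ_inter] at hCeq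
    rw [← hCeq]
    ext x
    simp [Fin.le_def]
  · intro i
    convert h3 i.1 i.2 using 1
    ext x
    simp [Fin.ext_iff]

lemma GoodStratum.inter_closed {X : Scheme.{u}} {S : Set X} (hS : GoodStratum X S) {C : Set X}
    (hC : IsClosed C) : GoodStratum X (S ∩ C) := by
  obtain ⟨Z, ι, h1, h2, h3, h4⟩ := hS
  let K : Closeds Z := ⟨ι ⁻¹' C, hC.preimage ι.continuous⟩
  let 𝓘 := Scheme.IdealSheafData.vanishingIdeal K
  have hrange : Set.range 𝓘.subschemeι = ι ⁻¹' C := by
    rw [𝓘.range_subschemeι]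
    exact Scheme.IdealSheafData.coe_support_vanishingIdeal K
  haveI : IsAffine 𝓘.subscheme := isAffine_of_isAffineHom 𝓘.subschemeι
  refine ⟨𝓘.subscheme, 𝓘.subschemeι ≫ ι, inferInstance, inferInstance, inferInstance, ?_⟩
  rw [Scheme.Hom.comp_base, TopCat.coe_comp, Set.range_comp, hrange,
    Set.image_preimage_eq_range_inter, h4]

lemma HasStratOn.inter_closed {X : Scheme.{u}} {T : Set X} {m : ℕ} (h : HasStratOn X T m)
    {C : Set X} (hC : IsClosed C) : HasStratOn X (T ∩ C) m := by
  obtain ⟨s, h1, h2, h3⟩ := h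
  refine ⟨s, fun x hx => h1 x hx.1, ?_, ?_⟩
  · intro i
    obtain ⟨C', hC', hCeq⟩ := h2 i
    refine ⟨C', hC', ?_⟩
    have : {x | x ∈ T ∩ C ∧ s x ≤ i} = {x | x ∈ T ∧ s x ≤ i} ∩ C := by
      ext x
      simp only [Set.mem_setOf_eq, Set.mem_inter_iff]
      tauto
    rw [this, hCeq]
    ext x
    simp only [Set.mem_inter_iff]
    tauto
  · intro i hi
    have : {x | x ∈ T ∩ C ∧ s x = i} = {x | x ∈ T ∧ s x = i} ∩ C := by
      ext x
      simp only [Set.mem_setOf_eq, Set.mem_inter_iff]
      tauto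
    rw [this]
    exact (h3 i hi).inter_closed hC

lemma hasStratOn_one_of_good {X : Scheme.{u}} {T : Set X} (h : GoodStratum X T) :
    HasStratOn X T 1 := by
  refine ⟨fun _ => 0, fun _ _ => Nat.zero_lt_one, ?_, ?_⟩
  · intro i
    refine ⟨Set.univ, isClosed_univ, ?_⟩
    ext x
    simp
  · intro i hi
    have hi0 : i = 0 := by omega
    subst hi0
    convert h using 1
    ext x
    simp

lemma hasStratOn_empty (X : Scheme.{u}) : HasStratOn X (∅ : Set X) 0 := by
  refine ⟨fun _ => 0, fun x hx => hx.elim, ?_, fun i hi => absurd hi (Nat.not_lt_zero i)⟩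
  intro i
  exact ⟨Set.univ, isClosed_univ, by simp⟩

/-- concatenation of stratifications of two disjoint pieces, the first relatively closed -/
lemma HasStratOn.union {X : Scheme.{u}} {T T' : Set X} {n n' : ℕ} (h : HasStratOn X T n)
    (h' : HasStratOn X T' n') (hdisj : Disjoint T T')
    (hcl : ∃ C₀ : Set X, IsClosed C₀ ∧ T = (T ∪ T') ∩ C₀) : HasStratOn X (T ∪ T') (n + n') := by
  classical
  obtain ⟨s, h1, h2, h3⟩ := h
  obtain ⟨s', h1', h2', h3'⟩ := h'
  obtain ⟨C₀, hC₀, hTeq⟩ := hcl
  have hnot : ∀ x ∈ T', x ∉ T := fun x hx hxT => Set.disjoint_left.mp hdisj hxT hx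
  let t : X → ℕ := fun x => if x ∈ T then s x else n + s' x
  have ht1 : ∀ x ∈ T, t x = s x := fun x hx => by simp only [t, if_pos hx]
  have ht2 : ∀ x ∈ T', t x = n + s' x := fun x hx => by simp only [t, if_neg (hnot x hx)]
  have hTC₀ : ∀ x, x ∈ T ↔ (x ∈ T ∨ x ∈ T') ∧ x ∈ C₀ := by
    intro x
    have := Set.ext_iff.mp hTeq x
    simpa [Set.mem_inter_iff, Set.mem_union] using this
  refine ⟨t, ?_, ?_, ?_⟩
  · rintro x (hx | hx)
    · rw [ht1 x hx]; exact (h1 x hx).trans_le (Nat.le_add_right _ _)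
    · rw [ht2 x hx]; exact Nat.add_lt_add_left (h1' x hx) n
  · intro i
    by_cases hi : i < n
    · obtain ⟨C, hC, hCeq⟩ := h2 i
      refine ⟨C₀ ∩ C, hC₀.inter hC, ?_⟩
      ext x
      have hx := Set.ext_iff.mp hCeq x
      simp only [Set.mem_setOf_eq, Set.mem_inter_iff, Set.mem_union] at hx ⊢
      constructor
      · rintro ⟨hxT | hxT', hle⟩
        · rw [ht1 x hxT] at hle
          exact ⟨Or.inl hxT, ((hTC₀ x).mp hxT).2, (hx.mp ⟨hxT, hle⟩).2⟩
        · rw [ht2 x hxT'] at hle
          omega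
      · rintro ⟨hor, hxC₀, hxC⟩
        have hxT : x ∈ T := (hTC₀ x).mpr ⟨hor, hxC₀⟩
        refine ⟨Or.inl hxT, ?_⟩
        rw [ht1 x hxT]
        exact (hx.mpr ⟨hxT, hxC⟩).2
    · obtain ⟨C', hC', hCeq'⟩ := h2' (i - n)
      refine ⟨C₀ ∪ C', hC₀.union hC', ?_⟩
      ext x
      have hx := Set.ext_iff.mp hCeq' x
      simp only [Set.mem_setOf_eq, Set.mem_inter_iff, Set.mem_union] at hx ⊢
      constructor
      · rintro ⟨hxT | hxT', hle⟩
        · exact ⟨Or.inl hxT, Or.inl ((hTC₀ x).mp hxT).2⟩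
        · rw [ht2 x hxT'] at hle
          exact ⟨Or.inr hxT', Or.inr (hx.mp ⟨hxT', by omega⟩).2⟩
      · rintro ⟨hor, hxC₀ | hxC'⟩
        · have hxT : x ∈ T := (hTC₀ x).mpr ⟨hor, hxC₀⟩
          refine ⟨Or.inl hxT, ?_⟩
          rw [ht1 x hxT]
          have := h1 x hxT
          omega
        · rcases hor with hxT | hxT'
          · refine ⟨Or.inl hxT, ?_⟩
            rw [ht1 x hxT]
            have := h1 x hxT
            omega
          · refine ⟨Or.inr hxT', ?_⟩
            rw [ht2 x hxT']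
            have := (hx.mpr ⟨hxT', hxC'⟩).2
            omega
  · intro i hi
    by_cases hin : i < n
    · convert h3 i hin using 1
      ext x
      simp only [Set.mem_setOf_eq, Set.mem_union]
      constructor
      · rintro ⟨hxT | hxT', heq⟩
        · rw [ht1 x hxT] at heq
          exact ⟨hxT, heq⟩
        · rw [ht2 x hxT'] at heq
          omega
      · rintro ⟨hxT, heq⟩
        exact ⟨Or.inl hxT, by rw [ht1 x hxT]; exact heq⟩
    · convert h3' (i - n) (by omega) using 1
      ext x
      simp only [Set.mem_setOf_eq, Set.mem_union]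
      constructor
      · rintro ⟨hxT | hxT', heq⟩
        · rw [ht1 x hxT] at heq
          have := h1 x hxT
          omega
        · rw [ht2 x hxT'] at heq
          exact ⟨hxT', by omega⟩
      · rintro ⟨hxT', heq⟩
        exact ⟨Or.inr hxT', by rw [ht2 x hxT']; omega⟩

/-- Key inductive statement: an affine scheme `Y` with an immersion `f` to `X` such that the
preimage of each member of an affine cover is everything or a union of members of a family of
`N` basic opens, has a finite stratification whose strata are affine over `X`. -/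
theorem exists_hasStratOn_range (X : Scheme.{u}) (𝒲 : Set X.Opens)
    (hcov : ∀ x : X, ∃ W ∈ 𝒲, x ∈ W) (haff : ∀ W ∈ 𝒲, IsAffineOpen W) (N : ℕ) :
    ∀ (Y : Scheme.{u}) [IsAffine Y] (f : Y ⟶ X) [IsImmersion f] (D : Fin N → Y.Opens),
      (∀ j, ∃ r : Γ(Y, ⊤), D j = Y.basicOpen r) →
      (∀ W ∈ 𝒲, f ⁻¹ᵁ W = ⊤ ∨ ∃ J : Set (Fin N), f ⁻¹ᵁ W = ⨆ j ∈ J, D j) →
      ∃ m, HasStratOn X (Set.range f) m := by
  induction N with
  | zero =>
    intro Y _ f _ D _ hcond
    haveI : IsAffineHom f := by
      apply isAffineHom_of_forall_exists_isAffineOpen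
      intro x
      obtain ⟨W, hW, hxW⟩ := hcov x
      refine ⟨W, hxW, haff W hW, ?_⟩
      rcases hcond W hW with h | ⟨J, h⟩
      · rw [h]; exact isAffineOpen_top Y
      · have : f ⁻¹ᵁ W = ⊥ := by
          rw [h, eq_bot_iff]
          exact iSup₂_le fun j _ => j.elim0
        rw [this]; exact isAffineOpen_bot Y
    exact ⟨1, hasStratOn_one_of_good ⟨Y, f, inferInstance, inferInstance, inferInstance, rfl⟩⟩
  | succ N ih =>
    intro Y _ f _ D hD hcond
    obtain ⟨r, hr⟩ := hD (Fin.last N)
    have hDaff : IsAffineOpen (D (Fin.last N)) := hr ▸ (isAffineOpen_top Y).basicOpen r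
    -- closed part
    let K : Closeds Y := ⟨((D (Fin.last N) : Y.Opens) : Set Y)ᶜ, (D (Fin.last N)).isOpen.isClosed_compl⟩
    let 𝓘 := Scheme.IdealSheafData.vanishingIdeal K
    have hrangeC : Set.range 𝓘.subschemeι = ((D (Fin.last N) : Y.Opens) : Set Y)ᶜ := by
      rw [𝓘.range_subschemeι]
      exact Scheme.IdealSheafData.coe_support_vanishingIdeal K
    haveI : IsAffine 𝓘.subscheme := isAffine_of_isAffineHom 𝓘.subschemeι
    have hlastC : 𝓘.subschemeι ⁻¹ᵁ D (Fin.last N) = ⊥ := by
      rw [eq_bot_iff]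
      intro y hy
      have h1 : 𝓘.subschemeι y ∈ Set.range 𝓘.subschemeι := ⟨y, rfl⟩
      rw [hrangeC] at h1
      exact (h1 hy).elim
    obtain ⟨mC, hmC⟩ := ih 𝓘.subscheme (𝓘.subschemeι ≫ f)
      (fun j => 𝓘.subschemeι ⁻¹ᵁ D j.castSucc)
      (fun j => by
        obtain ⟨r', hr'⟩ := hD j.castSucc
        exact ⟨𝓘.subschemeι.appTop r', by rw [hr', Scheme.preimage_basicOpen_top]⟩)
      (fun W hW => by
        rcases hcond W hW with h | ⟨J, h⟩
        · left
          rw [Scheme.Hom.comp_preimage, h]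
          rfl
        · right
          refine ⟨{j : Fin N | j.castSucc ∈ J}, ?_⟩
          rw [Scheme.Hom.comp_preimage, h, Scheme.Hom.preimage_iSup]
          simp_rw [Scheme.Hom.preimage_iSup]
          apply le_antisymm
          · refine iSup₂_le fun j hj => ?_
            induction j using Fin.lastCases with
            | last => rw [hlastC]; exact bot_le
            | cast j' => exact le_iSup₂ (f := fun (j : Fin N) (_ : j ∈ {j : Fin N | j.castSucc ∈ J}) =>
                𝓘.subschemeι ⁻¹ᵁ D j.castSucc) j' hj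
          · exact iSup₂_le fun j' hj' => le_iSup₂ (f := fun (j : Fin (N + 1)) (_ : j ∈ J) =>
              𝓘.subschemeι ⁻¹ᵁ D j) j'.castSucc hj')
    -- open part
    haveI : IsAffine (D (Fin.last N)).toScheme := hDaff
    have hlastO : (D (Fin.last N)).ι ⁻¹ᵁ D (Fin.last N) = ⊤ := Scheme.Opens.ι_preimage_self _
    obtain ⟨mO, hmO⟩ := ih (D (Fin.last N)).toScheme ((D (Fin.last N)).ι ≫ f)
      (fun j => (D (Fin.last N)).ι ⁻¹ᵁ D j.castSucc)
      (fun j => by
        obtain ⟨r', hr'⟩ := hD j.castSucc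
        exact ⟨(D (Fin.last N)).ι.appTop r', by rw [hr', Scheme.preimage_basicOpen_top]⟩)
      (fun W hW => by
        rcases hcond W hW with h | ⟨J, h⟩
        · left
          rw [Scheme.Hom.comp_preimage, h]
          rfl
        · by_cases hlast : Fin.last N ∈ J
          · left
            rw [Scheme.Hom.comp_preimage, h, eq_top_iff, ← hlastO]
            exact Scheme.Hom.preimage_mono _ (le_iSup₂ (f := fun (j : Fin (N + 1)) (_ : j ∈ J) => D j)
              (Fin.last N) hlast)
          · right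
            refine ⟨{j : Fin N | j.castSucc ∈ J}, ?_⟩
            rw [Scheme.Hom.comp_preimage, h, Scheme.Hom.preimage_iSup]
            simp_rw [Scheme.Hom.preimage_iSup]
            apply le_antisymm
            · refine iSup₂_le fun j hj => ?_
              induction j using Fin.lastCases with
              | last => exact absurd hj hlast
              | cast j' => exact le_iSup₂ (f := fun (j : Fin N) (_ : j ∈ {j : Fin N | j.castSucc ∈ J}) =>
                  (D (Fin.last N)).ι ⁻¹ᵁ D j.castSucc) j' hj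
            · exact iSup₂_le fun j' hj' => le_iSup₂ (f := fun (j : Fin (N + 1)) (_ : j ∈ J) =>
                (D (Fin.last N)).ι ⁻¹ᵁ D j) j'.castSucc hj')
    -- assemble
    have hrC : Set.range (𝓘.subschemeι ≫ f) = f '' ((D (Fin.last N) : Y.Opens) : Set Y)ᶜ := by
      rw [Scheme.Hom.comp_base, TopCat.coe_comp, Set.range_comp, hrangeC]
    have hrO : Set.range ((D (Fin.last N)).ι ≫ f) = f '' ((D (Fin.last N) : Y.Opens) : Set Y) := by
      rw [Scheme.Hom.comp_base, TopCat.coe_comp, Set.range_comp, Scheme.Opens.range_ι]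
    rw [hrC] at hmC
    rw [hrO] at hmO
    have hunion : f '' ((D (Fin.last N) : Y.Opens) : Set Y)ᶜ ∪ f '' ((D (Fin.last N) : Y.Opens) : Set Y)
        = Set.range f := by
      rw [← Set.image_union, Set.compl_union_self, Set.image_univ]
    refine ⟨mC + mO, ?_⟩
    rw [← hunion]
    apply hmC.union hmO
    · exact (Set.disjoint_image_iff f.isEmbedding.injective).mpr disjoint_compl_left
    · obtain ⟨C₀, hC₀, hpre⟩ := f.isEmbedding.isInducing.isClosed_iff.mp
        (D (Fin.last N)).isOpen.isClosed_compl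
      refine ⟨C₀, hC₀, ?_⟩
      rw [hunion, ← hpre, Set.image_preimage_eq_range_inter]

end Groth.Agent.H8
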