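import Groth.Agent.H8.AffStrat
import Mathlib.AlgebraicGeometry.Morphisms.Separated
import Mathlib.AlgebraicGeometry.Limits

/-!
# Affine stratification of a separated scheme covered by `n + 1` affine opens (helper8)
-/

set_option autoImplicit false
universe u
open CategoryTheory AlgebraicGeometry TopologicalSpace

namespace Groth.Agent.H8

section

variable {X : Scheme.{u}} {n : ℕ} (U : Fin (n + 1) → X.Opens)

/-- the set of indices `i` with `x ∈ U i` -/
noncomputable def memIdx (x : X) : Finset (Fin (n + 1)) := by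
  classical exact Finset.univ.filter fun i => x ∈ U i

lemma mem_memIdx (x : X) (i : Fin (n + 1)) : i ∈ memIdx U x ↔ x ∈ U i := by
  classical
  simp [memIdx]

/-- the number of members of the cover containing `x` -/
noncomputable def cnt (x : X) : ℕ := (memIdx U x).card

lemma isOpen_le_cnt (k : ℕ) : IsOpen {x : X | k ≤ cnt U x} := by
  rw [isOpen_iff_forall_mem_open]
  intro x hx
  refine ⟨⋂ i ∈ memIdx U x, (U i : Set X), ?_, ?_, ?_⟩
  · intro y hy
    simp only [Set.mem_iInter] at hy
    have hsub : memIdx U x ⊆ memIdx U y := fun i hi => (mem_memIdx U y i).mpr (hy i hi)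
    exact le_trans hx (Finset.card_le_card hsub)
  · exact isOpen_biInter_finset fun i _ => (U i).isOpen
  · simp only [Set.mem_iInter]
    intro i hi
    exact (mem_memIdx U x i).mp hi

variable [X.IsSeparated] (hU : ∀ i, IsAffineOpen (U i))

include hU in
lemma isAffineOpen_finsetInf (I : Finset (Fin (n + 1))) (hI : I.Nonempty) :
    IsAffineOpen (I.inf U) := by
  classical
  induction hI using Finset.Nonempty.cons_induction with
  | singleton i => simpa using hU i
  | cons i s his hs ih =>
    rw [Finset.cons_eq_insert, Finset.inf_insert]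
    exact (hU i).inf ih

lemma mem_finsetInf (I : Finset (Fin (n + 1))) (x : X) : x ∈ I.inf U ↔ ∀ i ∈ I, x ∈ U i := by
  classical
  induction I using Finset.induction_on with
  | empty => simp
  | insert i s _ ih =>
    rw [Finset.inf_insert, Finset.forall_mem_insert, ← ih]
    rfl

include hU in
/-- the stratum of points lying in exactly `p + 1` members of the cover -/
theorem goodStratum_cnt_eq (p : ℕ) : GoodStratum X {x : X | cnt U x = p + 1} := by
  classical
  let W : X.Opens := ⟨{x : X | p + 1 ≤ cnt U x}, isOpen_le_cnt U (p + 1)⟩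
  let K : Closeds W.toScheme :=
    ⟨W.ι ⁻¹' {x : X | p + 2 ≤ cnt U x}ᶜ, (isOpen_le_cnt U (p + 2)).isClosed_compl.preimage W.ι.continuous⟩
  let 𝓘 := Scheme.IdealSheafData.vanishingIdeal K
  let ι : 𝓘.subscheme ⟶ X := 𝓘.subschemeι ≫ W.ι
  have hrange : Set.range ι = {x : X | cnt U x = p + 1} := by
    have h1 : Set.range 𝓘.subschemeι = W.ι ⁻¹' {x : X | p + 2 ≤ cnt U x}ᶜ := by
      rw [𝓘.range_subschemeι]
      exact Scheme.IdealSheafData.coe_support_vanishingIdeal K
    rw [Scheme.Hom.comp_base, TopCat.coe_comp, Set.range_comp, h1,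
      Set.image_preimage_eq_range_inter, Scheme.Opens.range_ι]
    ext x
    simp only [Set.mem_inter_iff, SetLike.mem_coe, Set.mem_compl_iff, Set.mem_setOf_eq]
    show (p + 1 ≤ cnt U x ∧ ¬ p + 2 ≤ cnt U x) ↔ _
    omega
  have hcnt : ∀ z : 𝓘.subscheme, cnt U (ι z) = p + 1 := by
    intro z
    have : ι z ∈ Set.range ι := ⟨z, rfl⟩
    rw [hrange] at this
    exact this
  -- the open pieces
  let σ := {I : Finset (Fin (n + 1)) // I.card = p + 1}
  let O : σ → 𝓘.subscheme.Opens := fun I => ι ⁻¹ᵁ (I.1.inf U)
  have hOaff : ∀ I : σ, IsAffineOpen (O I) := by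
    intro I
    have hIne : I.1.Nonempty := Finset.card_pos.mp (by rw [I.2]; omega)
    have hUI : IsAffineOpen (I.1.inf U) := isAffineOpen_finsetInf U hU I.1 hIne
    haveI : IsAffine (I.1.inf U).toScheme := hUI
    haveI : IsClosedImmersion (ι ∣_ (I.1.inf U)) := by
      apply IsClosedImmersion.of_isPreimmersion
      have heq : Set.range (ι ∣_ (I.1.inf U)) =
          (I.1.inf U).ι ⁻¹' {x : X | p + 2 ≤ cnt U x}ᶜ := by
        ext y
        have hsub : I.1 ⊆ memIdx U y.1 := fun i hi =>
          (mem_memIdx U y.1 i).mpr ((mem_finsetInf U I.1 y.1).mp y.2 i hi)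
        have hge : p + 1 ≤ cnt U y.1 := by
          have := Finset.card_le_card hsub
          rw [I.2] at this
          exact this
        constructor
        · rintro ⟨z, rfl⟩
          show ¬ (p + 2 ≤ cnt U (((ι ∣_ (I.1.inf U)) z).1))
          rw [morphismRestrict_base_coe, hcnt]
          omega
        · intro hy2
          have hy3 : ¬ (p + 2 ≤ cnt U y.1) := hy2
          have hc : cnt U y.1 = p + 1 := by omega
          have hmem : y.1 ∈ Set.range ι := by rw [hrange]; exact hc
          obtain ⟨z, hz⟩ := hmem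
          refine ⟨⟨z, ?_⟩, Subtype.ext ?_⟩
          · show ι z ∈ I.1.inf U
            rw [hz]; exact y.2
          · rw [morphismRestrict_base_coe]; exact hz
      rw [heq]
      exact (isOpen_le_cnt U (p + 2)).isClosed_compl.preimage (I.1.inf U).ι.continuous
    exact isAffine_of_isAffineHom (ι ∣_ (I.1.inf U))
  have hOdisj : Pairwise (Function.onFun Disjoint O) := by
    intro I I' hne
    rw [Function.onFun, ← Opens.coe_disjoint, Set.disjoint_left]
    intro z hz hz'
    have h1 : ∀ i ∈ I.1, ι z ∈ U i := (mem_finsetInf U I.1 (ι z)).mp hz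
    have h2 : ∀ i ∈ I'.1, ι z ∈ U i := (mem_finsetInf U I'.1 (ι z)).mp hz'
    have hsub : I.1 ∪ I'.1 ⊆ memIdx U (ι z) := by
      intro i hi
      rcases Finset.mem_union.mp hi with hi | hi
      · exact (mem_memIdx U _ i).mpr (h1 i hi)
      · exact (mem_memIdx U _ i).mpr (h2 i hi)
    have hle := Finset.card_le_card hsub
    have hz1 : (memIdx U (ι z)).card = p + 1 := hcnt z
    rw [hz1] at hle
    have hI : I.1 = I.1 ∪ I'.1 := by
      apply Finset.eq_of_subset_of_card_le Finset.subset_union_left
      rw [I.2]; exact hle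
    have hI' : I'.1 = I.1 ∪ I'.1 := by
      apply Finset.eq_of_subset_of_card_le Finset.subset_union_right
      rw [I'.2]; exact hle
    exact hne (Subtype.ext (hI.trans hI'.symm))
  have hOtop : iSup O = ⊤ := by
    rw [eq_top_iff]
    intro z _
    simp only [Opens.mem_iSup]
    refine ⟨⟨memIdx U (ι z), hcnt z⟩, ?_⟩
    show ι z ∈ (memIdx U (ι z)).inf U
    rw [mem_finsetInf]
    intro i hi
    exact (mem_memIdx U _ i).mp hi
  haveI : Finite σ := inferInstance
  have htop : IsAffineOpen (⊤ : 𝓘.subscheme.Opens) := by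
    rw [← hOtop]
    exact IsAffineOpen.iSup_of_disjoint hOaff hOdisj
  haveI : IsAffine 𝓘.subscheme := by
    haveI : IsAffine (⊤ : 𝓘.subscheme.Opens).toScheme := htop
    exact .of_isIso 𝓘.subscheme.topIso.inv
  haveI : IsAffineHom ι := by
    haveI : IsAffineHom (ι ≫ Limits.terminal.from X) := inferInstance
    exact IsAffineHom.of_comp ι (Limits.terminal.from X)
  exact ⟨𝓘.subscheme, ι, inferInstance, inferInstance, inferInstance, hrange⟩

include hU in
theorem hasStratFin_of_separated_cover (hcov : ⨆ i, U i = ⊤) : HasStratFin X (n + 1) := by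
  classical
  have h1 : ∀ x : X, 1 ≤ cnt U x := by
    intro x
    have : x ∈ ⨆ i, U i := by rw [hcov]; trivial
    obtain ⟨i, hi⟩ := Opens.mem_iSup.mp this
    exact Finset.card_pos.mpr ⟨i, (mem_memIdx U x i).mpr hi⟩
  have h2 : ∀ x : X, cnt U x ≤ n + 1 := by
    intro x
    have := Finset.card_le_univ (memIdx U x)
    unfold cnt
    simpa using this
  refine ⟨fun x => ⟨cnt U x - 1, by have := h1 x; have := h2 x; omega⟩, ?_, ?_⟩
  · intro i
    have : {x : X | (⟨cnt U x - 1, by have := h1 x; have := h2 x; omega⟩ : Fin (n + 1)) ≤ i} =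
        {x : X | i.1 + 2 ≤ cnt U x}ᶜ := by
      ext x
      simp only [Set.mem_setOf_eq, Set.mem_compl_iff, Fin.le_def]
      have := h1 x
      omega
    rw [this]
    exact (isOpen_le_cnt U (i.1 + 2)).isClosed_compl
  · intro i
    have : {x : X | (⟨cnt U x - 1, by have := h1 x; have := h2 x; omega⟩ : Fin (n + 1)) = i} =
        {x : X | cnt U x = i.1 + 1} := by
      ext x
      simp only [Set.mem_setOf_eq, Fin.ext_iff]
      have := h1 x
      omega
    rw [this]
    exact goodStratum_cnt_eq U hU i.1

end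

end Groth.Agent.H8
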