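import Groth.Agent.S1571
import Groth.Agent.H8.BlowUpExist
import Groth.Agent.H19.ComapAff

/-!
# The strict transform of a closed subscheme under a blow-up is a blow-up (helper8)
-/

set_option autoImplicit false
universe u
open CategoryTheory CategoryTheory.Limits AlgebraicGeometry TopologicalSpace Opposite

namespace Groth.Agent.H8

open Scheme.IdealSheafData

set_option backward.isDefEq.respectTransparency false in
/-- A local generator of `𝓔` becomes a unit on a scheme mapping into the complement of `V(𝓔)`. -/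
lemma isUnit_app_of_notMem_support {W X' : Scheme.{u}} (g : W ⟶ X') (𝓔 : X'.IdealSheafData)
    (hg : ∀ w : W, g w ∉ 𝓔.support) (V' : X'.affineOpens) (t : Γ(X', V'.1))
    (ht : 𝓔.ideal V' = Ideal.span {t}) : IsUnit ((g.app V'.1).hom t) := by
  apply W.toRingedSpace.isUnit_of_isUnit_germ (g ⁻¹ᵁ V'.1)
  intro x hx
  have h1 := hg x
  rw [mem_support_iff_of_mem (show g x ∈ V'.1 from hx), ht, Scheme.zeroLocus_span,
    Scheme.zeroLocus_singleton] at h1
  have h2 : g x ∈ X'.basicOpen t := by simpa using h1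
  have h3 : x ∈ g ⁻¹ᵁ X'.basicOpen t := h2
  rw [Scheme.preimage_basicOpen] at h3
  exact (W.mem_basicOpen _ x hx).mp h3

set_option backward.isDefEq.respectTransparency false in
/-- The inverse image of an effective Cartier divisor `𝓔` on the scheme-theoretic image of a
quasi-compact morphism landing in the complement of `V(𝓔)` is an effective Cartier divisor. -/
theorem isEffCartier_comap_subschemeι_ker {W X' : Scheme.{u}} (g : W ⟶ X') [QuasiCompact g]
    (𝓔 : X'.IdealSheafData) (h𝓔 : BlowUp.IsEffCartierIdeal 𝓔) (hg : ∀ w : W, g w ∉ 𝓔.support) :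
    BlowUp.IsEffCartierIdeal (𝓔.comap g.ker.subschemeι) := by
  intro y
  obtain ⟨V', hyV', t, ht, hV't⟩ := h𝓔 (g.ker.subschemeι y)
  have hV'' : IsAffineOpen (g.ker.subschemeι ⁻¹ᵁ V'.1) := V'.2.preimage _
  refine ⟨⟨_, hV''⟩, hyV', (g.ker.subschemeι.app V'.1).hom t, ?_, ?_⟩
  · have hu := isUnit_app_of_notMem_support g 𝓔 hg V' t hV't
    have key : ∀ ā : Γ(g.ker.subscheme, g.ker.subschemeι ⁻¹ᵁ V'.1),
        ā * (g.ker.subschemeι.app V'.1).hom t = 0 → ā = 0 := by
      intro ā hā
      obtain ⟨a, rfl⟩ := g.ker.subschemeι_app_surjective V' ā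
      rw [← map_mul, ← RingHom.mem_ker, ker_subschemeι_app, Scheme.Hom.ker_apply, RingHom.mem_ker,
        map_mul] at hā
      have h0 : (g.app V'.1).hom a = 0 := hu.mul_left_eq_zero.mp hā
      rw [← RingHom.mem_ker, ker_subschemeι_app, Scheme.Hom.ker_apply, RingHom.mem_ker]
      exact h0
    rw [mem_nonZeroDivisors_iff]
    refine ⟨fun ā hā => key ā ?_, fun ā hā => key ā hā⟩
    rwa [mul_comm]
  · rw [Groth.Agent.H19.ComapAff.ideal_comap_appLE g.ker.subschemeι 𝓔 V' ⟨_, hV''⟩ le_rfl, hV't,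
      Ideal.map_span, Set.image_singleton]
    change Ideal.span {(g.ker.subschemeι.appLE V'.1 (g.ker.subschemeι ⁻¹ᵁ V'.1) le_rfl).hom t} = _
    rw [Scheme.Hom.appLE_eq_app]

set_option backward.isDefEq.respectTransparency false in
/-- **The strict transform of a closed subscheme under a blow-up is a blow-up.** -/
theorem exists_strictTransform_isBlowUp {X X' Y : Scheme.{u}} (𝓘 : X.IdealSheafData) (b : X' ⟶ X)
    (hb : BlowUp.IsBlowUp b 𝓘) (f : Y ⟶ X) [IsClosedImmersion f] :
    ∃ (Y'' : Scheme.{u}) (i : Y'' ⟶ X') (q : Y'' ⟶ Y), IsClosedImmersion i ∧ i ≫ b = q ≫ f ∧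
      BlowUp.IsBlowUp q (𝓘.comap f) := by
  let p1 := pullback.fst b f
  let p2 := pullback.snd b f
  let 𝓔 := 𝓘.comap b
  let U' : X'.Opens := 𝓔.support.compl
  let W : (pullback b f).Opens := p1 ⁻¹ᵁ U'
  let g : W.toScheme ⟶ X' := W.ι ≫ p1
  have haffU' : IsAffineHom U'.ι := (Groth.Agent.S1571.result X' 𝓔 hb.1).1
  have hg_eq : g = (p1 ∣_ U') ≫ U'.ι := (morphismRestrict_ι p1 U').symm
  haveI : IsAffineHom g := by rw [hg_eq]; infer_instance
  have hgsupp : ∀ w : W, g w ∉ 𝓔.support := fun w => w.2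
  let 𝓚 := g.ker
  have hle : p1.ker ≤ 𝓚.subschemeι.ker := by
    rw [ker_subschemeι]; exact Scheme.Hom.le_ker_comp _ _
  let l := IsClosedImmersion.lift p1 𝓚.subschemeι hle
  have hl : l ≫ p1 = 𝓚.subschemeι := IsClosedImmersion.lift_fac _ _ _
  have hcomm : 𝓚.subschemeι ≫ b = (l ≫ p2) ≫ f := by
    rw [Category.assoc, ← pullback.condition, ← Category.assoc, hl]
  refine ⟨𝓚.subscheme, 𝓚.subschemeι, l ≫ p2, inferInstance, hcomm, ?_, ?_⟩
  · rw [← comap_comp, ← hcomm, comap_comp]
    exact isEffCartier_comap_subschemeι_ker g 𝓔 hb.1 hgsupp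
  · intro T gT hT
    have hT' : BlowUp.IsEffCartierIdeal (𝓘.comap (gT ≫ f)) := by rwa [comap_comp]
    obtain ⟨h, hh, huniq⟩ := hb.2 T (gT ≫ f) hT'
    let lT : T ⟶ pullback b f := pullback.lift h gT hh
    let D := 𝓘.comap (gT ≫ f)
    let WT : T.Opens := D.support.compl
    have hdense : WT.ι.ker = ⊥ := (Groth.Agent.S1571.result T D hT').2.ker_eq_bot
    have hrange : Set.range (WT.ι ≫ lT) ⊆ Set.range W.ι := by
      rintro _ ⟨t, rfl⟩
      rw [Scheme.Opens.range_ι]
      change p1 ((WT.ι ≫ lT) t) ∉ 𝓔.support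
      have e : p1 ((WT.ι ≫ lT) t) = h t.1 := by
        have h1 : (WT.ι ≫ lT) ≫ p1 = WT.ι ≫ h := by
          rw [Category.assoc, pullback.lift_fst]
        have h2 := congrArg (fun φ : WT.toScheme ⟶ X' => φ t) h1
        exact h2
      rw [e]
      have ht : t.1 ∉ D.support := t.2
      intro hmem
      apply ht
      have h3 : h t.1 ∈ (𝓘.comap b).support := hmem
      rw [support_comap] at h3
      change t.1 ∈ (𝓘.comap (gT ≫ f)).support
      rw [support_comap, ← hh]
      exact h3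
    let r : WT.toScheme ⟶ W.toScheme := IsOpenImmersion.lift W.ι (WT.ι ≫ lT) hrange
    have hr : r ≫ W.ι = WT.ι ≫ lT := IsOpenImmersion.lift_fac _ _ _
    have hker : 𝓚 ≤ h.ker := by
      have e1 : h.ker = (WT.ι ≫ h).ker := by rw [Scheme.Hom.ker_comp, hdense, map_bot]
      have e2 : WT.ι ≫ h = r ≫ g := by
        rw [← Category.assoc, hr, Category.assoc, pullback.lift_fst]
      rw [e1, e2]
      exact Scheme.Hom.le_ker_comp _ _
    let h' := IsClosedImmersion.lift 𝓚.subschemeι h (by rw [ker_subschemeι]; exact hker)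
    have hh' : h' ≫ 𝓚.subschemeι = h := IsClosedImmersion.lift_fac _ _ _
    refine ⟨h', ?_, ?_⟩
    · have : h' ≫ l = lT := by
        rw [← cancel_mono p1, Category.assoc, hl, hh', pullback.lift_fst]
      change h' ≫ l ≫ p2 = gT
      rw [← Category.assoc, this, pullback.lift_snd]
    · intro h'' hh''
      rw [← cancel_mono 𝓚.subschemeι, hh']
      apply huniq
      rw [Category.assoc, hcomm, ← Category.assoc, hh'']

/-- **S10920**: the morphism between blow-ups induced by a closed immersion is a closed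
immersion. -/
theorem isClosedImmersion_of_isBlowUp {X Y X' Y' : Scheme.{u}} (𝓘 : X.IdealSheafData) (f : Y ⟶ X)
    [IsClosedImmersion f] (b : X' ⟶ X) (hb : BlowUp.IsBlowUp b 𝓘) (b' : Y' ⟶ Y)
    (hb' : BlowUp.IsBlowUp b' (𝓘.comap f)) (f' : Y' ⟶ X') (hf' : f' ≫ b = b' ≫ f) :
    IsClosedImmersion f' := by
  obtain ⟨Y'', i, q, hi, hiq, hq⟩ := exists_strictTransform_isBlowUp 𝓘 b hb f
  obtain ⟨e, he⟩ := isBlowUp_iso hb' hq
  have hC : BlowUp.IsEffCartierIdeal (𝓘.comap (b' ≫ f)) := by
    rw [comap_comp]; exact hb'.1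
  have : f' = e.hom ≫ i := by
    refine (hb.2 Y' (b' ≫ f) hC).unique hf' ?_
    rw [Category.assoc, hiq, ← Category.assoc, he]
  rw [this]
  infer_instance

set_option backward.isDefEq.respectTransparency false in
/-- The complement of an effective Cartier divisor: affine and scheme-theoretically dense, in the
form needed for S17385. -/
theorem affine_and_ker_of_isEffCartier {Z' X' : Scheme.{u}} (k : Z' ⟶ X') [IsClosedImmersion k]
    (D : Z'.IdealSheafData) (hD : BlowUp.IsEffCartierIdeal D) (V : Z'.Opens)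
    (hV : V = D.support.compl) : IsAffineHom (V.ι ≫ k) ∧ (V.ι ≫ k).ker = k.ker := by
  subst hV
  obtain ⟨h1, h2⟩ := Groth.Agent.S1571.result Z' D hD
  refine ⟨inferInstance, ?_⟩
  rw [Scheme.Hom.ker_comp, h2.ker_eq_bot, map_bot]

end Groth.Agent.H8
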