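import Mathlib
import Groth.Prelude.Def_HTop3
import Groth.Agent.H8.StrictTransformClosed
import Groth.Agent.H20.EffCartierInterior

/-!
# Almost blow up squares: base change

Tools about the ideal `HTop.supportedOn 𝓔` of sections supported on `V(𝓔)` for a locally principal
ideal sheaf `𝓔`, and the base change of almost blow up squares.
-/

set_option autoImplicit false
set_option linter.style.haveILetI false
universe u
open CategoryTheory CategoryTheory.Limits AlgebraicGeometry TopologicalSpace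

namespace Groth.Agent.H8.AlmostBlowUp

open Scheme.IdealSheafData

variable {X X' T : Scheme.{u}}

/-- Inverse images of locally principal ideal sheaves are locally principal. -/
theorem isLocPrincipal_comap (f : T ⟶ X) (𝓔 : X.IdealSheafData) (h : HTop.IsLocPrincipal 𝓔) :
    HTop.IsLocPrincipal (𝓔.comap f) := by
  intro t
  obtain ⟨U, hxU, a, hIU⟩ := h (f t)
  obtain ⟨_, ⟨U', hU', rfl⟩, hxU', hle⟩ :=
    T.isBasis_affineOpens.exists_subset_of_mem_open
      (show t ∈ ((f ⁻¹ᵁ U.1 : T.Opens) : Set T) from hxU) (f ⁻¹ᵁ U.1).isOpen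
  refine ⟨⟨U', hU'⟩, hxU', (f.appLE U.1 U' hle).hom a, ?_⟩
  rw [Groth.Agent.H19.ComapAff.ideal_comap_appLE f 𝓔 U ⟨U', hU'⟩ hle, hIU, Ideal.map_span,
    Set.image_singleton]

/-- The complement of the support of a locally principal ideal has affine inclusion. -/
theorem isAffineHom_awayFrom_ι (𝓔 : X.IdealSheafData) (h : HTop.IsLocPrincipal 𝓔) :
    IsAffineHom (HTop.awayFrom 𝓔).ι := by
  apply Groth.Agent.H20.EffCartierInterior.isAffineHom_ι_of_locally_basicOpen
  intro x
  obtain ⟨U, hxU, a, hIU⟩ := h x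
  exact ⟨U.1, hxU, U.2, a,
    Groth.Agent.H20.EffCartierInterior.interior_inf_eq_basicOpen 𝓔 U a hIU⟩

/-- Sections supported on `V(𝓔)` pull back to sections supported on `V(𝓔·O_T)`. -/
theorem comap_supportedOn_le (m : T ⟶ X) (𝓔 : X.IdealSheafData) :
    (HTop.supportedOn 𝓔).comap m ≤ HTop.supportedOn (𝓔.comap m) := by
  unfold HTop.supportedOn
  rw [← map_bot (HTop.awayFrom (𝓔.comap m)).ι, le_map_iff_comap_le, ← comap_comp]
  have hr : Set.range ((HTop.awayFrom (𝓔.comap m)).ι ≫ m) ⊆ Set.range (HTop.awayFrom 𝓔).ι := by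
    rintro _ ⟨w, rfl⟩
    rw [Scheme.Opens.range_ι]
    have hw : (w.1 : T) ∉ (𝓔.comap m).support := w.2
    rw [support_comap] at hw
    exact hw
  have hfac : IsOpenImmersion.lift (HTop.awayFrom 𝓔).ι ((HTop.awayFrom (𝓔.comap m)).ι ≫ m) hr ≫
      (HTop.awayFrom 𝓔).ι = (HTop.awayFrom (𝓔.comap m)).ι ≫ m := IsOpenImmersion.lift_fac _ _ _
  rw [← hfac, comap_comp]
  have h1 : ((HTop.awayFrom 𝓔).ι.ker).comap (HTop.awayFrom 𝓔).ι ≤ ⊥ := by
    rw [← map_bot (HTop.awayFrom 𝓔).ι]
    exact comap_map_le _ _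
  refine (comap_mono _ h1).trans ?_
  change (⊥ : Scheme.IdealSheafData _).comap _ ≤ ⊥
  rw [comap_bot]

set_option backward.isDefEq.respectTransparency false in
/-- The complement of an effective Cartier divisor is scheme-theoretically dense. -/
theorem supportedOn_eq_bot_of_isEffCartier (𝓓 : X.IdealSheafData)
    (h : BlowUp.IsEffCartierIdeal 𝓓) : HTop.supportedOn 𝓓 = ⊥ := by
  rw [eq_bot_iff]
  choose U hxU a ha hIU using h
  refine le_of_iSup_eq_top U ?_ fun x => ?_
  · rw [eq_top_iff]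
    intro x _
    exact Opens.mem_iSup.mpr ⟨x, hxU x⟩
  · intro s hs
    have hs' : ((HTop.awayFrom 𝓓).ι.app (U x).1).hom s = 0 :=
      (Scheme.Hom.ideal_ker_le (HTop.awayFrom 𝓓).ι (U x)) hs
    have hD : HTop.awayFrom 𝓓 ⊓ (U x).1 = X.basicOpen (a x) :=
      Groth.Agent.H20.EffCartierInterior.interior_inf_eq_basicOpen 𝓓 (U x) (a x) (hIU x)
    have hle : X.basicOpen (a x) ≤
        (HTop.awayFrom 𝓓).ι ''ᵁ (HTop.awayFrom 𝓓).ι ⁻¹ᵁ (U x).1 := by
      rw [Scheme.Hom.image_preimage_eq_opensRange_inf, Scheme.Opens.opensRange_ι, hD]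
    have hres : X.presheaf.map (homOfLE (X.basicOpen_le (a x))).op s = 0 := by
      have key : X.presheaf.map (homOfLE (X.basicOpen_le (a x))).op s =
          X.presheaf.map (homOfLE hle).op (((HTop.awayFrom 𝓓).ι.app (U x).1).hom s) := by
        rw [Scheme.Opens.ι_app]
        change _ = (X.presheaf.map _ ≫ X.presheaf.map (homOfLE hle).op).hom s
        rw [← Functor.map_comp]
        rfl
      rw [key, hs', map_zero]
    obtain ⟨n, hn⟩ := exists_pow_mul_eq_zero_of_res_basicOpen_eq_zero_of_isAffineOpen X (U x).2 s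
      (a x) hres
    have hnzd : (a x) ^ n ∈ nonZeroDivisors Γ(X, (U x).1) := pow_mem (ha x) n
    exact (mem_nonZeroDivisors_iff.mp hnzd).1 s hn

/-- A morphism under which `𝓔` becomes effective Cartier kills the sections supported on
`V(𝓔)`. -/
theorem supportedOn_le_ker (m : T ⟶ X) (𝓔 : X.IdealSheafData)
    (h : BlowUp.IsEffCartierIdeal (𝓔.comap m)) : HTop.supportedOn 𝓔 ≤ m.ker := by
  rw [← map_bot m, le_map_iff_comap_le]
  exact (comap_supportedOn_le m 𝓔).trans (supportedOn_eq_bot_of_isEffCartier _ h).le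

set_option backward.isDefEq.respectTransparency false in
/-- On the closed subscheme cut out by the sections supported on `V(𝓔)`, a locally principal
ideal `𝓔` becomes effective Cartier. -/
theorem isEffCartier_comap_supportedOn (𝓔 : X.IdealSheafData) (h𝓔 : HTop.IsLocPrincipal 𝓔) :
    BlowUp.IsEffCartierIdeal (𝓔.comap (HTop.supportedOn 𝓔).subschemeι) := by
  haveI : IsAffineHom (HTop.awayFrom 𝓔).ι := isAffineHom_awayFrom_ι 𝓔 h𝓔
  have hg : ∀ w : (HTop.awayFrom 𝓔 : Scheme.{u}), (HTop.awayFrom 𝓔).ι w ∉ 𝓔.support := fun w => w.2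
  unfold HTop.supportedOn
  set g := (HTop.awayFrom 𝓔).ι with hgdef
  intro y
  obtain ⟨V', hyV', t, hV't⟩ := h𝓔 (g.ker.subschemeι y)
  have hV'' : IsAffineOpen (g.ker.subschemeι ⁻¹ᵁ V'.1) := V'.2.preimage _
  refine ⟨⟨_, hV''⟩, hyV', (g.ker.subschemeι.app V'.1).hom t, ?_, ?_⟩
  · have hu := Groth.Agent.H8.isUnit_app_of_notMem_support g 𝓔 hg V' t hV't
    have key : ∀ ā : Γ(g.ker.subscheme, g.ker.subschemeι ⁻¹ᵁ V'.1),
        ā * (g.ker.subschemeι.app V'.1).hom t = 0 → ā = 0 := by
      intro ā hā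
      obtain ⟨a, rfl⟩ := g.ker.subschemeι_app_surjective V' ā
      rw [← map_mul, ← RingHom.mem_ker, ker_subschemeι_app, Scheme.Hom.ker_apply, RingHom.mem_ker,
        map_mul] at hā
      have h0 : (g.app V'.1).hom a = 0 := hu.mul_left_eq_zero.mp hā
      rw [← RingHom.mem_ker, ker_subschemeι_app, Scheme.Hom.ker_apply, RingHom.mem_ker]
      exact h0
    rw [mem_nonZeroDivisors_iff]
    refine ⟨fun ā hā => key ā ?_, fun ā hā => key ā hā⟩
    rwa [mul_comm]
  · rw [Groth.Agent.H19.ComapAff.ideal_comap_appLE g.ker.subschemeι 𝓔 V' ⟨_, hV''⟩ le_rfl, hV't,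
      Ideal.map_span, Set.image_singleton]
    change Ideal.span {(g.ker.subschemeι.appLE V'.1 (g.ker.subschemeι ⁻¹ᵁ V'.1) le_rfl).hom t} = _
    rw [Scheme.Hom.appLE_eq_app]

/-- The ideal of a base-changed closed immersion is the inverse image ideal. -/
theorem ker_of_isPullback {Z Z₁ Y : Scheme.{u}} {i : Z ⟶ X} {g : Y ⟶ X} {gZ : Z₁ ⟶ Z}
    {i₁ : Z₁ ⟶ Y} (h : IsPullback gZ i₁ i g) [IsClosedImmersion i] : i₁.ker = i.ker.comap g := by
  rw [← ker_fst_of_isClosedImmersion i g]
  have h1 : i₁ = h.flip.isoPullback.hom ≫ pullback.fst g i := (h.flip.isoPullback_hom_fst).symm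
  rw [h1, Scheme.Hom.ker_comp_of_isIso]

/-- **Base change of an almost blow up square.** -/
theorem isAlmostBlowUpSquare_baseChange {E Z X' X Y E₁ Z₁ X₁ : Scheme.{u}} {e : E ⟶ X'}
    {π : E ⟶ Z} {b : X' ⟶ X} {i : Z ⟶ X} (h : HTop.IsAlmostBlowUpSquare e π b i) (g : Y ⟶ X)
    {b₁ : X₁ ⟶ Y} {gX : X₁ ⟶ X'} (hX : IsPullback gX b₁ b g) {i₁ : Z₁ ⟶ Y} {gZ : Z₁ ⟶ Z}
    (hZ : IsPullback gZ i₁ i g) {e₁ : E₁ ⟶ X₁} {gE : E₁ ⟶ E} (hE : IsPullback gE e₁ e gX)
    {π₁ : E₁ ⟶ Z₁} (hπ : π₁ ≫ i₁ = e₁ ≫ b₁) : HTop.IsAlmostBlowUpSquare e₁ π₁ b₁ i₁ := by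
  haveI := h.isClosedImmersion
  haveI := h.finitePresentation_base
  haveI := h.isProper
  haveI := h.finitePresentation
  haveI hi₁ : IsClosedImmersion i₁ := MorphismProperty.of_isPullback hZ inferInstance
  have hker : i₁.ker = i.ker.comap g := ker_of_isPullback hZ
  have h𝓔 : i₁.ker.comap b₁ = (i.ker.comap b).comap gX := by
    rw [hker, ← comap_comp, ← comap_comp, hX.w]
  have hπZ : π₁ ≫ gZ = gE ≫ π := by
    rw [← cancel_mono i, Category.assoc, hZ.w, ← Category.assoc, hπ, Category.assoc, ← hX.w,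
      ← Category.assoc, ← hE.w, Category.assoc, Category.assoc, h.isPullback.w]
  have hloc : HTop.IsLocPrincipal ((i.ker.comap b).comap gX) :=
    isLocPrincipal_comap gX _ h.locPrincipal
  refine ⟨hi₁, MorphismProperty.of_isPullback hZ inferInstance, ?_, ?_,
    MorphismProperty.of_isPullback hX inferInstance,
    MorphismProperty.of_isPullback hX inferInstance, ?_⟩
  · have hbig : IsPullback (π₁ ≫ gZ) e₁ i (b₁ ≫ g) := by
      rw [hπZ, ← hX.w]
      exact hE.paste_horiz h.isPullback.flip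
    exact (IsPullback.of_right hbig hπ hZ).flip
  · rw [h𝓔]
    exact hloc
  · rw [h𝓔, hker]
    have hb := h.isBlowUp
    -- a morphism to `X'` lifting `t ≫ g` makes `𝓔` effective Cartier
    have hcart : ∀ {T : Scheme.{u}} (t : T ⟶ Y) (m : T ⟶ X'), m ≫ b = t ≫ g →
        BlowUp.IsEffCartierIdeal ((i.ker.comap g).comap t) →
        BlowUp.IsEffCartierIdeal ((i.ker.comap b).comap m) := by
      intro T t m hm ht
      rw [← comap_comp, hm, comap_comp]
      exact ht
    refine ⟨?_, fun T t ht => ?_⟩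
    · have e1 : (i.ker.comap g).comap
          ((HTop.supportedOn ((i.ker.comap b).comap gX)).subschemeι ≫ b₁) =
          ((i.ker.comap b).comap gX).comap
            (HTop.supportedOn ((i.ker.comap b).comap gX)).subschemeι := by
        rw [comap_comp (i.ker.comap g) _ b₁, ← comap_comp i.ker b₁ g, ← hX.w,
          comap_comp i.ker gX b]
      rw [e1]
      exact isEffCartier_comap_supportedOn _ hloc
    · obtain ⟨k, hk, hku⟩ := hb.2 T (t ≫ g) (by rw [comap_comp]; exact ht)
      have hk1 : (k ≫ (HTop.supportedOn (i.ker.comap b)).subschemeι) ≫ b = t ≫ g := by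
        rw [Category.assoc]
        exact hk
      have hlX : hX.lift (k ≫ (HTop.supportedOn (i.ker.comap b)).subschemeι) t hk1 ≫ gX =
          k ≫ (HTop.supportedOn (i.ker.comap b)).subschemeι := hX.lift_fst _ _ _
      have hlY : hX.lift (k ≫ (HTop.supportedOn (i.ker.comap b)).subschemeι) t hk1 ≫ b₁ = t :=
        hX.lift_snd _ _ _
      have hle : (HTop.supportedOn ((i.ker.comap b).comap gX)).subschemeι.ker ≤
          (hX.lift (k ≫ (HTop.supportedOn (i.ker.comap b)).subschemeι) t hk1).ker := by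
        rw [ker_subschemeι]
        apply supportedOn_le_ker
        rw [← comap_comp]
        exact hcart t _ (by rw [hlX]; exact hk1) ht
      refine ⟨IsClosedImmersion.lift _ _ hle, ?_, fun k₂ hk₂ => ?_⟩
      · change IsClosedImmersion.lift _ _ hle ≫ _ ≫ b₁ = t
        rw [← Category.assoc, IsClosedImmersion.lift_fac, hlY]
      · have hk₃ : k₂ ≫ (HTop.supportedOn ((i.ker.comap b).comap gX)).subschemeι ≫ b₁ = t := hk₂
        rw [← cancel_mono (HTop.supportedOn ((i.ker.comap b).comap gX)).subschemeι,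
          IsClosedImmersion.lift_fac]
        apply hX.hom_ext
        · rw [hlX]
          -- the composite to `X'` factors through the blow-up
          have hm : (k₂ ≫ (HTop.supportedOn ((i.ker.comap b).comap gX)).subschemeι ≫ gX) ≫ b =
              t ≫ g := by
            rw [Category.assoc, Category.assoc, hX.w, ← Category.assoc, ← Category.assoc,
              Category.assoc k₂, hk₃]
          have hle2 : (HTop.supportedOn (i.ker.comap b)).subschemeι.ker ≤
              (k₂ ≫ (HTop.supportedOn ((i.ker.comap b).comap gX)).subschemeι ≫ gX).ker := by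
            rw [ker_subschemeι]
            exact supportedOn_le_ker _ _ (hcart t _ hm ht)
          have h1 : IsClosedImmersion.lift _ _ hle2 = k := by
            apply hku
            rw [← Category.assoc, IsClosedImmersion.lift_fac]
            exact hm
          rw [← h1, IsClosedImmersion.lift_fac, Category.assoc]
        · rw [hlY, Category.assoc]
          exact hk₃

end Groth.Agent.H8.AlmostBlowUp
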