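import Mathlib
import Groth.Prelude.Def_HTop3
import Groth.Agent.H8.AlmostBlowUp

/-!
# Almost blow up squares: shrinking the top right corner to a closed subscheme
-/

set_option autoImplicit false
set_option linter.style.haveILetI false
universe u
open CategoryTheory CategoryTheory.Limits AlgebraicGeometry TopologicalSpace

namespace Groth.Agent.H8.AlmostBlowUp

open Scheme.IdealSheafData

/-- Two morphisms to `X'` lifting the same morphism to `X` under which the centre becomes effective
Cartier agree (both factor through the blow-up). -/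
theorem eq_of_comp_eq_of_isEffCartier {X' X Z T : Scheme.{u}} {b : X' ⟶ X} {i : Z ⟶ X}
    (hb : BlowUp.IsBlowUp ((HTop.supportedOn (i.ker.comap b)).subschemeι ≫ b) i.ker)
    (m₁ m₂ : T ⟶ X') (h12 : m₁ ≫ b = m₂ ≫ b)
    (hc : BlowUp.IsEffCartierIdeal (i.ker.comap (m₁ ≫ b))) : m₁ = m₂ := by
  have hc1 : BlowUp.IsEffCartierIdeal ((i.ker.comap b).comap m₁) := by
    rw [← comap_comp]; exact hc
  have hc2 : BlowUp.IsEffCartierIdeal ((i.ker.comap b).comap m₂) := by
    rw [← comap_comp, ← h12]; exact hc
  have hle1 : (HTop.supportedOn (i.ker.comap b)).subschemeι.ker ≤ m₁.ker := by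
    rw [ker_subschemeι]; exact supportedOn_le_ker _ _ hc1
  have hle2 : (HTop.supportedOn (i.ker.comap b)).subschemeι.ker ≤ m₂.ker := by
    rw [ker_subschemeι]; exact supportedOn_le_ker _ _ hc2
  obtain ⟨k, hk, hku⟩ := hb.2 T (m₁ ≫ b) hc
  have e1 : IsClosedImmersion.lift _ _ hle1 = k := by
    apply hku
    rw [← Category.assoc, IsClosedImmersion.lift_fac]
  have e2 : IsClosedImmersion.lift _ _ hle2 = k := by
    apply hku
    rw [← Category.assoc, IsClosedImmersion.lift_fac, h12]
  rw [← IsClosedImmersion.lift_fac _ _ hle1, ← IsClosedImmersion.lift_fac _ _ hle2, e1, e2]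

/-- **Replacing the top right corner of an almost blow up square by a closed subscheme.** -/
theorem ker_le_supportedOn_iff {E Z X' X W EW : Scheme.{u}} {e : E ⟶ X'} {π : E ⟶ Z} {b : X' ⟶ X}
    {i : Z ⟶ X} (h : HTop.IsAlmostBlowUpSquare e π b i) (w : W ⟶ X') [IsClosedImmersion w]
    [LocallyOfFinitePresentation w] {eW : EW ⟶ W} {gE : EW ⟶ E} (hEW : IsPullback gE eW e w) :
    w.ker ≤ HTop.supportedOn (i.ker.comap b) ↔
      HTop.IsAlmostBlowUpSquare eW (gE ≫ π) (w ≫ b) i := by
  haveI := h.isClosedImmersion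
  haveI := h.finitePresentation_base
  haveI := h.isProper
  haveI := h.finitePresentation
  have hb := h.isBlowUp
  have hcc : i.ker.comap (w ≫ b) = (i.ker.comap b).comap w := comap_comp _ _ _
  have hloc : HTop.IsLocPrincipal (i.ker.comap (w ≫ b)) := by
    rw [hcc]; exact isLocPrincipal_comap w _ h.locPrincipal
  constructor
  · intro hle
    refine ⟨inferInstance, inferInstance, (hEW.paste_horiz h.isPullback.flip).flip, hloc,
      inferInstance, inferInstance, ⟨?_, fun T t ht => ?_⟩⟩
    · have e1 : i.ker.comap ((HTop.supportedOn (i.ker.comap (w ≫ b))).subschemeι ≫ w ≫ b) =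
          (i.ker.comap (w ≫ b)).comap (HTop.supportedOn (i.ker.comap (w ≫ b))).subschemeι :=
        comap_comp _ _ _
      rw [e1]
      exact isEffCartier_comap_supportedOn _ hloc
    · obtain ⟨k, hk, hku⟩ := hb.2 T t ht
      have hk1 : k ≫ (HTop.supportedOn (i.ker.comap b)).subschemeι ≫ b = t := hk
      have hle0 : w.ker ≤ (HTop.supportedOn (i.ker.comap b)).subschemeι.ker := by
        rw [ker_subschemeι]; exact hle
      have hc0 : IsClosedImmersion.lift w _ hle0 ≫ w =
          (HTop.supportedOn (i.ker.comap b)).subschemeι := IsClosedImmersion.lift_fac _ _ _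
      have hm : (k ≫ IsClosedImmersion.lift w _ hle0) ≫ w ≫ b = t := by
        rw [Category.assoc, ← Category.assoc _ w b, hc0]
        exact hk1
      have hle1 : (HTop.supportedOn (i.ker.comap (w ≫ b))).subschemeι.ker ≤
          (k ≫ IsClosedImmersion.lift w _ hle0).ker := by
        rw [ker_subschemeι]
        apply supportedOn_le_ker
        rw [← comap_comp, hm]
        exact ht
      refine ⟨IsClosedImmersion.lift _ _ hle1, ?_, fun m₂ hm₂ => ?_⟩
      · change IsClosedImmersion.lift _ _ hle1 ≫ _ ≫ w ≫ b = t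
        rw [← Category.assoc, IsClosedImmersion.lift_fac]
        exact hm
      · have hm₃ : m₂ ≫ (HTop.supportedOn (i.ker.comap (w ≫ b))).subschemeι ≫ w ≫ b = t := hm₂
        rw [← cancel_mono (HTop.supportedOn (i.ker.comap (w ≫ b))).subschemeι,
          IsClosedImmersion.lift_fac, ← cancel_mono w]
        apply eq_of_comp_eq_of_isEffCartier hb
        · rw [Category.assoc, Category.assoc, hm₃, Category.assoc, hm]
        · rw [Category.assoc, Category.assoc, hm₃]
          exact ht
  · intro hW
    have hbW := hW.isBlowUp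
    -- the blow-up `V(K) ⟶ X` factors through `V(K_W)`
    obtain ⟨k, hk, -⟩ := hbW.2 _ _ hb.1
    have hk1 : k ≫ (HTop.supportedOn (i.ker.comap (w ≫ b))).subschemeι ≫ w ≫ b =
        (HTop.supportedOn (i.ker.comap b)).subschemeι ≫ b := hk
    have heq : (k ≫ (HTop.supportedOn (i.ker.comap (w ≫ b))).subschemeι) ≫ w =
        (HTop.supportedOn (i.ker.comap b)).subschemeι := by
      apply eq_of_comp_eq_of_isEffCartier hb
      · rw [Category.assoc, Category.assoc, hk1]
      · rw [Category.assoc, Category.assoc, hk1]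
        exact hb.1
    have h1 : w.ker ≤ ((k ≫ (HTop.supportedOn (i.ker.comap (w ≫ b))).subschemeι) ≫ w).ker :=
      Scheme.Hom.le_ker_comp _ _
    rw [heq, ker_subschemeι] at h1
    exact h1

end Groth.Agent.H8.AlmostBlowUp
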