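import Mathlib
import Groth.Prelude.Def_HTop3
import Groth.Agent.H8.AlmostBlowUp
import Groth.Agent.H8.BlowUpExist
import Groth.Agent.H20.IdealFP
import Groth.Agent.H96.BlowUpProper
import Groth.Agent.S1680

/-!
# Existence of almost blow up squares: a blow up of finite presentation
-/

set_option autoImplicit false
universe u
open CategoryTheory CategoryTheory.Limits AlgebraicGeometry TopologicalSpace

namespace Groth.Agent.H8.AlmostBlowUp

open Scheme.IdealSheafData

/-- Precomposing a blow-up with an isomorphism gives a blow-up. -/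
theorem isBlowUp_iso_comp {X X' X'' : Scheme.{u}} {𝓘 : X.IdealSheafData} {b : X' ⟶ X}
    (hb : BlowUp.IsBlowUp b 𝓘) (k : X'' ⟶ X') [IsIso k] : BlowUp.IsBlowUp (k ≫ b) 𝓘 := by
  refine ⟨?_, fun Y g hg => ?_⟩
  · rw [comap_comp]
    exact Groth.Agent.S1680.isEffCartier_comap_of_flat k hb.1
  · obtain ⟨l, hl, hlu⟩ := hb.2 Y g hg
    refine ⟨l ≫ inv k, ?_, fun m hm => ?_⟩
    · change (l ≫ inv k) ≫ k ≫ b = g
      rw [Category.assoc, IsIso.inv_hom_id_assoc, hl]
    · have : m ≫ k = l := hlu (m ≫ k) (by change (m ≫ k) ≫ b = g; rw [Category.assoc]; exact hm)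
      rw [← this, Category.assoc, IsIso.hom_inv_id, Category.comp_id]

/-- **A blow-up of finite presentation in a closed subscheme of finite presentation is an almost
blow up square.** -/
theorem isAlmostBlowUpSquare_of_isBlowUp {Z X X' : Scheme.{u}} (i : Z ⟶ X) [IsClosedImmersion i]
    [LocallyOfFinitePresentation i] (b : X' ⟶ X) (hb : BlowUp.IsBlowUp b i.ker)
    [LocallyOfFinitePresentation b] :
    HTop.IsAlmostBlowUpSquare (pullback.fst b i) (pullback.snd b i) b i := by
  have hprop : IsProper b :=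
    Groth.Agent.H96.BlowUpProper.isProper_of_isBlowUp b i.ker hb (fun x => by
      obtain ⟨_, ⟨U, hU : IsAffineOpen U, rfl⟩, hxU, -⟩ :=
        X.isBasis_affineOpens.exists_subset_of_mem_open (Set.mem_univ x) isOpen_univ
      exact ⟨⟨U, hU⟩, hxU, Groth.Agent.H20.IdealFP.ker_ideal_fg i ⟨U, hU⟩⟩)
  have hbot : HTop.supportedOn (i.ker.comap b) = ⊥ := supportedOn_eq_bot_of_isEffCartier _ hb.1
  refine ⟨inferInstance, inferInstance, IsPullback.of_hasPullback b i, ?_, hprop, inferInstance, ?_⟩
  · intro x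
    obtain ⟨U, hxU, a, -, haI⟩ := hb.1 x
    exact ⟨U, hxU, a, haI⟩
  · have hiso : IsIso (HTop.supportedOn (i.ker.comap b)).subschemeι :=
      (Scheme.isIso_subschemeι_iff_eq_bot _).mpr hbot
    exact isBlowUp_iso_comp hb _

end Groth.Agent.H8.AlmostBlowUp
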