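import Mathlib
import Groth.Agent.H19.ComapAff
import Groth.Agent.H20.IdealFP

/-!
# A closed subscheme of finite presentation of a limit is pulled back from a stage
-/

set_option autoImplicit false
set_option linter.unusedSectionVars false
set_option linter.style.haveILetI false
universe u
open CategoryTheory CategoryTheory.Limits AlgebraicGeometry TopologicalSpace Opposite

namespace Groth.Agent.H8.LimitClosedDescent

open Scheme.IdealSheafData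

section general

variable {I : Type u} [Category.{u} I] [IsCofiltered I] (D : I ⥤ Scheme.{u})
  [∀ {i j} (f : i ⟶ j), IsAffineHom (D.map f)] (c : Cone D) (hc : IsLimit c)

include hc in
/-- A section of the limit over the preimage of an affine open of a stage comes from a later
stage. -/
theorem exists_appLE_π_eq (i : I) (U : (D.obj i).Opens) (hU : IsAffineOpen U)
    (s : Γ(c.pt, c.π.app i ⁻¹ᵁ U)) :
    ∃ (j : I) (a : j ⟶ i) (t : Γ(D.obj j, D.map a ⁻¹ᵁ U)),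
      (c.π.app j).appLE (D.map a ⁻¹ᵁ U) (c.π.app i ⁻¹ᵁ U)
        (by rw [← Scheme.Hom.comp_preimage, c.w]) t = s := by
  have haff : ∀ k : Over i, IsAffine ((opensDiagram D i U).obj k) :=
    fun k => hU.preimage (D.map k.hom)
  obtain ⟨k, t', ht'⟩ := exists_appTop_π_eq_of_isAffine_of_isLimit (opensDiagram D i U)
    (opensCone D c i U) (isLimitOpensCone D c hc i U) ((c.π.app i ⁻¹ᵁ U).topIso.inv s)
  refine ⟨k.left, k.hom, (D.map k.hom ⁻¹ᵁ U).topIso.hom t', ?_⟩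
  have h1 : ((opensCone D c i U).π.app k).appTop =
      (D.map k.hom ⁻¹ᵁ U).topIso.hom ≫ (c.π.app k.left).appLE (D.map k.hom ⁻¹ᵁ U)
        (c.π.app i ⁻¹ᵁ U) (by rw [← Scheme.Hom.comp_preimage, c.w]) ≫
        (c.π.app i ⁻¹ᵁ U).topIso.inv := Scheme.Hom.resLE_app_top _ _
  have h2 : ((D.map k.hom ⁻¹ᵁ U).topIso.hom ≫ (c.π.app k.left).appLE (D.map k.hom ⁻¹ᵁ U)
        (c.π.app i ⁻¹ᵁ U) (by rw [← Scheme.Hom.comp_preimage, c.w]) ≫
        (c.π.app i ⁻¹ᵁ U).topIso.inv) t' = (c.π.app i ⁻¹ᵁ U).topIso.inv s := by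
    rw [← h1]; exact ht'
  have hinj : Function.Injective ((c.π.app i ⁻¹ᵁ U).topIso.inv) :=
    (ConcreteCategory.bijective_of_isIso _).1
  apply hinj
  rw [← h2]
  rfl

end general

section preorder

variable {J : Type u} [Preorder J] [IsDirected J (· ≤ ·)] [Nonempty J] (D : Jᵒᵖ ⥤ Scheme.{u})
  [∀ {i j} (f : i ⟶ j), IsAffineHom (D.map f)] (c : Cone D) (hc : IsLimit c)
  {Z : Scheme.{u}} (i : Z ⟶ c.pt)

/-- The ideal sheaf on the limit obtained by pushing the ideal of `Z` to the stage `j` and pulling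
it back. -/
noncomputable def stageIdeal (j : J) : c.pt.IdealSheafData :=
  ((i ≫ c.π.app (op j)).ker).comap (c.π.app (op j))

theorem stageIdeal_le (j : J) : stageIdeal D c i j ≤ i.ker := by
  rw [stageIdeal, ← map_ker]
  exact comap_map_le _ _

theorem stageIdeal_mono {j j' : J} (h : j ≤ j') : stageIdeal D c i j ≤ stageIdeal D c i j' := by
  have hw : c.π.app (op j') ≫ D.map (homOfLE h).op = c.π.app (op j) := c.w (homOfLE h).op
  have h1 : (i ≫ c.π.app (op j)).ker = ((i ≫ c.π.app (op j')).ker).map (D.map (homOfLE h).op) := by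
    rw [map_ker, Category.assoc, hw]
  rw [stageIdeal, stageIdeal, h1]
  conv_lhs => rw [← hw, comap_comp]
  exact comap_mono _ (comap_map_le _ _)

variable [IsClosedImmersion i]

set_option backward.isDefEq.respectTransparency false in
include hc in
/-- A section of the ideal of `Z` over the preimage of an affine open of a stage lies in a
stage ideal. -/
theorem exists_mem_stageIdeal (j₀ : J) (U : (D.obj (op j₀)).Opens) (hU : IsAffineOpen U)
    (hV : IsAffineOpen (c.π.app (op j₀) ⁻¹ᵁ U)) (g : Γ(c.pt, c.π.app (op j₀) ⁻¹ᵁ U))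
    (hg : g ∈ i.ker.ideal ⟨c.π.app (op j₀) ⁻¹ᵁ U, hV⟩) :
    ∃ j : J, j₀ ≤ j ∧ g ∈ (stageIdeal D c i j).ideal ⟨c.π.app (op j₀) ⁻¹ᵁ U, hV⟩ := by
  haveI : IsFiltered J := isFiltered_of_directed_le_nonempty J
  haveI : ∀ k, IsAffineHom (c.π.app k) := fun k => isAffineHom_π_app D c hc k
  obtain ⟨j', a, t, ht⟩ := exists_appLE_π_eq D c hc (op j₀) U hU g
  obtain ⟨j⟩ := j'
  have hle : j₀ ≤ j := leOfHom a.unop
  refine ⟨j, hle, ?_⟩
  have hUj : IsAffineOpen (D.map a ⁻¹ᵁ U) := hU.preimage (D.map a)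
  have e : c.π.app (op j₀) ⁻¹ᵁ U ≤ c.π.app (op j) ⁻¹ᵁ (D.map a ⁻¹ᵁ U) := by
    rw [← Scheme.Hom.comp_preimage, c.w]
  have e' : c.π.app (op j) ⁻¹ᵁ (D.map a ⁻¹ᵁ U) ≤ c.π.app (op j₀) ⁻¹ᵁ U := by
    rw [← Scheme.Hom.comp_preimage, c.w]
  rw [stageIdeal, Groth.Agent.H19.ComapAff.ideal_comap_appLE (c.π.app (op j)) _
    ⟨D.map a ⁻¹ᵁ U, hUj⟩ ⟨c.π.app (op j₀) ⁻¹ᵁ U, hV⟩ e, ← ht]
  apply Ideal.mem_map_of_mem
  rw [Scheme.Hom.ker_apply, RingHom.mem_ker]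
  -- the section `t` dies on `Z`
  rw [Scheme.Hom.ker_apply, RingHom.mem_ker] at hg
  have hW : i ⁻¹ᵁ (c.π.app (op j₀) ⁻¹ᵁ U) ≤ (i ≫ c.π.app (op j)) ⁻¹ᵁ (D.map a ⁻¹ᵁ U) := by
    rw [Scheme.Hom.comp_preimage]
    exact (Opens.map i.base).monotone e
  have hW' : (i ≫ c.π.app (op j)) ⁻¹ᵁ (D.map a ⁻¹ᵁ U) ≤ i ⁻¹ᵁ (c.π.app (op j₀) ⁻¹ᵁ U) := by
    rw [Scheme.Hom.comp_preimage]
    exact (Opens.map i.base).monotone e'
  have h1 : (i ≫ c.π.app (op j)).appLE (D.map a ⁻¹ᵁ U) (i ⁻¹ᵁ (c.π.app (op j₀) ⁻¹ᵁ U)) hW =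
      (c.π.app (op j)).appLE (D.map a ⁻¹ᵁ U) (c.π.app (op j₀) ⁻¹ᵁ U) e ≫
        i.appLE (c.π.app (op j₀) ⁻¹ᵁ U) (i ⁻¹ᵁ (c.π.app (op j₀) ⁻¹ᵁ U)) le_rfl := by
    rw [Scheme.Hom.appLE_comp_appLE]
  have h2 : ((i ≫ c.π.app (op j)).appLE (D.map a ⁻¹ᵁ U) (i ⁻¹ᵁ (c.π.app (op j₀) ⁻¹ᵁ U)) hW) t
      = 0 := by
    rw [h1, CommRingCat.comp_apply, ht, Scheme.Hom.appLE_eq_app]
    exact hg
  have h3 : (i ≫ c.π.app (op j)).appLE (D.map a ⁻¹ᵁ U) (i ⁻¹ᵁ (c.π.app (op j₀) ⁻¹ᵁ U)) hW ≫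
      Z.presheaf.map (homOfLE hW').op = (i ≫ c.π.app (op j)).app (D.map a ⁻¹ᵁ U) := by
    rw [Scheme.Hom.appLE_map, Scheme.Hom.appLE_eq_app]
  rw [← h3, CommRingCat.comp_apply, h2, map_zero]

set_option backward.isDefEq.respectTransparency false in
include hc in
/-- **A closed subscheme of finite presentation of the limit is the pullback of its
scheme-theoretic image in some stage.** -/
theorem exists_stageIdeal_eq [∀ k, CompactSpace (D.obj k)] [LocallyOfFinitePresentation i] :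
    ∃ j : J, stageIdeal D c i j = i.ker := by
  classical
  haveI : IsFiltered J := isFiltered_of_directed_le_nonempty J
  haveI : ∀ k, IsAffineHom (c.π.app k) := fun k => isAffineHom_π_app D c hc k
  obtain ⟨j₀⟩ := ‹Nonempty J›
  obtain ⟨Us, hUs, hUf, hUeq⟩ :=
    (D.obj (op j₀)).isBasis_affineOpens.exists_finite_of_isCompact (U := ⊤)
      (by simpa using isCompact_univ)
  have hVaff : ∀ U ∈ Us, IsAffineOpen (c.π.app (op j₀) ⁻¹ᵁ U) :=
    fun U hU => (hUs hU).preimage (c.π.app (op j₀))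
  have key : ∀ U (hU : U ∈ Us), ∃ j, j₀ ≤ j ∧
      i.ker.ideal ⟨c.π.app (op j₀) ⁻¹ᵁ U, hVaff U hU⟩ ≤
        (stageIdeal D c i j).ideal ⟨c.π.app (op j₀) ⁻¹ᵁ U, hVaff U hU⟩ := by
    intro U hU
    obtain ⟨G, hG⟩ := Groth.Agent.H20.IdealFP.ker_ideal_fg i ⟨c.π.app (op j₀) ⁻¹ᵁ U, hVaff U hU⟩
    have hex : ∀ g ∈ G, ∃ j, j₀ ≤ j ∧
        g ∈ (stageIdeal D c i j).ideal ⟨c.π.app (op j₀) ⁻¹ᵁ U, hVaff U hU⟩ := fun g hg =>
      exists_mem_stageIdeal D c hc i j₀ U (hUs hU) (hVaff U hU) g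
        (hG ▸ Ideal.subset_span hg)
    choose! jg hjg hmem using hex
    obtain ⟨j, hj⟩ := Finset.exists_le (insert j₀ (G.image jg))
    refine ⟨j, hj j₀ (Finset.mem_insert_self _ _), ?_⟩
    rw [← hG, Ideal.span_le]
    intro g hg
    exact (stageIdeal_mono D c i (hj (jg g)
      (Finset.mem_insert_of_mem (Finset.mem_image_of_mem jg hg)))) _ (hmem g hg)
  choose! jU hjU hle using key
  obtain ⟨j, hj⟩ := Finset.exists_le (hUf.toFinset.image jU)
  refine ⟨j, le_antisymm (stageIdeal_le D c i j) ?_⟩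
  refine le_of_iSup_eq_top (ι := Us)
    (fun U => ⟨c.π.app (op j₀) ⁻¹ᵁ U.1, hVaff U.1 U.2⟩) ?_ (fun U => ?_)
  · rw [eq_top_iff]
    intro x _
    have hx : (c.π.app (op j₀)) x ∈ (⊤ : (D.obj (op j₀)).Opens) := trivial
    rw [hUeq, Opens.mem_sSup] at hx
    obtain ⟨U, hU, hxU⟩ := hx
    exact Opens.mem_iSup.mpr ⟨⟨U, hU⟩, hxU⟩
  · exact (hle U.1 U.2).trans ((stageIdeal_mono D c i (hj (jU U.1)
      (Finset.mem_image_of_mem jU (hUf.mem_toFinset.mpr U.2)))) _)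

end preorder

end Groth.Agent.H8.LimitClosedDescent
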