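import Mathlib
import Groth.Prelude.Def_HTop3
import Groth.Agent.H8.AlmostBlowUpExist
import Groth.Agent.H8.LimitClosedDescent
import Groth.Agent.H20.NA.Absolute

/-!
# Existence of almost blow up squares over a quasi-compact quasi-separated scheme
-/

set_option autoImplicit false
set_option linter.style.haveILetI false
universe u
open CategoryTheory CategoryTheory.Limits AlgebraicGeometry TopologicalSpace Opposite

namespace Groth.Agent.H8.AlmostBlowUp

open Scheme.IdealSheafData Groth.Agent.H8.LimitClosedDescent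

/-- Transporting an almost blow up square along an isomorphism of the base. -/
theorem isAlmostBlowUpSquare_comp_iso {E Z X' X Y : Scheme.{u}} {e : E ⟶ X'} {π : E ⟶ Z}
    {b : X' ⟶ X} {i : Z ⟶ X} (h : HTop.IsAlmostBlowUpSquare e π b i) (φ : X ≅ Y) :
    HTop.IsAlmostBlowUpSquare e π (b ≫ φ.hom) (i ≫ φ.hom) := by
  have hX : IsPullback (𝟙 X') (b ≫ φ.hom) b φ.inv :=
    IsPullback.of_horiz_isIso ⟨by rw [Category.id_comp, Category.assoc, Iso.hom_inv_id,
      Category.comp_id]⟩
  have hZ : IsPullback (𝟙 Z) (i ≫ φ.hom) i φ.inv :=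
    IsPullback.of_horiz_isIso ⟨by rw [Category.id_comp, Category.assoc, Iso.hom_inv_id,
      Category.comp_id]⟩
  have hE : IsPullback (𝟙 E) e e (𝟙 X') := IsPullback.of_horiz_isIso ⟨by simp⟩
  refine isAlmostBlowUpSquare_baseChange h φ.inv hX hZ hE ?_
  rw [← Category.assoc, ← Category.assoc, h.isPullback.w]

/-- **Existence of almost blow up squares.** -/
theorem exists_isAlmostBlowUpSquare {Z X : Scheme.{u}} [CompactSpace X] [QuasiSeparatedSpace X]
    (i : Z ⟶ X) [IsClosedImmersion i] [LocallyOfFinitePresentation i] :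
    ∃ (E X' : Scheme.{u}) (e : E ⟶ X') (π : E ⟶ Z) (b : X' ⟶ X),
      HTop.IsAlmostBlowUpSquare e π b i := by
  obtain ⟨J, _, _, _, D, c, hc, haff, hft, ⟨eS⟩⟩ := Groth.Agent.H20.NA.exists_absolute X
  haveI : ∀ {k l : Jᵒᵖ} (f : k ⟶ l), IsAffineHom (D.map f) := fun f => haff _ _ f
  haveI : ∀ k, CompactSpace (D.obj k) := fun k => (hft k).1
  haveI : IsFiltered J := isFiltered_of_directed_le_nonempty J
  haveI : ∀ k, IsAffineHom (c.π.app k) := fun k => isAffineHom_π_app D c hc k
  -- move to the limit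
  let i' : Z ⟶ c.pt := i ≫ eS.inv
  obtain ⟨j, hj⟩ := exists_stageIdeal_eq D c hc i'
  -- the stage and the image of `Z` in it
  haveI := (hft (op j)).2
  haveI hN : IsNoetherian (D.obj (op j)) := Groth.Agent.H20.NA.isNoetherian_of_ft _
  obtain ⟨Zj, ij, tj, hcl, hsq⟩ : ∃ (Zj : Scheme.{u}) (ij : Zj ⟶ D.obj (op j)) (tj : Z ⟶ Zj),
      IsClosedImmersion ij ∧ IsPullback i' tj (c.π.app (op j)) ij := by
    refine ⟨_, (i' ≫ c.π.app (op j)).imageι, (i' ≫ c.π.app (op j)).toImage, inferInstance, ?_⟩
    apply isPullback_of_isClosedImmersion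
    · exact (Scheme.Hom.toImage_imageι _).symm
    · rw [ker_subschemeι]; exact hj
  -- blow up the stage
  obtain ⟨X'j, bj, hbj⟩ := Groth.Agent.H8.exists_isBlowUp (D.obj (op j)) ij.ker
  haveI hprop : IsProper bj :=
    Groth.Agent.H96.BlowUpProper.isProper_of_isBlowUp bj ij.ker hbj (fun x => by
      obtain ⟨_, ⟨U, hU : IsAffineOpen U, rfl⟩, hxU, -⟩ :=
        (D.obj (op j)).isBasis_affineOpens.exists_subset_of_mem_open (Set.mem_univ x) isOpen_univ
      haveI : IsNoetherianRing Γ(D.obj (op j), U) :=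
        IsLocallyNoetherian.component_noetherian ⟨U, hU⟩
      exact ⟨⟨U, hU⟩, hxU, IsNoetherian.noetherian _⟩)
  have hsqj := isAlmostBlowUpSquare_of_isBlowUp ij bj hbj
  -- base change to the limit
  have hX : IsPullback (pullback.fst bj (c.π.app (op j))) (pullback.snd bj (c.π.app (op j))) bj
      (c.π.app (op j)) := IsPullback.of_hasPullback _ _
  have hE : IsPullback (pullback.fst (pullback.fst bj ij) (pullback.fst bj (c.π.app (op j))))
      (pullback.snd (pullback.fst bj ij) (pullback.fst bj (c.π.app (op j))))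
      (pullback.fst bj ij) (pullback.fst bj (c.π.app (op j))) := IsPullback.of_hasPullback _ _
  have hcomp : (pullback.fst (pullback.fst bj ij) (pullback.fst bj (c.π.app (op j))) ≫
      pullback.snd bj ij) ≫ ij =
      (pullback.snd (pullback.fst bj ij) (pullback.fst bj (c.π.app (op j))) ≫
        pullback.snd bj (c.π.app (op j))) ≫ c.π.app (op j) := by
    rw [Category.assoc, ← pullback.condition, ← Category.assoc, hE.w, Category.assoc, hX.w,
      Category.assoc]
  have hlim := isAlmostBlowUpSquare_baseChange hsqj (c.π.app (op j)) hX hsq.flip hE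
    (π₁ := hsq.flip.lift _ _ hcomp) (hsq.flip.lift_snd _ _ hcomp)
  -- transport to `X`
  have hfin := isAlmostBlowUpSquare_comp_iso hlim eS
  have hi : i' ≫ eS.hom = i := by
    change (i ≫ eS.inv) ≫ eS.hom = i
    rw [Category.assoc, Iso.inv_hom_id, Category.comp_id]
  rw [hi] at hfin
  exact ⟨_, _, _, _, _, hfin⟩

end Groth.Agent.H8.AlmostBlowUp
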