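import Groth.Agent.H8.BlowUpBasic
import Groth.Agent.H8.StructAss
import Groth.Agent.S1682

/-!
# Weakly associated points of a blow-up (helper8)
-/

set_option autoImplicit false
universe u
open CategoryTheory CategoryTheory.Limits AlgebraicGeometry TopologicalSpace Opposite

namespace Groth.Agent.H8

open Curv2 Scheme.IdealSheafData

variable {X X' : Scheme.{u}}

/-- Weakly associated points of a blow-up lie off the exceptional divisor; there the blow-up is a
local isomorphism, and their images are weakly associated points of the base. -/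
theorem blowUp_weakAss {𝓘 : X.IdealSheafData} {b : X' ⟶ X} (hb : BlowUp.IsBlowUp b 𝓘) {x' : X'}
    (hx' : IsWeakAssPoint (Coh.structureModule X') x') :
    b x' ∉ 𝓘.support ∧ IsIso (b.stalkMap x') ∧ IsWeakAssPoint (Coh.structureModule X) (b x') := by
  have h1 : x' ∉ (𝓘.comap b).support := notMem_support_of_isWeakAssPoint hb.1 hx'
  have h2 : b x' ∉ 𝓘.support := by
    intro h
    apply h1
    rw [support_comap]
    exact h
  have hiso : IsIso (b ∣_ 𝓘.support.compl) := Groth.Agent.S1682.result 𝓘 b hb
  have h3 : IsIso (b.stalkMap x') :=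
    isIso_stalkMap_of_isIso_morphismRestrict b 𝓘.support.compl x' h2
  refine ⟨h2, h3, ?_⟩
  rw [isWeakAssPoint_structure_iff] at hx' ⊢
  let e : X'.presheaf.stalk x' ≃+* X.presheaf.stalk (b x') :=
    (asIso (b.stalkMap x')).commRingCatIsoToRingEquiv.symm
  exact isAssociatedPrime_maximalIdeal_of_ringEquiv e hx'

end Groth.Agent.H8
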