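import Groth.Agent.H8.BlowUpRegular
import Groth.Agent.H49.CMLocalize
import Groth.Agent.H26.CMFlat
import Groth.Agent.H29.ComplCat
import Groth.Agent.H46.CIField
import Groth.Agent.H47.SmoothRegular
import Groth.Prelude.Def_RegImm

/-!
# The blow-up of a Cohen–Macaulay scheme in a regular ideal is Cohen–Macaulay (helper8)
-/

set_option autoImplicit false
set_option linter.style.haveILetI false
universe u
open CategoryTheory CategoryTheory.Limits AlgebraicGeometry TopologicalSpace Opposite

namespace Groth.Agent.H8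

/-- A Cohen–Macaulay local ring is a Cohen–Macaulay ring. -/
theorem isCohenMacaulayRing_of_isCohenMacaulayLocalRing (R : Type u) [CommRing R]
    (hR : LocCoh.IsCohenMacaulayLocalRing R) : LocCoh.IsCohenMacaulayRing R :=
  { toIsNoetherian := hR.toIsNoetherian
    isCohenMacaulayLocalRing_localization := fun p _ =>
      Groth.Agent.H49.isCohenMacaulayLocalRing_localization R hR p }

/-- The Cohen–Macaulay property ascends along smooth ring maps. -/
theorem isCM_localization_of_smooth (R T : Type u) [CommRing R] [CommRing T] [Algebra R T]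
    [Algebra.Smooth R T] (Q : Ideal T) [Q.IsPrime] (hR : LocCoh.IsCohenMacaulayLocalRing R) :
    LocCoh.IsCohenMacaulayLocalRing (Localization.AtPrime Q) := by
  haveI : IsNoetherianRing R := hR.toIsNoetherian
  haveI : IsNoetherianRing T := Algebra.FiniteType.isNoetherianRing R T
  have hRr := isCohenMacaulayRing_of_isCohenMacaulayLocalRing R hR
  have hfib : ∀ (p : Ideal R) [p.IsPrime], LocCoh.IsCohenMacaulayRing (p.Fiber T) := by
    intro p _
    haveI : Algebra.Smooth p.ResidueField (p.Fiber T) := inferInstance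
    haveI : IsRegularRing (p.Fiber T) :=
      Groth.Agent.H47.isRegularRing_of_smooth p.ResidueField (p.Fiber T)
    exact Groth.Agent.H26.CMFlat.isCohenMacaulayRing_of_isRegularRing _
  have hT := Groth.Agent.H26.CMFlat.isCohenMacaulayRing_of_flat_of_fibres R T hRr hfib
  exact hT.isCohenMacaulayLocalRing_localization Q

/-- The Cohen–Macaulay property of local rings ascends along a morphism at a smooth point. -/
theorem isCM_stalk_of_mem_smoothLocus {X Y : Scheme.{u}} (f : X ⟶ Y)
    [LocallyOfFinitePresentation f] (x : X) (hx : x ∈ f.smoothLocus)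
    (h : LocCoh.IsCohenMacaulayLocalRing (Y.presheaf.stalk (f.base x))) :
    LocCoh.IsCohenMacaulayLocalRing (X.presheaf.stalk x) := by
  refine Groth.Agent.H39.SmoothStalk.stalk_ascent
    (fun R _ => LocCoh.IsCohenMacaulayLocalRing R) ?_ ?_ f x hx h
  · intro R R' _ _ e hR
    exact Groth.Agent.H49.isCohenMacaulayLocalRing_of_ringEquiv e hR
  · intro R T _ _ _ _ Q _ hR
    exact isCM_localization_of_smooth R T Q hR

set_option backward.isDefEq.respectTransparency false in
/-- Local equation of an effective Cartier ideal at a point of its closed subscheme. -/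
theorem exists_nzd_quotEquiv_of_effCartier {X : Scheme.{u}} (𝓔 : X.IdealSheafData)
    (hE : BlowUp.IsEffCartierIdeal 𝓔) (d : 𝓔.subscheme) :
    ∃ h : X.presheaf.stalk (𝓔.subschemeι d),
      h ∈ IsLocalRing.maximalIdeal (X.presheaf.stalk (𝓔.subschemeι d)) ∧
      h ∈ nonZeroDivisors (X.presheaf.stalk (𝓔.subschemeι d)) ∧
      Nonempty ((X.presheaf.stalk (𝓔.subschemeι d) ⧸ Ideal.span {h}) ≃+*
        𝓔.subscheme.presheaf.stalk d) := by
  set x := 𝓔.subschemeι d with hxdef
  obtain ⟨W, hxW, a, ha, haI⟩ := hE x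
  letI : Algebra Γ(X, W.1) (X.presheaf.stalk x) := X.presheaf.algebra_section_stalk ⟨x, hxW⟩
  haveI locX : IsLocalization.AtPrime (X.presheaf.stalk x) (W.2.primeIdealOf ⟨x, hxW⟩).asIdeal :=
    W.2.isLocalization_stalk ⟨x, hxW⟩
  set h : X.presheaf.stalk x := algebraMap Γ(X, W.1) (X.presheaf.stalk x) a with hh
  have hreg : h ∈ nonZeroDivisors (X.presheaf.stalk x) :=
    IsLocalization.map_nonZeroDivisors_le (W.2.primeIdealOf ⟨x, hxW⟩).asIdeal.primeCompl _
      (Submonoid.mem_map_of_mem _ ha)
  have hker : RingHom.ker (𝓔.subschemeι.stalkMap d).hom = Ideal.span {h} := by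
    rw [ker_stalkMap_subschemeι 𝓔 W d hxW, haI, Ideal.map_span, Set.image_singleton]
    rfl
  have hsurj : Function.Surjective (𝓔.subschemeι.stalkMap d).hom :=
    𝓔.subschemeι.stalkMap_surjective d
  have hm : h ∈ IsLocalRing.maximalIdeal (X.presheaf.stalk x) := by
    rw [IsLocalRing.mem_maximalIdeal, mem_nonunits_iff]
    intro hu
    have h1 : h ∈ RingHom.ker (𝓔.subschemeι.stalkMap d).hom := by
      rw [hker]; exact Ideal.mem_span_singleton_self h
    rw [RingHom.mem_ker] at h1
    have h2 := hu.map (𝓔.subschemeι.stalkMap d).hom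
    rw [h1] at h2
    exact not_isUnit_zero h2
  exact ⟨h, hm, hreg,
    ⟨(Ideal.quotEquivOfEq hker.symm).trans (RingHom.quotientKerEquivOfSurjective hsurj)⟩⟩

set_option backward.isDefEq.respectTransparency false in
/-- The closed subscheme of a regular ideal in a Cohen–Macaulay scheme is Cohen–Macaulay. -/
theorem isCM_stalk_subscheme_of_regularIdeal {W : Scheme.{u}}
    (hcm : ∀ w : W, LocCoh.IsCohenMacaulayLocalRing (W.presheaf.stalk w))
    (I : W.IdealSheafData) (hI : RegImm.IsRegularIdeal RegImm.Kind.regular I)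
    (y : I.subscheme) : LocCoh.IsCohenMacaulayLocalRing (I.subscheme.presheaf.stalk y) := by
  have hxs : I.subschemeι y ∈ I.support := by
    rw [← SetLike.mem_coe, ← I.range_subschemeι]; exact ⟨y, rfl⟩
  obtain ⟨U, hxU, rs, hrs, hof⟩ := hI _ hxs
  have hrs' : RingTheory.Sequence.IsRegular Γ(W, U.1) rs := hrs
  set x := I.subschemeι y with hxdef
  letI : Algebra Γ(W, U.1) (W.presheaf.stalk x) := W.presheaf.algebra_section_stalk ⟨x, hxU⟩
  haveI locX : IsLocalization.AtPrime (W.presheaf.stalk x) (U.2.primeIdealOf ⟨x, hxU⟩).asIdeal :=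
    U.2.isLocalization_stalk ⟨x, hxU⟩
  haveI : Module.Flat Γ(W, U.1) (W.presheaf.stalk x) :=
    IsLocalization.flat _ (U.2.primeIdealOf ⟨x, hxU⟩).asIdeal.primeCompl
  have hker : RingHom.ker (I.subschemeι.stalkMap y).hom =
      Ideal.ofList (rs.map (algebraMap Γ(W, U.1) (W.presheaf.stalk x))) := by
    rw [ker_stalkMap_subschemeι I U y hxU, hof, Ideal.map_ofList]
    rfl
  have hsurj : Function.Surjective (I.subschemeι.stalkMap y).hom :=
    I.subschemeι.stalkMap_surjective y
  have hwr : RingTheory.Sequence.IsWeaklyRegular (W.presheaf.stalk x)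
      (rs.map (algebraMap Γ(W, U.1) (W.presheaf.stalk x))) :=
    hrs'.toIsWeaklyRegular.of_flat
  have hmem : ∀ r ∈ rs.map (algebraMap Γ(W, U.1) (W.presheaf.stalk x)),
      r ∈ IsLocalRing.maximalIdeal (W.presheaf.stalk x) := by
    intro r hr
    rw [IsLocalRing.mem_maximalIdeal, mem_nonunits_iff]
    intro hu
    have h1 : r ∈ RingHom.ker (I.subschemeι.stalkMap y).hom := by
      rw [hker]; exact Ideal.subset_span hr
    rw [RingHom.mem_ker] at h1
    have h2 := hu.map (I.subschemeι.stalkMap y).hom
    rw [h1] at h2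
    exact not_isUnit_zero h2
  have h1 := Groth.Agent.H46.CIField.isCM_quotient_ofList (W.presheaf.stalk x) (hcm x) _ hmem hwr
  exact Groth.Agent.H49.isCohenMacaulayLocalRing_of_ringEquiv
    ((Ideal.quotEquivOfEq hker.symm).trans (RingHom.quotientKerEquivOfSurjective hsurj)) h1

/-- The closed immersion of the subscheme of a regular ideal is a regular closed immersion. -/
theorem isRegularClosedImmersion_subschemeι {W : Scheme.{u}} (I : W.IdealSheafData)
    (hI : RegImm.IsRegularIdeal RegImm.Kind.regular I) :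
    Mor2.IsRegularClosedImmersion I.subschemeι := by
  refine ⟨inferInstance, fun y => ?_⟩
  have hxs : I.subschemeι y ∈ I.support := by
    rw [← SetLike.mem_coe, ← I.range_subschemeι]; exact ⟨y, rfl⟩
  obtain ⟨U, hxU, rs, hrs, hof⟩ := hI _ hxs
  refine ⟨U.1, U.2, hxU, rs, hrs, ?_⟩
  rw [I.ker_subschemeι]
  exact hof

/-- **The blow-up of a Cohen–Macaulay scheme in a regular ideal is Cohen–Macaulay.** -/
theorem isCM_stalk_blowUp_of_regularIdeal {W T : Scheme.{u}} [IsLocallyNoetherian W]
    (hcm : ∀ w : W, LocCoh.IsCohenMacaulayLocalRing (W.presheaf.stalk w))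
    (I : W.IdealSheafData) (hI : RegImm.IsRegularIdeal RegImm.Kind.regular I)
    (π : T ⟶ W) (hπ : BlowUp.IsBlowUp π I) (t : T) :
    LocCoh.IsCohenMacaulayLocalRing (T.presheaf.stalk t) := by
  have hπ' : BlowUp.IsBlowUp π I.subschemeι.ker := by rw [I.ker_subschemeι]; exact hπ
  have hfg : ∀ x : W, ∃ U : W.affineOpens, x ∈ U.1 ∧ (I.subschemeι.ker.ideal U).FG := by
    intro x
    obtain ⟨_, ⟨U, hU : IsAffineOpen U, rfl⟩, hxU, -⟩ :=
      W.isBasis_affineOpens.exists_subset_of_mem_open (Set.mem_univ x) isOpen_univ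
    haveI : IsNoetherianRing Γ(W, U) := IsLocallyNoetherian.component_noetherian ⟨U, hU⟩
    exact ⟨⟨U, hU⟩, hxU, IsNoetherian.noetherian _⟩
  haveI hprop : IsProper π :=
    Groth.Agent.H96.BlowUpProper.isProper_of_isBlowUp π I.subschemeι.ker hπ' hfg
  haveI : IsLocallyNoetherian T := LocallyOfFiniteType.isLocallyNoetherian π
  by_cases hz : t ∈ (BlowUp.exceptional π I.subschemeι.ker).support
  · rw [← SetLike.mem_coe, ← (BlowUp.exceptional π I.subschemeι.ker).range_subschemeι] at hz
    obtain ⟨y', rfl⟩ := hz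
    haveI hsm : Smooth (exceptionalToCentre I.subschemeι π) :=
      smooth_exceptional_of_regular I.subschemeι (isRegularClosedImmersion_subschemeι I hI) π hπ'
        (exceptionalToCentre I.subschemeι π) (exceptionalToCentre_fac I.subschemeι π)
    have hcmY' : LocCoh.IsCohenMacaulayLocalRing
        ((BlowUp.exceptional π I.subschemeι.ker).subscheme.presheaf.stalk y') := by
      apply isCM_stalk_of_mem_smoothLocus (exceptionalToCentre I.subschemeι π) y'
      · rw [(exceptionalToCentre I.subschemeι π).smoothLocus_eq_top]; trivial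
      · exact isCM_stalk_subscheme_of_regularIdeal hcm I hI _
    obtain ⟨h, hm, hreg, ⟨e⟩⟩ :=
      exists_nzd_quotEquiv_of_effCartier (BlowUp.exceptional π I.subschemeι.ker) hπ'.1 y'
    refine Groth.Agent.H29.ComplCat.isCM_of_quotient_regular _ h hm ?_
      (Groth.Agent.H49.isCohenMacaulayLocalRing_of_ringEquiv e.symm hcmY')
    intro a b hab
    have h1 : h * (a - b) = 0 := by
      have : h * a = h * b := hab
      rw [mul_sub, this, sub_self]
    exact sub_eq_zero.mp ((mem_nonZeroDivisors_iff_right.mp hreg) _ (by rwa [mul_comm] at h1))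
  · have hz' : π t ∉ I.subschemeι.ker.support := by
      intro h
      apply hz
      rw [Scheme.IdealSheafData.support_comap]
      exact h
    haveI := isIso_stalkMap_of_isBlowUp_of_notMem I.subschemeι.ker π hπ' t hz'
    exact Groth.Agent.H49.isCohenMacaulayLocalRing_of_ringEquiv
      (asIso (π.stalkMap t)).commRingCatIsoToRingEquiv (hcm (π t))

end Groth.Agent.H8
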