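import Groth.Agent.H8.BlowUpExist
import Groth.Agent.Lead.Coh.AffineOpen
import Mathlib.RingTheory.RegularLocalRing.Defs

/-!
# Cohomological dimension of a blow-up of an affine scheme (helper8)

If `I = (a₁, …, aₙ)` and `b : X ⟶ Spec A` is a blow-up of `I`, then `X` is covered by the `n`
affine opens `D₊(aᵢ T)` and is separated, so `Hᵖ(X, F) = 0` for `p ≥ n` and `F` quasi-coherent.
-/

set_option autoImplicit false
universe u
open CategoryTheory CategoryTheory.Limits AlgebraicGeometry TopologicalSpace Opposite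

namespace Groth.Agent.H8

open ReesProj

variable {A : Type u} [CommRing A] (I : Ideal A)

lemma tt_zero : tt I 0 I.zero_mem = 0 := by
  apply Subtype.ext
  simp [coe_tt]

lemma tt_add (a b : A) (ha : a ∈ I) (hb : b ∈ I) :
    tt I (a + b) (I.add_mem ha hb) = tt I a ha + tt I b hb := by
  apply Subtype.ext
  simp [coe_tt]

lemma tt_smul (r a : A) (ha : a ∈ I) :
    tt I (r * a) (I.mul_mem_left r ha) = algebraMap A (reesAlgebra I) r * tt I a ha := by
  apply Subtype.ext
  simp [coe_tt, Polynomial.C_mul_monomial]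

/-- If `I` is spanned by `s` and an ideal `J` of the Rees algebra contains `a T` for `a ∈ s`, then it
contains `a T` for all `a ∈ I`. -/
lemma tt_mem_of_span (s : Set A) (hs : Ideal.span s = I) (J : Ideal (reesAlgebra I))
    (h : ∀ a (ha : a ∈ I), a ∈ s → tt I a ha ∈ J) (a : A) (ha : a ∈ I) : tt I a ha ∈ J := by
  have key : ∀ a, a ∈ Ideal.span s → ∀ ha : a ∈ I, tt I a ha ∈ J := by
    intro a ha'
    induction ha' using Submodule.span_induction with
    | mem x hx => exact fun hx' => h x hx' hx
    | zero => intro _; rw [tt_zero]; exact J.zero_mem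
    | add x y hx hy ihx ihy =>
      intro _
      rw [tt_add I x y (hs ▸ hx) (hs ▸ hy)]
      exact J.add_mem (ihx _) (ihy _)
    | smul r x hx ihx =>
      intro _
      have := tt_smul I r x (hs ▸ hx)
      change tt I (r * x) _ ∈ J
      rw [this]
      exact J.mul_mem_left _ (ihx _)
  exact key a (hs ▸ ha) ha

/-- The charts of a generating set cover `Proj R(I)`. -/
lemma exists_mem_chart_of_span (s : Set A) (hs : Ideal.span s = I)
    (z : Proj (Rees.deg (reesAlgebra I))) :
    ∃ (a : A) (ha : a ∈ I), a ∈ s ∧ z ∈ Proj.basicOpen (Rees.deg (reesAlgebra I)) (tt I a ha) := by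
  by_contra hcon
  push Not at hcon
  obtain ⟨a, ha, hz⟩ := exists_mem_chart I z
  rw [Proj.mem_basicOpen] at hz
  apply hz
  apply tt_mem_of_span I s hs z.asHomogeneousIdeal.toIdeal _ a ha
  intro c hc hcs
  have := hcon c hc hcs
  rw [Proj.mem_basicOpen, not_not] at this
  exact this

lemma isSeparated_of_iso {X Y : Scheme.{u}} (e : X ≅ Y) [Y.IsSeparated] : X.IsSeparated :=
  ⟨by rw [← terminal.comp_from e.hom]; infer_instance⟩

/-- **Cohomological dimension of a blow-up**: if `I` is generated by the nonempty finite set `s`, the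
blow-up of `Spec A` in `I` has no quasi-coherent cohomology in degrees `≥ #s`. -/
theorem subsingleton_HH_of_isBlowUp_span (s : Finset A) (hs : s.Nonempty)
    (X : Scheme.{u}) (b : X ⟶ Spec (CommRingCat.of A))
    (hb : BlowUp.IsBlowUp b (Curv2.idealSheaf A (Ideal.span (s : Set A))))
    (F : X.Modules) [F.IsQuasicoherent] (p : ℕ) (hp : s.card ≤ p) :
    Subsingleton (Coh.HH X F p) := by
  classical
  set I : Ideal A := Ideal.span (s : Set A) with hI
  have h2 : BlowUp.IsBlowUp (π I) (Curv2.idealSheaf A I) := Groth.Agent.S16054.result A I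
  obtain ⟨e, he⟩ := isBlowUp_iso hb h2
  have : X.IsSeparated := isSeparated_of_iso e
  have hsI : ∀ a ∈ s, a ∈ I := fun a ha => Ideal.subset_span ha
  let U : A → X.Opens := fun a =>
    if ha : a ∈ I then e.hom ⁻¹ᵁ Proj.basicOpen (Rees.deg (reesAlgebra I)) (tt I a ha) else ⊥
  have hU : ∀ a ∈ s, IsAffineOpen (U a) := by
    intro a ha
    simp only [U, dif_pos (hsI a ha)]
    exact (Proj.isAffineOpen_basicOpen _ _ (tt_mem I a _) Nat.one_pos).preimage_of_isIso e.hom
  have hcov : s.sup U = ⊤ := by
    rw [eq_top_iff]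
    intro x _
    obtain ⟨a, ha, has, hz⟩ := exists_mem_chart_of_span I (s : Set A) rfl (e.hom x)
    have : x ∈ U a := by
      simp only [U, dif_pos ha]
      exact hz
    exact (Finset.le_sup (f := U) has) this
  apply Groth.Agent.Lead.Coh.subsingleton_HH_of_hVanish_top
  rw [← hcov]
  exact Groth.Agent.Lead.Coh.hVanish_finset_sup X F (fun V W hV hW => hV.inf hW) s U hU hs p hp

end Groth.Agent.H8
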