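import Groth.Agent.H8.BlowUpBasic
import Groth.Agent.H19.ComapAff
import Mathlib.RingTheory.Localization.Finiteness

/-!
# Finite type ideal sheaves: products and pullbacks (helper8)
-/

set_option autoImplicit false
universe u
open CategoryTheory CategoryTheory.Limits AlgebraicGeometry TopologicalSpace Opposite

namespace Groth.Agent.H8

open Scheme.IdealSheafData

lemma isFiniteTypeIdeal_top {X : Scheme.{u}} :
    BlowUp.IsFiniteTypeIdeal (⊤ : X.IdealSheafData) := by
  intro U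
  rw [ideal_top]
  exact ⟨{1}, by simp⟩

lemma isFiniteTypeIdeal_one {X : Scheme.{u}} :
    BlowUp.IsFiniteTypeIdeal (1 : X.IdealSheafData) := isFiniteTypeIdeal_top

lemma isFiniteTypeIdeal_mul {X : Scheme.{u}} {𝓘 𝓙 : X.IdealSheafData}
    (h𝓘 : BlowUp.IsFiniteTypeIdeal 𝓘) (h𝓙 : BlowUp.IsFiniteTypeIdeal 𝓙) :
    BlowUp.IsFiniteTypeIdeal (𝓘 * 𝓙) := by
  intro U
  rw [ideal_mul]
  exact (h𝓘 U).mul (h𝓙 U)

/-- Transfer of finite generation along an isomorphism of localizations. -/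
lemma fg_map_away_of_fg_map {R S : Type*} [CommRing R] [CommRing S] [Algebra R S] (g : R)
    [IsLocalization.Away g S] {M : Ideal R} (h : (M.map (algebraMap R S)).FG) :
    (M.map (algebraMap R (Localization.Away g))).FG := by
  let e : S ≃ₐ[R] Localization.Away g :=
    IsLocalization.algEquiv (Submonoid.powers g) S (Localization.Away g)
  have h1 : (M.map (algebraMap R S)).map (e : S →+* Localization.Away g) =
      M.map (algebraMap R (Localization.Away g)) := by
    rw [Ideal.map_map]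
    congr 1
    ext r
    exact e.commutes r
  rw [← h1]
  exact h.map _

set_option backward.isDefEq.respectTransparency false in
/-- The pullback of a finite type ideal sheaf is of finite type. -/
theorem isFiniteTypeIdeal_comap {X' X : Scheme.{u}} (f : X' ⟶ X) {𝓘 : X.IdealSheafData}
    (h𝓘 : BlowUp.IsFiniteTypeIdeal 𝓘) : BlowUp.IsFiniteTypeIdeal (𝓘.comap f) := by
  intro V'
  let t : Set Γ(X', V'.1) := {r | ∃ V : X.affineOpens, X'.basicOpen r ≤ f ⁻¹ᵁ V.1}
  have ht : Ideal.span t = ⊤ := by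
    rw [← V'.2.iSup_basicOpen_eq_self_iff]
    apply le_antisymm
    · exact iSup_le fun r => X'.basicOpen_le r.1
    · intro x hx
      obtain ⟨_, ⟨V, hV, rfl⟩, hxV, -⟩ :=
        X.isBasis_affineOpens.exists_subset_of_mem_open (Set.mem_univ (f x)) isOpen_univ
      obtain ⟨r, hr, hxr⟩ := V'.2.exists_basicOpen_le (V := V'.1 ⊓ f ⁻¹ᵁ V) ⟨x, ⟨hx, hxV⟩⟩ hx
      exact Opens.mem_iSup.mpr ⟨⟨r, ⟨⟨V, hV⟩, hr.trans inf_le_right⟩⟩, hxr⟩
  refine Ideal.fg_of_localizationSpan t ht ?_
  rintro ⟨g, V, hgV⟩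
  let _ : Algebra Γ(X', V'.1) Γ(X', X'.basicOpen g) :=
    (X'.presheaf.map (homOfLE (X'.basicOpen_le g)).op).hom.toAlgebra
  have hloc : IsLocalization.Away g Γ(X', X'.basicOpen g) := V'.2.isLocalization_basicOpen g
  apply fg_map_away_of_fg_map (S := Γ(X', X'.basicOpen g)) g
  have h1 : ((𝓘.comap f).ideal V').map (algebraMap Γ(X', V'.1) Γ(X', X'.basicOpen g)) =
      (𝓘.comap f).ideal (X'.affineBasicOpen g) := (𝓘.comap f).map_ideal_basicOpen V' g
  rw [h1, Groth.Agent.H19.ComapAff.ideal_comap_appLE f 𝓘 V (X'.affineBasicOpen g) hgV]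
  exact (h𝓘 V).map _

end Groth.Agent.H8
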