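import Groth.Agent.H8.BlowUpExist
import Groth.Agent.H8.FiniteTypeIdeal
import Groth.Agent.S1683
import Groth.Agent.S8852

/-!
# Factoring blow-ups of products; admissible ideals (helper8)
-/

set_option autoImplicit false
universe u
open CategoryTheory CategoryTheory.Limits AlgebraicGeometry TopologicalSpace Opposite

namespace Groth.Agent.H8

open Scheme.IdealSheafData

/-- Precomposing a blow-up with an isomorphism gives a blow-up. -/
theorem isBlowUp_iso_comp {X X' X'' : Scheme.{u}} {𝓘 : X.IdealSheafData} {b : X' ⟶ X}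
    (hb : BlowUp.IsBlowUp b 𝓘) (e : X'' ≅ X') : BlowUp.IsBlowUp (e.hom ≫ b) 𝓘 := by
  refine ⟨?_, fun Y g hg => ?_⟩
  · rw [comap_comp]
    exact Groth.Agent.S1680.isEffCartier_comap_of_flat e.hom hb.1
  · obtain ⟨h, hh, huniq⟩ := hb.2 Y g hg
    refine ⟨h ≫ e.inv, ?_, fun h' hh' => ?_⟩
    · change (h ≫ e.inv) ≫ e.hom ≫ b = g
      rw [Category.assoc, Iso.inv_hom_id_assoc, hh]
    · have hh'' : h' ≫ e.hom ≫ b = g := hh'
      have := huniq (h' ≫ e.hom) (by change (h' ≫ e.hom) ≫ b = g; rw [Category.assoc, hh''])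
      rw [← this, Category.assoc, Iso.hom_inv_id, Category.comp_id]

/-- If `c` blows up `𝓘 * 𝓙` and factors through the blow-up `b` of `𝓘`, then the factorization is
the blow-up of the pullback of `𝓙`. -/
theorem isBlowUp_factor {X X₁ X' : Scheme.{u}} {𝓘 𝓙 : X.IdealSheafData} {b : X₁ ⟶ X}
    (hb : BlowUp.IsBlowUp b 𝓘) {c : X' ⟶ X} (hc : BlowUp.IsBlowUp c (𝓘 * 𝓙)) (g : X' ⟶ X₁)
    (hg : g ≫ b = c) : BlowUp.IsBlowUp g (𝓙.comap b) := by
  obtain ⟨X'', b'', hb''⟩ := exists_isBlowUp X₁ (𝓙.comap b)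
  have h1 : BlowUp.IsBlowUp (b'' ≫ b) (𝓘 * 𝓙) := Groth.Agent.S1683.result 𝓘 𝓙 b hb b'' hb''
  obtain ⟨e, he⟩ := isBlowUp_iso hc h1
  have hE : BlowUp.IsEffCartierIdeal (𝓘.comap c) := by
    have := hc.1
    rw [comap_mul] at this
    exact (Groth.Agent.S8852.result _ _ this).1
  have h2 : e.hom ≫ b'' = g :=
    (hb.2 X' c hE).unique (by rw [Category.assoc, he]) hg
  rw [← h2]
  exact isBlowUp_iso_comp hb'' e

lemma isAdmissibleFor_one {X : Scheme.{u}} (U : X.Opens) :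
    BlowUp.IsAdmissibleFor U (1 : X.IdealSheafData) := by
  refine ⟨isFiniteTypeIdeal_one, ?_⟩
  change Disjoint ((⊤ : X.IdealSheafData).support : Set X) _
  rw [support_top]
  exact Set.disjoint_left.mpr fun x hx => hx.elim

lemma isAdmissibleFor_mul {X : Scheme.{u}} {U : X.Opens} {𝓘 𝓙 : X.IdealSheafData}
    (h𝓘 : BlowUp.IsAdmissibleFor U 𝓘) (h𝓙 : BlowUp.IsAdmissibleFor U 𝓙) :
    BlowUp.IsAdmissibleFor U (𝓘 * 𝓙) := by
  refine ⟨isFiniteTypeIdeal_mul h𝓘.1 h𝓙.1, ?_⟩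
  rw [support_mul]
  exact Set.disjoint_union_left.mpr ⟨h𝓘.2, h𝓙.2⟩

lemma isAdmissibleFor_prod {X : Scheme.{u}} {U : X.Opens} {ι : Type*} (s : Finset ι)
    (𝓘 : ι → X.IdealSheafData) (h : ∀ i ∈ s, BlowUp.IsAdmissibleFor U (𝓘 i)) :
    BlowUp.IsAdmissibleFor U (∏ i ∈ s, 𝓘 i) :=
  Finset.prod_induction _ (BlowUp.IsAdmissibleFor U) (fun _ _ => isAdmissibleFor_mul)
    (isAdmissibleFor_one U) h

lemma isAdmissibleFor_comap {X X' : Scheme.{u}} (f : X' ⟶ X) {U : X.Opens}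
    {𝓘 : X.IdealSheafData} (h : BlowUp.IsAdmissibleFor U 𝓘) :
    BlowUp.IsAdmissibleFor (f ⁻¹ᵁ U) (𝓘.comap f) := by
  refine ⟨isFiniteTypeIdeal_comap f h.1, ?_⟩
  rw [support_comap]
  exact Set.disjoint_left.mpr fun x hx hxU => Set.disjoint_left.mp h.2 hx hxU

end Groth.Agent.H8
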