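import Groth.Agent.H8.BlowUpFlatBC

/-!
# Blow-ups of flat proper families with flat thickenings of the centre

Flatness and properness of the blow-up over the base, and compatibility with base change given by
arbitrary pullback squares.
-/

set_option autoImplicit false
set_option linter.style.haveILetI false
universe u
open CategoryTheory CategoryTheory.Limits AlgebraicGeometry TopologicalSpace
open scoped TensorProduct

namespace Groth.Agent.H8.BlowUpFlatBC

open Groth.Agent.H8.BlowUpFlatAlg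

variable {X X' S : Scheme.{u}}

set_option backward.isDefEq.respectTransparency false in
/-- **The blow-up is flat over `S` when `X` and all thickenings of the centre are.** -/
theorem flat_comp_of_isBlowUp (f : X ⟶ S) [Flat f] (𝓘 : X.IdealSheafData)
    (hflat : ∀ n : ℕ, Flat ((𝓘 ^ (n + 1)).subschemeι ≫ f)) (b : X' ⟶ X)
    (hb : BlowUp.IsBlowUp b 𝓘) : Flat (b ≫ f) := by
  rw [HasRingHomProperty.iff_exists_appLE (P := @Flat)
    (RingHom.Flat.stableUnderComposition.stableUnderCompositionWithLocalizationAway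
      RingHom.Flat.holdsForLocalizationAway).left]
  intro x'
  obtain ⟨V, U, W', hUV, hWU, a, hxW, ha, hC⟩ := exists_chart_package f 𝓘 b hb x'
  have e : W'.1 ≤ (b ≫ f) ⁻¹ᵁ V.1 := fun z hz => hUV (hWU hz)
  refine ⟨V, W', hxW, e, ?_⟩
  letI algAB := (f.appLE V.1 U.1 hUV).hom.toAlgebra
  letI algBC := (b.appLE U.1 W'.1 hWU).hom.toAlgebra
  letI algAC := ((b ≫ f).appLE V.1 W'.1 e).hom.toAlgebra
  haveI : IsScalarTower Γ(S, V.1) Γ(X, U.1) Γ(X', W'.1) := .of_algebraMap_eq' (by
    change ((b ≫ f).appLE V.1 W'.1 e).hom =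
      (b.appLE U.1 W'.1 hWU).hom.comp (f.appLE V.1 U.1 hUV).hom
    rw [← CommRingCat.hom_comp, Scheme.Hom.appLE_comp_appLE])
  haveI hAB : Module.Flat Γ(S, V.1) Γ(X, U.1) := Flat.flat_appLE f V.2 U.2 hUV
  have hfl : ∀ n : ℕ, Module.Flat Γ(S, V.1) (Γ(X, U.1) ⧸ (𝓘.ideal U) ^ n) := by
    intro n
    cases n with
    | zero =>
      have : Subsingleton (Γ(X, U.1) ⧸ (𝓘.ideal U) ^ 0) := by
        rw [Ideal.Quotient.subsingleton_iff, pow_zero, Ideal.one_eq_top]
      infer_instance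
    | succ n => exact flat_quot_pow f 𝓘 hflat V U hUV n
  exact hC.flat ha hfl

/-- **Blow-ups of flat proper families with flat thickenings: flatness, properness and base
change.** -/
theorem flat_proper_baseChange {T XT XT' : Scheme.{u}} (f : X ⟶ S) [Flat f] [IsProper f]
    (𝓘 : X.IdealSheafData) (hft : BlowUp.IsFiniteTypeIdeal 𝓘)
    (hfl : ∀ m : ℕ, 1 ≤ m → Flat ((𝓘 ^ m).subschemeι ≫ f))
    (b : X' ⟶ X) (hb : BlowUp.IsBlowUp b 𝓘)
    (g : T ⟶ S) (pX : XT ⟶ X) (fT : XT ⟶ T) (hX : IsPullback pX fT f g)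
    (pX' : XT' ⟶ X') (bT : XT' ⟶ XT) (hX' : IsPullback pX' bT b pX) :
    Flat (b ≫ f) ∧ IsProper (b ≫ f) ∧ BlowUp.IsBlowUp bT (𝓘.comap pX) := by
  have hflat : ∀ n : ℕ, Flat ((𝓘 ^ (n + 1)).subschemeι ≫ f) := fun n => hfl (n + 1) (by omega)
  refine ⟨flat_comp_of_isBlowUp f 𝓘 hflat b hb, ?_, ?_⟩
  · have hbp : IsProper b := by
      apply Groth.Agent.H96.BlowUpProper.isProper_of_isBlowUp b 𝓘 hb
      intro x
      obtain ⟨_, ⟨U, hU, rfl⟩, hxU, -⟩ := X.isBasis_affineOpens.exists_subset_of_mem_open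
        (Set.mem_univ x) isOpen_univ
      exact ⟨⟨U, hU⟩, hxU, hft ⟨U, hU⟩⟩
    infer_instance
  · have hbig : IsPullback pX' (bT ≫ fT) (b ≫ f) g := hX'.paste_vert hX
    have hE : BlowUp.IsEffCartierIdeal ((𝓘.comap b).comap pX') := by
      rw [← hbig.isoPullback_hom_fst, Scheme.IdealSheafData.comap_comp]
      exact Groth.Agent.S1680.isEffCartier_comap_of_flat _
        (isEffCartier_comap_fst f 𝓘 b hb hflat g)
    exact isBlowUp_of_isPullback hb hX'.flip hE

end Groth.Agent.H8.BlowUpFlatBC
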