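import Groth.Agent.H8.ReesProjGeom

/-!
# Two charts of `Proj` of the Rees algebra of a two-generated ideal (helper8)

For `I = (x, y)`, every function on `D₊(xT) ∩ D₊(yT)` is the sum of a function on `D₊(xT)` and a
function on `D₊(yT)` (so `H¹(Proj R(I), O) = 0`).
-/

set_option autoImplicit false
universe u
open Polynomial HomogeneousLocalization CategoryTheory AlgebraicGeometry

namespace Groth.Agent.H8.ReesProj

variable {A : Type u} [CommRing A] (I : Ideal A)

lemma mon_add (n : ℕ) (a b : A) (ha : a ∈ I ^ n) (hb : b ∈ I ^ n) :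
    mon I n (a + b) ((I ^ n).add_mem ha hb) = mon I n a ha + mon I n b hb := by
  apply Subtype.ext
  simp [coe_mon]

lemma mon_zero (n : ℕ) : mon I n 0 (I ^ n).zero_mem = 0 := by
  apply Subtype.ext
  simp [coe_mon]

lemma mon_smul (n : ℕ) (r a : A) (ha : a ∈ I ^ n) :
    mon I n (r * a) ((I ^ n).mul_mem_left r ha) = r • mon I n a ha := by
  apply Subtype.ext
  simp [coe_mon, Polynomial.smul_monomial]

lemma mon_mul (m n : ℕ) (a b : A) (ha : a ∈ I ^ m) (hb : b ∈ I ^ n) :
    mon I (m + n) (a * b) (by rw [pow_add]; exact Ideal.mul_mem_mul ha hb) =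
      mon I m a ha * mon I n b hb := by
  apply Subtype.ext
  simp [coe_mon, Polynomial.monomial_mul_monomial]

lemma tt_pow (a : A) (ha : a ∈ I) (n : ℕ) :
    tt I a ha ^ n = mon I n (a ^ n) (Ideal.pow_mem_pow ha n) := by
  apply Subtype.ext
  simp [coe_mon, coe_tt, Polynomial.monomial_pow]

lemma tt_pow_mul_tt_pow (x y : A) (hx : x ∈ I) (hy : y ∈ I) (i j : ℕ) :
    tt I x hx ^ i * tt I y hy ^ j = mon I (i + j) (x ^ i * y ^ j)
      (by rw [pow_add]; exact Ideal.mul_mem_mul (Ideal.pow_mem_pow hx i) (Ideal.pow_mem_pow hy j)) := by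
  rw [tt_pow, tt_pow, mon_mul]

/-- Powers of a two-generated ideal are spanned by the monomials. -/
lemma span_pair_pow_le (x y : A) (m : ℕ) :
    Ideal.span {x, y} ^ m ≤
      Ideal.span {z | ∃ i j : ℕ, i + j = m ∧ z = x ^ i * y ^ j} := by
  induction m with
  | zero =>
    intro z _
    have : (1 : A) ∈ Ideal.span {z | ∃ i j : ℕ, i + j = 0 ∧ z = x ^ i * y ^ j} :=
      Ideal.subset_span ⟨0, 0, rfl, by simp⟩
    rw [(Ideal.eq_top_iff_one _).mpr this]
    trivial
  | succ m ih =>
    rw [pow_succ]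
    refine (Ideal.mul_mono_left ih).trans ?_
    rw [Ideal.span_mul_span']
    apply Ideal.span_mono
    rintro _ ⟨a, ⟨i, j, hij, rfl⟩, b, hb, rfl⟩
    rcases hb with rfl | rfl
    · exact ⟨i + 1, j, by omega, by ring⟩
    · exact ⟨i, j + 1, by omega, by ring⟩

lemma span_monomials_le (x y : A) (hx : x ∈ I) (hy : y ∈ I) (m : ℕ) :
    Ideal.span {z | ∃ i j : ℕ, i + j = m ∧ z = x ^ i * y ^ j} ≤ I ^ m := by
  rw [Ideal.span_le]
  rintro _ ⟨i, j, rfl, rfl⟩
  rw [pow_add]
  exact Ideal.mul_mem_mul (Ideal.pow_mem_pow hx i) (Ideal.pow_mem_pow hy j)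

/-- The degree `m` part of the Rees algebra of `(x, y)` is spanned by the `(xT)^i (yT)^j`. -/
lemma mem_span_monomials (x y : A) (hI : I = Ideal.span {x, y}) (hx : x ∈ I) (hy : y ∈ I)
    (m : ℕ) (c : reesAlgebra I) (hc : c ∈ Rees.deg (reesAlgebra I) m) :
    c ∈ Submodule.span A {z | ∃ i j : ℕ, i + j = m ∧ z = tt I x hx ^ i * tt I y hy ^ j} := by
  rw [eq_mon_of_mem I hc]
  have hle := span_monomials_le I x y hx hy m
  have key : ∀ a, a ∈ Ideal.span {z | ∃ i j : ℕ, i + j = m ∧ z = x ^ i * y ^ j} →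
      ∀ ha : a ∈ I ^ m, mon I m a ha ∈
        Submodule.span A {z | ∃ i j : ℕ, i + j = m ∧ z = tt I x hx ^ i * tt I y hy ^ j} := by
    intro a ha'
    induction ha' using Submodule.span_induction with
    | mem z hz =>
      obtain ⟨i, j, hij, rfl⟩ := hz
      intro ha
      apply Submodule.subset_span
      refine ⟨i, j, hij, ?_⟩
      rw [tt_pow_mul_tt_pow]
      subst hij
      rfl
    | zero => intro _; rw [mon_zero]; exact Submodule.zero_mem _
    | add a b ha hb iha ihb =>
      intro _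
      rw [mon_add I m a b (hle ha) (hle hb)]
      exact Submodule.add_mem _ (iha _) (ihb _)
    | smul r a ha iha =>
      intro _
      change mon I m (r * a) _ ∈ _
      rw [mon_smul I m r a (hle ha)]
      exact Submodule.smul_mem _ _ (iha _)
  refine key _ ?_ _
  apply span_pair_pow_le x y m
  rw [← hI]
  exact c.2 m

section TwoCharts

variable (x y : A) (hx : x ∈ I) (hy : y ∈ I)

/-- help instance search on the homogeneous localizations of the Rees algebra -/
noncomputable local instance instCommRingAway (z : reesAlgebra I) :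
    CommRing (Away (Rees.deg (reesAlgebra I)) z) := inferInstance

/-- The constants `A → (R(I)_z)_0`. -/
noncomputable def κ (z : reesAlgebra I) : A →+* Away (Rees.deg (reesAlgebra I)) z :=
  (fromZeroRingHom (Rees.deg (reesAlgebra I)) _).comp
    (algebraMap A (Rees.deg (reesAlgebra I) 0))

lemma val_κ (z : reesAlgebra I) (r : A) :
    (κ I z r).val = Localization.mk (algebraMap A (reesAlgebra I) r) 1 := rfl

lemma awayMap_κ {e : ℕ} {f g z : reesAlgebra I} (hg : g ∈ Rees.deg (reesAlgebra I) e)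
    (hz : z = f * g) (r : A) :
    awayMap (Rees.deg (reesAlgebra I)) hg hz (κ I f r) = κ I z r :=
  awayMap_fromZeroRingHom _ hg hz _

/-- `q` is the sum of a function on `D₊(xT)` and a function on `D₊(yT)`. -/
def IsSum (q : Away (Rees.deg (reesAlgebra I)) (tt I x hx * tt I y hy)) : Prop :=
  ∃ (q₁ : Away (Rees.deg (reesAlgebra I)) (tt I x hx))
    (q₂ : Away (Rees.deg (reesAlgebra I)) (tt I y hy)),
    q = awayMap (Rees.deg (reesAlgebra I)) (tt_mem I y hy) rfl q₁ +
      awayMap (Rees.deg (reesAlgebra I)) (tt_mem I x hx) (mul_comm _ _) q₂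

lemma isSum_zero : IsSum I x y hx hy 0 := ⟨0, 0, by simp⟩

lemma IsSum.add {q q' : Away (Rees.deg (reesAlgebra I)) (tt I x hx * tt I y hy)}
    (h : IsSum I x y hx hy q) (h' : IsSum I x y hx hy q') : IsSum I x y hx hy (q + q') := by
  obtain ⟨q₁, q₂, rfl⟩ := h
  obtain ⟨q₁', q₂', rfl⟩ := h'
  exact ⟨q₁ + q₁', q₂ + q₂', by rw [map_add, map_add]; abel⟩

lemma IsSum.κ_mul {q : Away (Rees.deg (reesAlgebra I)) (tt I x hx * tt I y hy)}
    (h : IsSum I x y hx hy q) (r : A) : IsSum I x y hx hy (κ I _ r * q) := by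
  obtain ⟨q₁, q₂, rfl⟩ := h
  refine ⟨κ I _ r * q₁, κ I _ r * q₂, ?_⟩
  rw [map_mul, map_mul, awayMap_κ, awayMap_κ, mul_add]

lemma mul_mem_two : tt I x hx * tt I y hy ∈ Rees.deg (reesAlgebra I) (1 + 1) :=
  SetLike.mul_mem_graded (tt_mem I x hx) (tt_mem I y hy)

/-- the monomials are sums -/
lemma isSum_monomial (n i j : ℕ) (hij : i + j = n • (1 + 1)) :
    IsSum I x y hx hy (Away.mk (Rees.deg (reesAlgebra I)) (mul_mem_two I x y hx hy) n
      (tt I x hx ^ i * tt I y hy ^ j) (by
        rw [← hij]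
        convert SetLike.mul_mem_graded (SetLike.pow_mem_graded i (tt_mem I x hx))
          (SetLike.pow_mem_graded j (tt_mem I y hy)) using 2
        simp)) := by
  rcases le_total n i with h | h
  · obtain ⟨i', rfl⟩ := Nat.exists_eq_add_of_le h
    refine ⟨0, Away.mk _ (tt_mem I y hy) n (tt I x hx ^ i' * tt I y hy ^ j) (by
        convert SetLike.mul_mem_graded (SetLike.pow_mem_graded i' (tt_mem I x hx))
          (SetLike.pow_mem_graded j (tt_mem I y hy)) using 2
        simp only [smul_eq_mul, mul_one] at hij ⊢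
        omega), ?_⟩
    rw [map_zero, zero_add, awayMap_mk]
    ext
    simp only [Away.val_mk]
    congr 1
    ring
  · have hj : n ≤ j := by simp only [smul_eq_mul] at hij; omega
    obtain ⟨j', rfl⟩ := Nat.exists_eq_add_of_le hj
    refine ⟨Away.mk _ (tt_mem I x hx) n (tt I x hx ^ i * tt I y hy ^ j') (by
        convert SetLike.mul_mem_graded (SetLike.pow_mem_graded i (tt_mem I x hx))
          (SetLike.pow_mem_graded j' (tt_mem I y hy)) using 2
        simp only [smul_eq_mul, mul_one] at hij ⊢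
        omega), 0, ?_⟩
    rw [map_zero, add_zero, awayMap_mk]
    ext
    simp only [Away.val_mk]
    congr 1
    ring

/-- every function on the overlap is a sum -/
theorem isSum_of_span (hI : I = Ideal.span {x, y})
    (q : Away (Rees.deg (reesAlgebra I)) (tt I x hx * tt I y hy)) : IsSum I x y hx hy q := by
  obtain ⟨n, c, hc, rfl⟩ := Away.mk_surjective _ (mul_mem_two I x y hx hy) q
  -- the submodule of numerators which give sums
  let T : Submodule A (reesAlgebra I) :=
    { carrier := {c | ∃ q' : Away (Rees.deg (reesAlgebra I)) (tt I x hx * tt I y hy),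
        IsSum I x y hx hy q' ∧
          q'.val = Localization.mk c
            (⟨(tt I x hx * tt I y hy) ^ n, ⟨n, rfl⟩⟩ : Submonoid.powers (tt I x hx * tt I y hy))}
      zero_mem' := ⟨0, isSum_zero I x y hx hy, by rw [val_zero, Localization.mk_zero]⟩
      add_mem' := by
        rintro a b ⟨qa, hqa, ea⟩ ⟨qb, hqb, eb⟩
        exact ⟨qa + qb, hqa.add I x y hx hy hqb, by
          rw [val_add, ea, eb, Localization.add_mk_self]⟩
      smul_mem' := by
        rintro r a ⟨qa, hqa, ea⟩
        refine ⟨κ I _ r * qa, hqa.κ_mul I x y hx hy r, ?_⟩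
        rw [val_mul, val_κ, ea, Localization.mk_mul, one_mul, Algebra.smul_def] }
  have hT : c ∈ T := by
    have h1 := mem_span_monomials I x y hI hx hy (n • (1 + 1)) c hc
    refine (Submodule.span_le (p := T)).mpr ?_ h1
    rintro _ ⟨i, j, hij, rfl⟩
    exact ⟨_, isSum_monomial I x y hx hy n i j hij, rfl⟩
  obtain ⟨q', hq', e⟩ := hT
  have : q' = Away.mk _ (mul_mem_two I x y hx hy) n c hc := by
    apply val_injective
    rw [e, Away.val_mk]
  rw [← this]
  exact hq'

/-- **`H¹(O) = 0` for two charts**: every function on `D₊(xT · yT)` is the sum of the restrictions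
of a function on `D₊(xT)` and of a function on `D₊(yT)`. -/
theorem exists_add_of_basicOpen_mul (hI : I = Ideal.span {x, y})
    (c : Γ(Proj (Rees.deg (reesAlgebra I)),
      Proj.basicOpen (Rees.deg (reesAlgebra I)) (tt I x hx * tt I y hy))) :
    ∃ (c₁ : Γ(Proj (Rees.deg (reesAlgebra I)),
        Proj.basicOpen (Rees.deg (reesAlgebra I)) (tt I x hx)))
      (c₂ : Γ(Proj (Rees.deg (reesAlgebra I)),
        Proj.basicOpen (Rees.deg (reesAlgebra I)) (tt I y hy))),
      c = (Proj (Rees.deg (reesAlgebra I))).presheaf.map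
            (homOfLE (Proj.basicOpen_mono _ _ _ ⟨tt I y hy, rfl⟩)).op c₁ +
          (Proj (Rees.deg (reesAlgebra I))).presheaf.map
            (homOfLE (Proj.basicOpen_mono _ _ _ ⟨tt I x hx, mul_comm _ _⟩)).op c₂ := by
  let e := Proj.basicOpenIsoAway (Rees.deg (reesAlgebra I)) (tt I x hx * tt I y hy)
    (mul_mem_two I x y hx hy) (by norm_num)
  obtain ⟨q, rfl⟩ : ∃ q, Proj.awayToSection (Rees.deg (reesAlgebra I)) _ q = c :=
    ⟨e.inv c, by
      have : e.hom (e.inv c) = c := by
        rw [← ConcreteCategory.comp_apply, e.inv_hom_id]; rfl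
      exact this⟩
  obtain ⟨q₁, q₂, rfl⟩ := isSum_of_span I x y hx hy hI q
  refine ⟨Proj.awayToSection _ _ q₁, Proj.awayToSection _ _ q₂, ?_⟩
  rw [map_add]
  have h1 := congr($(Proj.awayMap_awayToSection (Rees.deg (reesAlgebra I)) (f := tt I x hx)
    (tt_mem I y hy) (x := tt I x hx * tt I y hy) rfl) q₁)
  have h2 := congr($(Proj.awayMap_awayToSection (Rees.deg (reesAlgebra I)) (f := tt I y hy)
    (tt_mem I x hx) (x := tt I x hx * tt I y hy) (mul_comm _ _)) q₂)
  exact congr($h1 + $h2)

end TwoCharts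

end Groth.Agent.H8.ReesProj
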