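import Groth.Agent.H8.BlowUpCech
import Groth.Agent.H8.GlobGenAffine
import Groth.Agent.H8.TwoChartRing
import Groth.Prelude.Def_Curv2

/-!
# `H¹` of globally generated modules on the blow-up of a two-generated ideal (helper8)

Let `I = (x, y)` be an ideal of a ring `A` and `b : X ⟶ Spec A` a blow-up of `I`. Then
`H¹(X, F) = 0` for every globally generated quasi-coherent `O_X`-module `F`.
-/

set_option autoImplicit false
universe u
open CategoryTheory CategoryTheory.Limits AlgebraicGeometry TopologicalSpace Opposite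

namespace Groth.Agent.H8

open ReesProj Groth.Agent.H18 Groth.Agent.Lead.Coh

/-- Mayer–Vietoris in degree one: if `H¹` vanishes on `W₁` and `W₂` and every section on
`W₁ ⊓ W₂` is a difference of sections on `W₁` and `W₂`, then `H¹` vanishes on `W₁ ⊔ W₂`. -/
theorem hVanish_one_sup {T : Type u} [TopologicalSpace T]
    [HasExt.{u} (Sheaf (Opens.grothendieckTopology T) AddCommGrpCat.{u})]
    (F : Sheaf (Opens.grothendieckTopology T) AddCommGrpCat.{u}) (W₁ W₂ : Opens T)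
    (h₁ : HVanish F 1 W₁) (h₂ : HVanish F 1 W₂)
    (hs : ∀ s : F.obj.obj (op (W₁ ⊓ W₂)), ∃ (a : F.obj.obj (op W₁)) (b : F.obj.obj (op W₂)),
      s = F.obj.map (homOfLE (inf_le_left : W₁ ⊓ W₂ ≤ W₁)).op a -
        F.obj.map (homOfLE (inf_le_right : W₁ ⊓ W₂ ≤ W₂)).op b) :
    HVanish F 1 (W₁ ⊔ W₂) := by
  intro x
  obtain ⟨y, rfl⟩ := exists_δ_eq W₁ W₂ F 0 x (h₁ _) (h₂ _)
  obtain ⟨s, rfl⟩ := exists_mk₀_symm_eq F y
  obtain ⟨a, b, rfl⟩ := hs s
  rw [mk₀_symm_sub, ← resLE_mk₀_symm, ← resLE_mk₀_symm]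
  exact δ_sub_eq_zero W₁ W₂ F 0 _ _

/-- For an isomorphism `f`, `appLE` onto the full preimage is surjective. -/
lemma appLE_surjective_of_isIso {X Y : Scheme.{u}} (f : X ⟶ Y) [IsIso f] (U : Y.Opens)
    (V : X.Opens) (e : V ≤ f ⁻¹ᵁ U) (e' : f ⁻¹ᵁ U ≤ V) :
    Function.Surjective (f.appLE U V e) := by
  intro c
  refine ⟨(inv (f.app U)) (X.presheaf.map (homOfLE e').op c), ?_⟩
  rw [Scheme.Hom.appLE]
  simp only [← ConcreteCategory.comp_apply]
  rw [Category.assoc, IsIso.inv_hom_id_assoc, ← Functor.map_comp]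
  have : (homOfLE e').op ≫ (homOfLE e).op = 𝟙 _ := rfl
  rw [this, CategoryTheory.Functor.map_id]
  rfl

variable {A : Type u} [CommRing A]

/-- `H¹(X, F) = 0` for `F` globally generated quasi-coherent on the blow-up of `(x, y)`. -/
theorem subsingleton_HH_one_of_isBlowUp_pair (x y : A) (X : Scheme.{u})
    (b : X ⟶ Spec (CommRingCat.of A))
    (hb : BlowUp.IsBlowUp b (Curv2.idealSheaf A (Ideal.span {x, y})))
    (F : X.Modules) [F.IsQuasicoherent] (hgg : Curv2.IsGloballyGenerated F) :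
    Subsingleton (Coh.HH X F 1) := by
  classical
  set I : Ideal A := Ideal.span {x, y} with hI
  have hx : x ∈ I := Ideal.subset_span (Set.mem_insert _ _)
  have hy : y ∈ I := Ideal.subset_span (Set.mem_insert_of_mem _ rfl)
  have h2 : BlowUp.IsBlowUp (π I) (Curv2.idealSheaf A I) := Groth.Agent.S16054.result A I
  obtain ⟨ε, -⟩ := isBlowUp_iso hb h2
  have : X.IsSeparated := isSeparated_of_iso ε
  -- the two charts
  set U₁ := Proj.basicOpen (Rees.deg (reesAlgebra I)) (tt I x hx) with hU₁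
  set U₂ := Proj.basicOpen (Rees.deg (reesAlgebra I)) (tt I y hy) with hU₂
  set U₁₂ := Proj.basicOpen (Rees.deg (reesAlgebra I)) (tt I x hx * tt I y hy) with hU₁₂
  have hU : U₁₂ = U₁ ⊓ U₂ := Proj.basicOpen_mul _ _ _
  set V₁ : X.Opens := ε.hom ⁻¹ᵁ U₁ with hV₁
  set V₂ : X.Opens := ε.hom ⁻¹ᵁ U₂ with hV₂
  have aV₁ : IsAffineOpen V₁ :=
    (Proj.isAffineOpen_basicOpen _ _ (tt_mem I x _) Nat.one_pos).preimage_of_isIso ε.hom
  have aV₂ : IsAffineOpen V₂ :=
    (Proj.isAffineOpen_basicOpen _ _ (tt_mem I y _) Nat.one_pos).preimage_of_isIso ε.hom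
  have aV₁₂ : IsAffineOpen (V₁ ⊓ V₂) := aV₁.inf aV₂
  have hcov : V₁ ⊔ V₂ = ⊤ := by
    rw [eq_top_iff]
    intro z _
    obtain ⟨a, ha, has, hz⟩ := exists_mem_chart_of_span I {x, y} rfl (ε.hom z)
    rcases has with rfl | rfl
    · exact Or.inl hz
    · exact Or.inr hz
  -- functions on the overlap are sums
  have e12 : V₁ ⊓ V₂ ≤ ε.hom ⁻¹ᵁ U₁₂ := by rw [hU]; exact le_rfl
  have e12' : ε.hom ⁻¹ᵁ U₁₂ ≤ V₁ ⊓ V₂ := by rw [hU]; exact le_rfl
  have hring : ∀ c : Γ(X, V₁ ⊓ V₂), ∃ (c₁ : Γ(X, V₁)) (c₂ : Γ(X, V₂)),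
      c = X.presheaf.map (homOfLE inf_le_left).op c₁ +
        X.presheaf.map (homOfLE inf_le_right).op c₂ := by
    intro c
    obtain ⟨c', rfl⟩ := appLE_surjective_of_isIso ε.hom U₁₂ (V₁ ⊓ V₂) e12 e12' c
    obtain ⟨c₁', c₂', rfl⟩ := exists_add_of_basicOpen_mul I x y hx hy rfl c'
    refine ⟨ε.hom.app U₁ c₁', ε.hom.app U₂ c₂', ?_⟩
    rw [map_add]
    simp only [← ConcreteCategory.comp_apply]
    rw [Scheme.Hom.map_appLE, Scheme.Hom.map_appLE, Scheme.Hom.app_eq_appLE,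
      Scheme.Hom.app_eq_appLE, Scheme.Hom.appLE_map, Scheme.Hom.appLE_map]
  -- generating sections
  obtain ⟨ι, p, hp⟩ := hgg
  let s : ι → SheafOfModules.sections F := F.freeHomEquiv p
  have : Epi (F.freeHomEquiv.symm s) := by
    simp only [s, Equiv.symm_apply_apply]; exact hp
  -- the Mayer–Vietoris condition
  have hMV : ∀ t : Γ(F, V₁ ⊓ V₂), ∃ (a : Γ(F, V₁)) (b : Γ(F, V₂)),
      t = mres F inf_le_left a - mres F inf_le_right b := by
    have key : ∀ t : Γ(F, V₁ ⊓ V₂),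
        t ∈ Submodule.span Γ(X, V₁ ⊓ V₂) (Set.range fun i => gsec F (s i) (V₁ ⊓ V₂)) →
        ∀ c : Γ(X, V₁ ⊓ V₂), ∃ (a : Γ(F, V₁)) (b : Γ(F, V₂)),
          c • t = mres F inf_le_left a - mres F inf_le_right b := by
      intro t ht
      induction ht using Submodule.span_induction with
      | mem z hz =>
        obtain ⟨i, rfl⟩ := hz
        intro c
        obtain ⟨c₁, c₂, rfl⟩ := hring c
        refine ⟨c₁ • gsec F (s i) V₁, -(c₂ • gsec F (s i) V₂), ?_⟩
        rw [map_neg, sub_neg_eq_add, mres_smul, mres_smul, mres_gsec, mres_gsec, add_smul]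
      | zero => intro c; exact ⟨0, 0, by simp⟩
      | add t₁ t₂ _ _ ih₁ ih₂ =>
        intro c
        obtain ⟨a₁, b₁, e₁⟩ := ih₁ c
        obtain ⟨a₂, b₂, e₂⟩ := ih₂ c
        refine ⟨a₁ + a₂, b₁ + b₂, ?_⟩
        rw [smul_add, e₁, e₂, map_add, map_add]
        abel
      | smul r t _ ih =>
        intro c
        obtain ⟨a, b, e⟩ := ih (c * r)
        exact ⟨a, b, by rw [smul_smul, e]⟩
    intro t
    obtain ⟨a, b, e⟩ := key t (mem_span_gsec_of_isAffineOpen F s aV₁₂ t) 1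
    exact ⟨a, b, by rw [← e, one_smul]⟩
  apply subsingleton_HH_of_hVanish_top
  rw [← hcov]
  exact hVanish_one_sup (T := X) (Coh.toAb F) V₁ V₂ (hVanish_of_isAffineOpen X F aV₁ 0)
    (hVanish_of_isAffineOpen X F aV₂ 0) hMV

end Groth.Agent.H8
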