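import Mathlib
import Groth.Prelude.Def_BlowUp2
import Groth.Agent.H8.BlowUpFlatAlg

/-!
# Base change of the affine blow-up algebra under a Tor-independence hypothesis

Let `A → B` be a ring map, `I ⊆ B` an ideal, `a ∈ I` and `C = B[I/a]`.  If `R'` is an `A`-algebra
such that `Iⁿ ⊗_A R' → B ⊗_A R'` is injective for all `n` (for instance `Tor₁^A(B/Iⁿ, R') = 0`),
then `a ⊗ 1` is a nonzerodivisor of `C ⊗_A R'`.
-/

set_option autoImplicit false
set_option linter.style.haveILetI false
universe u v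
open scoped TensorProduct

namespace Groth.Agent.H8.BlowUpTorBC

section Abstract

variable {R : Type u} [CommRing R] {L : Type v} [AddCommGroup L] [Module R L]
  (G : ℕ → Type v) [∀ i, AddCommGroup (G i)] [∀ i, Module R (G i)]
  (t : ∀ i j, i ≤ j → G i →ₗ[R] G j) [DirectedSystem G (fun i j h => t i j h)]
  (u : ∀ i, G i →ₗ[R] L)

/-- If `L` is the colimit of `(G, t)` via `u`, an element of `G j ⊗ N` dying in `L ⊗ N` dies at a
finite stage. -/
theorem exists_rTensor_eq_zero (hut : ∀ i j h x, u j (t i j h x) = u i x)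
    (hsurj : ∀ l, ∃ i g, u i g = l) (hzero : ∀ i g, u i g = 0 → ∃ j h, t i j h g = 0)
    (N : Type v) [AddCommGroup N] [Module R N] (j : ℕ) (z : G j ⊗[R] N)
    (hz : (u j).rTensor N z = 0) : ∃ k, ∃ h : j ≤ k, (t j k h).rTensor N z = 0 := by
  classical
  let φ : Module.DirectLimit G t →ₗ[R] L := Module.DirectLimit.lift R ℕ G t u hut
  have hφ : Function.Injective φ := by
    rw [injective_iff_map_eq_zero]
    intro w hw
    obtain ⟨i, x, rfl⟩ := Module.DirectLimit.exists_of w
    rw [Module.DirectLimit.lift_of] at hw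
    obtain ⟨k, hk, hx⟩ := hzero i x hw
    rw [← Module.DirectLimit.of_f (hij := hk), hx, map_zero]
  have hφs : Function.Surjective φ := by
    intro l
    obtain ⟨i, g, rfl⟩ := hsurj l
    exact ⟨Module.DirectLimit.of R ℕ G t i g, Module.DirectLimit.lift_of (f := t) u hut g⟩
  let e : Module.DirectLimit G t ≃ₗ[R] L := LinearEquiv.ofBijective φ ⟨hφ, hφs⟩
  have h1 : u j = e.toLinearMap ∘ₗ Module.DirectLimit.of R ℕ G t j := by
    ext x
    exact (Module.DirectLimit.lift_of (f := t) u hut x).symm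
  rw [h1, LinearMap.rTensor_comp, LinearMap.comp_apply] at hz
  have h2 : (Module.DirectLimit.of R ℕ G t j).rTensor N z = 0 := by
    apply (e.rTensor N).injective
    rw [map_zero]
    exact hz
  have h3 := congrArg (TensorProduct.directLimitLeft t N) h2
  rw [TensorProduct.directLimitLeft_rTensor_of, map_zero] at h3
  exact Module.DirectLimit.of.zero_exact h3

omit [DirectedSystem G (fun i j h => t i j h)] in
include t in
theorem exists_rTensor_eq (hut : ∀ i j h x, u j (t i j h x) = u i x)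
    (hsurj : ∀ l, ∃ i g, u i g = l) {N : Type*} [AddCommGroup N] [Module R N] (z : L ⊗[R] N) :
    ∃ j, ∃ z' : G j ⊗[R] N, (u j).rTensor N z' = z := by
  induction z using TensorProduct.induction_on with
  | zero => exact ⟨0, 0, map_zero _⟩
  | tmul l n =>
    obtain ⟨i, g, rfl⟩ := hsurj l
    exact ⟨i, g ⊗ₜ n, rfl⟩
  | add a b ha hb =>
    obtain ⟨i, a', rfl⟩ := ha
    obtain ⟨j, b', rfl⟩ := hb
    obtain ⟨k, hik, hjk⟩ := exists_ge_ge i j
    refine ⟨k, (t i k hik).rTensor N a' + (t j k hjk).rTensor N b', ?_⟩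
    have h1 : (u k) ∘ₗ (t i k hik) = u i := LinearMap.ext (hut i k hik)
    have h2 : (u k) ∘ₗ (t j k hjk) = u j := LinearMap.ext (hut j k hjk)
    rw [map_add, ← LinearMap.comp_apply, ← LinearMap.comp_apply, ← LinearMap.rTensor_comp,
      ← LinearMap.rTensor_comp, h1, h2]

end Abstract

section Main

open Groth.Agent.H8.BlowUpFlatAlg Groth.Agent.H8.BlowUpFlatAlg.IsAffBlowUpAlg

variable {A B C : Type u} [CommRing A] [CommRing B] [CommRing C] [Algebra A B] [Algebra B C]
  [Algebra A C] [IsScalarTower A B C] {I : Ideal B} {a : B}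

instance directedSystem_tC (ha : a ∈ I) :
    DirectedSystem (fun n : ℕ => ↥((I ^ n).restrictScalars A))
      (fun n m hnm => tC A ha n m hnm) where
  map_self n x := by
    apply Subtype.ext
    rw [tC_coe, Nat.sub_self, pow_zero, one_mul]
  map_map k j i hij hjk x := by
    apply Subtype.ext
    rw [tC_coe, tC_coe, tC_coe, ← mul_assoc, ← pow_add]
    congr 2
    omega

/-- Multiplication by `a` on `Iⁿ`. -/
noncomputable def mA (A : Type u) [CommRing A] [Algebra A B] (I : Ideal B) (a : B) (n : ℕ) :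
    ↥((I ^ n).restrictScalars A) →ₗ[A] ↥((I ^ n).restrictScalars A) :=
  LinearMap.restrict (LinearMap.mulLeft A a) (fun x hx => by
    change a * x ∈ I ^ n
    exact Ideal.mul_mem_left _ a hx)

lemma mA_coe (n : ℕ) (x : ↥((I ^ n).restrictScalars A)) : (mA A I a n x : B) = a * x.1 := rfl

variable (h : IsAffBlowUpAlg I a C)

lemma mulLeft_comp_uC (n : ℕ) :
    (LinearMap.mulLeft A (algebraMap B C a)) ∘ₗ h.uC n = h.uC n ∘ₗ mA A I a n := by
  ext x
  rw [LinearMap.comp_apply, LinearMap.comp_apply, LinearMap.mulLeft_apply, uC_apply, uC_apply]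
  apply h.eq_fr
  rw [mul_assoc, h.fr_spec, mA_coe, map_mul]

include h in
/-- `a ⊗ 1` is a nonzerodivisor of `C ⊗_A R'` as soon as all `Iⁿ ⊗_A R' → B ⊗_A R'` are
injective. -/
theorem tmul_one_mem_nonZeroDivisors_of_injective (ha : a ∈ I)
    (R' : Type u) [CommRing R'] [Algebra A R']
    (hinj : ∀ n : ℕ, Function.Injective (((I ^ n).restrictScalars A).subtype.rTensor R')) :
    (algebraMap B C a ⊗ₜ[A] (1 : R')) ∈ nonZeroDivisors (C ⊗[A] R') := by
  have hmul : ∀ z : C ⊗[A] R', (LinearMap.mulLeft A (algebraMap B C a)).rTensor R' z =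
      (algebraMap B C a ⊗ₜ[A] (1 : R')) * z := by
    intro z
    induction z using TensorProduct.induction_on with
    | zero => rw [map_zero, mul_zero]
    | tmul c r =>
      rw [LinearMap.rTensor_tmul, Algebra.TensorProduct.tmul_mul_tmul, one_mul]
      rfl
    | add x y hx hy => rw [map_add, hx, hy, mul_add]
  rw [mem_nonZeroDivisors_iff_right]
  intro z hz
  rw [mul_comm, ← hmul] at hz
  obtain ⟨n, w, rfl⟩ := exists_rTensor_eq (fun n : ℕ => ↥((I ^ n).restrictScalars A))
    (fun n m hnm => tC A ha n m hnm) (fun n => h.uC n) (fun n m hnm x => h.uC_tC ha n m hnm x)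
    (fun q => h.uC_surjective q) z
  rw [← LinearMap.comp_apply, ← LinearMap.rTensor_comp, mulLeft_comp_uC h, LinearMap.rTensor_comp,
    LinearMap.comp_apply] at hz
  haveI := directedSystem_tC (A := A) ha
  obtain ⟨m, hnm, hm⟩ := exists_rTensor_eq_zero (fun n : ℕ => ↥((I ^ n).restrictScalars A))
    (fun n m hnm => tC A ha n m hnm) (fun n => h.uC n) (fun n m hnm x => h.uC_tC ha n m hnm x)
    (fun q => h.uC_surjective q) (fun n x hx => h.uC_eq_zero ha n x hx) R' n _ hz
  have hnm1 : n ≤ m + 1 := hnm.trans (Nat.le_succ m)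
  have hcomp : ((I ^ (m + 1)).restrictScalars A).subtype ∘ₗ tC A ha n (m + 1) hnm1 =
      ((I ^ m).restrictScalars A).subtype ∘ₗ tC A ha n m hnm ∘ₗ mA A I a n := by
    ext x
    simp only [LinearMap.comp_apply, Submodule.subtype_apply]
    rw [tC_coe, tC_coe, mA_coe, ← mul_assoc, ← pow_succ]
    congr 2
    omega
  have hw1 : (tC A ha n (m + 1) hnm1).rTensor R' w = 0 := by
    apply hinj (m + 1)
    rw [map_zero, ← LinearMap.comp_apply, ← LinearMap.rTensor_comp, hcomp, LinearMap.rTensor_comp,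
      LinearMap.rTensor_comp, LinearMap.comp_apply, LinearMap.comp_apply, hm, map_zero]
  have hu : h.uC (A := A) (m + 1) ∘ₗ tC A ha n (m + 1) hnm1 = h.uC n :=
    LinearMap.ext (h.uC_tC ha n (m + 1) hnm1)
  rw [← hu, LinearMap.rTensor_comp, LinearMap.comp_apply, hw1, map_zero]

end Main

end Groth.Agent.H8.BlowUpTorBC
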