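import Mathlib
import Groth.Agent.H39.TorPowers
import Groth.Agent.H12.Tor1Ker

/-!
# Powers of a Koszul-regular ideal stay injective after a Koszul-regular base change

If `rs` is Koszul-regular in `R` and its image is Koszul-regular in the `R`-algebra `R'`, then
`Iⁿ ⊗_R R' → R ⊗_R R'` is injective for all `n`, where `I = (rs)`
(because `Tor₁^R(R/Iⁿ, R') = 0`).
-/

set_option autoImplicit false
set_option linter.style.haveILetI false
universe u
open scoped TensorProduct
open CategoryTheory CategoryTheory.Limits MonoidalCategory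

namespace Groth.Agent.H8.KoszulTorInj

variable {R : Type u} [CommRing R]

/-- `Tor₁(R/J, M) = 0` implies `M ⊗ J → M ⊗ R` injective. -/
theorem lTensor_subtype_injective_of_isZero_tor (J : Ideal R) (M : Type u) [AddCommGroup M]
    [Module R M]
    (hz : IsZero (((Tor (ModuleCat.{u} R) 1).obj (ModuleCat.of R (R ⧸ J))).obj
      (ModuleCat.of R M))) :
    Function.Injective ((Submodule.subtype J).lTensor M) := by
  let T : ShortComplex (ModuleCat.{u} R) :=
    ShortComplex.mk (ModuleCat.ofHom (Submodule.subtype J)) (ModuleCat.ofHom (Submodule.mkQ J))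
    (by ext x; exact (LinearMap.exact_subtype_mkQ J).apply_apply_eq_zero x)
  have hT : T.ShortExact := ModuleCat.shortComplex_shortExact T (LinearMap.exact_subtype_mkQ J)
    (Submodule.subtype_injective _) (Submodule.mkQ_surjective _)
  haveI : Module.Flat R T.X₂ := inferInstanceAs (Module.Flat R R)
  obtain ⟨e⟩ := Groth.Agent.H12.Tor1Ker.tor_one_iso_kernel hT (ModuleCat.of R M)
  have hk : IsZero (kernel (ModuleCat.of R M ◁ T.f)) := hz.of_iso e.symm
  have hmono : Mono (ModuleCat.of R M ◁ T.f) := Preadditive.mono_of_isZero_kernel _ hk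
  exact (ModuleCat.mono_iff_injective _).mp hmono

open Groth.Agent.H39.TorPowers in
/-- `Iⁿ ⊗_R R' → R ⊗_R R'` is injective for `I = (rs)` with `rs` Koszul-regular in `R` and in
`R'`. -/
theorem rTensor_subtype_injective_of_koszul (R' : Type u) [CommRing R'] [Algebra R R']
    (rs : List R) (hrs : LCI.IsKoszulRegularSeq R rs)
    (hrs' : LCI.IsKoszulRegularSeq R' (rs.map (algebraMap R R'))) (n : ℕ) :
    Function.Injective (((Ideal.ofList rs ^ n).restrictScalars R).subtype.rTensor R') := by
  have hJ : Ideal.ofList rs = Groth.Agent.H19.QReg.J rs.get := span_range_get' rs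
  have hP := P_quot_pow R' rs hrs hrs' n 0
  rw [← hJ] at hP
  have h1 := lTensor_subtype_injective_of_isZero_tor (Ideal.ofList rs ^ n) R' hP
  exact (LinearMap.lTensor_inj_iff_rTensor_inj _ _).mp h1

end Groth.Agent.H8.KoszulTorInj
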