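import Mathlib
import Groth.Prelude.Def_BlowUp2
import Groth.Prelude.Def_RegImm
import Groth.Agent.H8.BlowUpFlatBC
import Groth.Agent.H8.BlowUpTorBC
import Groth.Agent.H8.KoszulTorInj

/-!
# Blowing up a Koszul-regular ideal commutes with Tor-independent base change
-/

set_option autoImplicit false
set_option linter.style.haveILetI false
universe u
open CategoryTheory CategoryTheory.Limits AlgebraicGeometry TopologicalSpace
open scoped TensorProduct

namespace Groth.Agent.H8.BlowUpKoszulBC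

open Groth.Agent.H8.BlowUpFlatAlg Groth.Agent.H8.BlowUpFlatBC Groth.Agent.H8.BlowUpTorBC

variable {X X' B : Scheme.{u}}

/-- Off the support, an ideal sheaf is the unit ideal on a small affine open. -/
theorem exists_ideal_eq_top_of_not_mem_support (𝓘 : X.IdealSheafData) (x : X)
    (hx : x ∉ 𝓘.support) : ∃ U : X.affineOpens, x ∈ U.1 ∧ 𝓘.ideal U = ⊤ := by
  obtain ⟨_, ⟨U₀, hU₀, rfl⟩, hxU₀, -⟩ := X.isBasis_affineOpens.exists_subset_of_mem_open
    (Set.mem_univ x) isOpen_univ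
  rw [Scheme.IdealSheafData.mem_support_iff_of_mem (U := ⟨U₀, hU₀⟩) hxU₀,
    Scheme.mem_zeroLocus_iff] at hx
  push Not at hx
  obtain ⟨f, hf, hxf⟩ := hx
  refine ⟨X.affineBasicOpen f, hxf, ?_⟩
  rw [← Scheme.IdealSheafData.map_ideal_basicOpen]
  exact Ideal.eq_top_of_isUnit_mem _ (Ideal.mem_map_of_mem _ hf)
    (X.toRingedSpace.isUnit_res_basicOpen f)

set_option backward.isDefEq.respectTransparency false in
/-- **The inverse image of the exceptional divisor of the blow-up of a Koszul-regular ideal stays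
effective Cartier after a Tor-independent base change.** -/
theorem isEffCartier_comap_fst_of_koszul (𝓘 : X.IdealSheafData)
    (h𝓘 : RegImm.IsRegularIdeal .koszul 𝓘) (g : X' ⟶ X)
    (hg : ∀ (U : X.affineOpens) (rs : List Γ(X, U.1)), LCI.IsKoszulRegularSeq Γ(X, U.1) rs →
      𝓘.ideal U = Ideal.ofList rs → ∀ (V : X'.affineOpens) (e : V.1 ≤ g ⁻¹ᵁ U.1),
        LCI.IsKoszulRegularSeq Γ(X', V.1) (rs.map fun r => (g.appLE U.1 V.1 e).hom r))
    (b : B ⟶ X) (hb : BlowUp.IsBlowUp b 𝓘) :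
    BlowUp.IsEffCartierIdeal ((𝓘.comap b).comap (pullback.fst b g)) := by
  intro z
  have hcond : g (pullback.snd b g z) = b (pullback.fst b g z) := by
    rw [← Scheme.Hom.comp_apply, ← Scheme.Hom.comp_apply, pullback.condition]
  by_cases hx : b (pullback.fst b g z) ∈ 𝓘.support
  · -- on the support: use a Koszul-regular generating sequence
    obtain ⟨U, hxU, rs, hrs, hI⟩ := h𝓘 _ hx
    have hrs' : LCI.IsKoszulRegularSeq Γ(X, U.1) rs := hrs
    obtain ⟨a, ha, W', hW', hle, θ, hyW, hθ⟩ := Groth.Agent.H8.exists_chart_over_affine b 𝓘 hb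
      U.1 U.2 (𝓘.ideal U : Set _) (Ideal.span_eq _) (pullback.fst b g z) hxU
    have hz1 : pullback.snd b g z ∈ g ⁻¹ᵁ U.1 := by
      change g (pullback.snd b g z) ∈ U.1
      rw [hcond]
      exact hxU
    obtain ⟨_, ⟨V, hV, rfl⟩, hzV, hVU⟩ :=
      X'.isBasis_affineOpens.exists_subset_of_mem_open hz1 (g ⁻¹ᵁ U.1).2
    have hVU' : V ≤ g ⁻¹ᵁ U.1 := hVU
    have H := IsPullback.of_hasPullback b g
    have hiso := isIso_pushoutSection_of_isAffineOpen H (US := U.1) (UT := V) (UX := W')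
      hVU' hle (rfl : pullback.fst b g ⁻¹ᵁ W' ⊓ pullback.snd b g ⁻¹ᵁ V = _) U.2 hV hW'
    have hPO := (isIso_pushoutSection_iff H hVU' hle rfl).mp hiso
    have hUYaff : IsAffineOpen (pullback.fst b g ⁻¹ᵁ W' ⊓ pullback.snd b g ⁻¹ᵁ V) := by
      have : IsAffine (U.1 : Scheme.{u}) := U.2
      have : IsAffine (V : Scheme.{u}) := hV
      have : IsAffine (W' : Scheme.{u}) := hW'
      exact .of_isIso (Scheme.Hom.isPullback_resLE H hVU' hle rfl).isoPullback.hom
    letI algBC := (b.appLE U.1 W' hle).hom.toAlgebra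
    letI algAR := (g.appLE U.1 V hVU').hom.toAlgebra
    have hC : IsAffBlowUpAlg (𝓘.ideal U) a Γ(B, W') := isAffBlowUpAlg_of_equiv _ a ha θ hθ
    have hKos := hg U rs hrs' hI ⟨V, hV⟩ hVU'
    have hinj : ∀ n : ℕ, Function.Injective
        ((((𝓘.ideal U) ^ n).restrictScalars Γ(X, U.1)).subtype.rTensor Γ(X', V)) := by
      intro n
      rw [hI]
      exact Groth.Agent.H8.KoszulTorInj.rTensor_subtype_injective_of_koszul Γ(X', V) rs hrs' hKos n
    have hnzd := inl_mem_nonZeroDivisors_of_isPushout hPO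
      ((b.appLE U.1 W' hle).hom a)
      (tmul_one_mem_nonZeroDivisors_of_injective hC ha Γ(X', V) hinj)
    refine ⟨⟨_, hUYaff⟩, ⟨hyW, hzV⟩, _, hnzd, ?_⟩
    rw [Groth.Agent.H19.ComapAff.ideal_comap_appLE (pullback.fst b g) (𝓘.comap b) ⟨W', hW'⟩
      ⟨_, hUYaff⟩ inf_le_left,
      Groth.Agent.H19.ComapAff.ideal_comap_appLE b 𝓘 U ⟨W', hW'⟩ hle]
    have hspan : (𝓘.ideal U).map (b.appLE U.1 W' hle).hom =
        Ideal.span {(b.appLE U.1 W' hle).hom a} := hC.map_eq_span ha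
    rw [hspan, Ideal.map_span, Set.image_singleton]
  · -- off the support the ideal is the unit ideal
    obtain ⟨U, hxU, hI⟩ := exists_ideal_eq_top_of_not_mem_support 𝓘 _ hx
    have hz1 : z ∈ (pullback.fst b g ≫ b) ⁻¹ᵁ U.1 := by
      change (pullback.fst b g ≫ b) z ∈ U.1
      rw [Scheme.Hom.comp_apply]
      exact hxU
    obtain ⟨_, ⟨W, hW, rfl⟩, hzW, hWU⟩ :=
      (pullback b g).isBasis_affineOpens.exists_subset_of_mem_open hz1
        ((pullback.fst b g ≫ b) ⁻¹ᵁ U.1).2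
    refine ⟨⟨W, hW⟩, hzW, 1, one_mem _, ?_⟩
    rw [← Scheme.IdealSheafData.comap_comp,
      Groth.Agent.H19.ComapAff.ideal_comap_appLE (pullback.fst b g ≫ b) 𝓘 U ⟨W, hW⟩ hWU, hI,
      Ideal.map_top, Ideal.span_singleton_one]

/-- **S14343**: the base change of the blow-up of a Koszul-regular ideal along a Tor-independent
morphism is the blow-up of the inverse image ideal. -/
theorem isBlowUp_baseChange_of_koszulRegular (𝓘 : X.IdealSheafData)
    (h𝓘 : RegImm.IsRegularIdeal .koszul 𝓘) (g : X' ⟶ X)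
    (hg : ∀ (U : X.affineOpens) (rs : List Γ(X, U.1)), LCI.IsKoszulRegularSeq Γ(X, U.1) rs →
      𝓘.ideal U = Ideal.ofList rs → ∀ (V : X'.affineOpens) (e : V.1 ≤ g ⁻¹ᵁ U.1),
        LCI.IsKoszulRegularSeq Γ(X', V.1) (rs.map fun r => (g.appLE U.1 V.1 e).hom r))
    (b : B ⟶ X) (hb : BlowUp.IsBlowUp b 𝓘) :
    BlowUp.IsBlowUp (pullback.snd b g) (𝓘.comap g) :=
  isBlowUp_of_isPullback hb (IsPullback.of_hasPullback b g).flip
    (isEffCartier_comap_fst_of_koszul 𝓘 h𝓘 g hg b hb)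

end Groth.Agent.H8.BlowUpKoszulBC
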