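import Groth.Agent.H8.CartierPrimeFactor

/-!
# Colon ideal sheaves and division by an effective Cartier divisor (helper8)

* `colon_map_of_fg`: `(I : J)` commutes with localization for `J` finitely generated.
* `colonSheaf 𝓩 𝓓`: the ideal sheaf `(𝓩 : 𝓓)` on a locally Noetherian scheme.
* `eq_mul_colonSheaf`: if `𝓩 ≤ 𝓓` with `𝓓` effective Cartier then `𝓩 = 𝓓 * (𝓩 : 𝓓)`.
-/

set_option autoImplicit false
universe u
open CategoryTheory AlgebraicGeometry TopologicalSpace Opposite

namespace Groth.Agent.H8

variable {X : Scheme.{u}}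

/-- Colon ideals commute with localization when the divisor ideal is finitely generated. -/
theorem colon_map_of_fg {R S : Type*} [CommRing R] [CommRing S] [Algebra R S] (M : Submonoid R)
    [IsLocalization M S] (I J : Ideal R) (hJ : J.FG) :
    (I.colon (J : Set R)).map (algebraMap R S) =
      (I.map (algebraMap R S)).colon ((J.map (algebraMap R S) : Ideal S) : Set S) := by
  apply le_antisymm
  · rw [Ideal.map_le_iff_le_comap]
    intro a ha
    rw [Ideal.mem_comap]
    change algebraMap R S a ∈ (I.map (algebraMap R S)).colon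
      ((Ideal.span (algebraMap R S '' (J : Set R)) : Ideal S) : Set S)
    rw [Ideal.colon_span, Submodule.mem_colon]
    rintro _ ⟨d, hd, rfl⟩
    rw [smul_eq_mul, ← map_mul]
    exact Ideal.mem_map_of_mem _ (by
      have := Submodule.mem_colon.mp ha d hd
      rwa [smul_eq_mul] at this)
  · intro x hx
    classical
    obtain ⟨a, m, rfl⟩ := IsLocalization.exists_mk'_eq M x
    obtain ⟨T, hT⟩ := hJ
    have key : ∀ d ∈ T, ∃ c : M, (c : R) * (a * d) ∈ I := by
      intro d hd
      have hdJ : d ∈ J := hT ▸ Ideal.subset_span hd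
      have h1 : IsLocalization.mk' S a m * algebraMap R S d ∈ I.map (algebraMap R S) := by
        have := Submodule.mem_colon.mp hx (algebraMap R S d) (Ideal.mem_map_of_mem _ hdJ)
        rwa [smul_eq_mul] at this
      have h2 : algebraMap R S (a * d) ∈ I.map (algebraMap R S) := by
        have h3 : algebraMap R S (a * d) =
            algebraMap R S m * (IsLocalization.mk' S a m * algebraMap R S d) := by
          rw [← mul_assoc, mul_comm (algebraMap R S m), IsLocalization.mk'_spec, map_mul]
        rw [h3]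
        exact Ideal.mul_mem_left _ _ h1
      obtain ⟨⟨i, m'⟩, hi⟩ := (IsLocalization.mem_map_algebraMap_iff M S).mp h2
      rw [← map_mul] at hi
      obtain ⟨c, hc⟩ := (IsLocalization.eq_iff_exists M S).mp hi
      refine ⟨c * m', ?_⟩
      have : ((c * m' : M) : R) * (a * d) = c * (a * d * m') := by
        rw [Submonoid.coe_mul]; ring
      rw [this, hc]
      exact Ideal.mul_mem_left _ _ i.2
    choose! c hc using key
    let mstar : M := ∏ d ∈ T, c d
    have hmstar : ∀ d ∈ T, (mstar : R) * a * d ∈ I := by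
      intro d hd
      have h1 : (mstar : R) = (∏ e ∈ T.erase d, (c e : R)) * c d := by
        change ((∏ d ∈ T, c d : M) : R) = _
        rw [Submonoid.coe_finsetProd, ← Finset.prod_erase_mul _ _ hd]
      rw [h1, mul_assoc, mul_assoc]
      exact Ideal.mul_mem_left _ _ (hc d hd)
    have hcol : (mstar : R) * a ∈ I.colon (J : Set R) := by
      rw [← hT, Ideal.colon_span, Submodule.mem_colon]
      intro d hd
      rw [smul_eq_mul]
      exact hmstar d hd
    have h4 : IsLocalization.mk' S a m =
        IsLocalization.mk' S 1 (mstar * m) * algebraMap R S ((mstar : R) * a) := by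
      rw [IsLocalization.mk'_eq_iff_eq_mul]
      have h5 : IsLocalization.mk' S (1 : R) (mstar * m) * algebraMap R S ((mstar * m : M) : R) =
          algebraMap R S 1 := IsLocalization.mk'_spec S 1 (mstar * m)
      have h6 : algebraMap R S ((mstar : R) * a) * algebraMap R S m =
          algebraMap R S a * algebraMap R S ((mstar * m : M) : R) := by
        rw [← map_mul, ← map_mul, Submonoid.coe_mul]
        congr 1; ring
      rw [mul_assoc, h6, mul_comm (algebraMap R S a), ← mul_assoc, h5, map_one, one_mul]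
    rw [h4]
    exact Ideal.mul_mem_left _ _ (Ideal.mem_map_of_mem _ hcol)

set_option backward.isDefEq.respectTransparency false in
/-- The colon ideal sheaf `(𝓩 : 𝓓)` on a locally Noetherian scheme. -/
noncomputable def colonSheaf [IsLocallyNoetherian X] (𝓩 𝓓 : X.IdealSheafData) :
    X.IdealSheafData where
  ideal U := (𝓩.ideal U).colon (𝓓.ideal U : Set Γ(X, U.1))
  map_ideal_basicOpen U f := by
    have : IsNoetherianRing Γ(X, U.1) := IsLocallyNoetherian.component_noetherian U
    have hloc : IsLocalization.Away f Γ(X, X.basicOpen f) := U.2.isLocalization_basicOpen f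
    rw [← 𝓩.map_ideal_basicOpen U f, ← 𝓓.map_ideal_basicOpen U f]
    exact colon_map_of_fg (Submonoid.powers f) (𝓩.ideal U) (𝓓.ideal U)
      ((isNoetherianRing_iff_ideal_fg _).mp this _)

theorem colonSheaf_ideal [IsLocallyNoetherian X] (𝓩 𝓓 : X.IdealSheafData) (U : X.affineOpens) :
    (colonSheaf 𝓩 𝓓).ideal U = (𝓩.ideal U).colon (𝓓.ideal U : Set Γ(X, U.1)) := rfl

theorem le_colonSheaf [IsLocallyNoetherian X] (𝓩 𝓓 : X.IdealSheafData) :
    𝓩 ≤ colonSheaf 𝓩 𝓓 := fun U => by
  rw [colonSheaf_ideal]
  exact Ideal.le_colon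

/-- Division by an effective Cartier divisor: if `𝓩 ≤ 𝓓` then `𝓩 = 𝓓 * (𝓩 : 𝓓)`. -/
theorem eq_mul_colonSheaf [IsLocallyNoetherian X] (𝓩 𝓓 : X.IdealSheafData)
    (hD : BlowUp.IsEffCartierIdeal 𝓓) (hle : 𝓩 ≤ 𝓓) : 𝓩 = 𝓓 * colonSheaf 𝓩 𝓓 := by
  choose U hxU g hg hU using hD
  have hcov : ⨆ x, (U x).1 = ⊤ := by
    rw [eq_top_iff]
    intro x _
    exact Opens.mem_iSup.mpr ⟨x, hxU x⟩
  refine Scheme.IdealSheafData.ext_of_iSup_eq_top U hcov fun x => ?_
  change 𝓩.ideal (U x) = 𝓓.ideal (U x) * (colonSheaf 𝓩 𝓓).ideal (U x)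
  rw [colonSheaf_ideal, hU x]
  apply le_antisymm
  · intro z hz
    have hz' : z ∈ Ideal.span {g x} := by rw [← hU x]; exact hle (U x) hz
    obtain ⟨a, rfl⟩ := Ideal.mem_span_singleton'.mp hz'
    rw [mul_comm a]
    refine Ideal.mul_mem_mul (Ideal.mem_span_singleton_self _) ?_
    rw [Ideal.colon_span, Submodule.mem_colon]
    intro d hd
    rw [Set.mem_singleton_iff] at hd
    rw [hd, smul_eq_mul]
    exact hz
  · rw [Ideal.mul_le]
    intro r hr a ha
    obtain ⟨b, rfl⟩ := Ideal.mem_span_singleton'.mp hr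
    rw [Ideal.colon_span, Submodule.mem_colon] at ha
    have := ha (g x) rfl
    rw [smul_eq_mul] at this
    rw [mul_assoc, mul_comm (g x)]
    exact Ideal.mul_mem_left _ _ this

end Groth.Agent.H8
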