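import Groth.Agent.H8.RegCenterSmooth
import Groth.Agent.H8.RegGenerization
import Groth.Agent.H39.RegImmStalk
import Groth.Agent.H25.RegQuot

/-!
# The blow-up of a regular scheme along a regular closed subscheme is regular (helper8)
-/

set_option autoImplicit false
set_option linter.style.haveILetI false
universe u
open CategoryTheory CategoryTheory.Limits AlgebraicGeometry TopologicalSpace Opposite

namespace Groth.Agent.H8

/-- A blow-up is an isomorphism on local rings away from the centre. -/
theorem isIso_stalkMap_of_isBlowUp_of_notMem {X X' : Scheme.{u}} (𝓘 : X.IdealSheafData)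
    (b : X' ⟶ X) (hb : BlowUp.IsBlowUp b 𝓘) (z : X') (hz : b z ∉ 𝓘.support) :
    IsIso (b.stalkMap z) := by
  let V : X.Opens := ⟨(𝓘.support : Set X)ᶜ, 𝓘.support.isClosed.isOpen_compl⟩
  have hV : Disjoint (𝓘.support : Set X) (V : Set X) := disjoint_compl_right
  haveI hiso : IsIso (b ∣_ V) :=
    Groth.Agent.H96.QuasiDom.isIso_morphismRestrict_of_isBlowUp b 𝓘 hb V hV
  let z' : ↥(b ⁻¹ᵁ V) := ⟨z, hz⟩
  exact ((MorphismProperty.isomorphisms CommRingCat).arrow_mk_iso_iff
      (morphismRestrictStalkMap b V z')).mp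
      (inferInstanceAs (IsIso ((b ∣_ V).stalkMap z')))

/-- The canonical morphism from the exceptional divisor to the centre. -/
noncomputable def exceptionalToCentre {X X' Y : Scheme.{u}} (i : Y ⟶ X) [IsClosedImmersion i]
    (b : X' ⟶ X) : (BlowUp.exceptional b i.ker).subscheme ⟶ Y :=
  IsClosedImmersion.lift i ((BlowUp.exceptional b i.ker).subschemeι ≫ b)
    (Scheme.IdealSheafData.le_map_iff_comap_le.mpr le_rfl)

theorem exceptionalToCentre_fac {X X' Y : Scheme.{u}} (i : Y ⟶ X) [IsClosedImmersion i]
    (b : X' ⟶ X) :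
    exceptionalToCentre i b ≫ i = (BlowUp.exceptional b i.ker).subschemeι ≫ b :=
  IsClosedImmersion.lift_fac _ _ _

/-- A closed immersion of regular locally Noetherian schemes is a regular closed immersion. -/
theorem isRegularClosedImmersion_of_regular {X Y : Scheme.{u}} [IsLocallyNoetherian X]
    (i : Y ⟶ X) [IsClosedImmersion i]
    (hreg : ∀ x : X, IsRegularLocalRing (X.presheaf.stalk x))
    (hregY : ∀ y : Y, IsRegularLocalRing (Y.presheaf.stalk y)) :
    Mor2.IsRegularClosedImmersion i := by
  refine ⟨inferInstance, fun y => ?_⟩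
  haveI := hreg (i y)
  haveI := hregY y
  have hsurj : Function.Surjective (i.stalkMap y).hom := i.stalkMap_surjective y
  haveI : IsRegularLocalRing (X.presheaf.stalk (i y) ⧸ RingHom.ker (i.stalkMap y).hom) :=
    IsRegularLocalRing.of_ringEquiv (RingHom.quotientKerEquivOfSurjective hsurj).symm
  have h1 := Groth.Agent.H25.RegQuot.isRegularIdeal_of_regular (X.presheaf.stalk (i y))
    (RingHom.ker (i.stalkMap y).hom)
  obtain ⟨W, hxW, rs, hrs, hof⟩ := Groth.Agent.H39.RegImmStalk.regNear_of_isRegularIdeal_ker i y h1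
  exact ⟨W.1, W.2, hxW, rs, hrs, hof.symm⟩

/-- **The blow-up of a regular scheme along a regular closed subscheme is regular.** -/
theorem isRegularLocalRing_stalk_blowUp_of_regular {X X' Y : Scheme.{u}} [IsLocallyNoetherian X]
    (i : Y ⟶ X) [IsClosedImmersion i]
    (hreg : ∀ x : X, IsRegularLocalRing (X.presheaf.stalk x))
    (hregY : ∀ y : Y, IsRegularLocalRing (Y.presheaf.stalk y))
    (b : X' ⟶ X) (hb : BlowUp.IsBlowUp b i.ker) (z : X') :
    IsRegularLocalRing (X'.presheaf.stalk z) := by
  have hfg : ∀ x : X, ∃ U : X.affineOpens, x ∈ U.1 ∧ (i.ker.ideal U).FG := by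
    intro x
    obtain ⟨_, ⟨U, hU : IsAffineOpen U, rfl⟩, hxU, -⟩ :=
      X.isBasis_affineOpens.exists_subset_of_mem_open (Set.mem_univ x) isOpen_univ
    haveI : IsNoetherianRing Γ(X, U) := IsLocallyNoetherian.component_noetherian ⟨U, hU⟩
    exact ⟨⟨U, hU⟩, hxU, IsNoetherian.noetherian _⟩
  haveI hprop : IsProper b := Groth.Agent.H96.BlowUpProper.isProper_of_isBlowUp b i.ker hb hfg
  haveI : IsLocallyNoetherian X' := LocallyOfFiniteType.isLocallyNoetherian b
  by_cases hz : z ∈ (BlowUp.exceptional b i.ker).support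
  · rw [← SetLike.mem_coe, ← (BlowUp.exceptional b i.ker).range_subschemeι] at hz
    obtain ⟨y', rfl⟩ := hz
    haveI hsm : Smooth (exceptionalToCentre i b) :=
      smooth_exceptional_of_regular i (isRegularClosedImmersion_of_regular i hreg hregY) b hb
        (exceptionalToCentre i b) (exceptionalToCentre_fac i b)
    haveI hregY' : IsRegularLocalRing
        ((BlowUp.exceptional b i.ker).subscheme.presheaf.stalk y') := by
      apply Groth.Agent.H39.SmoothStalk.isRegularLocalRing_stalk_of_mem_smoothLocus
        (exceptionalToCentre i b) y'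
      · rw [(exceptionalToCentre i b).smoothLocus_eq_top]; trivial
      · exact hregY _
    exact isRegularLocalRing_stalk_of_effCartier (BlowUp.exceptional b i.ker) hb.1 y'
  · have hz' : b z ∉ i.ker.support := by
      intro h
      apply hz
      rw [Scheme.IdealSheafData.support_comap]
      exact h
    haveI := isIso_stalkMap_of_isBlowUp_of_notMem i.ker b hb z hz'
    haveI := hreg (b z)
    exact IsRegularLocalRing.of_ringEquiv (asIso (b.stalkMap z)).commRingCatIsoToRingEquiv

end Groth.Agent.H8
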