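import Groth.Agent.H8.AffineLocal
import Groth.Agent.H8.DimOneAffine
import Mathlib.RingTheory.KrullDimension.Zero
import Mathlib.AlgebraicGeometry.Noetherian

/-!
# Points with zero-dimensional local ring on a locally Noetherian scheme (helper8)

Such a point has an open neighbourhood consisting of its specializations; hence it belongs to every
open set whose closure contains it.
-/

set_option autoImplicit false
universe u
open CategoryTheory AlgebraicGeometry TopologicalSpace Opposite

namespace Groth.Agent.H8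

/-- If `A_p` is zero-dimensional and `p` is finitely generated, some `D(f) ∋ p` consists of primes
containing `p`. -/
theorem exists_notMem_forall_le_of_krullDimLE_zero {A : Type*} [CommRing A] (p : Ideal A)
    [p.IsPrime] (hfg : p.FG) (S : Type*) [CommRing S] [Algebra A S] [IsLocalization.AtPrime S p]
    (hdim : ringKrullDim S ≤ 0) :
    ∃ f, f ∉ p ∧ ∀ q : Ideal A, q.IsPrime → f ∉ q → p ≤ q := by
  classical
  haveI : IsLocalRing S := IsLocalization.AtPrime.isLocalRing S p
  haveI : Ring.KrullDimLE 0 S := Ring.krullDimLE_iff.mpr (by exact_mod_cast hdim)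
  obtain ⟨T, hT⟩ := hfg
  have key : ∀ x ∈ T, ∃ s, s ∉ p ∧ ∃ n : ℕ, s * x ^ n = 0 := by
    intro x hx
    have hxp : x ∈ p := hT ▸ Ideal.subset_span hx
    have hxm : algebraMap A S x ∈ IsLocalRing.maximalIdeal S :=
      (IsLocalization.AtPrime.to_map_mem_maximal_iff S p x).mpr hxp
    obtain ⟨n, hn⟩ := Ring.KrullDimLE.isNilpotent_iff_mem_maximalIdeal.mpr hxm
    rw [← map_pow, ← map_zero (algebraMap A S)] at hn
    obtain ⟨s, hs⟩ := (IsLocalization.eq_iff_exists p.primeCompl S).mp hn
    exact ⟨s, s.2, n, by simpa using hs⟩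
  choose! s hsp n hsn using key
  refine ⟨∏ x ∈ T, s x, ?_, ?_⟩
  · intro hmem
    rw [Ideal.IsPrime.prod_mem_iff] at hmem
    obtain ⟨x, hx, hxp⟩ := hmem
    exact hsp x hx hxp
  · intro q hq hfq
    rw [← hT, Ideal.span_le]
    intro x hx
    have hsx : s x ∉ q := by
      intro hsq
      apply hfq
      rw [← Finset.mul_prod_erase T s hx]
      exact Ideal.mul_mem_right _ _ hsq
    have h0 : s x * x ^ n x ∈ q := by rw [hsn x hx]; exact q.zero_mem
    rcases hq.mem_or_mem h0 with h | h
    · exact absurd h hsx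
    · exact hq.mem_of_pow_mem _ h

set_option backward.isDefEq.respectTransparency false in
/-- On a locally Noetherian scheme a point with zero-dimensional local ring has an open
neighbourhood all of whose points are specializations of it. -/
theorem exists_open_forall_specializes (X : Scheme.{u}) [IsLocallyNoetherian X] (ξ : X)
    (hdim : ringKrullDim (X.presheaf.stalk ξ) ≤ 0) :
    ∃ W : X.Opens, ξ ∈ W ∧ ∀ y ∈ W, ξ ⤳ y := by
  obtain ⟨_, ⟨V, hV, rfl⟩, hξV, -⟩ :=
    X.isBasis_affineOpens.exists_subset_of_mem_open (Set.mem_univ ξ) isOpen_univ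
  have hV : IsAffineOpen V := hV
  haveI : IsNoetherianRing Γ(X, V) := IsLocallyNoetherian.component_noetherian ⟨V, hV⟩
  letI : Algebra Γ(X, V) (X.presheaf.stalk ξ) := X.presheaf.algebra_section_stalk ⟨ξ, hξV⟩
  haveI : IsLocalization.AtPrime (X.presheaf.stalk ξ) (hV.primeIdealOf ⟨ξ, hξV⟩).asIdeal :=
    hV.isLocalization_stalk ⟨ξ, hξV⟩
  obtain ⟨f, hfp, hf⟩ := exists_notMem_forall_le_of_krullDimLE_zero
    (hV.primeIdealOf ⟨ξ, hξV⟩).asIdeal ((isNoetherianRing_iff_ideal_fg _).mp inferInstance _)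
    (X.presheaf.stalk ξ) hdim
  refine ⟨X.basicOpen f, (mem_basicOpen_iff_notMem_primeIdealOf hV f ξ hξV).mpr hfp, ?_⟩
  intro y hy
  have hyV : y ∈ V := X.basicOpen_le f hy
  have hle := hf (hV.primeIdealOf ⟨y, hyV⟩).asIdeal (hV.primeIdealOf ⟨y, hyV⟩).isPrime
    ((mem_basicOpen_iff_notMem_primeIdealOf hV f y hyV).mp hy)
  have h1 := fromSpec_specializes hV (q := hV.primeIdealOf ⟨ξ, hξV⟩)
    (p := hV.primeIdealOf ⟨y, hyV⟩) hle
  rwa [hV.fromSpec_primeIdealOf ⟨ξ, hξV⟩, hV.fromSpec_primeIdealOf ⟨y, hyV⟩] at h1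

/-- A point with zero-dimensional local ring lying in the closure of an open set lies in it. -/
theorem mem_of_mem_closure_of_dim_zero (X : Scheme.{u}) [IsLocallyNoetherian X] (U : X.Opens)
    (ξ : X) (hdim : ringKrullDim (X.presheaf.stalk ξ) ≤ 0) (hcl : ξ ∈ closure (U : Set X)) :
    ξ ∈ U := by
  obtain ⟨W, hξW, hW⟩ := exists_open_forall_specializes X ξ hdim
  obtain ⟨y, hyW, hyU⟩ := mem_closure_iff.mp hcl W W.isOpen hξW
  exact (hW y hyW).mem_open U.isOpen hyU

lemma eq_one_of_le_one_of_not_le_zero (d : WithBot ℕ∞) (h1 : d ≤ 1) (h0 : ¬ d ≤ 0) : d = 1 := by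
  apply le_antisymm h1
  rw [not_le] at h0
  induction d using WithBot.recBotCoe with
  | bot => simp at h0
  | coe e =>
    have h0' : (0 : ℕ∞) < e := by exact_mod_cast h0
    have : (1 : ℕ∞) ≤ e := Order.one_le_iff_pos.mpr h0'
    exact_mod_cast this

end Groth.Agent.H8
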