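import Groth.Agent.H8.CartierNoEmb
import Groth.Agent.H8.DimZeroGeneric
import Groth.Agent.S1573
import Mathlib.RingTheory.Ideal.Quotient.Nilpotent

/-!
# The complement of a dense affine open with factorial local rings outside is the support of an
effective Cartier divisor (helper8)
-/

set_option autoImplicit false
universe u
open CategoryTheory CategoryTheory.Limits AlgebraicGeometry TopologicalSpace Opposite

namespace Groth.Agent.H8

/-- In a reduced local ring whose maximal ideal is an associated prime, the maximal ideal is zero. -/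
lemma maximalIdeal_eq_bot_of_isReduced_of_isAssociatedPrime {R : Type*} [CommRing R] [IsLocalRing R]
    [IsReduced R] (h : IsAssociatedPrime (IsLocalRing.maximalIdeal R) R) :
    IsLocalRing.maximalIdeal R = ⊥ := by
  obtain ⟨hprime, c, hc⟩ := h
  by_cases hcm : c ∈ IsLocalRing.maximalIdeal R
  · exfalso
    have hcm' := hcm
    rw [hc] at hcm'
    obtain ⟨n, hn⟩ := hcm'
    rw [Submodule.mem_colon_singleton, Submodule.mem_bot, smul_eq_mul, ← pow_succ] at hn
    have hc0 : c = 0 := IsReduced.eq_zero c ⟨n + 1, hn⟩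
    apply hprime.ne_top
    rw [hc, hc0, Ideal.eq_top_iff_one]
    exact ⟨1, by simp [Submodule.mem_colon_singleton]⟩
  · have hu : IsUnit c := by
      rwa [IsLocalRing.mem_maximalIdeal, mem_nonunits_iff, not_not] at hcm
    rw [hc, eq_bot_iff]
    rintro x ⟨n, hn⟩
    rw [Submodule.mem_colon_singleton, Submodule.mem_bot, smul_eq_mul] at hn
    have hxn : x ^ n = 0 := hu.mul_left_eq_zero.mp hn
    rw [Ideal.mem_bot]
    exact IsReduced.eq_zero x ⟨n, hxn⟩

variable {X : Scheme.{u}} (𝓘 : X.IdealSheafData)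

set_option backward.isDefEq.respectTransparency false in
/-- The local rings of the closed subscheme of a radical ideal sheaf are reduced. -/
lemma isReduced_stalk_subscheme_of_isRadical (hrad : ∀ U : X.affineOpens, (𝓘.ideal U).IsRadical)
    (z : 𝓘.subscheme) : IsReduced (𝓘.subscheme.presheaf.stalk z) := by
  obtain ⟨_, ⟨V, hV, rfl⟩, hzV, -⟩ :=
    X.isBasis_affineOpens.exists_subset_of_mem_open (Set.mem_univ (𝓘.subschemeι z)) isOpen_univ
  have hV : IsAffineOpen V := hV
  letI : Algebra Γ(X, V) (X.presheaf.stalk (𝓘.subschemeι z)) :=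
    X.presheaf.algebra_section_stalk ⟨_, hzV⟩
  haveI : IsLocalization.AtPrime (X.presheaf.stalk (𝓘.subschemeι z))
      (hV.primeIdealOf ⟨_, hzV⟩).asIdeal := hV.isLocalization_stalk ⟨_, hzV⟩
  have hker := ker_stalkMap_subschemeι 𝓘 ⟨V, hV⟩ z hzV
  have hK : (RingHom.ker (𝓘.subschemeι.stalkMap z).hom).IsRadical := by
    rw [hker]
    change ((𝓘.ideal ⟨V, hV⟩).map (algebraMap Γ(X, V) (X.presheaf.stalk (𝓘.subschemeι z)))).IsRadical
    have h1 := IsLocalization.map_radical (hV.primeIdealOf ⟨_, hzV⟩).asIdeal.primeCompl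
      (X.presheaf.stalk (𝓘.subschemeι z)) (𝓘.ideal ⟨V, hV⟩)
    rw [(hrad ⟨V, hV⟩).radical] at h1
    rw [Ideal.IsRadical, ← h1]
  haveI := (Ideal.isRadical_iff_quotient_reduced _).mp hK
  let e := RingHom.quotientKerEquivOfSurjective (𝓘.subschemeι.stalkMap_surjective z)
  exact isReduced_of_injective e.symm.toRingHom e.symm.injective

/-- A closed subscheme with reduced local rings of a locally Noetherian scheme has no embedded
points. -/
lemma eq_of_specializes_of_isAssociatedPrime [IsLocallyNoetherian X]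
    (hrad : ∀ U : X.affineOpens, (𝓘.ideal U).IsRadical) (z : 𝓘.subscheme)
    (h : IsAssociatedPrime (IsLocalRing.maximalIdeal (𝓘.subscheme.presheaf.stalk z))
      (𝓘.subscheme.presheaf.stalk z)) (z' : 𝓘.subscheme) (hz' : z' ⤳ z) : z' = z := by
  haveI := isReduced_stalk_subscheme_of_isRadical 𝓘 hrad z
  have hbot := maximalIdeal_eq_bot_of_isReduced_of_isAssociatedPrime h
  have hfield : IsField (𝓘.subscheme.presheaf.stalk z) :=
    IsLocalRing.isField_iff_maximalIdeal_eq.mpr hbot
  have hdim : ringKrullDim (𝓘.subscheme.presheaf.stalk z) ≤ 0 :=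
    (ringKrullDim_eq_zero_of_isField hfield).le
  haveI : IsLocallyNoetherian 𝓘.subscheme := LocallyOfFiniteType.isLocallyNoetherian 𝓘.subschemeι
  obtain ⟨W, hzW, hW⟩ := exists_open_forall_specializes 𝓘.subscheme z hdim
  have hz'W : z' ∈ W := hz'.mem_open W.isOpen hzW
  exact (hz'.antisymm (hW z' hz'W)).eq

/-- **S1687**. -/
theorem exists_isEffCartier_support_eq_compl [IsNoetherian X]
    (U : X.Opens) [IsAffineHom U.ι] (hdense : Dense (U : Set X))
    (hufd : ∀ x : X, x ∉ U →
      IsDomain (X.presheaf.stalk x) ∧ UniqueFactorizationMonoid (X.presheaf.stalk x)) :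
    ∃ 𝓘 : X.IdealSheafData, BlowUp.IsEffCartierIdeal 𝓘 ∧ (𝓘.support : Set X) = (U : Set X)ᶜ := by
  let Z : Closeds X := ⟨(U : Set X)ᶜ, U.isOpen.isClosed_compl⟩
  let 𝓘 := Scheme.IdealSheafData.vanishingIdeal Z
  have hsupp : (𝓘.support : Set X) = (U : Set X)ᶜ :=
    Scheme.IdealSheafData.coe_support_vanishingIdeal Z
  have hrad : ∀ V : X.affineOpens, (𝓘.ideal V).IsRadical := by
    intro V
    rw [Scheme.IdealSheafData.vanishingIdeal_ideal]
    exact PrimeSpectrum.isRadical_vanishingIdeal _
  have hmem : ∀ z : 𝓘.subscheme, 𝓘.subschemeι z ∉ U := by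
    intro z
    have h1 : 𝓘.subschemeι z ∈ (𝓘.support : Set X) := by
      rw [← 𝓘.range_subschemeι]; exact ⟨z, rfl⟩
    rw [hsupp] at h1
    exact h1
  refine ⟨𝓘, ?_, hsupp⟩
  apply isEffCartier_of_noEmbedded_codim_one_ufd 𝓘
  · intro z hz z' hz'
    exact eq_of_specializes_of_isAssociatedPrime 𝓘 hrad z hz z' hz'
  · intro z hz
    refine (Groth.Agent.S1573.result X U (𝓘.subschemeι z) (hmem z) ?_).2 hdense
    intro y hy hyz
    have hy' : y ∈ (𝓘.support : Set X) := by rw [hsupp]; exact hy
    rw [← 𝓘.range_subschemeι] at hy'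
    obtain ⟨z', rfl⟩ := hy'
    have : z' ⤳ z := 𝓘.subschemeι.isEmbedding.isInducing.specializes_iff.mp hyz
    rw [hz z' this]
  · intro x hx
    apply hufd x
    have : x ∈ (𝓘.support : Set X) := hx
    rw [hsupp] at this
    exact this

end Groth.Agent.H8
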