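import Groth.Agent.H8.BlowUpBasic
import Groth.Prelude.Def_Flat
import Mathlib.RingTheory.KrullDimension.NonZeroDivisors
import Mathlib.AlgebraicGeometry.IdealSheaf.Subscheme
import Mathlib.AlgebraicGeometry.Morphisms.Affine

/-!
# Local dimension drops on an effective Cartier divisor (helper8)
-/

set_option autoImplicit false
universe u
open CategoryTheory CategoryTheory.Limits AlgebraicGeometry TopologicalSpace Opposite

namespace Groth.Agent.H8

/-- Dimension of an affine open. -/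
theorem topologicalKrullDim_of_isAffineOpen {Z : Scheme.{u}} {U : Z.Opens} (hU : IsAffineOpen U) :
    topologicalKrullDim ↥U = ringKrullDim Γ(Z, U) := by
  rw [← PrimeSpectrum.topologicalKrullDim_eq_ringKrullDim Γ(Z, U)]
  change _ = topologicalKrullDim (Spec Γ(Z, U))
  exact IsHomeomorph.topologicalKrullDim_eq _ hU.isoSpec.hom.homeomorph.isHomeomorph

lemma lt_of_add_one_le_of_ne_top (m n : WithBot ℕ∞) (h : m + 1 ≤ n) (h0 : 0 ≤ n) (hn : n ≠ ⊤) :
    m < n := by
  induction m using WithBot.recBotCoe with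
  | bot => exact lt_of_lt_of_le (WithBot.bot_lt_coe 0) h0
  | coe m =>
    induction n using WithBot.recBotCoe with
    | bot => simp at h0
    | coe n =>
      have h' : m + 1 ≤ n := by exact_mod_cast h
      have hn' : n ≠ ⊤ := by
        rintro rfl; exact hn rfl
      have hm : m ≠ ⊤ := by
        rintro rfl
        simp at h'
        exact hn' h'
      exact_mod_cast (ENat.add_one_le_iff hm).mp h'

variable {S : Scheme.{u}} (𝓘 : S.IdealSheafData)

/-- Principal affine charts of an effective Cartier ideal can be found inside any open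
neighbourhood. -/
theorem exists_principal_chart_le (h𝓘 : BlowUp.IsEffCartierIdeal 𝓘) (s : S) (U₀ : S.Opens)
    (hsU₀ : s ∈ U₀) :
    ∃ W' : S.affineOpens, s ∈ W'.1 ∧ W'.1 ≤ U₀ ∧ ∃ a' : Γ(S, W'.1),
      a' ∈ nonZeroDivisors Γ(S, W'.1) ∧ 𝓘.ideal W' = Ideal.span {a'} := by
  obtain ⟨W, hsW, a, ha, haI⟩ := h𝓘 s
  obtain ⟨r, hr₁, hr₂⟩ := W.2.exists_basicOpen_le (V := U₀) ⟨s, hsU₀⟩ hsW
  obtain ⟨a', ha', haI'⟩ := isEffCartier_basicOpen 𝓘 W a ha haI r
  exact ⟨S.affineBasicOpen r, hr₂, hr₁, a', ha', haI'⟩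

/-- The local dimension of an effective Cartier divisor is strictly smaller than that of the
ambient scheme (when the latter is finite). -/
theorem localDim_subscheme_lt (h𝓘 : BlowUp.IsEffCartierIdeal 𝓘) (d : 𝓘.subscheme)
    (hfin : FlatMor.localDim ↥S (𝓘.subschemeι d) ≠ ⊤) :
    FlatMor.localDim ↥𝓘.subscheme d < FlatMor.localDim ↥S (𝓘.subschemeι d) := by
  set s := 𝓘.subschemeι d with hs
  -- the infimum is attained
  haveI : Nonempty {U : TopologicalSpace.Opens S // s ∈ U} := ⟨⟨⊤, trivial⟩⟩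
  obtain ⟨⟨U₀, hsU₀⟩, hU₀⟩ := ciInf_mem
    (fun U : {U : TopologicalSpace.Opens S // s ∈ U} => topologicalKrullDim (U.1 : Set S))
  change topologicalKrullDim (U₀ : Set S) = FlatMor.localDim S s at hU₀
  -- a principal affine chart inside `U₀`
  obtain ⟨W', hsW', hW'U₀, a', ha', haI'⟩ := exists_principal_chart_le 𝓘 h𝓘 s U₀ hsU₀
  -- dim W' = localDim
  have h1 : topologicalKrullDim (W'.1 : Set S) ≤ topologicalKrullDim (U₀ : Set S) :=
    (Topology.IsEmbedding.inclusion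
      (show (W'.1 : Set S) ⊆ (U₀ : Set S) from hW'U₀)).isInducing.topologicalKrullDim_le
  have h2 : FlatMor.localDim S s ≤ topologicalKrullDim (W'.1 : Set S) :=
    iInf_le (fun U : {U : TopologicalSpace.Opens S // s ∈ U} => topologicalKrullDim (U.1 : Set S))
      ⟨W'.1, hsW'⟩
  have h3 : FlatMor.localDim S s = ringKrullDim Γ(S, W'.1) := by
    rw [← topologicalKrullDim_of_isAffineOpen W'.2]
    exact le_antisymm h2 (h1.trans hU₀.le)
  -- the divisor chart
  have hV : IsAffineOpen (𝓘.subschemeι ⁻¹ᵁ W'.1) := W'.2.preimage 𝓘.subschemeι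
  have hdV : d ∈ 𝓘.subschemeι ⁻¹ᵁ W'.1 := hsW'
  have h4 : FlatMor.localDim 𝓘.subscheme d ≤ ringKrullDim Γ(𝓘.subscheme, 𝓘.subschemeι ⁻¹ᵁ W'.1) := by
    rw [← topologicalKrullDim_of_isAffineOpen hV]
    exact iInf_le (fun U : {U : TopologicalSpace.Opens 𝓘.subscheme // d ∈ U} =>
      topologicalKrullDim (U.1 : Set 𝓘.subscheme)) ⟨𝓘.subschemeι ⁻¹ᵁ W'.1, hdV⟩
  have hker : Ideal.span {a'} = RingHom.ker (𝓘.subschemeι.app W'.1).hom := by
    rw [𝓘.ker_subschemeι_app W', haI']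
  have e : (Γ(S, W'.1) ⧸ Ideal.span {a'}) ≃+* Γ(𝓘.subscheme, 𝓘.subschemeι ⁻¹ᵁ W'.1) :=
    (Ideal.quotEquivOfEq hker).trans
      (RingHom.quotientKerEquivOfSurjective (𝓘.subschemeι_app_surjective W'))
  have h5 := ringKrullDim_quotient_succ_le_of_nonZeroDivisor ha'
  rw [ringKrullDim_eq_of_ringEquiv e] at h5
  haveI : Nonempty W'.1 := ⟨⟨s, hsW'⟩⟩
  have h6 : 0 ≤ ringKrullDim Γ(S, W'.1) := ringKrullDim_nonneg_of_nontrivial
  rw [h3] at hfin ⊢
  exact lt_of_le_of_lt h4 (lt_of_add_one_le_of_ne_top _ _ h5 h6 hfin)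

end Groth.Agent.H8
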