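import Mathlib

/-!
# Spreading out a principal generator from a localization at a prime

If `A` is Noetherian, `I` an ideal, `p` a prime and `I·A_p` is generated by one nonzerodivisor,
then there is `f ∉ p` such that `I·A_f` is generated by one nonzerodivisor.
-/

namespace Groth.Agent.H8

open scoped nonZeroDivisors

/-- If `K` is a finitely generated ideal and every element of `K` is carried into `L` by some
element outside the prime `p`, then a single element outside `p` carries `K` into `L`. -/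
theorem exists_notMem_forall_mul_mem {A : Type*} [CommRing A] (p : Ideal A) [p.IsPrime]
    (K L : Ideal A) (hK : K.FG) (h : ∀ y ∈ K, ∃ u, u ∉ p ∧ u * y ∈ L) :
    ∃ f, f ∉ p ∧ ∀ y ∈ K, f * y ∈ L := by
  classical
  obtain ⟨s, rfl⟩ := hK
  induction s using Finset.induction_on with
  | empty =>
    refine ⟨1, fun h1 ↦ ‹p.IsPrime›.ne_top ((Ideal.eq_top_iff_one _).mpr h1), ?_⟩
    intro y hy
    simp only [Finset.coe_empty, Ideal.span_empty, Ideal.mem_bot] at hy
    simp [hy]
  | insert a s _ ih =>
    obtain ⟨f, hf, hfs⟩ := ih (fun y hy ↦ h y (Ideal.span_mono (by simp) hy))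
    obtain ⟨u, hu, hua⟩ := h a (Ideal.subset_span (by simp))
    refine ⟨u * f, fun huf ↦ (‹p.IsPrime›.mem_or_mem huf).elim hu hf, ?_⟩
    intro y hy
    rw [Finset.coe_insert, Ideal.span_insert, Submodule.mem_sup] at hy
    obtain ⟨y₁, hy₁, y₂, hy₂, rfl⟩ := hy
    obtain ⟨c, rfl⟩ := Ideal.mem_span_singleton'.mp hy₁
    have h1 : u * f * (c * a) = (f * c) * (u * a) := by ring
    have h2 : u * f * y₂ = u * (f * y₂) := by ring
    rw [mul_add, h1, h2]
    exact L.add_mem (L.mul_mem_left _ hua) (L.mul_mem_left _ (hfs _ hy₂))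

/-- Spreading out: if `I·A_p = (g)` with `g` a nonzerodivisor of `A_p` (`A` Noetherian), then there
is `f ∉ p` such that for any localization `A_f` of `A` away from `f`, `I·A_f` is generated by a
nonzerodivisor. -/
theorem exists_away_principal_nonZeroDivisor {A : Type*} [CommRing A] [IsNoetherianRing A]
    (I p : Ideal A) [p.IsPrime] (Ap : Type*) [CommRing Ap] [Algebra A Ap]
    [IsLocalization.AtPrime Ap p] (g : Ap) (hg : g ∈ Ap⁰)
    (hI : I.map (algebraMap A Ap) = Ideal.span {g}) :
    ∃ f, f ∉ p ∧ ∀ (Af : Type*) [CommRing Af] [Algebra A Af] [IsLocalization.Away f Af],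
      ∃ h : Af, h ∈ Af⁰ ∧ I.map (algebraMap A Af) = Ideal.span {h} := by
  classical
  -- Step 1: replace `g` by the image of an element `b ∈ I`.
  have hgI : g ∈ I.map (algebraMap A Ap) := hI ▸ Ideal.mem_span_singleton_self g
  obtain ⟨⟨⟨b, hb⟩, t⟩, hbt⟩ := (IsLocalization.mem_map_algebraMap_iff p.primeCompl Ap).mp hgI
  simp only at hbt
  have htu : IsUnit (algebraMap A Ap t) := IsLocalization.map_units Ap t
  have hb0 : algebraMap A Ap b ∈ Ap⁰ := by
    rw [← hbt]
    exact mul_mem hg htu.mem_nonZeroDivisors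
  have hspan : Ideal.span {g} = Ideal.span {algebraMap A Ap b} := by
    rw [← hbt]
    exact (Ideal.span_singleton_mul_right_unit htu g).symm
  rw [hspan] at hI
  -- Step 2: some `f₁ ∉ p` carries `I` into `(b)`.
  obtain ⟨f₁, hf₁, hf₁I⟩ : ∃ f, f ∉ p ∧ ∀ y ∈ I, f * y ∈ Ideal.span {b} := by
    apply exists_notMem_forall_mul_mem p I _ (IsNoetherian.noetherian I)
    intro y hy
    have hy' : algebraMap A Ap y ∈ Ideal.span {algebraMap A Ap b} :=
      hI ▸ Ideal.mem_map_of_mem _ hy
    obtain ⟨c, hc⟩ := Ideal.mem_span_singleton'.mp hy'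
    obtain ⟨⟨c', t'⟩, hct⟩ := IsLocalization.surj p.primeCompl c
    simp only at hct
    have : algebraMap A Ap (y * t') = algebraMap A Ap (c' * b) := by
      rw [map_mul, map_mul, ← hc, ← hct]; ring
    obtain ⟨u, hu⟩ := (IsLocalization.eq_iff_exists p.primeCompl Ap).mp this
    refine ⟨u * t', fun h ↦ (‹p.IsPrime›.mem_or_mem h).elim u.2 t'.2, ?_⟩
    rw [Ideal.mem_span_singleton']
    refine ⟨u * c', ?_⟩
    linear_combination (-1 : A) * hu
  -- Step 3: some `f₂ ∉ p` kills the annihilator of `b`.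
  let K : Ideal A := LinearMap.ker (LinearMap.toSpanSingleton A A b)
  have hK : ∀ y, y ∈ K ↔ y * b = 0 := by
    intro y
    simp [K, LinearMap.mem_ker]
  obtain ⟨f₂, hf₂, hf₂K⟩ : ∃ f, f ∉ p ∧ ∀ y ∈ K, f * y ∈ (⊥ : Ideal A) := by
    apply exists_notMem_forall_mul_mem p K _ (IsNoetherian.noetherian K)
    intro y hy
    rw [hK] at hy
    have h0 : algebraMap A Ap y = 0 := by
      apply hb0.2
      rw [← map_mul, hy, map_zero]
    rw [← map_zero (algebraMap A Ap)] at h0
    obtain ⟨u, hu⟩ := (IsLocalization.eq_iff_exists p.primeCompl Ap).mp h0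
    exact ⟨u, u.2, by simpa using hu⟩
  refine ⟨f₁ * f₂, fun h ↦ (‹p.IsPrime›.mem_or_mem h).elim hf₁ hf₂, ?_⟩
  intro Af _ _ _
  set f := f₁ * f₂ with hf
  have hfu : IsUnit (algebraMap A Af f) := IsLocalization.Away.algebraMap_isUnit f
  refine ⟨algebraMap A Af b, ?_, ?_⟩
  · -- nonzerodivisor
    rw [mem_nonZeroDivisors_iff_right]
    intro z hz
    obtain ⟨⟨y, ⟨_, k, rfl⟩⟩, hy⟩ := IsLocalization.surj (Submonoid.powers f) z
    simp only at hy
    have h0 : algebraMap A Af (y * b) = algebraMap A Af 0 := by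
      rw [map_mul, ← hy, map_zero]
      calc z * (algebraMap A Af) (f ^ k) * (algebraMap A Af) b
          = (z * algebraMap A Af b) * algebraMap A Af (f ^ k) := by ring
        _ = 0 := by rw [hz, zero_mul]
    obtain ⟨⟨_, m, rfl⟩, hm⟩ := (IsLocalization.eq_iff_exists (Submonoid.powers f) Af).mp h0
    simp only [mul_zero] at hm
    have hmem : f ^ m * y ∈ K := by
      rw [hK]; linear_combination hm
    have h2 := hf₂K _ hmem
    rw [Ideal.mem_bot] at h2
    have h3 : algebraMap A Af (f ^ (m + 1)) * algebraMap A Af y = 0 := by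
      rw [← map_mul]
      have : f ^ (m + 1) * y = f₁ * (f₂ * (f ^ m * y)) := by rw [hf]; ring
      rw [this, h2, mul_zero, map_zero]
    have hu2 : IsUnit (algebraMap A Af (f ^ (m + 1))) := by
      rw [map_pow]; exact hfu.pow _
    have hy0 : algebraMap A Af y = 0 := by
      rwa [hu2.mul_right_eq_zero] at h3
    have hu3 : IsUnit (algebraMap A Af (f ^ k)) := by
      rw [map_pow]; exact hfu.pow _
    rw [hy0] at hy
    rwa [hu3.mul_left_eq_zero] at hy
  · apply le_antisymm
    · rw [Ideal.map_le_iff_le_comap]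
      intro y hy
      rw [Ideal.mem_comap]
      have h1 := hf₁I y hy
      obtain ⟨c, hc⟩ := Ideal.mem_span_singleton'.mp h1
      have h2 : algebraMap A Af f * algebraMap A Af y
          = algebraMap A Af (f₂ * c) * algebraMap A Af b := by
        rw [← map_mul, ← map_mul]
        congr 1
        rw [hf]
        linear_combination f₂ * hc.symm
      have h3 : algebraMap A Af y = hfu.unit⁻¹ * (algebraMap A Af (f₂ * c) * algebraMap A Af b) := by
        rw [← h2, ← mul_assoc, IsUnit.val_inv_mul, one_mul]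
      rw [h3, ← mul_assoc]
      exact Ideal.mul_mem_left _ _ (Ideal.mem_span_singleton_self _)
    · rw [Ideal.span_le, Set.singleton_subset_iff]
      exact Ideal.mem_map_of_mem _ hb

end Groth.Agent.H8
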