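import Groth.Agent.H8.UFDExtend
import Groth.Agent.H8.AffineLocal
import Groth.Agent.H8.PrincipalSpread
import Groth.Agent.H8.BlowUpLocal
import Groth.Agent.H8.DimOneAffine
import Groth.Agent.H19.ComapAff
import Mathlib.AlgebraicGeometry.Noetherian

/-!
# Extending an effective Cartier divisor from an open subscheme when the local rings outside are
factorial (helper8)
-/

set_option autoImplicit false
universe u
open CategoryTheory CategoryTheory.Limits AlgebraicGeometry TopologicalSpace Opposite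

namespace Groth.Agent.H8

open Scheme.IdealSheafData

lemma ker_appLE_eq_ker_app {X Y : Scheme.{u}} (f : X ⟶ Y) (U : Y.Opens) (V : X.Opens)
    (h : V = f ⁻¹ᵁ U) : RingHom.ker (f.appLE U V h.le).hom = RingHom.ker (f.app U).hom := by
  subst h
  rw [Scheme.Hom.appLE_eq_app]

/-- For a quasi-compact open immersion `j`, pushing an ideal sheaf forward (scheme-theoretic
closure) and pulling it back gives the same ideal sheaf. -/
theorem comap_map_of_isOpenImmersion {U X : Scheme.{u}} (j : U ⟶ X) [IsOpenImmersion j]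
    [QuasiCompact j] (D : U.IdealSheafData) : (D.map j).comap j = D := by
  apply Scheme.IdealSheafData.ext
  funext W
  let W' : X.affineOpens := ⟨j ''ᵁ W.1, W.2.image_of_isOpenImmersion j⟩
  have e : W.1 ≤ j ⁻¹ᵁ W'.1 := (j.preimage_image_eq W.1).ge
  rw [Groth.Agent.H19.ComapAff.ideal_comap_appLE j (D.map j) W' W e]
  have h1 : (D.map j).ideal W' = RingHom.ker ((D.subschemeι ≫ j).app W'.1).hom :=
    Scheme.Hom.ker_apply (D.subschemeι ≫ j) W'
  have h2 : D.ideal W = RingHom.ker (D.subschemeι.app W.1).hom := (D.ker_subschemeι_app W).symm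
  have hopen : D.subschemeι ⁻¹ᵁ W.1 = (D.subschemeι ≫ j) ⁻¹ᵁ W'.1 := by
    rw [Scheme.Hom.comp_preimage]
    congr 1
    exact (j.preimage_image_eq W.1).symm
  have h3 : RingHom.ker ((D.subschemeι ≫ j).app W'.1).hom =
      (RingHom.ker (D.subschemeι.app W.1).hom).comap (j.appLE W'.1 W.1 e).hom := by
    rw [← ker_appLE_eq_ker_app (D.subschemeι ≫ j) W'.1 (D.subschemeι ⁻¹ᵁ W.1) hopen]
    have : (D.subschemeι ≫ j).appLE W'.1 (D.subschemeι ⁻¹ᵁ W.1) hopen.le =
        j.appLE W'.1 W.1 e ≫ D.subschemeι.appLE W.1 (D.subschemeι ⁻¹ᵁ W.1) le_rfl := by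
      rw [Scheme.Hom.appLE_comp_appLE]
    rw [this, Scheme.Hom.appLE_eq_app, CommRingCat.hom_comp, RingHom.comap_ker]
  have hsurj : Function.Surjective (j.appLE W'.1 W.1 e).hom := by
    have : j.appLE W'.1 W.1 e = (j.appIso W.1).hom := (j.appIso_hom' W.1).symm
    rw [this]
    exact (ConcreteCategory.bijective_of_isIso (j.appIso W.1).hom).2
  rw [h1, h3, h2, Ideal.map_comap_of_surjective _ hsurj]


set_option backward.isDefEq.respectTransparency false in
/-- pointwise form of S1570 -/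
theorem exists_principal_affine_of_stalk {X : Scheme.{u}} [IsLocallyNoetherian X]
    (D : X.IdealSheafData) (x : X) (V : X.Opens) (hV : IsAffineOpen V) (hxV : x ∈ V)
    (g : X.presheaf.stalk x) (hg : g ∈ nonZeroDivisors (X.presheaf.stalk x))
    (hgI : (D.ideal ⟨V, hV⟩).map (X.presheaf.germ V x hxV).hom = Ideal.span {g}) :
    ∃ U' : X.affineOpens, x ∈ U'.1 ∧
      ∃ f : Γ(X, U'.1), f ∈ nonZeroDivisors Γ(X, U'.1) ∧ D.ideal U' = Ideal.span {f} := by
  let _ := X.presheaf.algebra_section_stalk ⟨x, hxV⟩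
  have := hV.isLocalization_stalk ⟨x, hxV⟩
  have : IsNoetherianRing Γ(X, V) := IsLocallyNoetherian.component_noetherian ⟨V, hV⟩
  obtain ⟨f, hf, hfA⟩ := Groth.Agent.H8.exists_away_principal_nonZeroDivisor
    (D.ideal ⟨V, hV⟩) (hV.primeIdealOf ⟨x, hxV⟩).asIdeal (X.presheaf.stalk x) g hg hgI
  refine ⟨X.affineBasicOpen (U := ⟨V, hV⟩) f, ?_, ?_⟩
  · change x ∈ X.basicOpen f
    exact (mem_basicOpen_iff_notMem_primeIdealOf hV f x hxV).mpr hf
  · let _ := (X.presheaf.map (homOfLE <| X.basicOpen_le f).op).hom.toAlgebra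
    have := hV.isLocalization_basicOpen f
    obtain ⟨h', hh', hI'⟩ := hfA Γ(X, X.basicOpen f)
    refine ⟨h', hh', ?_⟩
    rw [← D.map_ideal_basicOpen ⟨V, hV⟩ f]
    exact hI'

set_option backward.isDefEq.respectTransparency false in
/-- The stalk of the scheme-theoretic closure of an effective Cartier divisor on an open `U` is
principal at points outside `U` with factorial local ring. -/
theorem exists_stalk_generator_map {X : Scheme.{u}} [IsLocallyNoetherian X] (U : X.Opens)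
    (D : (U : Scheme.{u}).IdealSheafData) (hD : BlowUp.IsEffCartierIdeal D)
    (x : X) [IsDomain (X.presheaf.stalk x)] [UniqueFactorizationMonoid (X.presheaf.stalk x)]
    (V : X.Opens) (hV : IsAffineOpen V) (hxV : x ∈ V) :
    ∃ g : X.presheaf.stalk x, g ∈ nonZeroDivisors (X.presheaf.stalk x) ∧
      ((D.map U.ι).ideal ⟨V, hV⟩).map (X.presheaf.germ V x hxV).hom = Ideal.span {g} := by
  classical
  have hcomap : (D.map U.ι).comap U.ι = D := comap_map_of_isOpenImmersion U.ι D
  letI alg : Algebra Γ(X, V) (X.presheaf.stalk x) := X.presheaf.algebra_section_stalk ⟨x, hxV⟩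
  haveI loc : IsLocalization.AtPrime (X.presheaf.stalk x) (hV.primeIdealOf ⟨x, hxV⟩).asIdeal :=
    hV.isLocalization_stalk ⟨x, hxV⟩
  haveI : IsNoetherianRing Γ(X, V) := IsLocallyNoetherian.component_noetherian ⟨V, hV⟩
  set J := (D.map U.ι).ideal ⟨V, hV⟩ with hJdef
  have hJker : J = RingHom.ker ((D.subschemeι ≫ U.ι).app V).hom :=
    Scheme.Hom.ker_apply (D.subschemeι ≫ U.ι) ⟨V, hV⟩
  suffices h : ∃ g : X.presheaf.stalk x, g ≠ 0 ∧
      J.map (algebraMap Γ(X, V) (X.presheaf.stalk x)) = Ideal.span {g} by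
    obtain ⟨g, hg0, hg⟩ := h
    exact ⟨g, mem_nonZeroDivisors_of_ne_zero hg0, hg⟩
  apply exists_span_singleton_map_of_ufd_stalk (hV.primeIdealOf ⟨x, hxV⟩).asIdeal
  intro q hqprime hqp hq
  let q' : PrimeSpectrum Γ(X, V) := ⟨q, hqprime⟩
  set y := hV.fromSpec q' with hydef
  have hyV : y ∈ V := fromSpec_mem hV q'
  have hqy : hV.primeIdealOf ⟨y, hyV⟩ = q' := primeIdealOf_fromSpec hV q'
  have hspec : y ⤳ x := by
    have h1 : x = hV.fromSpec (hV.primeIdealOf ⟨x, hxV⟩) := (hV.fromSpec_primeIdealOf ⟨x, hxV⟩).symm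
    rw [h1]
    exact fromSpec_specializes hV (show q' ≤ hV.primeIdealOf ⟨x, hxV⟩ from hqp)
  have hmemq : ∀ k : Γ(X, V), y ∈ X.basicOpen k ↔ k ∉ q := by
    intro k
    rw [mem_basicOpen_iff_notMem_primeIdealOf hV k y hyV, hqy]
  -- Claim A: `y ∈ U`
  have hyU : y ∈ U := by
    by_contra hyU
    obtain ⟨-, abar, habar⟩ := (isAssociatedPrime_iff (R := Γ(X, V))).mp hq
    obtain ⟨a, rfl⟩ := Ideal.Quotient.mk_surjective abar
    have hcolon : ∀ k : Γ(X, V), k ∈ q ↔ k * a ∈ J := by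
      intro k
      rw [habar, Submodule.mem_colon_singleton, Submodule.mem_bot, ← Ideal.Quotient.mk_eq_mk,
        ← Submodule.Quotient.mk_smul, smul_eq_mul, Ideal.Quotient.mk_eq_mk,
        Ideal.Quotient.eq_zero_iff_mem]
    have haJ : a ∈ J := by
      rw [hJker, RingHom.mem_ker]
      set φ := ((D.subschemeι ≫ U.ι).app V).hom with hφ
      apply TopCat.Presheaf.section_ext D.subscheme.sheaf
      intro z hz
      rw [map_zero]
      have hzU : (D.subschemeι ≫ U.ι) z ∈ U := by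
        rw [Scheme.Hom.comp_apply]
        exact (D.subschemeι z).2
      obtain ⟨k, hkU, hzk⟩ := hV.exists_basicOpen_le (V := U) ⟨(D.subschemeι ≫ U.ι) z, hzU⟩ hz
      have hkq : k ∈ q := by
        by_contra hk
        exact hyU (hkU ((hmemq k).mpr hk))
      have hka : φ (k * a) = 0 := by
        have := (hcolon k).mp hkq
        rwa [hJker, RingHom.mem_ker] at this
      rw [map_mul] at hka
      have hunit : IsUnit (D.subscheme.presheaf.germ _ z hz (φ k)) := by
        rw [← Scheme.mem_basicOpen, ← Scheme.preimage_basicOpen]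
        exact hzk
      have h0 : D.subscheme.presheaf.germ _ z hz (φ k) * D.subscheme.presheaf.germ _ z hz (φ a) = 0 := by
        rw [← map_mul, hka, map_zero]
      exact (hunit.mul_right_eq_zero).mp h0
    have : (1 : Γ(X, V)) ∈ q := (hcolon 1).mpr (by rwa [one_mul])
    exact hqprime.ne_top ((Ideal.eq_top_iff_one q).mpr this)
  -- `D'` is Cartier at `y`
  obtain ⟨V₁, hyV₁, f₁, hf₁, hV₁f₁⟩ := isEffCartier_at_of_openImmersion (D.map U.ι) U.ι
    (hcomap.symm ▸ hD) ⟨y, hyU⟩
  have hyV₁' : y ∈ V₁.1 := hyV₁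
  obtain ⟨h, hhV₁, hyh⟩ := hV.exists_basicOpen_le (V := V₁.1) ⟨y, hyV₁'⟩ hyV
  have hhq : h ∉ q := (hmemq h).mp hyh
  letI algB : Algebra Γ(X, V) Γ(X, X.basicOpen h) :=
    (X.presheaf.map (homOfLE <| X.basicOpen_le h).op).hom.toAlgebra
  haveI locB : IsLocalization.Away h Γ(X, X.basicOpen h) := hV.isLocalization_basicOpen h
  let Vh : X.affineOpens := X.affineBasicOpen (U := ⟨V, hV⟩) h
  have hVh1 : (D.map U.ι).ideal Vh = J.map (algebraMap Γ(X, V) Γ(X, X.basicOpen h)) :=
    ((D.map U.ι).map_ideal_basicOpen ⟨V, hV⟩ h).symm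
  have hle : Vh ≤ V₁ := hhV₁
  set f : Γ(X, X.basicOpen h) := (X.presheaf.map (homOfLE hle).op).hom f₁ with hfdef
  have hVh2 : (D.map U.ι).ideal Vh = Ideal.span {f} := by
    rw [← (D.map U.ι).map_ideal hle, hV₁f₁, Ideal.map_span, Set.image_singleton]
    exact rfl
  have hJB : J.map (algebraMap Γ(X, V) Γ(X, X.basicOpen h)) = Ideal.span {f} := by
    rw [← hVh1, hVh2]
  obtain ⟨⟨f₀, s⟩, hfs⟩ := IsLocalization.mk'_surjective (Submonoid.powers h) f
  have hfs' : f * algebraMap Γ(X, V) Γ(X, X.basicOpen h) s = algebraMap _ _ f₀ := by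
    rw [← hfs]
    exact IsLocalization.mk'_spec _ f₀ s
  have hsunit : IsUnit (algebraMap Γ(X, V) Γ(X, X.basicOpen h) s) :=
    IsLocalization.map_units _ s
  have hspan : Ideal.span {f} = Ideal.span {algebraMap Γ(X, V) Γ(X, X.basicOpen h) f₀} := by
    rw [← hfs', Ideal.span_singleton_mul_right_unit hsunit]
  refine ⟨f₀, h, hhq, ?_, ?_, ?_⟩
  · -- the germ of `f₀` at `x` is nonzero
    intro h0
    have h0' : X.presheaf.germ V x hxV f₀ = 0 := h0
    have hgy : X.presheaf.germ V y hyV f₀ = 0 := by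
      rw [← X.presheaf.germ_stalkSpecializes hxV hspec, CommRingCat.comp_apply, h0', map_zero]
    have hgy2 : X.presheaf.germ (X.basicOpen h) y hyh (algebraMap Γ(X, V) Γ(X, X.basicOpen h) f₀) = 0 := by
      rw [← hgy]
      exact X.presheaf.germ_res_apply (homOfLE <| X.basicOpen_le h) y hyh f₀
    rw [← hfs', map_mul] at hgy2
    have hgf : X.presheaf.germ (X.basicOpen h) y hyh f = X.presheaf.germ V₁.1 y hyV₁' f₁ :=
      X.presheaf.germ_res_apply (homOfLE hle) y hyh f₁
    have hnzd : X.presheaf.germ V₁.1 y hyV₁' f₁ ∈ nonZeroDivisors (X.presheaf.stalk y) := by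
      letI : Algebra Γ(X, V₁.1) (X.presheaf.stalk y) := X.presheaf.algebra_section_stalk ⟨y, hyV₁'⟩
      haveI : IsLocalization.AtPrime (X.presheaf.stalk y) (V₁.2.primeIdealOf ⟨y, hyV₁'⟩).asIdeal :=
        V₁.2.isLocalization_stalk ⟨y, hyV₁'⟩
      exact IsLocalization.map_nonZeroDivisors_le (V₁.2.primeIdealOf ⟨y, hyV₁'⟩).asIdeal.primeCompl
        (X.presheaf.stalk y) ⟨f₁, hf₁, rfl⟩
    have hsu : IsUnit (X.presheaf.germ (X.basicOpen h) y hyh
        (algebraMap Γ(X, V) Γ(X, X.basicOpen h) s)) := hsunit.map _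
    rw [hgf] at hgy2
    have := (mem_nonZeroDivisors_iff.mp hnzd).1 _ (by rwa [mul_comm] at hgy2)
    exact hsu.ne_zero this
  · intro j hj
    have h1 : algebraMap Γ(X, V) Γ(X, X.basicOpen h) j ∈
        Ideal.span {algebraMap Γ(X, V) Γ(X, X.basicOpen h) f₀} := by
      rw [← hspan, ← hJB]
      exact Ideal.mem_map_of_mem _ hj
    obtain ⟨β, hβ⟩ := Ideal.mem_span_singleton'.mp h1
    obtain ⟨⟨b, s'⟩, hbs⟩ := IsLocalization.mk'_surjective (Submonoid.powers h) β
    have hbs' : β * algebraMap Γ(X, V) Γ(X, X.basicOpen h) s' = algebraMap _ _ b := by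
      rw [← hbs]
      exact IsLocalization.mk'_spec _ b s'
    have h2 : algebraMap Γ(X, V) Γ(X, X.basicOpen h) (j * s') =
        algebraMap Γ(X, V) Γ(X, X.basicOpen h) (b * f₀) := by
      rw [map_mul, map_mul, ← hβ, ← hbs']
      ring
    obtain ⟨c, hc⟩ := (IsLocalization.eq_iff_exists (Submonoid.powers h) _).mp h2
    obtain ⟨n₁, hn₁⟩ := c.2
    obtain ⟨n₂, hn₂⟩ := s'.2
    refine ⟨n₁ + n₂, c * b, ?_⟩
    have hn₁' : h ^ n₁ = (c : Γ(X, V)) := hn₁
    have hn₂' : h ^ n₂ = (s' : Γ(X, V)) := hn₂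
    rw [pow_add, hn₁', hn₂']
    calc (c : Γ(X, V)) * s' * j = c * (j * s') := by ring
      _ = c * (b * f₀) := hc
      _ = c * b * f₀ := by ring
  · have h1 : algebraMap Γ(X, V) Γ(X, X.basicOpen h) f₀ ∈
        J.map (algebraMap Γ(X, V) Γ(X, X.basicOpen h)) := by
      rw [hJB, hspan]
      exact Ideal.mem_span_singleton_self _
    obtain ⟨m, ⟨n, hn⟩, hm⟩ :=
      (IsLocalization.algebraMap_mem_map_algebraMap_iff (Submonoid.powers h) _ J f₀).mp h1
    refine ⟨n, ?_⟩
    have hn' : h ^ n = m := hn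
    rw [hn']
    exact hm


lemma isEffCartier_map_aux {X : Scheme.{u}} [IsLocallyNoetherian X] (U : X.Opens)
    (D : (U : Scheme.{u}).IdealSheafData) (hD : BlowUp.IsEffCartierIdeal D)
    (x : X) (hdom : IsDomain (X.presheaf.stalk x))
    (hufd : UniqueFactorizationMonoid (X.presheaf.stalk x))
    (V : X.Opens) (hV : IsAffineOpen V) (hxV : x ∈ V) :
    ∃ U' : X.affineOpens, x ∈ U'.1 ∧ ∃ f : Γ(X, U'.1), f ∈ nonZeroDivisors Γ(X, U'.1) ∧
      (D.map U.ι).ideal U' = Ideal.span {f} := by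
  obtain ⟨g, hg, hgI⟩ := exists_stalk_generator_map U D hD x V hV hxV
  exact exists_principal_affine_of_stalk (D.map U.ι) x V hV hxV g hg hgI

/-- **S1660**: an effective Cartier divisor on an open `U` of a locally Noetherian scheme extends to
an effective Cartier divisor on `X` when the local rings outside `U` are factorial. -/
theorem exists_isEffCartier_comap_eq {X : Scheme.{u}} [IsLocallyNoetherian X] (U : X.Opens)
    (D : (U : Scheme.{u}).IdealSheafData) (hD : BlowUp.IsEffCartierIdeal D)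
    (hufd : ∀ x : X, x ∉ U →
      IsDomain (X.presheaf.stalk x) ∧ UniqueFactorizationMonoid (X.presheaf.stalk x)) :
    ∃ D' : X.IdealSheafData, BlowUp.IsEffCartierIdeal D' ∧ D'.comap U.ι = D := by
  have hcomap : (D.map U.ι).comap U.ι = D := comap_map_of_isOpenImmersion U.ι D
  refine ⟨D.map U.ι, ?_, hcomap⟩
  intro x
  by_cases hxU : x ∈ U
  · exact isEffCartier_at_of_openImmersion (D.map U.ι) U.ι (hcomap.symm ▸ hD) ⟨x, hxU⟩
  · obtain ⟨_, ⟨V, hV, rfl⟩, hxV, -⟩ := X.isBasis_affineOpens.exists_subset_of_mem_open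
      (Set.mem_univ x) isOpen_univ
    obtain ⟨hdom, hu⟩ := hufd x hxU
    exact isEffCartier_map_aux U D hD x hdom hu V hV hxV

end Groth.Agent.H8
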