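import Mathlib.RingTheory.Ideal.UFD
import Mathlib.RingTheory.Ideal.AssociatedPrime.Localization
import Mathlib.RingTheory.Ideal.AssociatedPrime.Finiteness
import Mathlib.RingTheory.LocalProperties.Basic
import Mathlib.RingTheory.Localization.AtPrime.Basic

/-!
# Ideals of a factorial ring all of whose associated primes have height one (helper8)
-/

set_option autoImplicit false

namespace Groth.Agent.H8

open Submodule

/-- In a Noetherian factorial domain, an ideal `J` such that all associated primes of `B/J` have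
height one is generated by one nonzero element. -/
theorem exists_span_singleton_of_ass_height_one {B : Type*} [CommRing B] [IsDomain B]
    [IsNoetherianRing B] [UniqueFactorizationMonoid B] (J : Ideal B)
    (h : ∀ P ∈ associatedPrimes B (B ⧸ J), P.height = 1) :
    ∃ g : B, g ≠ 0 ∧ J = Ideal.span {g} := by
  let S : Set (Ideal B) := {J' | ∃ g : B, g ≠ 0 ∧ J = Ideal.span {g} * J'}
  have hne : S.Nonempty := ⟨J, 1, one_ne_zero, by simp⟩
  obtain ⟨J', ⟨g, hg0, hgJ⟩, hmax⟩ :=
    (set_has_maximal_iff_noetherian (R := B) (M := B)).mpr inferInstance S hne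
  by_cases htop : J' = ⊤
  · exact ⟨g, hg0, by rw [hgJ, htop, Ideal.mul_top]⟩
  exfalso
  haveI : Nontrivial (B ⧸ J') := Ideal.Quotient.nontrivial_iff.mpr htop
  obtain ⟨P', hP'⟩ := associatedPrimes.nonempty B (B ⧸ J')
  obtain ⟨hprime, x, hx⟩ := (isAssociatedPrime_iff (R := B)).mp hP'
  obtain ⟨b, rfl⟩ := Ideal.Quotient.mk_surjective x
  have hmem : ∀ r : B, r ∈ P' ↔ r * b ∈ J' := by
    intro r
    rw [hx, mem_colon_singleton, mem_bot, ← Ideal.Quotient.mk_eq_mk, ← Submodule.Quotient.mk_smul,
      Ideal.Quotient.mk_eq_mk, Ideal.Quotient.eq_zero_iff_mem, smul_eq_mul]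
  have hJmem : ∀ r : B, g * r ∈ J ↔ r ∈ J' := by
    intro r
    rw [hgJ, Ideal.mem_span_singleton_mul]
    constructor
    · rintro ⟨z, hz, hzr⟩
      rwa [← mul_left_cancel₀ hg0 hzr]
    · intro hr
      exact ⟨r, hr, rfl⟩
  -- `P'` is associated to `B/J`
  have hass : P' ∈ associatedPrimes B (B ⧸ J) := by
    refine (isAssociatedPrime_iff (R := B)).mpr ⟨hprime, Ideal.Quotient.mk J (g * b), ?_⟩
    ext r
    rw [hmem, mem_colon_singleton, mem_bot, ← Ideal.Quotient.mk_eq_mk, ← Submodule.Quotient.mk_smul,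
      Ideal.Quotient.mk_eq_mk, Ideal.Quotient.eq_zero_iff_mem, smul_eq_mul,
      show r * (g * b) = g * (r * b) by ring, hJmem]
  have hht := h P' hass
  haveI := hprime
  obtain ⟨p, hp⟩ := (UniqueFactorizationMonoid.isPrincipal_of_height_eq_one hht).principal
  have hp' : P' = Ideal.span {p} := hp
  have hp0 : p ≠ 0 := by
    rintro rfl
    refine Ideal.ne_bot_of_height_eq_one hht ?_
    rw [hp']; simp
  have hbJ : b ∉ J' := by
    intro hb
    apply hprime.ne_top
    rw [Ideal.eq_top_iff_one, hmem, one_mul]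
    exact hb
  have hJ'le : J' ≤ P' := by
    intro r hr
    rw [hmem]
    exact Ideal.mul_mem_right b J' hr
  -- the bigger ideal
  have hmem'' : ∀ c : B, c ∈ (J'.colon {p} : Ideal B) ↔ c * p ∈ J' := by
    intro c
    rw [mem_colon_singleton, smul_eq_mul]
  have hJ'eq : J' = Ideal.span {p} * (J'.colon {p} : Ideal B) := by
    apply le_antisymm
    · intro r hr
      have hrP := hJ'le hr
      rw [hp', Ideal.mem_span_singleton'] at hrP
      obtain ⟨c, rfl⟩ := hrP
      rw [Ideal.mem_span_singleton_mul]
      exact ⟨c, (hmem'' c).mpr hr, mul_comm _ _⟩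
    · intro r hr
      rw [Ideal.mem_span_singleton_mul] at hr
      obtain ⟨z, hz, rfl⟩ := hr
      rw [mul_comm]
      exact (hmem'' z).mp hz
  have hS : (J'.colon {p} : Ideal B) ∈ S := by
    refine ⟨g * p, mul_ne_zero hg0 hp0, ?_⟩
    rw [← Ideal.span_singleton_mul_span_singleton, mul_assoc, ← hJ'eq, hgJ]
  refine hmax _ hS (lt_of_le_of_ne ?_ ?_)
  · intro r hr
    rw [hmem'']
    exact Ideal.mul_mem_right p J' hr
  · intro heq
    apply hbJ
    rw [heq, hmem'', mul_comm, ← hmem, hp']
    exact Ideal.mem_span_singleton_self p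

/-- Associated primes of `B/IB` contract to associated primes of `A/I` for a localization `B` of a
Noetherian ring `A`. -/
theorem under_mem_associatedPrimes_quotient {A B : Type*} [CommRing A] [CommRing B] [Algebra A B]
    (S : Submonoid A) [IsLocalization S B] [IsNoetherianRing A] (I : Ideal A) (P : Ideal B)
    (hP : P ∈ associatedPrimes B (B ⧸ I.map (algebraMap A B))) :
    P.comap (algebraMap A B) ∈ associatedPrimes A (A ⧸ I) := by
  have key : ∀ K : Ideal B, K = Submodule.localized' B S (Algebra.linearMap A B) I →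
      P ∈ associatedPrimes B (B ⧸ K) → P.comap (algebraMap A B) ∈ associatedPrimes A (A ⧸ I) := by
    rintro K rfl hK
    exact Module.associatedPrimes.comap_mem_associatedPrimes_of_mem_associatedPrimes_of_isLocalizedModule_of_fg
      S (Submodule.toLocalizedQuotient' B S (Algebra.linearMap A B) I) P hK
      ((isNoetherianRing_iff_ideal_fg A).mp inferInstance _)
  exact key _ (Ideal.localized'_eq_map B S I).symm hP

/-- If `𝔮` is associated to `A/I` (`A` Noetherian), then the maximal ideal of any local ring `C`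
which is a quotient `A_𝔮/IA_𝔮` is associated to `C`. -/
theorem isAssociatedPrime_maximalIdeal_of_surjective {A B C : Type*} [CommRing A] [CommRing B]
    [CommRing C] [Algebra A B] [IsNoetherianRing A] (I 𝔮 : Ideal A) [𝔮.IsPrime]
    [IsLocalization.AtPrime B 𝔮] [IsLocalRing C]
    (h𝔮 : 𝔮 ∈ associatedPrimes A (A ⧸ I)) (φ : B →+* C) (hφ : Function.Surjective φ)
    (hker : RingHom.ker φ = I.map (algebraMap A B)) :
    IsAssociatedPrime (IsLocalRing.maximalIdeal C) C := by
  obtain ⟨-, x, hx⟩ := (isAssociatedPrime_iff (R := A)).mp h𝔮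
  obtain ⟨a, rfl⟩ := Ideal.Quotient.mk_surjective x
  have hmem : ∀ r : A, r ∈ 𝔮 ↔ r * a ∈ I := by
    intro r
    rw [hx, mem_colon_singleton, mem_bot, ← Ideal.Quotient.mk_eq_mk, ← Submodule.Quotient.mk_smul,
      Ideal.Quotient.mk_eq_mk, Ideal.Quotient.eq_zero_iff_mem, smul_eq_mul]
  haveI : IsLocalRing B := IsLocalization.AtPrime.isLocalRing B 𝔮
  refine ⟨inferInstance, φ (algebraMap A B a), ?_⟩
  have hcolon : IsLocalRing.maximalIdeal C = colon (⊥ : Submodule C C) {φ (algebraMap A B a)} := by
    ext t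
    rw [mem_colon_singleton, mem_bot, smul_eq_mul]
    constructor
    · intro ht
      obtain ⟨b, rfl⟩ := hφ t
      have hb : b ∈ IsLocalRing.maximalIdeal B := by
        rw [IsLocalRing.mem_maximalIdeal, mem_nonunits_iff]
        intro hu
        exact ht (hu.map φ)
      obtain ⟨r, s, rfl⟩ := IsLocalization.exists_mk'_eq 𝔮.primeCompl b
      have hr : r ∈ 𝔮 := by
        rwa [IsLocalization.AtPrime.mk'_mem_maximal_iff B 𝔮 r s] at hb
      rw [← map_mul, ← RingHom.mem_ker, hker]
      have h1 : IsLocalization.mk' B r s * algebraMap A B a =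
          IsLocalization.mk' B (1 : A) s * algebraMap A B (r * a) := by
        rw [IsLocalization.mk'_eq_mul_mk'_one (M := 𝔮.primeCompl) r s, map_mul]
        ring
      rw [h1]
      exact Ideal.mul_mem_left _ _ (Ideal.mem_map_of_mem _ ((hmem r).mp hr))
    · intro ht
      by_contra hnot
      have hu : IsUnit t := by
        rwa [IsLocalRing.mem_maximalIdeal, mem_nonunits_iff, not_not] at hnot
      have h0 : φ (algebraMap A B a) = 0 := by
        have := congrArg (fun y => (↑hu.unit⁻¹ : C) * y) ht
        simpa [← mul_assoc] using this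
      rw [← RingHom.mem_ker, hker, IsLocalization.mem_map_algebraMap_iff 𝔮.primeCompl] at h0
      obtain ⟨⟨⟨i, hi⟩, s⟩, hs⟩ := h0
      have hs' : algebraMap A B (a * (s : A)) = algebraMap A B i := by
        rw [map_mul]; exact hs
      obtain ⟨c, hc⟩ := (IsLocalization.eq_iff_exists 𝔮.primeCompl B).mp hs'
      have hcs : (c : A) * (s : A) ∈ 𝔮 := by
        rw [hmem, show (c : A) * (s : A) * a = (c : A) * (a * (s : A)) by ring, hc]
        exact Ideal.mul_mem_left _ _ hi
      rcases (inferInstance : 𝔮.IsPrime).mem_or_mem hcs with h | h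
      · exact c.2 h
      · exact s.2 h
  rw [← hcolon]
  exact (Ideal.IsPrime.radical inferInstance).symm

end Groth.Agent.H8
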