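import Groth.Agent.S1570
import Groth.Agent.H8.StalkSubscheme
import Groth.Agent.H8.AffineLocal
import Groth.Agent.H8.PrincipalAss

/-!
# Closed subschemes without embedded points, of codimension one, with factorial ambient local rings
are effective Cartier divisors (helper8)
-/

set_option autoImplicit false
universe u
open CategoryTheory CategoryTheory.Limits AlgebraicGeometry TopologicalSpace Opposite

namespace Groth.Agent.H8

variable {X : Scheme.{u}} (𝓘 : X.IdealSheafData)

set_option backward.isDefEq.respectTransparency false in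
/-- If the prime of `z` in an affine chart is associated to `A/I`, the maximal ideal of `O_{Z,z}` is
an associated prime of `O_{Z,z}`. -/
theorem isAssociatedPrime_maximalIdeal_stalk_subscheme [IsLocallyNoetherian X] (U : X.affineOpens)
    (z : 𝓘.subscheme) (hz : 𝓘.subschemeι z ∈ U.1)
    (h : (U.2.primeIdealOf ⟨𝓘.subschemeι z, hz⟩).asIdeal ∈
      associatedPrimes Γ(X, U.1) (Γ(X, U.1) ⧸ 𝓘.ideal U)) :
    IsAssociatedPrime (IsLocalRing.maximalIdeal (𝓘.subscheme.presheaf.stalk z))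
      (𝓘.subscheme.presheaf.stalk z) := by
  letI : Algebra Γ(X, U.1) (X.presheaf.stalk (𝓘.subschemeι z)) :=
    X.presheaf.algebra_section_stalk ⟨_, hz⟩
  haveI loc : IsLocalization.AtPrime (X.presheaf.stalk (𝓘.subschemeι z))
      (U.2.primeIdealOf ⟨_, hz⟩).asIdeal := U.2.isLocalization_stalk ⟨_, hz⟩
  haveI : IsNoetherianRing Γ(X, U.1) := IsLocallyNoetherian.component_noetherian U
  exact isAssociatedPrime_maximalIdeal_of_surjective (𝓘.ideal U) _ h
    (𝓘.subschemeι.stalkMap z).hom (𝓘.subschemeι.stalkMap_surjective z)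
    (ker_stalkMap_subschemeι 𝓘 U z hz)

set_option backward.isDefEq.respectTransparency false in
/-- **S1700**. -/
theorem isEffCartier_of_noEmbedded_codim_one_ufd [IsLocallyNoetherian X]
    (h1 : ∀ z : ↥𝓘.subscheme,
      IsAssociatedPrime (IsLocalRing.maximalIdeal ↑(𝓘.subscheme.presheaf.stalk z))
        ↑(𝓘.subscheme.presheaf.stalk z) → ∀ z' : ↥𝓘.subscheme, z' ⤳ z → z' = z)
    (h2 : ∀ z : ↥𝓘.subscheme, (∀ z' : ↥𝓘.subscheme, z' ⤳ z → z' = z) →
      ringKrullDim (X.presheaf.stalk (𝓘.subschemeι z)) = 1)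
    (h3 : ∀ x : ↥X, x ∈ 𝓘.support →
      IsDomain (X.presheaf.stalk x) ∧ UniqueFactorizationMonoid (X.presheaf.stalk x)) :
    BlowUp.IsEffCartierIdeal 𝓘 := by
  apply Groth.Agent.S1570.result
  intro x hx U hxU
  obtain ⟨hdom, hufd⟩ := h3 x hx
  letI alg : Algebra Γ(X, U.1) (X.presheaf.stalk x) := X.presheaf.algebra_section_stalk ⟨x, hxU⟩
  haveI loc : IsLocalization.AtPrime (X.presheaf.stalk x) (U.2.primeIdealOf ⟨x, hxU⟩).asIdeal :=
    U.2.isLocalization_stalk ⟨x, hxU⟩
  haveI : IsNoetherianRing Γ(X, U.1) := IsLocallyNoetherian.component_noetherian U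
  have key : ∀ P ∈ associatedPrimes (X.presheaf.stalk x)
      (X.presheaf.stalk x ⧸ (𝓘.ideal U).map (algebraMap Γ(X, U.1) (X.presheaf.stalk x))),
      P.height = 1 := by
    intro P hP
    have h𝔮 := under_mem_associatedPrimes_quotient
      (U.2.primeIdealOf ⟨x, hxU⟩).asIdeal.primeCompl (𝓘.ideal U) P hP
    haveI h𝔮prime : (P.comap (algebraMap Γ(X, U.1) (X.presheaf.stalk x))).IsPrime := h𝔮.isPrime
    have hI𝔮 : 𝓘.ideal U ≤ P.comap (algebraMap Γ(X, U.1) (X.presheaf.stalk x)) := by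
      have := IsAssociatedPrime.annihilator_le h𝔮
      rwa [Submodule.annihilator_top, Ideal.annihilator_quotient] at this
    obtain ⟨z, hzU, hzq⟩ : ∃ (z : 𝓘.subscheme) (hz : 𝓘.subschemeι z ∈ U.1),
        (U.2.primeIdealOf ⟨𝓘.subschemeι z, hz⟩).asIdeal =
          P.comap (algebraMap Γ(X, U.1) (X.presheaf.stalk x)) := by
      let q' : PrimeSpectrum Γ(X, U.1) := ⟨P.comap (algebraMap Γ(X, U.1) (X.presheaf.stalk x)), h𝔮prime⟩
      have hyU : U.2.fromSpec q' ∈ U.1 := fromSpec_mem U.2 q'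
      have hq' : U.2.primeIdealOf ⟨U.2.fromSpec q', hyU⟩ = q' := primeIdealOf_fromSpec U.2 q'
      have hysupp : U.2.fromSpec q' ∈ 𝓘.support := by
        rw [mem_support_iff_le_primeIdealOf 𝓘 U.2 _ hyU, hq']
        exact hI𝔮
      obtain ⟨z, hz⟩ : ∃ z, 𝓘.subschemeι z = U.2.fromSpec q' := by
        have := 𝓘.range_subschemeι
        rw [Set.ext_iff] at this
        exact (this _).mpr hysupp
      have gen : ∀ (y : X) (hy : y ∈ U.1), y = U.2.fromSpec q' →
          (U.2.primeIdealOf ⟨y, hy⟩).asIdeal = q'.asIdeal := by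
        rintro y hy rfl
        rw [hq']
      exact ⟨z, hz ▸ hyU, gen _ _ hz⟩
    have hass := isAssociatedPrime_maximalIdeal_stalk_subscheme 𝓘 U z hzU (hzq ▸ h𝔮)
    have hdim := h2 z (h1 z hass)
    rw [ringKrullDim_stalk_eq_height U.2 _ hzU, hzq] at hdim
    rw [← IsLocalization.height_under (U.2.primeIdealOf ⟨x, hxU⟩).asIdeal.primeCompl P]
    exact_mod_cast hdim
  obtain ⟨g, hg0, hg⟩ := exists_span_singleton_of_ass_height_one _ key
  exact ⟨g, mem_nonZeroDivisors_of_ne_zero hg0, hg⟩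

end Groth.Agent.H8
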