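import Groth.Prelude.Def_BlowUp2
import Mathlib.AlgebraicGeometry.IdealSheaf.Basic
import Mathlib.AlgebraicGeometry.FunctionField
import Mathlib.RingTheory.PrincipalIdealDomain

/-!
# Nonzero ideal sheaves on "Dedekind-like" integral schemes are effective Cartier (helper8)
-/

set_option autoImplicit false
universe u
open CategoryTheory AlgebraicGeometry TopologicalSpace

namespace Groth.Agent.H8

/-- On an integral scheme covered by affine opens whose coordinate rings are principal ideal rings,
every nonzero quasi-coherent ideal sheaf is effective Cartier. -/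
theorem isEffCartier_of_pid_cover {P : Scheme.{u}} [IsIntegral P] (𝓙 : P.IdealSheafData)
    (h𝓙 : 𝓙 ≠ ⊥)
    (hcov : ∀ x : P, ∃ V : P.affineOpens, x ∈ V.1 ∧ IsPrincipalIdealRing Γ(P, V.1)) :
    BlowUp.IsEffCartierIdeal 𝓙 := by
  intro x
  obtain ⟨V, hxV, hpir⟩ := hcov x
  obtain ⟨g, hg⟩ := (IsPrincipalIdealRing.principal (𝓙.ideal V)).principal
  have hg' : 𝓙.ideal V = Ideal.span {g} := hg
  have hne : Nonempty V.1 := ⟨⟨x, hxV⟩⟩
  have hdom : IsDomain Γ(P, V.1) := inferInstance
  refine ⟨V, hxV, g, mem_nonZeroDivisors_of_ne_zero ?_, hg'⟩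
  rintro rfl
  apply h𝓙
  rw [← Scheme.IdealSheafData.support_eq_top_iff, ← top_le_iff]
  have hV : (V.1 : Set P) ⊆ 𝓙.support := by
    intro z hz
    rw [SetLike.mem_coe, Scheme.IdealSheafData.mem_support_iff_of_mem hz, hg',
      Scheme.mem_zeroLocus_iff]
    intro f hf
    have hf0 : f = 0 := by
      have : f ∈ Ideal.span ({0} : Set Γ(P, V.1)) := hf
      rwa [Ideal.span_singleton_eq_bot.mpr rfl, Ideal.mem_bot] at this
    rw [hf0, Scheme.basicOpen_zero]
    exact fun h => h
  have hdense : Dense (V.1 : Set P) := V.1.isOpen.dense ⟨x, hxV⟩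
  intro z _
  have h1 : z ∈ closure (V.1 : Set P) := hdense z
  exact (𝓙.support.isClosed.closure_subset_iff.mpr hV) h1

end Groth.Agent.H8
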