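import Groth.Agent.H8.AffineLocal
import Groth.Agent.H8.CartierUFD
import Groth.Agent.H20.CartierDiff

/-!
# Factoring an effective Cartier divisor into integral Cartier divisors (helper8)

* `wellFoundedGT_idealSheafData`: ACC for quasi-coherent ideal sheaves on a Noetherian scheme.
* `eq_top_of_eq_mul_of_isEffCartier`: `D = D * J` with `D` effective Cartier forces `J = ⊤`.
* `exists_maximal_point_support`: a nonempty support has a point with no proper generization in it.
* `le_span_singleton_of_mem_minimalPrimes`: Krull's principal ideal theorem step.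
* `exists_le_of_support_subset`: the key step: `D ≤ D_i` for some `i`.
* `exists_eq_prod_pow`: the factorization.
-/

set_option autoImplicit false
universe u
open CategoryTheory AlgebraicGeometry TopologicalSpace Opposite

namespace Groth.Agent.H8

variable {X : Scheme.{u}}

/-- ACC for quasi-coherent ideal sheaves on a Noetherian scheme. -/
theorem wellFoundedGT_idealSheafData [IsNoetherian X] : WellFoundedGT X.IdealSheafData := by
  obtain ⟨s, hs, hcov⟩ :=
    (isCompact_iff_finite_and_eq_biUnion_affineOpens (U := (⊤ : X.Opens))).mp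
      (by simpa using isCompact_univ)
  have : Finite s := hs.to_subtype
  have hcov' : ⨆ i : s, (i.1).1 = ⊤ := by rw [hcov, iSup_subtype]
  let φ : X.IdealSheafData → (∀ i : s, (Ideal Γ(X, (i.1).1))ᵒᵈ) :=
    fun I i => OrderDual.toDual (I.ideal i.1)
  have hφ : StrictAnti φ := by
    intro I J hIJ
    refine lt_of_le_of_ne (fun i => ?_) ?_
    · exact OrderDual.toDual_le_toDual.mpr (hIJ.le i.1)
    · intro h
      have h2 : ∀ i : s, J.ideal i.1 = I.ideal i.1 := fun i => by
        have := congrFun h i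
        exact OrderDual.toDual.injective this
      exact hIJ.ne (Scheme.IdealSheafData.ext_of_iSup_eq_top (fun i : s => i.1) hcov'
        (fun i => (h2 i).symm))
  have : ∀ i : s, WellFoundedLT (Ideal Γ(X, (i.1).1))ᵒᵈ := fun i => by
    have : IsNoetherianRing Γ(X, (i.1).1) := IsLocallyNoetherian.component_noetherian i.1
    infer_instance
  exact hφ.wellFoundedGT


/-- If `D = D * J` with `D` effective Cartier, then `J = ⊤`. -/
theorem eq_top_of_eq_mul_of_isEffCartier (D J : X.IdealSheafData)
    (hD : BlowUp.IsEffCartierIdeal D) (h : D = D * J) : J = ⊤ := by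
  rw [← Scheme.IdealSheafData.support_eq_bot_iff]
  refine le_bot_iff.mp fun x hx => ?_
  obtain ⟨U, hxU, f, hf, hDU⟩ := hD x
  have h1 : D.ideal U = D.ideal U * J.ideal U := by
    conv_lhs => rw [h]
    rfl
  rw [hDU] at h1
  have h2 : f ∈ Ideal.span {f} * J.ideal U := by
    rw [← h1]; exact Ideal.mem_span_singleton_self f
  obtain ⟨j, hj, hfj⟩ := Ideal.mem_span_singleton_mul.mp h2
  have hj1 : j = 1 := by
    have : f * j = f * 1 := by rw [hfj, mul_one]
    exact (mul_cancel_left_mem_nonZeroDivisors hf).mp this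
  have htop : J.ideal U = ⊤ := by
    rw [Ideal.eq_top_iff_one, ← hj1]; exact hj
  have hle := (mem_support_iff_le_primeIdealOf J U.2 x hxU).mp hx
  rw [htop] at hle
  exact (U.2.primeIdealOf ⟨x, hxU⟩).isPrime.ne_top (top_le_iff.mp hle)

/-- For points of an affine open, specialization is containment of primes. -/
theorem specializes_iff_primeIdealOf_le {U : X.Opens} (hU : IsAffineOpen U) (y x : X)
    (hy : y ∈ U) (hx : x ∈ U) :
    y ⤳ x ↔ (hU.primeIdealOf ⟨y, hy⟩).asIdeal ≤ (hU.primeIdealOf ⟨x, hx⟩).asIdeal := by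
  have h1 := hU.fromSpec.isOpenEmbedding.isInducing.specializes_iff
    (x := hU.primeIdealOf ⟨y, hy⟩) (y := hU.primeIdealOf ⟨x, hx⟩)
  rw [hU.fromSpec_primeIdealOf ⟨y, hy⟩, hU.fromSpec_primeIdealOf ⟨x, hx⟩] at h1
  refine Iff.trans (show y ⤳ x ↔ _ from h1) ?_
  exact (PrimeSpectrum.le_iff_specializes (hU.primeIdealOf ⟨y, hy⟩) (hU.primeIdealOf ⟨x, hx⟩)).symm

/-- A nonempty support has a point with no proper generization in it. -/
theorem exists_maximal_point_support (I : X.IdealSheafData) (hI : I ≠ ⊤) :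
    ∃ η ∈ (I.support : Set X), ∀ ζ ∈ (I.support : Set X), ζ ⤳ η → ζ = η := by
  have hne : (I.support : Set X).Nonempty := by
    by_contra hempty
    rw [Set.not_nonempty_iff_eq_empty] at hempty
    exact hI ((Scheme.IdealSheafData.support_eq_bot_iff (I := I)).mp (SetLike.coe_injective hempty))
  obtain ⟨x, hx⟩ := hne
  obtain ⟨_, ⟨W, hW, rfl⟩, hxW, -⟩ :=
    X.isBasis_affineOpens.exists_subset_of_mem_open (Set.mem_univ x) isOpen_univ
  have hle := (mem_support_iff_le_primeIdealOf I hW x hxW).mp hx
  obtain ⟨q, hq, hqle⟩ := Ideal.exists_minimalPrimes_le hle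
  have hqprime : q.IsPrime := hq.1.1
  let q' : PrimeSpectrum Γ(X, W) := ⟨q, hqprime⟩
  refine ⟨hW.fromSpec q', ?_, ?_⟩
  · rw [SetLike.mem_coe, mem_support_iff_le_primeIdealOf I hW _ (fromSpec_mem hW q'),
      primeIdealOf_fromSpec]
    exact hq.1.2
  · intro ζ hζ hsp
    have hζW : ζ ∈ W := hsp.mem_open W.2 (fromSpec_mem hW q')
    have h1 := (specializes_iff_primeIdealOf_le hW ζ _ hζW (fromSpec_mem hW q')).mp hsp
    rw [primeIdealOf_fromSpec] at h1
    have h2 := (mem_support_iff_le_primeIdealOf I hW ζ hζW).mp hζ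
    have h3 : q ≤ (hW.primeIdealOf ⟨ζ, hζW⟩).asIdeal :=
      hq.2 ⟨(hW.primeIdealOf ⟨ζ, hζW⟩).isPrime, h2⟩ h1
    have h4 : hW.primeIdealOf ⟨ζ, hζW⟩ = q' := PrimeSpectrum.ext (le_antisymm h1 h3)
    rw [← h4, hW.fromSpec_primeIdealOf ⟨ζ, hζW⟩]

/-- Krull's principal ideal theorem step: a prime ideal `P` containing a nonzerodivisor and contained
in a minimal prime `q` over a principal ideal is equal to `q`. -/
theorem le_of_mem_minimalPrimes_span_singleton {R : Type*} [CommRing R] [IsNoetherianRing R]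
    (f g : R) (hg : g ∈ nonZeroDivisors R) (P q : Ideal R) [hP : P.IsPrime]
    (hq : q ∈ (Ideal.span {f}).minimalPrimes) (hgP : g ∈ P) (hPq : P ≤ q) : q ≤ P := by
  by_contra hcon
  have hlt : P < q := lt_of_le_of_ne hPq (fun h => hcon h.ge)
  have : q.IsPrime := hq.1.1
  obtain ⟨P₀, hP₀, hP₀le⟩ := Ideal.exists_minimalPrimes_le (bot_le : (⊥ : Ideal R) ≤ P)
  have : P₀.IsPrime := hP₀.1.1
  have hgP₀ : g ∉ P₀ := fun hmem =>
    (Ideal.disjoint_nonZeroDivisors_of_mem_minimalPrimes hP₀).le_bot ⟨hmem, hg⟩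
  have hlt0 : P₀ < P := lt_of_le_of_ne hP₀le (fun h => hgP₀ (h ▸ hgP))
  have hht : q.height ≤ 1 :=
    Ideal.height_le_one_of_isPrincipal_of_mem_minimalPrimes (Ideal.span {f}) q hq
  have h1 := Ideal.height_add_one_le_of_lt_of_isPrime hlt0
  have h2 := Ideal.height_add_one_le_of_lt_of_isPrime hlt
  have h3 : (2 : ℕ∞) ≤ q.height := by
    calc (2 : ℕ∞) = 0 + 1 + 1 := by norm_num
      _ ≤ P₀.height + 1 + 1 := by gcongr; exact zero_le
      _ ≤ P.height + 1 := by gcongr
      _ ≤ q.height := h2
  exact absurd (h3.trans hht) (by norm_num)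


/-- The ideal sheaf of a reduced closed subscheme is radical. -/
theorem radical_eq_self_of_isReduced (J : X.IdealSheafData) [IsReduced J.subscheme] :
    J.radical = J := by
  ext U : 2
  change (J.ideal U).radical = J.ideal U
  rw [← J.ker_subschemeι_app U]
  refine le_antisymm ?_ Ideal.le_radical
  rintro a ⟨n, hn⟩
  rw [RingHom.mem_ker] at hn ⊢
  rw [map_pow] at hn
  exact eq_zero_of_pow_eq_zero hn

/-- An ideal sheaf is contained in the ideal sheaf of any reduced closed subscheme supported inside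
its support. -/
theorem le_of_support_le_of_isReduced (D J : X.IdealSheafData) [IsReduced J.subscheme]
    (h : J.support ≤ D.support) : D ≤ J := by
  calc D ≤ D.radical := Scheme.IdealSheafData.le_radical D
    _ = Scheme.IdealSheafData.vanishingIdeal D.support :=
      Scheme.IdealSheafData.vanishingIdeal_support.symm
    _ ≤ Scheme.IdealSheafData.vanishingIdeal J.support :=
      Scheme.IdealSheafData.vanishingIdeal_antimono h
    _ = J.radical := Scheme.IdealSheafData.vanishingIdeal_support
    _ = J := radical_eq_self_of_isReduced J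

set_option backward.isDefEq.respectTransparency false in
/-- **Key step.** A nontrivial effective Cartier divisor on a Noetherian scheme whose support lies
in a union of integral effective Cartier divisors contains one of them. -/
theorem exists_le_of_support_subset [IsNoetherian X] (D : X.IdealSheafData)
    (hD : BlowUp.IsEffCartierIdeal D) (hne : D ≠ ⊤) {ι : Type*} (Ds : ι → X.IdealSheafData)
    (hDs : ∀ i, BlowUp.IsEffCartierIdeal (Ds i)) (hint : ∀ i, IsIntegral (Ds i).subscheme)
    (hsub : (D.support : Set X) ⊆ ⋃ i, ((Ds i).support : Set X)) : ∃ i, D ≤ Ds i := by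
  obtain ⟨η, hη, hmax⟩ := exists_maximal_point_support D hne
  obtain ⟨i, hi⟩ := Set.mem_iUnion.mp (hsub hη)
  refine ⟨i, ?_⟩
  have := hint i
  apply le_of_support_le_of_isReduced
  obtain ⟨U₁, hx₁, p₁⟩ := hD η
  obtain ⟨U₂, hx₂, p₂⟩ := hDs i η
  obtain ⟨W, hηW, r₁, r₂⟩ := Groth.Agent.H20.CartierDiff.exists_common U₁ U₂ η hx₁ hx₂
  obtain ⟨f, hf, hDW⟩ := r₁ D p₁
  obtain ⟨g, hg, hDiW⟩ := r₂ (Ds i) p₂
  have : IsNoetherianRing Γ(X, W.1) := IsLocallyNoetherian.component_noetherian W
  have hmin := primeIdealOf_mem_minimalPrimes D W.2 η hηW hη hmax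
  have hmin' : (W.2.primeIdealOf ⟨η, hηW⟩).asIdeal ∈ (Ideal.span {f}).minimalPrimes := by
    rw [← hDW]; exact hmin
  have hrange := (Ds i).range_subschemeι
  obtain ⟨d, hd⟩ : ∃ d : (Ds i).subscheme, (Ds i).subschemeι d = η := by
    have : η ∈ Set.range (Ds i).subschemeι := by rw [hrange]; exact hi
    exact this
  have hP : ((Ds i).ideal W).IsPrime :=
    isPrime_ideal_of_isIntegral_subscheme (Ds i) W d (by rw [hd]; exact hηW)
  have hPq : (Ds i).ideal W ≤ (W.2.primeIdealOf ⟨η, hηW⟩).asIdeal :=
    (mem_support_iff_le_primeIdealOf (Ds i) W.2 η hηW).mp hi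
  have hqP : (W.2.primeIdealOf ⟨η, hηW⟩).asIdeal ≤ (Ds i).ideal W :=
    le_of_mem_minimalPrimes_span_singleton f g hg _ _ hmin'
      (by rw [hDiW]; exact Ideal.mem_span_singleton_self g) hPq
  set ξ := genericPoint ↥(Ds i).subscheme with hξ
  have hξW : (Ds i).subschemeι ξ ∈ W.1 := by
    have h1 : ξ ∈ ((Ds i).subschemeι ⁻¹ᵁ W.1 : (Ds i).subscheme.Opens) :=
      (genericPoint_specializes d).mem_open ((Ds i).subschemeι ⁻¹ᵁ W.1).2
        (by change (Ds i).subschemeι d ∈ W.1; rw [hd]; exact hηW)
    exact h1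
  have hξsupp : (Ds i).subschemeι ξ ∈ (Ds i).support := by
    have : (Ds i).subschemeι ξ ∈ Set.range (Ds i).subschemeι := ⟨ξ, rfl⟩
    rw [hrange] at this; exact this
  have h5 := (mem_support_iff_le_primeIdealOf (Ds i) W.2 _ hξW).mp hξsupp
  have hspec : η ⤳ (Ds i).subschemeι ξ :=
    (specializes_iff_primeIdealOf_le W.2 η _ hηW hξW).mpr (hqP.trans h5)
  have hξD : (Ds i).subschemeι ξ ∈ (D.support : Set X) :=
    hspec.mem_closed D.support.isClosed hη
  intro z hz
  obtain ⟨d', rfl⟩ : ∃ d' : (Ds i).subscheme, (Ds i).subschemeι d' = z := by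
    have : z ∈ Set.range (Ds i).subschemeι := by rw [hrange]; exact hz
    exact this
  exact ((genericPoint_specializes d').map (Ds i).subschemeι.continuous).mem_closed
    D.support.isClosed hξD


/-- **Factorization.** On a Noetherian scheme, an effective Cartier divisor whose support lies in a
finite union of integral effective Cartier divisors is a product of powers of them. -/
theorem exists_eq_prod_pow [IsNoetherian X] {r : ℕ} (Ds : Fin r → X.IdealSheafData)
    (hDs : ∀ i, BlowUp.IsEffCartierIdeal (Ds i)) (hint : ∀ i, IsIntegral (Ds i).subscheme)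
    (D : X.IdealSheafData) (hD : BlowUp.IsEffCartierIdeal D)
    (hsub : (D.support : Set X) ⊆ ⋃ i, ((Ds i).support : Set X)) :
    ∃ a : Fin r → ℕ, D = ∏ i, Ds i ^ a i := by
  have hwf := wellFoundedGT_idealSheafData (X := X)
  induction D using hwf.induction with
  | ind D ih =>
    by_cases htop : D = ⊤
    · exact ⟨fun _ => 0, by rw [htop]; simp only [pow_zero, Finset.prod_const_one]; rfl⟩
    · obtain ⟨i, hle⟩ := exists_le_of_support_subset D hD htop Ds hDs hint hsub
      have hsup : D ⊔ Ds i = Ds i := sup_eq_right.mpr hle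
      obtain ⟨D', -, hD', -, h1, -, -, -⟩ :=
        Groth.Agent.H20.CartierDiff.main D (Ds i) hD (hDs i) (by rw [hsup]; exact hDs i)
      rw [hsup] at h1
      have hle' : D ≤ D' := by
        rw [h1]
        intro U
        exact Ideal.mul_le_left
      have hne' : D ≠ D' := by
        intro heq
        have h2 : D = D * Ds i := by
          conv_lhs => rw [h1]
          rw [← heq]
        have h3 := eq_top_of_eq_mul_of_isEffCartier D (Ds i) hD h2
        have := hint i
        obtain ⟨d⟩ : Nonempty (Ds i).subscheme := inferInstance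
        have h4 : (Ds i).subschemeι d ∈ Set.range (Ds i).subschemeι := ⟨d, rfl⟩
        rw [(Ds i).range_subschemeι] at h4
        have h5 : ((Ds i).support : Set X) = ∅ := by rw [h3]; rfl
        rw [h5] at h4
        exact h4
      have hsub' : (D'.support : Set X) ⊆ ⋃ i, ((Ds i).support : Set X) :=
        (SetLike.coe_subset_coe.mpr (Scheme.IdealSheafData.support_antitone hle')).trans hsub
      obtain ⟨a, ha⟩ := ih D' (lt_of_le_of_ne hle' hne') hD' hsub'
      refine ⟨a + Pi.single i 1, ?_⟩
      rw [h1, ha]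
      simp only [Pi.add_apply, pow_add, Finset.prod_mul_distrib]
      congr 1
      rw [Fintype.prod_eq_single i (fun j hj => by rw [Pi.single_eq_of_ne hj, pow_zero])]
      rw [Pi.single_eq_same, pow_one]

end Groth.Agent.H8
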