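import Groth.Agent.H8.CartierCodim
import Groth.Agent.H62.CatenDim
import Groth.Agent.H62.CatenRing

/-!
# Immediate specializations in irreducible schemes with catenary local rings (helper8)

* `two_le_ringKrullDim_stalk_of_chain`: a chain `a ⤳ b ⤳ c` of distinct points forces
  `dim O_c ≥ 2`.
* `cod_eq_height_of_forall_le`: in a poset with least element `a`, `cod a x = height x`.
* `ringKrullDim_stalk_eq_one_add`: `X` irreducible locally Noetherian with catenary local rings,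
  `η ⤳ ζ` an immediate specialization: `dim O_ζ = 1 + dim O_η`.
-/

set_option autoImplicit false
set_option linter.style.haveILetI false
universe u
open CategoryTheory AlgebraicGeometry TopologicalSpace Opposite

namespace Groth.Agent.H8

open Groth.Agent.H62

theorem primeIdealOf_lt_of_specializes_of_ne {Z : Scheme.{u}} {W : Z.Opens} (hW : IsAffineOpen W)
    (a b : Z) (haW : a ∈ W) (hbW : b ∈ W) (hab : a ⤳ b) (hne : a ≠ b) :
    hW.primeIdealOf ⟨a, haW⟩ < hW.primeIdealOf ⟨b, hbW⟩ := by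
  refine lt_of_le_of_ne ((specializes_iff_primeIdealOf_le hW a b haW hbW).mp hab) (fun h => hne ?_)
  have h1 := hW.fromSpec_primeIdealOf ⟨a, haW⟩
  have h2 := hW.fromSpec_primeIdealOf ⟨b, hbW⟩
  rw [h] at h1
  exact h1.symm.trans h2

/-- A chain `a ⤳ b ⤳ c` of distinct points forces `dim O_c ≥ 2`. -/
theorem two_le_ringKrullDim_stalk_of_chain {Z : Scheme.{u}} (a b c : Z) (hab : a ⤳ b)
    (hbc : b ⤳ c) (ha : a ≠ b) (hb : b ≠ c) : 2 ≤ ringKrullDim (Z.presheaf.stalk c) := by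
  obtain ⟨_, ⟨W, hW, rfl⟩, hcW, -⟩ :=
    Z.isBasis_affineOpens.exists_subset_of_mem_open (Set.mem_univ c) isOpen_univ
  have hbW : b ∈ W := hbc.mem_open W.2 hcW
  have haW : a ∈ W := hab.mem_open W.2 hbW
  rw [ringKrullDim_stalk_eq_height hW c hcW]
  have h1 := primeIdealOf_lt_of_specializes_of_ne hW a b haW hbW hab ha
  have h2 := primeIdealOf_lt_of_specializes_of_ne hW b c hbW hcW hbc hb
  have h3 := Ideal.height_add_one_le_of_lt_of_isPrime
    (I := (hW.primeIdealOf ⟨a, haW⟩).asIdeal) (J := (hW.primeIdealOf ⟨b, hbW⟩).asIdeal) h1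
  have h4 := Ideal.height_add_one_le_of_lt_of_isPrime
    (I := (hW.primeIdealOf ⟨b, hbW⟩).asIdeal) (J := (hW.primeIdealOf ⟨c, hcW⟩).asIdeal) h2
  have h5 : (2 : ℕ∞) ≤ (hW.primeIdealOf ⟨c, hcW⟩).asIdeal.height := by
    calc (2 : ℕ∞) = 0 + 1 + 1 := by norm_num
      _ ≤ (hW.primeIdealOf ⟨a, haW⟩).asIdeal.height + 1 + 1 := by gcongr; exact zero_le
      _ ≤ (hW.primeIdealOf ⟨b, hbW⟩).asIdeal.height + 1 := by gcongr
      _ ≤ _ := h4
  have h6 : ((2 : ℕ∞) : WithBot ℕ∞) ≤ ((hW.primeIdealOf ⟨c, hcW⟩).asIdeal.height : WithBot ℕ∞) :=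
    WithBot.coe_le_coe.mpr h5
  exact h6

/-- In a poset with least element `a`, the codimension `cod a x` is the height of `x`. -/
theorem cod_eq_height_of_forall_le {P : Type*} [PartialOrder P] (a : P) (hmin : ∀ q : P, a ≤ q)
    (x : P) : cod a x = Order.height x := by
  apply le_antisymm
  · refine iSup₂_le fun s hs => ?_
    exact le_trans Order.length_le_height_last (Order.height_mono hs.2)
  · rw [Order.height_le_iff]
    intro p hp
    by_cases h : p.head = a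
    · exact le_iSup₂_of_le p ⟨h, hp⟩ le_rfl
    · have hlt : a < p.head := lt_of_le_of_ne (hmin _) (Ne.symm h)
      refine le_iSup₂_of_le (p.cons a hlt) ⟨by simp, by simpa using hp⟩ ?_
      simp


set_option backward.isDefEq.respectTransparency false in
/-- In an irreducible locally Noetherian scheme with catenary local rings, an immediate
specialization `η ⤳ ζ` raises the dimension of the local ring by exactly one. -/
theorem ringKrullDim_stalk_eq_one_add {X : Scheme.{u}} [IsLocallyNoetherian X]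
    [IrreducibleSpace ↥X] (hcat : ∀ x : ↥X, CAlg.IsCatenary ↑(X.presheaf.stalk x)) (η ζ : ↥X)
    (hsp : η ⤳ ζ) (hne : η ≠ ζ) (hcov : ∀ θ : ↥X, η ⤳ θ → θ ⤳ ζ → θ = η ∨ θ = ζ) :
    ringKrullDim ↑(X.presheaf.stalk ζ) = 1 + ringKrullDim ↑(X.presheaf.stalk η) := by
  obtain ⟨_, ⟨U, hU, rfl⟩, hζU, -⟩ :=
    X.isBasis_affineOpens.exists_subset_of_mem_open (Set.mem_univ ζ) isOpen_univ
  have hηU : η ∈ U := hsp.mem_open U.2 hζU
  have hgU : genericPoint ↥X ∈ U := (genericPoint_specializes ζ).mem_open U.2 hζU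
  have hmin : ∀ q : PrimeSpectrum Γ(X, U), hU.primeIdealOf ⟨genericPoint ↥X, hgU⟩ ≤ q := by
    intro q
    have h1 : genericPoint ↥X ⤳ hU.fromSpec q := genericPoint_specializes _
    have h2 := (specializes_iff_primeIdealOf_le hU _ _ hgU (fromSpec_mem hU q)).mp h1
    rwa [primeIdealOf_fromSpec] at h2
  have hηζ : hU.primeIdealOf ⟨η, hηU⟩ < hU.primeIdealOf ⟨ζ, hζU⟩ :=
    primeIdealOf_lt_of_specializes_of_ne hU η ζ hηU hζU hsp hne
  have hcovBy : hU.primeIdealOf ⟨η, hηU⟩ ⋖ hU.primeIdealOf ⟨ζ, hζU⟩ := by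
    refine ⟨hηζ, fun Q h1 h2 => ?_⟩
    have hθU := fromSpec_mem hU Q
    have e1 : η ⤳ hU.fromSpec Q :=
      (specializes_iff_primeIdealOf_le hU _ _ hηU hθU).mpr (by
        rw [primeIdealOf_fromSpec]; exact h1.le)
    have e2 : hU.fromSpec Q ⤳ ζ :=
      (specializes_iff_primeIdealOf_le hU _ _ hθU hζU).mpr (by
        rw [primeIdealOf_fromSpec]; exact h2.le)
    rcases hcov _ e1 e2 with h | h
    · have h3 : hU.fromSpec Q = hU.fromSpec (hU.primeIdealOf ⟨η, hηU⟩) := by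
        rw [h, hU.fromSpec_primeIdealOf ⟨η, hηU⟩]
      exact h1.ne' (hU.fromSpec.isOpenEmbedding.injective h3)
    · have h3 : hU.fromSpec Q = hU.fromSpec (hU.primeIdealOf ⟨ζ, hζU⟩) := by
        rw [h, hU.fromSpec_primeIdealOf ⟨ζ, hζU⟩]
      exact h2.ne (hU.fromSpec.isOpenEmbedding.injective h3)
  letI algη : Algebra Γ(X, U) (X.presheaf.stalk η) := X.presheaf.algebra_section_stalk ⟨η, hηU⟩
  haveI locη : IsLocalization.AtPrime (X.presheaf.stalk η) (hU.primeIdealOf ⟨η, hηU⟩).asIdeal :=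
    hU.isLocalization_stalk ⟨η, hηU⟩
  letI algζ : Algebra Γ(X, U) (X.presheaf.stalk ζ) := X.presheaf.algebra_section_stalk ⟨ζ, hζU⟩
  haveI locζ : IsLocalization.AtPrime (X.presheaf.stalk ζ) (hU.primeIdealOf ⟨ζ, hζU⟩).asIdeal :=
    hU.isLocalization_stalk ⟨ζ, hζU⟩
  have c1 : CatPair' (hU.primeIdealOf ⟨genericPoint ↥X, hgU⟩) (hU.primeIdealOf ⟨η, hηU⟩) :=
    catPair'_of_isLocalization_atPrime (B := X.presheaf.stalk η) _ (hcat η) _ (hmin _)
  have c2 : CatPair' (hU.primeIdealOf ⟨η, hηU⟩) (hU.primeIdealOf ⟨ζ, hζU⟩) :=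
    catPair'_of_isLocalization_atPrime (B := X.presheaf.stalk ζ) _ (hcat ζ) _ hηζ.le
  have c3 : CatPair' (hU.primeIdealOf ⟨genericPoint ↥X, hgU⟩) (hU.primeIdealOf ⟨ζ, hζU⟩) :=
    catPair'_of_isLocalization_atPrime (B := X.presheaf.stalk ζ) _ (hcat ζ) _ (hmin _)
  have hadd := cod_add (hmin _) hηζ.le (catPair_iff_catPair'.2 c1) (catPair_iff_catPair'.2 c2)
    (catPair_iff_catPair'.2 c3)
  rw [cod_eq_height_of_forall_le _ hmin, cod_eq_height_of_forall_le _ hmin,
    cod_of_covBy hcovBy] at hadd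
  rw [ringKrullDim_stalk_eq_height hU ζ hζU, ringKrullDim_stalk_eq_height hU η hηU,
    PrimeSpectrum.height_eq_orderHeight, PrimeSpectrum.height_eq_orderHeight, hadd, add_comm]
  rfl

end Groth.Agent.H8
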