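import Mathlib.AlgebraicGeometry.Morphisms.ClosedImmersion
import Mathlib.AlgebraicGeometry.Morphisms.QuasiCompact
import Mathlib.AlgebraicGeometry.Limits
import Mathlib.AlgebraicGeometry.Gluing

/-!
# Closed immersions and lifting along injective ring maps
-/

set_option autoImplicit false
universe u

namespace Groth.Agent.H8

open AlgebraicGeometry CategoryTheory CategoryTheory.Limits

/-- The lifting property against `Spec B ⟶ Spec A` for injective ring maps `A → B`. -/
def HasInjLift {X Y : Scheme.{u}} (f : X ⟶ Y) : Prop :=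
  ∀ (A B : Type u) [CommRing A] [CommRing B] (φ : A →+* B), Function.Injective φ →
    ∀ (a : Spec (CommRingCat.of B) ⟶ X) (b : Spec (CommRingCat.of A) ⟶ Y),
      Spec.map (CommRingCat.ofHom φ) ≫ b = a ≫ f →
      ∃ l : Spec (CommRingCat.of A) ⟶ X, Spec.map (CommRingCat.ofHom φ) ≫ l = a ∧ l ≫ f = b

variable {X Y : Scheme.{u}}

/-- Closed immersions have the lifting property along injective ring maps. -/
theorem hasInjLift_of_isClosedImmersion (f : X ⟶ Y) [IsClosedImmersion f] : HasInjLift f := by
  intro A B _ _ φ hφ a b w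
  let p₂ := pullback.snd f b
  obtain ⟨hPaff, hsurj⟩ := IsClosedImmersion.isAffine_surjective_of_isAffine p₂
  let c : Spec (CommRingCat.of B) ⟶ pullback f b := pullback.lift a (Spec.map (CommRingCat.ofHom φ)) w.symm
  have hc : c ≫ p₂ = Spec.map (CommRingCat.ofHom φ) := pullback.lift_snd _ _ _
  have hinj : Function.Injective p₂.appTop.hom := by
    have h1 : p₂.appTop ≫ c.appTop = (Spec.map (CommRingCat.ofHom φ)).appTop := by
      rw [← Scheme.Hom.comp_appTop, hc]
    have h2 : Function.Injective (Spec.map (CommRingCat.ofHom φ)).appTop.hom := by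
      have hnat := Scheme.ΓSpecIso_naturality (CommRingCat.ofHom φ)
      have h3 : Function.Injective
          ((Spec.map (CommRingCat.ofHom φ)).appTop ≫
            (Scheme.ΓSpecIso (CommRingCat.of B)).hom).hom := by
        rw [hnat, CommRingCat.hom_comp, RingHom.coe_comp]
        exact hφ.comp (ConcreteCategory.bijective_of_isIso (Scheme.ΓSpecIso (CommRingCat.of A)).hom).1
      rw [CommRingCat.hom_comp, RingHom.coe_comp] at h3
      exact Function.Injective.of_comp h3
    rw [← h1, CommRingCat.hom_comp, RingHom.coe_comp] at h2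
    exact Function.Injective.of_comp h2
  have : IsIso p₂ := IsClosedImmersion.isIso_of_injective_of_isAffine hinj
  refine ⟨inv p₂ ≫ pullback.fst f b, ?_, ?_⟩
  · rw [← hc, Category.assoc, IsIso.hom_inv_id_assoc]
    exact pullback.lift_fst _ _ _
  · rw [Category.assoc, pullback.condition, IsIso.inv_hom_id_assoc]

set_option backward.isDefEq.respectTransparency false in
/-- A morphism from a quasi-compact scheme to an affine scheme with the lifting property along
injective ring maps is a closed immersion. -/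
theorem isClosedImmersion_of_hasInjLift_of_isAffine (f : X ⟶ Y) [IsAffine Y] [CompactSpace X]
    (hf : HasInjLift f) : IsClosedImmersion f := by
  classical
  -- a finite affine open cover of `X`
  obtain ⟨t, ht⟩ := isCompact_univ.elim_finite_subcover
    (fun U : X.affineOpens ↦ ((U : X.Opens) : Set X)) (fun U ↦ U.1.2) (by
      intro x _
      obtain ⟨_, ⟨U, hU, rfl⟩, hxU, -⟩ :=
        X.isBasis_affineOpens.exists_subset_of_mem_open (Set.mem_univ x) isOpen_univ
      exact Set.mem_iUnion.mpr ⟨⟨U, hU⟩, hxU⟩)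
  let ι : Type u := ↥t
  let U : ι → X.Opens := fun i ↦ i.1.1
  have hU : ∀ i, IsAffineOpen (U i) := fun i ↦ i.1.2
  have hcov : ∀ x : X, ∃ i : ι, x ∈ U i := by
    intro x
    have := ht (Set.mem_univ x)
    simp only [Set.mem_iUnion] at this
    obtain ⟨V, hV, hx⟩ := this
    exact ⟨⟨V, hV⟩, hx⟩
  let R : ι → CommRingCat.{u} := fun i ↦ Γ(X, U i)
  let ρi : ∀ i, Γ(Y, ⊤) ⟶ R i := fun i ↦ f.appLE ⊤ (U i) le_top
  let ρ : Γ(Y, ⊤) →+* (Π i, R i) := RingHom.pi fun i ↦ (ρi i).hom
  let K := RingHom.ker ρ
  let φ : Γ(Y, ⊤) ⧸ K →+* Π i, R i := RingHom.kerLift ρ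
  have hφ : Function.Injective φ := RingHom.kerLift_injective ρ
  let a : Spec (CommRingCat.of (Π i, R i)) ⟶ X :=
    inv (sigmaSpec R) ≫ Sigma.desc fun i ↦ (hU i).fromSpec
  let b : Spec (CommRingCat.of (Γ(Y, ⊤) ⧸ K)) ⟶ Y :=
    Spec.map (CommRingCat.ofHom (Ideal.Quotient.mk K)) ≫ Y.isoSpec.inv
  have hai : ∀ i, Spec.map (CommRingCat.ofHom (Pi.evalRingHom (fun i ↦ R i) i)) ≫ a =
      (hU i).fromSpec := by
    intro i
    simp only [a]
    rw [← ι_sigmaSpec_assoc, IsIso.hom_inv_id_assoc, Sigma.ι_desc]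
  have w : Spec.map (CommRingCat.ofHom φ) ≫ b = a ≫ f := by
    rw [← cancel_epi (sigmaSpec R)]
    refine Sigma.hom_ext _ _ fun i ↦ ?_
    rw [ι_sigmaSpec_assoc, ι_sigmaSpec_assoc, reassoc_of% (hai i),
      ← (isAffineOpen_top Y).SpecMap_appLE_fromSpec f (hU i) le_top, IsAffineOpen.fromSpec_top]
    simp only [b]
    rw [← Spec.map_comp_assoc, ← Spec.map_comp_assoc]
    congr 2
  obtain ⟨l, hl1, hl2⟩ := hf (Γ(Y, ⊤) ⧸ K) (Π i, R i) φ hφ a b w
  have hb : IsClosedImmersion b := inferInstance
  have hlf : IsClosedImmersion (l ≫ f) := hl2 ▸ hb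
  have hl_surj : Function.Surjective l := by
    intro x
    obtain ⟨i, hi⟩ := hcov x
    have : x ∈ Set.range (hU i).fromSpec := by rw [(hU i).range_fromSpec]; exact hi
    obtain ⟨z, rfl⟩ := this
    refine ⟨Spec.map (CommRingCat.ofHom φ)
      (Spec.map (CommRingCat.ofHom (Pi.evalRingHom (fun i ↦ R i) i)) z), ?_⟩
    rw [← Scheme.Hom.comp_apply, ← Scheme.Hom.comp_apply, hl1, hai]
    rfl
  have hl_ci : IsClosedImmersion l := by
    have : SurjectiveOnStalks l := SurjectiveOnStalks.of_comp l f
    refine ⟨?_⟩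
    have hemb : Topology.IsEmbedding l :=
      Topology.IsEmbedding.of_comp l.continuous f.continuous (l ≫ f).isClosedEmbedding.isEmbedding
    exact ⟨hemb, by rw [hl_surj.range_eq]; exact isClosed_univ⟩
  have hl_iso : IsIso l := by
    have hsup : ⨆ i, U i = ⊤ := by
      rw [eq_top_iff]
      intro x _
      obtain ⟨i, hi⟩ := hcov x
      exact TopologicalSpace.Opens.mem_iSup.mpr ⟨i, hi⟩
    refine (IsZariskiLocalAtTarget.iff_of_iSup_eq_top
      (P := MorphismProperty.isomorphisms Scheme) U hsup).mpr fun i ↦ ?_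
    change IsIso (l ∣_ U i)
    have : IsAffine (U i : Scheme.{u}) := hU i
    apply IsClosedImmersion.isIso_of_injective_of_isAffine
    let gi : Spec (R i) ⟶ (l ⁻¹ᵁ U i : Scheme.{u}) := IsOpenImmersion.lift (l ⁻¹ᵁ U i).ι
      (Spec.map (CommRingCat.ofHom (Pi.evalRingHom (fun i ↦ R i) i)) ≫
        Spec.map (CommRingCat.ofHom φ)) (by
        rintro _ ⟨z, rfl⟩
        rw [Scheme.Opens.range_ι]
        change l _ ∈ U i
        rw [← Scheme.Hom.comp_apply, Category.assoc, hl1, hai]
        have : (hU i).fromSpec z ∈ Set.range (hU i).fromSpec := ⟨z, rfl⟩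
        rwa [(hU i).range_fromSpec] at this)
    have hgi : gi ≫ (l ∣_ U i) = (hU i).isoSpec.inv := by
      rw [← cancel_mono (U i).ι, Category.assoc, morphismRestrict_ι, ← Category.assoc,
        IsOpenImmersion.lift_fac, Category.assoc, hl1, hai]
      rfl
    have h1 : (l ∣_ U i).appTop ≫ gi.appTop = (hU i).isoSpec.inv.appTop := by
      rw [← Scheme.Hom.comp_appTop, hgi]
    have h2 : Function.Injective ((l ∣_ U i).appTop ≫ gi.appTop).hom := by
      rw [h1]
      exact (ConcreteCategory.bijective_of_isIso (hU i).isoSpec.inv.appTop).1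
    rw [CommRingCat.hom_comp, RingHom.coe_comp] at h2
    exact Function.Injective.of_comp h2
  have : f = inv l ≫ b := by rw [IsIso.eq_inv_comp, hl2]
  rw [this]
  infer_instance

/-- The lifting property along injective ring maps is stable under base change. -/
theorem hasInjLift_pullback_snd {Z : Scheme.{u}} (f : X ⟶ Y) (j : Z ⟶ Y) (hf : HasInjLift f) :
    HasInjLift (pullback.snd f j) := by
  intro A B _ _ φ hφ a' b' w'
  obtain ⟨l, hl1, hl2⟩ := hf A B φ hφ (a' ≫ pullback.fst f j) (b' ≫ j) (by
    rw [← Category.assoc, w', Category.assoc, Category.assoc, pullback.condition])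
  refine ⟨pullback.lift l b' hl2, ?_, pullback.lift_snd _ _ _⟩
  apply pullback.hom_ext
  · rw [Category.assoc, pullback.lift_fst, hl1]
  · rw [Category.assoc, pullback.lift_snd, w']

/-- A quasi-compact morphism with the lifting property along injective ring maps is a closed
immersion. -/
theorem isClosedImmersion_of_hasInjLift (f : X ⟶ Y) [QuasiCompact f] (hf : HasInjLift f) :
    IsClosedImmersion f := by
  rw [IsZariskiLocalAtTarget.iff_of_openCover (P := @IsClosedImmersion) Y.affineCover]
  intro i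
  change IsClosedImmersion (pullback.snd f (Y.affineCover.f i))
  have : CompactSpace ↥(pullback f (Y.affineCover.f i) : Scheme.{u}) :=
    QuasiCompact.compactSpace_of_compactSpace (pullback.snd f (Y.affineCover.f i))
  exact isClosedImmersion_of_hasInjLift_of_isAffine _ (hasInjLift_pullback_snd f _ hf)

end Groth.Agent.H8
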