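import Mathlib
import Groth.Prelude.Def_Curv2
import Groth.Prelude.Def_FEt
import Groth.Prelude.Def_BlowUp2
import Groth.Agent.S16054
import Groth.Agent.S1680
import Groth.Agent.S14090
import Groth.Agent.H8.BlowUpExist

/-!
# Admissible blow-ups of the completion of a Noetherian local ring descend

For a Noetherian local ring `A` with completion `Â`, an ideal `J₀` of `Â` containing a power of the
maximal ideal is extended from its contraction to `A`.  Consequently a blow-up of `Spec Â` in an
ideal supported at the closed point is the base change of a blow-up of `Spec A`.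
-/

set_option autoImplicit false
set_option linter.style.haveILetI false
universe u
open CategoryTheory CategoryTheory.Limits AlgebraicGeometry

namespace Groth.Agent.H8.ComplBlowUp

open IsLocalRing

section Algebra

variable (A : Type u) [CommRing A] [IsLocalRing A] [IsNoetherianRing A]

/-- `A` is dense in its completion: every element of `Â` is congruent to an element of `A` modulo
`m^n Â`. -/
theorem exists_sub_mem_pow (n : ℕ) (s : AdicCompletion (maximalIdeal A) A) :
    ∃ a : A, s - algebraMap A (AdicCompletion (maximalIdeal A) A) a ∈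
      ((maximalIdeal A) ^ n).map (algebraMap A (AdicCompletion (maximalIdeal A) A)) := by
  obtain ⟨l, hl⟩ := Submodule.Quotient.mk_surjective _ (s.1 n)
  refine ⟨l, ?_⟩
  rw [← Submodule.restrictScalars_mem A, ← Ideal.smul_top_eq_map,
    AdicCompletion.pow_smul_top_eq_ker_eval (maximalIdeal A).fg_of_isNoetherianRing]
  simp only [LinearMap.mem_ker, map_sub]
  rw [sub_eq_zero]
  simpa [AdicCompletion.eval, AdicCompletion.algebraMap_apply] using hl.symm

/-- An ideal of the completion containing a power of the maximal ideal is extended from `A`. -/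
theorem map_comap_eq_of_pow_le (J₀ : Ideal (AdicCompletion (maximalIdeal A) A)) (n : ℕ)
    (h : maximalIdeal (AdicCompletion (maximalIdeal A) A) ^ n ≤ J₀) :
    (J₀.comap (algebraMap A (AdicCompletion (maximalIdeal A) A))).map
      (algebraMap A (AdicCompletion (maximalIdeal A) A)) = J₀ := by
  apply le_antisymm Ideal.map_comap_le
  intro x hx
  rw [AdicCompletion.maximalIdeal_eq_map, ← Ideal.map_pow] at h
  obtain ⟨a, ha⟩ := exists_sub_mem_pow A n x
  have haJ : algebraMap A (AdicCompletion (maximalIdeal A) A) a ∈ J₀ := by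
    have := J₀.sub_mem hx (h ha)
    rwa [sub_sub_cancel] at this
  have h1 : ((maximalIdeal A) ^ n).map (algebraMap A (AdicCompletion (maximalIdeal A) A)) ≤
      (J₀.comap (algebraMap A (AdicCompletion (maximalIdeal A) A))).map
        (algebraMap A (AdicCompletion (maximalIdeal A) A)) := by
    apply Ideal.map_mono
    intro y hy
    exact h (Ideal.mem_map_of_mem _ hy)
  have h2 : x = (x - algebraMap A (AdicCompletion (maximalIdeal A) A) a) +
      algebraMap A (AdicCompletion (maximalIdeal A) A) a := by ring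
  rw [h2]
  exact Ideal.add_mem _ (h1 ha) (Ideal.mem_map_of_mem _ haJ)

/-- The contraction to `A` of an ideal of `Â` containing `m̂^n` contains `m^n`. -/
theorem pow_le_comap (J₀ : Ideal (AdicCompletion (maximalIdeal A) A)) (n : ℕ)
    (h : maximalIdeal (AdicCompletion (maximalIdeal A) A) ^ n ≤ J₀) :
    maximalIdeal A ^ n ≤ J₀.comap (algebraMap A (AdicCompletion (maximalIdeal A) A)) := by
  rw [AdicCompletion.maximalIdeal_eq_map, ← Ideal.map_pow] at h
  intro y hy
  exact h (Ideal.mem_map_of_mem _ hy)

end Algebra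

section Local

variable {R : Type u} [CommRing R] [IsLocalRing R]

/-- An ideal of a local ring with finitely generated maximal ideal whose zero locus is contained
in the closed point contains a power of the maximal ideal. -/
theorem exists_pow_le_of_zeroLocus_subset (hfg : (maximalIdeal R).FG) (J₀ : Ideal R)
    (h : PrimeSpectrum.zeroLocus (J₀ : Set R) ⊆ {closedPoint R}) :
    ∃ n : ℕ, maximalIdeal R ^ n ≤ J₀ := by
  apply Ideal.exists_pow_le_of_le_radical_of_fg _ hfg
  rw [← PrimeSpectrum.vanishingIdeal_zeroLocus_eq_radical]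
  have := PrimeSpectrum.vanishingIdeal_anti_mono h
  rwa [PrimeSpectrum.vanishingIdeal_singleton] at this

/-- An ideal of a local ring containing a power of the maximal ideal has zero locus in the closed
point. -/
theorem zeroLocus_subset_of_pow_le (I₀ : Ideal R) (n : ℕ) (h : maximalIdeal R ^ n ≤ I₀) :
    PrimeSpectrum.zeroLocus (I₀ : Set R) ⊆ {closedPoint R} := by
  intro p hp
  rw [PrimeSpectrum.mem_zeroLocus] at hp
  rw [Set.mem_singleton_iff]
  have h1 : maximalIdeal R ≤ p.asIdeal :=
    p.isPrime.le_of_pow_le (h.trans hp)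
  apply PrimeSpectrum.ext
  exact ((IsLocalRing.maximalIdeal.isMaximal R).eq_of_le p.isPrime.ne_top h1).symm

end Local

section Support

variable (R : Type u) [CommRing R]

/-- The support of the ideal sheaf on `Spec R` attached to an ideal is its zero locus. -/
theorem coe_support_idealSheaf (I₀ : Ideal R) :
    ((Curv2.idealSheaf R I₀).support : Set (Spec (CommRingCat.of R))) =
      PrimeSpectrum.zeroLocus (I₀ : Set R) := by
  unfold Curv2.idealSheaf
  rw [Scheme.IdealSheafData.coe_support_ofIdealTop, Spec_zeroLocus]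
  congr 1
  ext a
  simp only [Set.mem_preimage, SetLike.mem_coe]
  constructor
  · intro ha
    have := Ideal.mem_map_of_mem (Scheme.ΓSpecIso (CommRingCat.of R)).hom.hom ha
    rw [Ideal.map_map, ← CommRingCat.hom_comp, Iso.inv_hom_id] at this
    simpa using this
  · intro ha
    exact Ideal.mem_map_of_mem _ ha

/-- Every ideal sheaf on `Spec R` is attached to an ideal of `R`. -/
theorem eq_idealSheaf (J : (Spec (CommRingCat.of R)).IdealSheafData) :
    J = Curv2.idealSheaf R
      ((J.ideal ⟨⊤, isAffineOpen_top _⟩).map (Scheme.ΓSpecIso (CommRingCat.of R)).hom.hom) := by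
  apply Scheme.IdealSheafData.ext_of_isAffine
  unfold Curv2.idealSheaf
  rw [Scheme.IdealSheafData.ofIdealTop_ideal]
  have h1 : (homOfLE (le_top : (⊤ : (Spec (CommRingCat.of R)).Opens) ≤ ⊤)).op = 𝟙 _ := rfl
  rw [h1, (Spec (CommRingCat.of R)).presheaf.map_id]
  rw [Ideal.map_map (Scheme.ΓSpecIso (CommRingCat.of R)).hom.hom, ← CommRingCat.hom_comp,
    Iso.hom_inv_id]
  simp

end Support

section Main

variable (A : Type u) [CommRing A] [IsLocalRing A] [IsNoetherianRing A]

instance flat_specMap_cpl :
    Flat (Spec.map (CommRingCat.ofHom (algebraMap A (Curv2.cpl A)))) := by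
  rw [Flat.SpecMap_iff]
  exact RingHom.flat_algebraMap_iff.mpr inferInstance

omit [IsNoetherianRing A] in
/-- The pullback of the ideal sheaf of `I₀` to the completion is the ideal sheaf of `I₀ Â`. -/
theorem comap_idealSheaf_cpl (I₀ : Ideal A) :
    (Curv2.idealSheaf A I₀).comap (Spec.map (CommRingCat.ofHom (algebraMap A (Curv2.cpl A)))) =
      Curv2.idealSheaf (Curv2.cpl A) (I₀.map (algebraMap A (Curv2.cpl A))) := by
  apply Scheme.IdealSheafData.ext_of_isAffine
  rw [Groth.Agent.S14090.ideal_comap_idealSheaf, Groth.Agent.S14090.ringMap_top]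
  have h2 := Groth.Agent.S14090.ringMapTop_comp (algebraMap A (Curv2.cpl A))
    (𝟙 (Spec (CommRingCat.of (Curv2.cpl A))))
  rw [Category.id_comp] at h2
  rw [h2]
  unfold Curv2.idealSheaf
  rw [Scheme.IdealSheafData.ofIdealTop_ideal]
  have h1 : (homOfLE (le_top : (⊤ : (Spec (CommRingCat.of (Curv2.cpl A))).Opens) ≤ ⊤)).op =
    𝟙 _ := rfl
  rw [h1, (Spec (CommRingCat.of (Curv2.cpl A))).presheaf.map_id, ← Ideal.map_map]
  have h3 : Groth.Agent.S14090.ringMapTop (𝟙 (Spec (CommRingCat.of (Curv2.cpl A)))) =
      (Scheme.ΓSpecIso (CommRingCat.of (Curv2.cpl A))).inv.hom := by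
    ext x
    simp [Groth.Agent.S14090.ringMapTop]
  rw [h3]
  simp

/-- An admissible blow-up of the completion of a Noetherian local ring (with respect to the
punctured spectrum) is the base change of an admissible blow-up of the ring itself. -/
theorem exists_descent (Y : Scheme.{u}) (c : Y ⟶ Spec (CommRingCat.of (Curv2.cpl A)))
    (J : (Spec (CommRingCat.of (Curv2.cpl A))).IdealSheafData)
    (hJ : BlowUp.IsAdmissibleFor (FEt.puncturedSpec (Curv2.cpl A)) J)
    (hc : BlowUp.IsBlowUp c J) :
    ∃ (I : (Spec (CommRingCat.of A)).IdealSheafData) (X : Scheme.{u})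
      (b : X ⟶ Spec (CommRingCat.of A)),
      BlowUp.IsAdmissibleFor (FEt.puncturedSpec A) I ∧ BlowUp.IsBlowUp b I ∧
      ∃ e : Y ≅ Curv2.bcCpl A b, e.hom ≫ Curv2.bcCplSnd A b = c := by
  set J₀ : Ideal (Curv2.cpl A) := (J.ideal ⟨⊤, isAffineOpen_top _⟩).map
    (Scheme.ΓSpecIso (CommRingCat.of (Curv2.cpl A))).hom.hom with hJ₀
  have hJeq : J = Curv2.idealSheaf _ J₀ := eq_idealSheaf _ J
  have hsupp : PrimeSpectrum.zeroLocus (J₀ : Set (Curv2.cpl A)) ⊆
      {closedPoint (Curv2.cpl A)} := by
    have h := hJ.2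
    rw [hJeq, coe_support_idealSheaf] at h
    intro p hp
    by_contra hne
    exact (Set.disjoint_left.mp h hp) hne
  have hfg : (maximalIdeal (Curv2.cpl A)).FG := by
    rw [AdicCompletion.maximalIdeal_eq_map]
    exact (maximalIdeal A).fg_of_isNoetherianRing.map _
  obtain ⟨n, hn⟩ := exists_pow_le_of_zeroLocus_subset hfg J₀ hsupp
  set I₀ : Ideal A := J₀.comap (algebraMap A (Curv2.cpl A)) with hI₀
  have hmap : I₀.map (algebraMap A (Curv2.cpl A)) = J₀ := map_comap_eq_of_pow_le A J₀ n hn
  have hpow : maximalIdeal A ^ n ≤ I₀ := pow_le_comap A J₀ n hn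
  have hb : BlowUp.IsBlowUp (Groth.Agent.H8.ReesProj.π I₀) (Curv2.idealSheaf A I₀) :=
    Groth.Agent.S16054.result A I₀
  refine ⟨Curv2.idealSheaf A I₀, _, Groth.Agent.H8.ReesProj.π I₀, ⟨?_, ?_⟩, hb, ?_⟩
  · intro U
    unfold Curv2.idealSheaf
    rw [Scheme.IdealSheafData.ofIdealTop_ideal]
    exact (((isNoetherianRing_iff_ideal_fg A).mp inferInstance I₀).map _).map _
  · rw [coe_support_idealSheaf]
    exact Set.disjoint_left.mpr fun p hp hpU =>
      hpU (zeroLocus_subset_of_pow_le I₀ n hpow hp)
  · have hbc := Groth.Agent.S1680.result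
      (Spec.map (CommRingCat.ofHom (algebraMap A (Curv2.cpl A)))) (Curv2.idealSheaf A I₀)
      (Groth.Agent.H8.ReesProj.π I₀) hb
    rw [comap_idealSheaf_cpl, hmap, ← hJeq] at hbc
    obtain ⟨e, he⟩ := Groth.Agent.H8.isBlowUp_iso hc hbc
    refine ⟨e ≪≫ pullbackSymmetry _ _, ?_⟩
    rw [Iso.trans_hom, Category.assoc, pullbackSymmetry_hom_comp_snd]
    exact he

end Main

end Groth.Agent.H8.ComplBlowUp
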