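import Mathlib
import Groth.Prelude.Def_BlowUp2
import Groth.Agent.S1680
import Groth.Agent.H19.ComapAff
import Groth.Agent.H8.AffineLocal
import Groth.Agent.H8.BlowUpDominate
import Groth.Agent.H8.ComplBlowUp

/-!
# Descent of ideals supported in the closed fibre from the completion of a DVR

Let `R` be a discrete valuation ring with completion `R̂`, `q : Y ⟶ Spec R` a scheme and
`π : Ŷ = Y ×_R R̂ ⟶ Y` the projection.  A quasi-coherent ideal of `Ŷ` whose support lies in the
closed fibre is the inverse image of its "contraction" to `Y`, and blow-ups of the contraction base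
change to blow-ups of the ideal.
-/

set_option autoImplicit false
set_option linter.style.haveILetI false
universe u
open CategoryTheory CategoryTheory.Limits AlgebraicGeometry

namespace Groth.Agent.H8.ComplDescend

open IsLocalRing

section Pushout

variable {A B C P : CommRingCat.{u}} {f : A ⟶ B} {g : A ⟶ C} {inl : B ⟶ P} {inr : C ⟶ P}

/-- In a pushout square of commutative rings, a subring containing both images is everything. -/
theorem mem_subring_of_isPushout (H : IsPushout f g inl inr) (P' : Subring P)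
    (hl : ∀ b, inl.hom b ∈ P') (hr : ∀ c, inr.hom c ∈ P') (x : P) : x ∈ P' := by
  let a : B ⟶ CommRingCat.of P' := CommRingCat.ofHom (inl.hom.codRestrict P' hl)
  let c : C ⟶ CommRingCat.of P' := CommRingCat.ofHom (inr.hom.codRestrict P' hr)
  have w : f ≫ a = g ≫ c := by
    ext y
    exact congrArg (fun k => k.hom y) H.w
  have hd : H.desc a c w ≫ CommRingCat.ofHom P'.subtype = 𝟙 P := by
    apply H.hom_ext
    · rw [H.inl_desc_assoc, Category.comp_id]
      ext y
      rfl
    · rw [H.inr_desc_assoc, Category.comp_id]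
      ext y
      rfl
  have := congrArg (fun k => k.hom x) hd
  simp only [CommRingCat.hom_comp, CommRingCat.hom_ofHom, RingHom.comp_apply,
    CommRingCat.hom_id, RingHom.id_apply] at this
  rw [← this]
  exact ((H.desc a c w).hom x).2

/-- If every element of `C` is congruent modulo `t` to an element of `A`, then every element of
the pushout `B ⊗_A C` is congruent modulo `t` to an element of `B`. -/
theorem exists_eq_add_mul_of_isPushout (H : IsPushout f g inl inr) (t : A)
    (hC : ∀ c : C, ∃ (a : A) (c' : C), c = g.hom a + g.hom t * c') (x : P) :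
    ∃ (b : B) (y : P), x = inl.hom b + inl.hom (f.hom t) * y := by
  let P' : Subring P :=
    { carrier := {x | ∃ (b : B) (y : P), x = inl.hom b + inl.hom (f.hom t) * y}
      mul_mem' := by
        rintro _ _ ⟨b, y, rfl⟩ ⟨b', y', rfl⟩
        refine ⟨b * b', inl.hom b * y' + y * inl.hom b' + inl.hom (f.hom t) * y * y', ?_⟩
        rw [map_mul]
        ring
      one_mem' := ⟨1, 0, by simp⟩
      add_mem' := by
        rintro _ _ ⟨b, y, rfl⟩ ⟨b', y', rfl⟩
        refine ⟨b + b', y + y', ?_⟩
        rw [map_add]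
        ring
      zero_mem' := ⟨0, 0, by simp⟩
      neg_mem' := by
        rintro _ ⟨b, y, rfl⟩
        refine ⟨-b, -y, ?_⟩
        rw [map_neg]
        ring }
  refine mem_subring_of_isPushout H P' (fun b => ⟨b, 0, by simp⟩) (fun c => ?_) x
  obtain ⟨a, c', rfl⟩ := hC c
  refine ⟨f.hom a, inr.hom c', ?_⟩
  have hw : ∀ z : A, inr.hom (g.hom z) = inl.hom (f.hom z) := fun z =>
    (congrArg (fun k => k.hom z) H.w).symm
  rw [map_add, map_mul, hw, hw]

end Pushout

section Algebra

/-- An ideal `K` of `P` containing `φ t` is extended from its contraction as soon as every element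
of `P` is congruent modulo `φ t` to an element in the image of `φ`. -/
theorem map_comap_eq_of_dense {B P : Type*} [CommRing B] [CommRing P] (φ : B →+* P) (t : B)
    (K : Ideal P) (ht : φ t ∈ K) (hdense : ∀ x : P, ∃ (b : B) (y : P), x = φ b + φ t * y) :
    (K.comap φ).map φ = K := by
  apply le_antisymm Ideal.map_comap_le
  intro x hx
  obtain ⟨b, y, rfl⟩ := hdense x
  have hb : φ b ∈ K := by
    have := K.sub_mem hx (K.mul_mem_right y ht)
    rwa [add_sub_cancel_right] at this
  exact Ideal.add_mem _ (Ideal.mem_map_of_mem _ hb)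
    (Ideal.mul_mem_right _ _ (Ideal.mem_map_of_mem _ ht))

variable (R : Type u) [CommRing R] [IsDomain R] [IsDiscreteValuationRing R]

/-- Elements of the completion of a DVR are congruent to elements of the ring modulo any power of
a uniformizer. -/
theorem exists_eq_add_mul_cpl {ϖ : R} (hϖ : Irreducible ϖ) (n : ℕ)
    (x : AdicCompletion (maximalIdeal R) R) :
    ∃ (a : R) (y : AdicCompletion (maximalIdeal R) R),
      x = algebraMap R _ a + algebraMap R _ (ϖ ^ n) * y := by
  obtain ⟨a, ha⟩ := Groth.Agent.H8.ComplBlowUp.exists_sub_mem_pow R n x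
  have h1 : maximalIdeal R ^ n = Ideal.span {ϖ ^ n} := by
    rw [hϖ.maximalIdeal_eq, Ideal.span_singleton_pow]
  rw [h1, Ideal.map_span, Set.image_singleton, Ideal.mem_span_singleton'] at ha
  obtain ⟨y, hy⟩ := ha
  refine ⟨a, y, ?_⟩
  rw [mul_comm, hy]
  ring

end Algebra

section Radical

variable {X : Scheme.{u}}

set_option backward.isDefEq.respectTransparency false in
/-- A section over an affine open which vanishes at every point of the support of `I` inside that
open lies in the radical of the ideal of `I`. -/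
theorem mem_radical_of_support (I : X.IdealSheafData) (V : X.affineOpens) (t : Γ(X, V.1))
    (h : ∀ x ∈ V.1, x ∈ I.support → x ∉ X.basicOpen t) : t ∈ (I.ideal V).radical := by
  rw [Ideal.radical_eq_sInf, Ideal.mem_sInf]
  rintro p ⟨hp, hprime⟩
  have hx := Groth.Agent.H8.fromSpec_mem V.2 ⟨p, hprime⟩
  have hxs : V.2.fromSpec ⟨p, hprime⟩ ∈ I.support := by
    rw [Groth.Agent.H8.mem_support_iff_le_primeIdealOf I V.2 _ hx,
      Groth.Agent.H8.primeIdealOf_fromSpec]
    exact hp
  have h1 := h _ hx hxs
  by_contra hne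
  apply h1
  have h2 : (⟨p, hprime⟩ : PrimeSpectrum _) ∈ V.2.fromSpec ⁻¹ᵁ X.basicOpen t := by
    rw [V.2.fromSpec_preimage_basicOpen]
    exact hne
  exact h2

end Radical

section Geometry

variable (R : Type u) [CommRing R] [IsDomain R] [IsDiscreteValuationRing R]

/-- The morphism `Spec R̂ ⟶ Spec R`. -/
noncomputable abbrev cplMap :
    Spec (CommRingCat.of (AdicCompletion (maximalIdeal R) R)) ⟶ Spec (CommRingCat.of R) :=
  Spec.map (CommRingCat.ofHom (algebraMap R (AdicCompletion (maximalIdeal R) R)))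

instance flat_cplMap : Flat (cplMap R) := by
  rw [Flat.SpecMap_iff]
  exact RingHom.flat_algebraMap_iff.mpr inferInstance

variable {R} {Y : Scheme.{u}} (q : Y ⟶ Spec (CommRingCat.of R))

/-- Sections of `Ŷ` over the preimage of an affine open of `Y` form a pushout. -/
theorem isPushout_sections (U : Y.affineOpens) :
    IsPushout (q.appLE ⊤ U.1 le_top) ((cplMap R).appLE ⊤ ⊤ le_top)
      ((pullback.fst q (cplMap R)).appLE U.1 (pullback.fst q (cplMap R) ⁻¹ᵁ U.1) le_rfl)
      ((pullback.snd q (cplMap R)).appLE ⊤ (pullback.fst q (cplMap R) ⁻¹ᵁ U.1) le_top) := by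
  have H := IsPullback.of_hasPullback q (cplMap R)
  have hUY : pullback.fst q (cplMap R) ⁻¹ᵁ U.1 =
      pullback.fst q (cplMap R) ⁻¹ᵁ U.1 ⊓ pullback.snd q (cplMap R) ⁻¹ᵁ ⊤ := by simp
  have := isIso_pushoutSection_of_isAffineOpen H (US := ⊤) (UT := ⊤) (UX := U.1) le_top le_top
    hUY (isAffineOpen_top _) (isAffineOpen_top _) U.2
  exact (isIso_pushoutSection_iff H _ _ hUY).mp this

instance isAffineHom_fst : IsAffineHom (pullback.fst q (cplMap R)) :=
  MorphismProperty.pullback_fst _ _ inferInstance

instance flat_fst : Flat (pullback.fst q (cplMap R)) :=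
  MorphismProperty.pullback_fst _ _ inferInstance

theorem appLE_top_top {X Z : Scheme.{u}} (f : X ⟶ Z) : f.appLE ⊤ ⊤ le_top = f.appTop := by
  simp only [Scheme.Hom.appLE, TopologicalSpace.Opens.map_top, homOfLE_refl, op_id,
    CategoryTheory.Functor.map_id]
  exact Category.comp_id _

/-- The image in `Γ(Ŷ, π⁻¹U)` of an element of `R`. -/
noncomputable def sectionOf (U : Y.affineOpens) (r : R) :
    Γ(pullback q (cplMap R), pullback.fst q (cplMap R) ⁻¹ᵁ U.1) :=
  ((pullback.fst q (cplMap R)).appLE U.1 _ le_rfl).hom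
    ((q.appLE ⊤ U.1 le_top).hom ((Scheme.ΓSpecIso (CommRingCat.of R)).inv.hom r))

/-- Every section of `Ŷ` over the preimage of an affine open `U` of `Y` is congruent to a section
of `Y` over `U` modulo any power of the uniformizer. -/
theorem exists_eq_add_mul_sections {ϖ : R} (hϖ : Irreducible ϖ) (n : ℕ) (U : Y.affineOpens)
    (x : Γ(pullback q (cplMap R), pullback.fst q (cplMap R) ⁻¹ᵁ U.1)) :
    ∃ (b : Γ(Y, U.1)) (y : Γ(pullback q (cplMap R), pullback.fst q (cplMap R) ⁻¹ᵁ U.1)),
      x = ((pullback.fst q (cplMap R)).appLE U.1 _ le_rfl).hom b + sectionOf q U (ϖ ^ n) * y := by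
  apply exists_eq_add_mul_of_isPushout (isPushout_sections q U)
  intro c
  obtain ⟨a, y, hy⟩ := exists_eq_add_mul_cpl R hϖ n ((Scheme.ΓSpecIso _).hom.hom c)
  refine ⟨(Scheme.ΓSpecIso _).inv.hom a, (Scheme.ΓSpecIso _).inv.hom y, ?_⟩
  have hnat : ∀ r : R, ((cplMap R).appLE ⊤ ⊤ le_top).hom ((Scheme.ΓSpecIso _).inv.hom r) =
      (Scheme.ΓSpecIso _).inv.hom (algebraMap R (AdicCompletion (maximalIdeal R) R) r) := by
    intro r
    rw [appLE_top_top]
    exact (congrArg (fun k => k.hom r) (Scheme.ΓSpecIso_inv_naturality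
      (CommRingCat.ofHom (algebraMap R (AdicCompletion (maximalIdeal R) R))))).symm
  rw [hnat, hnat, ← map_mul, ← map_add, ← hy]
  exact (congrArg (fun k => k.hom c) (Scheme.ΓSpecIso _).hom_inv_id).symm

theorem sectionOf_pow (U : Y.affineOpens) (r : R) (n : ℕ) :
    sectionOf q U (r ^ n) = sectionOf q U r ^ n := by
  simp only [sectionOf, map_pow]

set_option backward.isDefEq.respectTransparency false in
/-- If the support of `I` lies in the closed fibre, a power of the uniformizer lies in `I` over the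
preimage of every affine open of `Y`. -/
theorem exists_pow_mem_ideal {ϖ : R} (hϖ : Irreducible ϖ)
    (I : (pullback q (cplMap R)).IdealSheafData)
    (hI : (I.support : Set ↥(pullback q (cplMap R))) ⊆
      (pullback.fst q (cplMap R) ≫ q).base ⁻¹' {closedPoint R}) (U : Y.affineOpens) :
    ∃ n : ℕ, sectionOf q U (ϖ ^ n) ∈
      I.ideal ⟨pullback.fst q (cplMap R) ⁻¹ᵁ U.1, U.2.preimage _⟩ := by
  have h1 : sectionOf q U ϖ ∈
      (I.ideal ⟨pullback.fst q (cplMap R) ⁻¹ᵁ U.1, U.2.preimage _⟩).radical := by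
    apply mem_radical_of_support
    intro x hxU hxs hxb
    have hc : (pullback.fst q (cplMap R) ≫ q).base x = closedPoint R := hI hxs
    rw [sectionOf, Scheme.basicOpen_appLE, Scheme.basicOpen_appLE] at hxb
    have h2 : q (pullback.fst q (cplMap R) x) ∈
        (Spec (CommRingCat.of R)).basicOpen ((Scheme.ΓSpecIso (CommRingCat.of R)).inv.hom ϖ) :=
      hxb.2.2
    rw [basicOpen_eq_of_affine] at h2
    have h3 : q (pullback.fst q (cplMap R) x) = closedPoint R := hc
    rw [h3] at h2
    exact h2 ((mem_maximalIdeal ϖ).mpr hϖ.not_isUnit)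
  obtain ⟨n, hn⟩ := h1
  exact ⟨n, by rw [sectionOf_pow]; exact hn⟩

set_option backward.isDefEq.respectTransparency false in
/-- Descent of an ideal supported in the closed fibre from `Y ×_R R̂` to `Y`, together with its
blow-ups. -/
theorem exists_descent (I : (pullback q (cplMap R)).IdealSheafData)
    (hI : (I.support : Set ↥(pullback q (cplMap R))) ⊆
      (pullback.fst q (cplMap R) ≫ q).base ⁻¹' {closedPoint R}) :
    ∃ I₀ : Y.IdealSheafData, (I₀.support : Set Y) ⊆ q.base ⁻¹' {closedPoint R} ∧
      I₀.comap (pullback.fst q (cplMap R)) = I ∧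
      ∀ (X : Scheme.{u}) (g : X ⟶ Y), BlowUp.IsBlowUp g I₀ →
        BlowUp.IsBlowUp (pullback.snd g (pullback.fst q (cplMap R))) I := by
  obtain ⟨ϖ, hϖ⟩ := IsDiscreteValuationRing.exists_irreducible R
  have hqc : QuasiCompact (I.subschemeι ≫ pullback.fst q (cplMap R)) := inferInstance
  set I₀ : Y.IdealSheafData := (I.subschemeι ≫ pullback.fst q (cplMap R)).ker with hI₀
  have hcomap : I₀.comap (pullback.fst q (cplMap R)) = I := by
    apply Scheme.IdealSheafData.ext_of_iSup_eq_top
      (fun U : Y.affineOpens => (⟨pullback.fst q (cplMap R) ⁻¹ᵁ U.1,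
        U.2.preimage (pullback.fst q (cplMap R))⟩ : (pullback q (cplMap R)).affineOpens))
    · rw [eq_top_iff]
      intro x _
      obtain ⟨_, ⟨U, hU, rfl⟩, hxU, -⟩ := Y.isBasis_affineOpens.exists_subset_of_mem_open
        (Set.mem_univ (pullback.fst q (cplMap R) x)) isOpen_univ
      exact TopologicalSpace.Opens.mem_iSup.mpr ⟨⟨U, hU⟩, hxU⟩
    · intro U
      rw [Groth.Agent.H19.ComapAff.ideal_comap_appLE (pullback.fst q (cplMap R)) I₀ U
        ⟨pullback.fst q (cplMap R) ⁻¹ᵁ U.1, U.2.preimage _⟩ le_rfl]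
      obtain ⟨n, hn⟩ := exists_pow_mem_ideal q hϖ I hI U
      have hker : I₀.ideal U = (I.ideal ⟨pullback.fst q (cplMap R) ⁻¹ᵁ U.1,
          U.2.preimage _⟩).comap
          ((pullback.fst q (cplMap R)).appLE U.1 (pullback.fst q (cplMap R) ⁻¹ᵁ U.1)
            le_rfl).hom := by
        rw [hI₀, Scheme.Hom.ker_apply, Scheme.Hom.comp_app, CommRingCat.hom_comp,
          ← RingHom.comap_ker,
          Scheme.IdealSheafData.ker_subschemeι_app I ⟨pullback.fst q (cplMap R) ⁻¹ᵁ U.1,
            U.2.preimage _⟩, ← Scheme.Hom.app_eq_appLE]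
      rw [hker]
      exact map_comap_eq_of_dense _ ((q.appLE ⊤ U.1 le_top).hom
        ((Scheme.ΓSpecIso (CommRingCat.of R)).inv.hom (ϖ ^ n))) _ hn
        (exists_eq_add_mul_sections q hϖ n U)
  have hsupp : (I₀.support : Set Y) ⊆ q.base ⁻¹' {closedPoint R} := by
    rw [hI₀, Scheme.Hom.support_ker]
    apply closure_minimal
    · rintro _ ⟨z, rfl⟩
      have hz : I.subschemeι z ∈ (I.support : Set ↥(pullback q (cplMap R))) := by
        rw [← I.range_subschemeι]
        exact ⟨z, rfl⟩
      exact hI hz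
    · exact (isClosed_singleton_closedPoint (R := R)).preimage q.continuous
  refine ⟨I₀, hsupp, hcomap, fun X g hg => ?_⟩
  have h1 := Groth.Agent.S1680.result (pullback.fst q (cplMap R)) I₀ g hg
  rw [hcomap] at h1
  have h2 := Groth.Agent.H8.isBlowUp_iso_comp h1 (pullbackSymmetry g (pullback.fst q (cplMap R)))
  rwa [pullbackSymmetry_hom_comp_fst] at h2

end Geometry

end Groth.Agent.H8.ComplDescend
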