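import Mathlib.RingTheory.Flat.Basic
import Mathlib.RingTheory.Flat.Stability
import Mathlib.Algebra.Module.Projective
import Mathlib.LinearAlgebra.FreeModule.Basic
import Mathlib.LinearAlgebra.Basis.VectorSpace
import Mathlib.RingTheory.Ideal.Quotient.Basic
import Mathlib.RingTheory.Ideal.Maximal
import Mathlib.RingTheory.TensorProduct.Basic

/-!
# A common field extension of two field extensions (helper8)
-/

set_option autoImplicit false
set_option linter.style.haveILetI false

universe u

open TensorProduct

namespace Groth.Agent.H8

/-- Two field extensions of `k` embed compatibly into a common field (in the same universe). -/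
theorem exists_compositum (k K L : Type u) [Field k] [Field K] [Field L] [Algebra k K]
    [Algebra k L] :
    ∃ (Ω : Type u) (_ : Field Ω) (a : K →+* Ω) (b : L →+* Ω),
      a.comp (algebraMap k K) = b.comp (algebraMap k L) := by
  haveI : Nontrivial (K ⊗[k] L) :=
    Algebra.TensorProduct.nontrivial_of_algebraMap_injective_of_flat_left (R := k) K L
      (algebraMap k L).injective
  obtain ⟨m, hm⟩ := Ideal.exists_maximal (K ⊗[k] L)
  letI : Field ((K ⊗[k] L) ⧸ m) := Ideal.Quotient.field m
  refine ⟨(K ⊗[k] L) ⧸ m, inferInstance,
    (Ideal.Quotient.mk m).comp (Algebra.TensorProduct.includeLeft (R := k) (S := k) (A := K) (B := L)).toRingHom,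
    (Ideal.Quotient.mk m).comp (Algebra.TensorProduct.includeRight (R := k) (A := K) (B := L)).toRingHom, ?_⟩
  ext x
  simp only [RingHom.coe_comp, Function.comp_apply, AlgHom.toRingHom_eq_coe, RingHom.coe_coe,
    Algebra.TensorProduct.includeLeft_apply, Algebra.TensorProduct.includeRight_apply]
  congr 1
  rw [Algebra.algebraMap_eq_smul_one, Algebra.algebraMap_eq_smul_one, TensorProduct.smul_tmul]

end Groth.Agent.H8
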