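import Groth.Agent.H8.MeroGen
import Groth.Agent.H8.AffineLocal

/-!
# The ideal of denominators of a meromorphic section of an invertible module (helper8)

* `DenomAt L s W H n`: `H · s = n` over `W`.
* `DChart`: a local presentation `s = μ σ / b` with `σ` a free generator of `L`.
* `DChart.denomAt_iff`: on a chart, `H · s` is a section of `L` iff `b ∣ H μ`.
* `mem_denomIdeal_of_local`: membership in `Mero.denomIdeal` is local.
* `denomIdeal_map_basicOpen`: the ideals of denominators over affine opens are compatible with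
  localization, i.e. form a quasi-coherent ideal sheaf.
* `denomSheaf`, `interior_support_denomSheaf`.
-/

set_option autoImplicit false
universe u
open CategoryTheory CategoryTheory.Limits AlgebraicGeometry TopologicalSpace Opposite

namespace Groth.Agent.H8

open Mero

variable {X : Scheme.{u}}

/-- `n` witnesses that `H · s` is a section of `L` over `W`. -/
def DenomAt (L : X.Modules) (s : Γ(merMod L, ⊤)) (W : X.Opens) (H : Γ(X, W)) (n : Γ(L, W)) : Prop :=
  ∀ z : W, X.presheaf.germ W z.1 z.2 H • s.1 ⟨z.1, Opens.mem_top z.1⟩ =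
    (LocalizedModule.mk (L.presheaf.germ W z.1 z.2 n) 1 : MStalk L z.1)

theorem mem_denomIdeal_iff (L : X.Modules) (s : Γ(merMod L, ⊤)) (W : X.Opens) (H : Γ(X, W)) :
    H ∈ denomIdeal L s W ↔ ∃ n : Γ(L, W), DenomAt L s W H n := Iff.rfl

theorem DenomAt.res {L : X.Modules} {s : Γ(merMod L, ⊤)} {W : X.Opens} {H : Γ(X, W)}
    {n : Γ(L, W)} (h : DenomAt L s W H n) {W' : X.Opens} (hW' : W' ≤ W) :
    DenomAt L s W' (X.presheaf.map (homOfLE hW').op H) (L.presheaf.map (homOfLE hW').op n) := by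
  intro z
  have := h ⟨z.1, hW' z.2⟩
  rw [TopCat.Presheaf.germ_res_apply]
  erw [TopCat.Presheaf.germ_res_apply]
  exact this

/-- A local presentation `s = μ σ / b` of a meromorphic section. -/
structure DChart (L : X.Modules) (s : Γ(merMod L, ⊤)) where
  V : X.Opens
  σ : Γ(L, V)
  hσ : IsFreeGen L V σ
  μ : Γ(X, V)
  b : regSub X V
  eq : ∀ y : V, s.1 ⟨y.1, Opens.mem_top y.1⟩ =
    LocalizedModule.mk (X.presheaf.germ V y.1 y.2 μ • L.presheaf.germ V y.1 y.2 σ) (regGerm y b)

set_option backward.isDefEq.respectTransparency false in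
theorem exists_dchart {L : X.Modules} (hL : PicF.IsInvertible L) (s : Γ(merMod L, ⊤)) (x : X) :
    ∃ c : DChart L s, x ∈ c.V := by
  obtain ⟨V₀, hxV₀, i, m, b, hmb⟩ := s.2 ⟨x, Opens.mem_top x⟩
  obtain ⟨U₁, hxU₁, σ₁, hσ₁⟩ := exists_isFreeGen_of_isInvertible hL x
  let V : X.Opens := V₀ ⊓ U₁
  obtain ⟨μ, hμ⟩ := hσ₁.exists_smul_eq (inf_le_right : V ≤ U₁)
    (L.presheaf.map (homOfLE (inf_le_left : V ≤ V₀)).op m)
  refine ⟨⟨V, L.presheaf.map (homOfLE (inf_le_right : V ≤ U₁)).op σ₁, hσ₁.res _, μ,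
    ⟨X.presheaf.map (homOfLE (inf_le_left : V ≤ V₀)).op b.1, regSub_res _ b.2⟩, fun y => ?_⟩,
    ⟨hxV₀, hxU₁⟩⟩
  have h1 := hmb ⟨y.1, y.2.1⟩
  dsimp only at h1
  refine h1.trans (mk_congr ?_ ?_)
  · rw [← Mero.germ_smul, hμ]
    erw [TopCat.Presheaf.germ_res_apply]
  · exact (TopCat.Presheaf.germ_res_apply X.presheaf (homOfLE (inf_le_left : V ≤ V₀)) y.1 y.2 b.1).symm

set_option backward.isDefEq.respectTransparency false in
/-- On a chart, `g · s` is a section of `L` over `V'` iff `b ∣ g μ` in `Γ(X, V')`. -/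
theorem DChart.denomAt_iff {L : X.Modules} {s : Γ(merMod L, ⊤)} (c : DChart L s) {V' : X.Opens}
    (hV' : V' ≤ c.V) (g : Γ(X, V')) :
    (∃ n : Γ(L, V'), DenomAt L s V' g n) ↔
      ∃ ν : Γ(X, V'), g * X.presheaf.map (homOfLE hV').op c.μ =
        X.presheaf.map (homOfLE hV').op c.b.1 * ν := by
  constructor
  · rintro ⟨n, hn⟩
    obtain ⟨ν, hν⟩ := c.hσ.exists_smul_eq hV' n
    refine ⟨ν, ?_⟩
    apply TopCat.Presheaf.section_ext X.sheaf
    intro z hz
    change X.presheaf.germ V' z hz _ = X.presheaf.germ V' z hz _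
    rw [map_mul, map_mul, TopCat.Presheaf.germ_res_apply, TopCat.Presheaf.germ_res_apply]
    have h1 := hn ⟨z, hz⟩
    rw [c.eq ⟨z, hV' hz⟩, LocalizedModule.smul'_mk, ← hν, Mero.germ_smul] at h1
    erw [TopCat.Presheaf.germ_res_apply] at h1
    obtain ⟨u, hu⟩ := LocalizedModule.mk_eq.mp h1
    simp only [Submonoid.smul_def, one_smul, smul_smul] at hu
    have h2 : ((u : X.presheaf.stalk z) * (X.presheaf.germ V' z hz g * X.presheaf.germ c.V z (hV' hz) c.μ -
        X.presheaf.germ c.V z (hV' hz) c.b.1 * X.presheaf.germ V' z hz ν)) •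
        L.presheaf.germ c.V z (hV' hz) c.σ = 0 := by
      rw [mul_sub, sub_smul, sub_eq_zero]
      exact hu
    have h3 := c.hσ.germ_eq_zero_of_smul_eq_zero (hV' hz) _ h2
    have h4 := (mem_nonZeroDivisors_iff_left.mp (regStalk_le_nonZeroDivisors z u.2)) _ h3
    exact sub_eq_zero.mp h4
  · rintro ⟨ν, hν⟩
    refine ⟨ν • L.presheaf.map (homOfLE hV').op c.σ, fun z => ?_⟩
    rw [c.eq ⟨z.1, hV' z.2⟩, LocalizedModule.smul'_mk, Mero.germ_smul]
    erw [TopCat.Presheaf.germ_res_apply]
    rw [LocalizedModule.mk_eq]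
    refine ⟨1, ?_⟩
    simp only [Submonoid.smul_def, one_smul, smul_smul]
    have h1 := congrArg (X.presheaf.germ V' z.1 z.2) hν
    rw [map_mul, map_mul, TopCat.Presheaf.germ_res_apply, TopCat.Presheaf.germ_res_apply] at h1
    change (X.presheaf.germ V' z.1 z.2 g * X.presheaf.germ c.V z.1 (hV' z.2) c.μ) • _ =
      (X.presheaf.germ c.V z.1 (hV' z.2) c.b.1 * X.presheaf.germ V' z.1 z.2 ν) • _
    rw [h1]

set_option backward.isDefEq.respectTransparency false in
/-- For an invertible module the stalk injects into its localization `S_x⁻¹ L_x`. -/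
theorem mstalk_mk_one_injective {L : X.Modules} (hL : PicF.IsInvertible L) (z : X)
    (m m' : L.presheaf.stalk z)
    (h : (LocalizedModule.mk m 1 : MStalk L z) = LocalizedModule.mk m' 1) : m = m' := by
  obtain ⟨U, hzU, σ, hσ⟩ := exists_isFreeGen_of_isInvertible hL z
  obtain ⟨r, hr⟩ := (hσ.germ_bijective hzU).2 (m - m')
  obtain ⟨u, hu⟩ := LocalizedModule.mk_eq.mp h
  simp only [Submonoid.smul_def, one_smul] at hu
  have h1 : ((u : X.presheaf.stalk z) * r) • L.presheaf.germ U z hzU σ = 0 := by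
    rw [mul_smul]
    change (u : X.presheaf.stalk z) • (r • L.presheaf.germ U z hzU σ) = 0
    have hr' : r • L.presheaf.germ U z hzU σ = m - m' := hr
    rw [hr', smul_sub, sub_eq_zero]
    exact hu
  have h2 := hσ.germ_eq_zero_of_smul_eq_zero hzU _ h1
  have h3 : r = 0 := (mem_nonZeroDivisors_iff_left.mp (regStalk_le_nonZeroDivisors z u.2)) r h2
  have hr' : r • L.presheaf.germ U z hzU σ = m - m' := hr
  rw [h3, zero_smul] at hr'
  exact sub_eq_zero.mp hr'.symm

set_option backward.isDefEq.respectTransparency false in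
/-- Membership in the ideal of denominators is a local condition. -/
theorem mem_denomIdeal_of_local {L : X.Modules} (hL : PicF.IsInvertible L) (s : Γ(merMod L, ⊤))
    (U : X.Opens) (H : Γ(X, U))
    (hloc : ∀ y : U, ∃ (W : X.Opens) (hWU : W ≤ U) (_ : y.1 ∈ W) (n : Γ(L, W)),
      DenomAt L s W (X.presheaf.map (homOfLE hWU).op H) n) : H ∈ denomIdeal L s U := by
  choose W hWU hyW n hn using hloc
  let F : TopCat.Sheaf Ab.{u} X.carrier := ⟨L.presheaf, L.isSheaf⟩
  have hcomp : TopCat.Presheaf.IsCompatible F.1 W n := by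
    intro i j
    apply TopCat.Presheaf.section_ext F
    intro z hz
    apply mstalk_mk_one_injective hL z
    have h1 := hn i ⟨z, hz.1⟩
    have h2 := hn j ⟨z, hz.2⟩
    rw [TopCat.Presheaf.germ_res_apply] at h1 h2
    have e1 : L.presheaf.germ (W i ⊓ W j) z hz
        (L.presheaf.map (Opens.infLELeft (W i) (W j)).op (n i)) =
        L.presheaf.germ (W i) z hz.1 (n i) :=
      TopCat.Presheaf.germ_res_apply L.presheaf (Opens.infLELeft (W i) (W j)) z hz (n i)
    have e2 : L.presheaf.germ (W i ⊓ W j) z hz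
        (L.presheaf.map (Opens.infLERight (W i) (W j)).op (n j)) =
        L.presheaf.germ (W j) z hz.2 (n j) :=
      TopCat.Presheaf.germ_res_apply L.presheaf (Opens.infLERight (W i) (W j)) z hz (n j)
    change (LocalizedModule.mk (L.presheaf.germ (W i ⊓ W j) z hz
        (L.presheaf.map (Opens.infLELeft (W i) (W j)).op (n i))) 1 : MStalk L z) =
      LocalizedModule.mk (L.presheaf.germ (W i ⊓ W j) z hz
        (L.presheaf.map (Opens.infLERight (W i) (W j)).op (n j))) 1
    rw [e1, e2, ← h1, ← h2]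
  obtain ⟨m, hm, -⟩ := F.existsUnique_gluing' W U (fun i => homOfLE (hWU i))
    (fun z hz => Opens.mem_iSup.mpr ⟨⟨z, hz⟩, hyW _⟩) n hcomp
  refine ⟨m, fun z => ?_⟩
  have h1 := hn z ⟨z.1, hyW z⟩
  rw [TopCat.Presheaf.germ_res_apply] at h1
  rw [h1]
  change _ = LocalizedModule.mk _ 1
  refine mk_congr ?_ rfl
  have h2 : L.presheaf.map (homOfLE (hWU z)).op m = n z := hm z
  rw [← h2]
  exact (TopCat.Presheaf.germ_res_apply L.presheaf (homOfLE (hWU z)) z.1 (hyW z) m)

lemma sec_res_res {U V W : X.Opens} (h1 : V ≤ U) (h2 : W ≤ V) (a : Γ(X, U)) :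
    X.presheaf.map (homOfLE h2).op (X.presheaf.map (homOfLE h1).op a) =
      X.presheaf.map (homOfLE (h2.trans h1)).op a := by
  rw [← ConcreteCategory.comp_apply, ← X.presheaf.map_comp]
  rfl

set_option backward.isDefEq.respectTransparency false in
/-- Key step for quasi-coherence: if `a|_{D(f)}` is a denominator of `s` over `D(f)`, then
`f ^ N * a` is a denominator of `s` over the affine open `U`. -/
theorem exists_pow_mul_mem_denomIdeal {L : X.Modules} (hL : PicF.IsInvertible L)
    (s : Γ(merMod L, ⊤)) {U : X.Opens} (hU : IsAffineOpen U) (f a : Γ(X, U))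
    (ha : X.presheaf.map (homOfLE (X.basicOpen_le f)).op a ∈ denomIdeal L s (X.basicOpen f)) :
    ∃ N : ℕ, f ^ N * a ∈ denomIdeal L s U := by
  let Q : ℕ → X → Prop := fun N y => ∃ (W : X.Opens) (hWU : W ≤ U) (_ : y ∈ W) (n : Γ(L, W)),
      DenomAt L s W (X.presheaf.map (homOfLE hWU).op (f ^ N * a)) n
  have hmono : ∀ N k y, Q N y → Q (N + k) y := by
    rintro N k y ⟨W, hWU, hyW, n, hn⟩
    refine ⟨W, hWU, hyW, X.presheaf.map (homOfLE hWU).op (f ^ k) • n, fun z => ?_⟩
    have h1 := hn z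
    rw [Mero.germ_smul, ← LocalizedModule.smul'_mk, ← h1, ← mul_smul, ← map_mul, ← map_mul]
    congr 3
    ring
  let p : Set X → Prop := fun S => ∃ N : ℕ, ∀ y ∈ S, y ∈ U → Q N y
  have hp : p (U : Set X) := by
    refine hU.isCompact.induction_on (p := p) ⟨0, fun y hy => hy.elim⟩ ?_ ?_ ?_
    · rintro S T hST ⟨N, hN⟩
      exact ⟨N, fun y hy => hN y (hST hy)⟩
    · rintro S T ⟨N, hN⟩ ⟨M, hM⟩
      refine ⟨N + M, fun y hy hyU => ?_⟩
      rcases hy with hy | hy
      · exact hmono N M y (hN y hy hyU)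
      · rw [add_comm]
        exact hmono M N y (hM y hy hyU)
    · intro x hx
      obtain ⟨c, hxc⟩ := exists_dchart hL s x
      obtain ⟨h, hhV, hxh⟩ := hU.exists_basicOpen_le (V := c.V) ⟨x, hxc⟩ hx
      have hW : IsAffineOpen (X.basicOpen h) := hU.basicOpen h
      have hWU : X.basicOpen h ≤ U := X.basicOpen_le h
      set W : X.Opens := X.basicOpen h with hWdef
      obtain ⟨f', hf'⟩ : ∃ f' : Γ(X, W), f' = X.presheaf.map (homOfLE hWU).op f := ⟨_, rfl⟩
      obtain ⟨a', ha'⟩ : ∃ a' : Γ(X, W), a' = X.presheaf.map (homOfLE hWU).op a := ⟨_, rfl⟩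
      have hWfW : X.basicOpen f' ≤ W := X.basicOpen_le f'
      have hWfDf : X.basicOpen f' ≤ X.basicOpen f := by
        have : X.basicOpen f' = W ⊓ X.basicOpen f := by
          rw [hf']
          exact X.basicOpen_res f (homOfLE hWU).op
        rw [this]
        exact inf_le_right
      obtain ⟨n₀, hn₀⟩ := (mem_denomIdeal_iff L s _ _).mp ha
      have h1 := hn₀.res hWfDf
      have ega : X.presheaf.map (homOfLE hWfDf).op
          (X.presheaf.map (homOfLE (X.basicOpen_le f)).op a) =
          X.presheaf.map (homOfLE hWfW).op a' := by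
        rw [ha', sec_res_res, sec_res_res]
      rw [ega] at h1
      have hWfV : X.basicOpen f' ≤ c.V := hWfW.trans hhV
      obtain ⟨ν, hν⟩ := (c.denomAt_iff hWfV _).mp ⟨_, h1⟩
      obtain ⟨j, ν', hν'⟩ := exists_eq_pow_mul_of_isAffineOpen X W hW f' ν
      dsimp only [TopCat.Presheaf.restrictOpenCommRingCat_apply] at hν'
      obtain ⟨μW, hμW⟩ : ∃ μW : Γ(X, W), μW = X.presheaf.map (homOfLE hhV).op c.μ := ⟨_, rfl⟩
      obtain ⟨bW, hbW⟩ : ∃ bW : Γ(X, W), bW = X.presheaf.map (homOfLE hhV).op c.b.1 := ⟨_, rfl⟩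
      have rμ : X.presheaf.map (homOfLE hWfW).op μW = X.presheaf.map (homOfLE hWfV).op c.μ := by
        rw [hμW, sec_res_res]
      have rb : X.presheaf.map (homOfLE hWfW).op bW = X.presheaf.map (homOfLE hWfV).op c.b.1 := by
        rw [hbW, sec_res_res]
      have hE : X.presheaf.map (homOfLE hWfW).op (f' ^ j * a' * μW - bW * ν') = 0 := by
        rw [map_sub, map_mul, map_mul, map_mul, map_pow, rμ, rb]
        have e1 : X.presheaf.map (homOfLE hWfW).op ν' =
            X.presheaf.map (homOfLE hWfW).op f' ^ j * ν := hν'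
        rw [e1]
        linear_combination (X.presheaf.map (homOfLE hWfW).op f') ^ j * hν
      obtain ⟨N, hN⟩ :=
        exists_pow_mul_eq_zero_of_res_basicOpen_eq_zero_of_isAffineOpen X hW _ f' hE
      have hcrit : ∃ n : Γ(L, W),
          DenomAt L s W (X.presheaf.map (homOfLE hWU).op (f ^ (N + j) * a)) n := by
        apply (c.denomAt_iff hhV _).mpr
        refine ⟨f' ^ N * ν', ?_⟩
        rw [map_mul, map_pow, ← hf', ← ha', ← hμW, ← hbW]
        linear_combination hN
      obtain ⟨n, hn⟩ := hcrit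
      exact ⟨W, mem_nhdsWithin_of_mem_nhds (W.2.mem_nhds hxh), N + j,
        fun y hy _ => ⟨W, hWU, hy, n, hn⟩⟩
  obtain ⟨N, hN⟩ := hp
  exact ⟨N, mem_denomIdeal_of_local hL s U _ (fun y => hN y.1 y.2 y.2)⟩

set_option backward.isDefEq.respectTransparency false in
/-- The ideals of denominators are compatible with localization. -/
theorem denomIdeal_map_basicOpen {L : X.Modules} (hL : PicF.IsInvertible L)
    (s : Γ(merMod L, ⊤)) (U : X.affineOpens) (f : Γ(X, U.1)) :
    (denomIdeal L s U.1).map (X.presheaf.map (homOfLE (X.basicOpen_le f)).op).hom =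
      denomIdeal L s (X.basicOpen f) := by
  apply le_antisymm
  · rw [Ideal.map_le_iff_le_comap]
    intro a ha
    rw [Ideal.mem_comap]
    obtain ⟨n, hn⟩ := (mem_denomIdeal_iff L s _ _).mp ha
    exact (mem_denomIdeal_iff L s _ _).mpr ⟨_, hn.res (X.basicOpen_le f)⟩
  · intro g hg
    have hloc : IsLocalization.Away f Γ(X, X.basicOpen f) := U.2.isLocalization_basicOpen f
    obtain ⟨k, a, hka⟩ := exists_eq_pow_mul_of_isAffineOpen X U.1 U.2 f g
    dsimp only [TopCat.Presheaf.restrictOpenCommRingCat_apply] at hka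
    have ha : X.presheaf.map (homOfLE (X.basicOpen_le f)).op a ∈ denomIdeal L s (X.basicOpen f) := by
      rw [hka]
      exact Ideal.mul_mem_left _ _ hg
    obtain ⟨N, hN⟩ := exists_pow_mul_mem_denomIdeal hL s U.2 f a ha
    have hunit : IsUnit (X.presheaf.map (homOfLE (X.basicOpen_le f)).op f) :=
      IsLocalization.Away.algebraMap_isUnit (S := Γ(X, X.basicOpen f)) f
    have h1 : X.presheaf.map (homOfLE (X.basicOpen_le f)).op (f ^ N * a) ∈
        (denomIdeal L s U.1).map (X.presheaf.map (homOfLE (X.basicOpen_le f)).op).hom :=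
      Ideal.mem_map_of_mem _ hN
    rw [map_mul, map_pow, hka, ← mul_assoc, ← pow_add] at h1
    have hunit' : IsUnit (X.presheaf.map (homOfLE (X.basicOpen_le f)).op f ^ (N + k)) :=
      hunit.pow _
    obtain ⟨v, hv⟩ := hunit'
    have h2 : g = (v⁻¹ : (Γ(X, X.basicOpen f))ˣ) *
        (X.presheaf.map (homOfLE (X.basicOpen_le f)).op f ^ (N + k) * g) := by
      rw [← hv, ← mul_assoc, Units.inv_mul, one_mul]
    rw [h2]
    exact Ideal.mul_mem_left _ _ h1

set_option backward.isDefEq.respectTransparency false in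
/-- The quasi-coherent ideal sheaf of denominators of a meromorphic section of an invertible
module. -/
noncomputable def denomSheaf {L : X.Modules} (hL : PicF.IsInvertible L) (s : Γ(merMod L, ⊤)) :
    X.IdealSheafData where
  ideal U := denomIdeal L s U.1
  map_ideal_basicOpen U f := denomIdeal_map_basicOpen hL s U f

theorem denomSheaf_ideal {L : X.Modules} (hL : PicF.IsInvertible L) (s : Γ(merMod L, ⊤))
    (U : X.affineOpens) : (denomSheaf hL s).ideal U = denomIdeal L s U.1 := rfl

set_option backward.isDefEq.respectTransparency false in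
/-- The closed subset cut out by the ideal of denominators is nowhere dense. -/
theorem interior_support_denomSheaf {L : X.Modules} (hL : PicF.IsInvertible L)
    (s : Γ(merMod L, ⊤)) : interior ((denomSheaf hL s).support : Set X) = ∅ := by
  rw [Set.eq_empty_iff_forall_notMem]
  intro x hx
  rw [mem_interior] at hx
  obtain ⟨T, hTsub, hTopen, hxT⟩ := hx
  obtain ⟨c, hxc⟩ := exists_dchart hL s x
  obtain ⟨_, ⟨W, hW, rfl⟩, hxW, hWsub⟩ := X.isBasis_affineOpens.exists_subset_of_mem_open
    (show x ∈ T ∩ (c.V : Set X) from ⟨hxT, hxc⟩) (hTopen.inter c.V.2)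
  have hW : IsAffineOpen W := hW
  have hWV : W ≤ c.V := fun y hy => (hWsub hy).2
  obtain ⟨b', hb'def⟩ : ∃ b' : Γ(X, W), b' = X.presheaf.map (homOfLE hWV).op c.b.1 := ⟨_, rfl⟩
  have hb' : b' ∈ denomIdeal L s W := by
    rw [mem_denomIdeal_iff]
    apply (c.denomAt_iff hWV _).mpr
    exact ⟨X.presheaf.map (homOfLE hWV).op c.μ, by rw [hb'def]⟩
  have hnil : IsNilpotent b' := by
    rw [nilpotent_iff_mem_prime]
    intro J hJ
    let P : PrimeSpectrum Γ(X, W) := ⟨J, hJ⟩
    have hy : hW.fromSpec P ∈ W := fromSpec_mem hW P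
    have hsup : hW.fromSpec P ∈ (denomSheaf hL s).support := hTsub (hWsub hy).1
    have h1 := (mem_support_iff_le_primeIdealOf (denomSheaf hL s) hW _ hy).mp hsup
    rw [primeIdealOf_fromSpec] at h1
    exact h1 hb'
  obtain ⟨n, hn⟩ := hnil
  have hreg : b' ∈ regSub X W := by
    rw [hb'def]
    exact regSub_res _ c.b.2
  have hgerm := hreg ⟨x, hxW⟩
  have h0 : X.presheaf.germ W x hxW b' ^ n = 0 := by rw [← map_pow, hn, map_zero]
  have h1 : (0 : X.presheaf.stalk x) ∈ nonZeroDivisors (X.presheaf.stalk x) := by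
    rw [← h0]
    exact pow_mem hgerm n
  exact zero_notMem_nonZeroDivisors h1

end Groth.Agent.H8
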