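import Mathlib.AlgebraicGeometry.Morphisms.FlatDescent
import Mathlib.AlgebraicGeometry.Morphisms.LocalFlatDescent
import Mathlib.AlgebraicGeometry.Morphisms.Proper
import Mathlib.AlgebraicGeometry.Morphisms.Immersion

set_option autoImplicit false
universe u

namespace Groth.Agent.H8

open AlgebraicGeometry CategoryTheory Limits MorphismProperty

/-- The morphisms of schemes with closed range. -/
def closedRange : MorphismProperty Scheme.{u} := fun _ _ g => IsClosed (Set.range g)

instance closedRange_respectsIso : (closedRange.{u}).RespectsIso := by
  apply MorphismProperty.RespectsIso.mk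
  · intro X Y Z e f hf
    change IsClosed (Set.range (e.hom ≫ f))
    have : Set.range (e.hom ≫ f) = Set.range f := by
      rw [Scheme.Hom.comp_base, TopCat.coe_comp, Set.range_comp,
        Set.range_eq_univ.mpr e.hom.surjective, Set.image_univ]
    rw [this]; exact hf
  · intro X Y Z e f hf
    change IsClosed (Set.range (f ≫ e.hom))
    have : Set.range (f ≫ e.hom) = e.hom '' Set.range f := by
      rw [Scheme.Hom.comp_base, TopCat.coe_comp, Set.range_comp]
    rw [this]
    exact e.hom.homeomorph.isClosedMap _ hf

/-- Having closed range descends along surjective flat quasi-compact morphisms. -/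
instance closedRange_descendsAlong :
    (closedRange.{u}).DescendsAlong (@Surjective ⊓ @Flat ⊓ @QuasiCompact) where
  of_isPullback {A X Y Z fst snd f g} h hf hfst := by
    obtain ⟨⟨h1, h2⟩, h3⟩ := hf
    have hq := Flat.isQuotientMap_of_surjective f
    change IsClosed (Set.range g)
    rw [← hq.isClosed_preimage]
    have : f ⁻¹' Set.range g = Set.range fst := by
      have := Scheme.image_preimage_eq_of_isPullback h.flip Set.univ
      simpa [Set.image_univ] using this.symm
    rw [this]
    exact hfst

set_option backward.isDefEq.respectTransparency.types false in
/-- Separatedness descends along surjective flat quasi-compact morphisms. -/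
instance isSeparated_descendsAlong :
    MorphismProperty.DescendsAlong (@IsSeparated) (@Surjective ⊓ @Flat ⊓ @QuasiCompact) where
  of_isPullback {A X Y Z fst snd f g} h hf hfst := by
    have h1 : (MorphismProperty.diagonal closedRange) fst :=
      (IsClosedImmersion.iff_isPreimmersion.mp (hfst.isClosedImmersion_diagonal)).2
    have h2 : (MorphismProperty.diagonal closedRange) g :=
      MorphismProperty.of_isPullback_of_descendsAlong h hf h1
    exact ⟨IsClosedImmersion.of_isPreimmersion _ h2⟩

end Groth.Agent.H8
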