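import Groth.Agent.H8.DimOneAffine
import Groth.Agent.H31.RpushToAb2
import Groth.Agent.S0028

/-!
# Quasi-compact open immersions into schemes with Noetherian local rings of dimension `≤ 1` are affine
(helper8)
-/

set_option autoImplicit false
universe u
open CategoryTheory CategoryTheory.Limits AlgebraicGeometry TopologicalSpace Opposite

namespace Groth.Agent.H8

set_option backward.isDefEq.respectTransparency false in
theorem isAffineOpen_preimage_ι_of_dim_le_one (X : Scheme.{u})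
    (hX : ∀ x : X, IsNoetherianRing (X.presheaf.stalk x) ∧ ringKrullDim (X.presheaf.stalk x) ≤ 1)
    (U : X.Opens) [QuasiCompact U.ι] (V : X.Opens) (hV : IsAffineOpen V) :
    IsAffineOpen (U.ι ⁻¹ᵁ V) := by
  have himg : U.ι ''ᵁ (U.ι ⁻¹ᵁ V) = U ⊓ V := by
    rw [Scheme.Hom.image_preimage_eq_opensRange_inf, Scheme.Opens.opensRange_ι]
  have himg' : V.ι ''ᵁ (V.ι ⁻¹ᵁ U) = V ⊓ U := by
    rw [Scheme.Hom.image_preimage_eq_opensRange_inf, Scheme.Opens.opensRange_ι]
  rw [← U.ι.isAffineOpen_iff_of_isOpenImmersion, himg, inf_comm, ← himg']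
  haveI : IsAffine V.toScheme := hV
  have hstalk : ∀ v : V.toScheme, IsNoetherianRing (V.toScheme.presheaf.stalk v) ∧
      ringKrullDim (V.toScheme.presheaf.stalk v) ≤ 1 := by
    intro v
    let e : X.presheaf.stalk (V.ι v) ≃+* V.toScheme.presheaf.stalk v :=
      (asIso (V.ι.stalkMap v)).commRingCatIsoToRingEquiv
    haveI := (hX (V.ι v)).1
    exact ⟨isNoetherianRing_of_ringEquiv _ e, (ringKrullDim_eq_of_ringEquiv e) ▸ (hX (V.ι v)).2⟩
  have hcomp : IsCompact ((V.ι ⁻¹ᵁ U : V.toScheme.Opens) : Set V.toScheme) := by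
    have h1 : IsCompact ((U.ι ⁻¹ᵁ V : U.toScheme.Opens) : Set U.toScheme) :=
      QuasiCompact.isCompact_preimage (f := U.ι) _ V.isOpen hV.isCompact
    have h2 : IsCompact ((U ⊓ V : X.Opens) : Set X) := by
      have := h1.image U.ι.continuous
      rw [← himg]
      exact this
    have h3 : ((V.ι ⁻¹ᵁ U : V.toScheme.Opens) : Set V.toScheme) =
        V.ι ⁻¹' ((U ⊓ V : X.Opens) : Set X) := by
      ext v
      simp only [Opens.map_coe, Set.mem_preimage, SetLike.mem_coe, Opens.coe_inf, Set.mem_inter_iff]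
      exact ⟨fun h => ⟨h, v.2⟩, fun h => h.1⟩
    rw [h3]
    refine (V.ι.isOpenEmbedding.isInducing.isCompact_preimage_iff ?_).mpr h2
    rw [Scheme.Opens.range_ι]
    exact inf_le_right
  exact (isAffineOpen_of_isCompact_of_dim_le_one V.toScheme hstalk _ hcomp).image_of_isOpenImmersion
    V.ι

theorem isAffineHom_ι_of_dim_le_one (X : Scheme.{u})
    (hX : ∀ x : X, IsNoetherianRing (X.presheaf.stalk x) ∧ ringKrullDim (X.presheaf.stalk x) ≤ 1)
    (U : X.Opens) [QuasiCompact U.ι] : IsAffineHom U.ι := by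
  apply isAffineHom_of_forall_exists_isAffineOpen
  intro x
  obtain ⟨_, ⟨V, hV, rfl⟩, hxV, -⟩ :=
    X.isBasis_affineOpens.exists_subset_of_mem_open (Set.mem_univ x) isOpen_univ
  exact ⟨V, hxV, hV, isAffineOpen_preimage_ι_of_dim_le_one X hX U V hV⟩

/-- **S1663**. -/
theorem isZero_Rpush_ι_of_dim_le_one (X : Scheme.{u})
    (hX : ∀ x : X, IsNoetherianRing (X.presheaf.stalk x) ∧ ringKrullDim (X.presheaf.stalk x) ≤ 1)
    (U : X.Opens) [QuasiCompact U.ι] [HasInjectiveResolutions (U : Scheme.{u}).Modules]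
    (F : (U : Scheme.{u}).Modules) (hF : Coh.IsQCoh F) (p : ℕ) (hp : 0 < p) :
    IsZero ((Coh.Rpush U.ι p).obj F) := by
  haveI := isAffineHom_ι_of_dim_le_one X hX U
  haveI : Coh.IsQCoh F := hF
  obtain ⟨e⟩ := Groth.Agent.H31.RpushToAb.nonempty_iso U.ι F p
  apply Groth.Agent.H31.RpushToAb2.isZero_of_isZero_toAb
  exact (Groth.Agent.S0028.result U.ι F p hp).of_iso e

end Groth.Agent.H8
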