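import Mathlib

/-!
# Vanishing on generic fibres (helper8)

For a flat module `M` over a reduced Noetherian ring `R`, an element of `M` vanishing in
`M ⊗ K_p` for a field-like `R`-algebra `K_p` with kernel in `p`, for each minimal prime `p`, is zero.
-/

set_option autoImplicit false
universe u

open TensorProduct

namespace Groth.Agent.H8

theorem eq_zero_of_forall_tmul_eq_zero {R : Type u} [CommRing R] [IsReduced R] [IsNoetherianRing R]
    {M : Type u} [AddCommGroup M] [Module R M] [Module.Flat R M]
    (K : minimalPrimes R → Type u) [∀ p, CommRing (K p)] [∀ p, Algebra R (K p)]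
    (hker : ∀ p, RingHom.ker (algebraMap R (K p)) ≤ p.1)
    (x : M) (hx : ∀ p, x ⊗ₜ[R] (1 : K p) = 0) : x = 0 := by
  classical
  have hfin : Finite (minimalPrimes R) := (minimalPrimes.finite_of_isNoetherianRing R).to_subtype
  have := Fintype.ofFinite (minimalPrimes R)
  let ψ : R →ₗ[R] (Π p, K p) := LinearMap.pi (fun p => Algebra.linearMap R (K p))
  have hψ : Function.Injective ψ := by
    rw [injective_iff_map_eq_zero]
    intro r hr
    have hr' : ∀ p : minimalPrimes R, r ∈ p.1 := by
      intro p
      apply hker p
      rw [RingHom.mem_ker]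
      exact congrFun hr p
    have : r ∈ nilradical R := by
      rw [nilradical_eq_sInf, Ideal.mem_sInf]
      intro q hq
      have hq' : q.IsPrime := hq
      obtain ⟨p, hp, hpq⟩ := Ideal.exists_minimalPrimes_le (I := ⊥) (J := q) bot_le
      exact hpq (hr' ⟨p, hp⟩)
    exact IsReduced.eq_zero _ this
  have h2 := Module.Flat.lTensor_preserves_injective_linearMap (M := M) ψ hψ
  have h3 : (ψ.lTensor M) (x ⊗ₜ 1) = 0 := by
    apply (TensorProduct.piRight R R M K).injective
    rw [LinearMap.lTensor_tmul, map_zero]
    ext p
    rw [TensorProduct.piRight_apply, TensorProduct.piRightHom_tmul]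
    simp only [ψ, LinearMap.pi_apply, Algebra.linearMap_apply, map_one, Pi.zero_apply]
    exact hx p
  have h4 : x ⊗ₜ[R] (1 : R) = 0 := h2 (by rw [h3, map_zero])
  have h5 := congrArg (TensorProduct.rid R M) h4
  simpa using h5

end Groth.Agent.H8
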