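import Mathlib

/-!
# Divisibility in normal domains via valuation rings (helper8)

* `dvd_of_span_map_eq`: in a valuation ring `V`, if after an injective local homomorphism
  `ι : V → V'` into a domain the ideals `(ι d)` and `(ι e)` agree, then `e ∣ d`.
* `dvd_of_forall_valuationSubring`: in an integrally closed domain `A`, `e ∣ d` as soon as this holds
  in every valuation subring of the fraction field containing `A`.
-/

set_option autoImplicit false
universe u

namespace Groth.Agent.H8

theorem dvd_of_span_map_eq {V V' : Type*} [CommRing V] [IsDomain V] [ValuationRing V]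
    [CommRing V'] [IsDomain V'] (ι : V →+* V') (hinj : Function.Injective ι) [IsLocalHom ι]
    (d e : V) (h : Ideal.span {ι d} = Ideal.span {ι e}) : e ∣ d := by
  rcases ValuationRing.dvd_total e d with hed | ⟨c, hc⟩
  · exact hed
  · -- `e = d * c`
    by_cases hd : d = 0
    · rw [hd]; exact dvd_zero e
    have hd' : ι d ≠ 0 := fun h0 => hd (hinj (by rw [h0, map_zero]))
    have h1 : ι d ∈ Ideal.span {ι e} := by rw [← h]; exact Ideal.mem_span_singleton_self _
    obtain ⟨u, hu⟩ := Ideal.mem_span_singleton'.mp h1
    rw [hc, map_mul] at hu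
    have h2 : ι d * (u * ι c) = ι d * 1 := by
      rw [mul_one]
      calc ι d * (u * ι c) = u * (ι d * ι c) := by ring
        _ = ι d := hu
    have h3 : u * ι c = 1 := mul_left_cancel₀ hd' h2
    have h4 : IsUnit (ι c) := IsUnit.of_mul_eq_one _ (by rw [mul_comm]; exact h3)
    have h5 : IsUnit c := IsUnit.of_map ι c h4
    obtain ⟨v, rfl⟩ := h5
    refine ⟨(v⁻¹ : Vˣ), ?_⟩
    rw [hc, mul_assoc, Units.mul_inv, mul_one]

theorem dvd_of_forall_valuationSubring {A : Type*} [CommRing A] [IsDomain A]
    [IsIntegrallyClosed A] (K : Type*) [Field K] [Algebra A K] [IsFractionRing A K] (d e : A)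
    (he : e ≠ 0)
    (h : ∀ V : ValuationSubring K, (∀ a : A, algebraMap A K a ∈ V) →
      ∃ v ∈ V, algebraMap A K d = algebraMap A K e * v) : e ∣ d := by
  let R : Subring K := (algebraMap A K).range
  have hR : IsIntegrallyClosedIn R K := by
    rw [Subring.isIntegrallyClosedIn_iff]
    intro x hx
    have h1 : IsIntegral A x := by
      obtain ⟨p, hp, hpx⟩ := hx
      -- lift the polynomial to `A`
      have hsurj : Function.Surjective (algebraMap A K).rangeRestrict :=
        (algebraMap A K).rangeRestrict_surjective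
      obtain ⟨p', hp', hmonic⟩ := Polynomial.lifts_and_natDegree_eq_and_monic
        ((Polynomial.lifts_iff_coeff_lifts p).mpr fun n => by
          obtain ⟨a, ha⟩ := hsurj (p.coeff n)
          exact ⟨a, ha⟩) hp
      refine ⟨p', hmonic.2, ?_⟩
      rw [← hpx, ← hp', Polynomial.eval₂_map]
      rfl
    obtain ⟨a, ha⟩ := IsIntegrallyClosed.isIntegral_iff.mp h1
    exact ⟨a, ha⟩
  have he' : algebraMap A K e ≠ 0 := fun h0 =>
    he (IsFractionRing.injective A K (by rw [h0, map_zero]))
  set q : K := algebraMap A K d / algebraMap A K e with hq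
  by_cases hqR : q ∈ R
  · obtain ⟨a, ha⟩ := hqR
    refine ⟨a, IsFractionRing.injective A K ?_⟩
    rw [map_mul, ha, hq, mul_div_cancel₀ _ he']
  · exfalso
    obtain ⟨V, hV, hqV⟩ := Subring.exists_le_valuationSubring_of_isIntegrallyClosedIn hqR
    obtain ⟨v, hv, hdv⟩ := h V (fun a => hV ⟨a, rfl⟩)
    apply hqV
    have : q = v := by rw [hq, hdv, mul_div_cancel_left₀ _ he']
    rw [this]
    exact hv

end Groth.Agent.H8
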