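import Mathlib
import Groth.Agent.H19.ComapAff
import Groth.Agent.H8.ValDivide
import Groth.Agent.H8.AffineLocal
import Groth.Agent.H20.CartierDiff

/-!
# Divisors on a normal base are detected after a proper surjective pull-back (helper8)

Let `f : S' ⟶ S` be proper and surjective, `S` normal.  If the ideal sheaves `D`, `E` of `S` are
principal on an affine open `W`, generated by `d` and a nonzerodivisor `e`, and
`D.comap f = E.comap f`, then `d ∈ (e)`.  The proof goes through the valuative criterion: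
every valuation ring of the fraction field of a local ring of `S` lifts (after an extension) to `S'`.
-/

set_option autoImplicit false
universe u

open CategoryTheory CategoryTheory.Limits AlgebraicGeometry

namespace Groth.Agent.H8

section appLE

variable {S : Scheme.{u}} {W : S.Opens}

lemma le_preimage_specMap_fromSpec (hW : IsAffineOpen W) {C : CommRingCat.{u}}
    (θ : Γ(S, W) ⟶ C) : (⊤ : (Spec C).Opens) ≤ (Spec.map θ ≫ hW.fromSpec) ⁻¹ᵁ W := by
  rw [Scheme.Hom.comp_preimage, hW.fromSpec_preimage_self]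
  exact le_rfl

theorem appLE_specMap_fromSpec (hW : IsAffineOpen W) {C : CommRingCat.{u}}
    (θ : Γ(S, W) ⟶ C) (e : (⊤ : (Spec C).Opens) ≤ (Spec.map θ ≫ hW.fromSpec) ⁻¹ᵁ W) :
    (Spec.map θ ≫ hW.fromSpec).appLE W ⊤ e = θ ≫ (Scheme.ΓSpecIso C).inv := by
  apply Spec.map_injective
  have h1 := hW.SpecMap_appLE_fromSpec (Spec.map θ ≫ hW.fromSpec) (isAffineOpen_top (Spec C)) e
  rw [IsAffineOpen.fromSpec_top, Scheme.isoSpec_Spec_inv, ← Category.assoc, ← Spec.map_comp] at h1
  exact (cancel_mono hW.fromSpec).mp h1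

/-- Spans of generators after pulling back along `Spec C ⟶ W ⊆ S`. -/
theorem span_eq_of_comap_specMap_fromSpec_eq (hW : IsAffineOpen W) {C : CommRingCat.{u}}
    (θ : Γ(S, W) ⟶ C) (D E : S.IdealSheafData) (d e : Γ(S, W))
    (hD : D.ideal ⟨W, hW⟩ = Ideal.span {d}) (hE : E.ideal ⟨W, hW⟩ = Ideal.span {e})
    (h : D.comap (Spec.map θ ≫ hW.fromSpec) = E.comap (Spec.map θ ≫ hW.fromSpec)) :
    Ideal.span {θ.hom d} = Ideal.span {θ.hom e} := by
  have e0 := le_preimage_specMap_fromSpec hW θ
  have h1 := Groth.Agent.H19.ComapAff.ideal_comap_appLE (Spec.map θ ≫ hW.fromSpec) D ⟨W, hW⟩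
    ⟨⊤, isAffineOpen_top _⟩ e0
  have h2 := Groth.Agent.H19.ComapAff.ideal_comap_appLE (Spec.map θ ≫ hW.fromSpec) E ⟨W, hW⟩
    ⟨⊤, isAffineOpen_top _⟩ e0
  rw [h] at h1
  rw [h1] at h2
  dsimp only at h2
  rw [appLE_specMap_fromSpec hW θ e0, hD, hE, Ideal.map_span, Ideal.map_span,
    Set.image_singleton, Set.image_singleton] at h2
  have h3 := congrArg (Ideal.map (Scheme.ΓSpecIso C).hom.hom) h2
  rw [Ideal.map_span, Ideal.map_span, Set.image_singleton, Set.image_singleton] at h3
  have key : ∀ x : Γ(S, W), (Scheme.ΓSpecIso C).hom.hom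
      ((θ ≫ (Scheme.ΓSpecIso C).inv).hom x) = θ.hom x := by
    intro x
    have h4 : (θ ≫ (Scheme.ΓSpecIso C).inv) ≫ (Scheme.ΓSpecIso C).hom = θ := by
      rw [Category.assoc, Iso.inv_hom_id, Category.comp_id]
    exact congrArg (fun g => g.hom x) h4
  rw [key, key] at h3
  exact h3

end appLE

section surj

variable {S S' : Scheme.{u}}

/-- A proper morphism with zero kernel ideal sheaf is surjective. -/
theorem surjective_of_isProper_of_ker_eq_bot (f : S' ⟶ S) [IsProper f] (hdom : f.ker = ⊥) :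
    Function.Surjective f := by
  have h1 := Scheme.Hom.support_ker f
  rw [hdom, Scheme.IdealSheafData.support_bot] at h1
  have hcl : IsClosed (Set.range f) := f.isClosedMap.isClosed_range
  rw [hcl.closure_eq] at h1
  intro y
  have : y ∈ Set.range f := by rw [← h1]; trivial
  exact this

end surj

section lift

variable {S S' : Scheme.{u}}

set_option backward.isDefEq.respectTransparency false in
/-- Key step: for a valuation ring `V` of the fraction field of a local domain `𝒪_{S,y}` containing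
`𝒪_{S,y}`, the image of `e` divides the image of `d` in `V`. -/
theorem exists_mul_eq_of_comap_eq (f : S' ⟶ S) [IsProper f] (hsurj : Function.Surjective f)
    (D E : S.IdealSheafData) (h : D.comap f = E.comap f)
    {W : S.Opens} (hW : IsAffineOpen W) (d e : Γ(S, W))
    (hD : D.ideal ⟨W, hW⟩ = Ideal.span {d}) (hE : E.ideal ⟨W, hW⟩ = Ideal.span {e})
    (y : S) (hy : y ∈ W) [IsDomain (S.presheaf.stalk y)]
    (V : ValuationSubring (FractionRing (S.presheaf.stalk y)))
    (hV : ∀ a : S.presheaf.stalk y, algebraMap _ (FractionRing (S.presheaf.stalk y)) a ∈ V) :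
    ∃ v ∈ V, algebraMap _ (FractionRing (S.presheaf.stalk y)) (S.presheaf.germ W y hy d) =
      algebraMap _ (FractionRing (S.presheaf.stalk y)) (S.presheaf.germ W y hy e) * v := by
  have : Surjective f := ⟨hsurj⟩
  let A := S.presheaf.stalk y
  let K := FractionRing A
  let g : Spec (.of K) ⟶ S := Spec.map (CommRingCat.ofHom (algebraMap A K)) ≫ S.fromSpecStalk y
  have hs : Surjective (pullback.fst g f) := inferInstance
  obtain ⟨t, -⟩ := hs.surj (IsLocalRing.closedPoint K)
  let K' := (pullback g f).residueField t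
  let φ : Spec K' ⟶ pullback g f := (pullback g f).fromSpecResidueField t
  let j : CommRingCat.of K ⟶ K' := Spec.preimage (φ ≫ pullback.fst g f)
  have hj : Spec.map j = φ ≫ pullback.fst g f := Spec.map_preimage _
  let ψ : V →+* K' := j.hom.comp V.subtype
  obtain ⟨V', hV', hloc⟩ := IsLocalRing.exists_factor_valuationRing ψ
  let ι : V →+* V' := ψ.codRestrict V'.toSubring hV'
  let ρ' : A →+* V := (algebraMap A K).codRestrict V.toSubring hV
  let θ' : A ⟶ CommRingCat.of V' := CommRingCat.ofHom (ι.comp ρ')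
  let i₂ : Spec (.of V') ⟶ S := Spec.map θ' ≫ S.fromSpecStalk y
  let i₁ : Spec (.of K') ⟶ S' := φ ≫ pullback.snd g f
  have w : i₁ ≫ f = Spec.map (CommRingCat.ofHom (algebraMap V' K')) ≫ i₂ := by
    dsimp only [i₁, i₂]
    rw [Category.assoc, ← pullback.condition, ← Category.assoc, ← hj]
    dsimp only [g]
    rw [← Spec.map_comp_assoc, ← Spec.map_comp_assoc]
    rfl
  have hex : ValuativeCriterion.Existence f := by
    have hf : UniversallyClosed f := inferInstance
    rw [UniversallyClosed.eq_valuativeCriterion] at hf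
    exact hf.1
  obtain ⟨l, hl₁, hl₂⟩ := (hex { R := V', K := K', i₁ := i₁, i₂ := i₂, commSq := ⟨w⟩ }).exists_lift
  dsimp only at hl₂
  have hc : D.comap i₂ = E.comap i₂ := by
    rw [← hl₂, Scheme.IdealSheafData.comap_comp, Scheme.IdealSheafData.comap_comp, h]
  have hi₂ : i₂ = Spec.map (S.presheaf.germ W y hy ≫ θ') ≫ hW.fromSpec := by
    dsimp only [i₂]
    rw [← hW.fromSpecStalk_eq_fromSpecStalk hy, IsAffineOpen.fromSpecStalk, Spec.map_comp,
      Category.assoc]
  rw [hi₂] at hc
  have hspan := span_eq_of_comap_specMap_fromSpec_eq hW (S.presheaf.germ W y hy ≫ θ') D E d e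
    hD hE hc
  have hinj : Function.Injective ι := by
    intro a b hab
    have h1 : ψ a = ψ b := congrArg Subtype.val hab
    have h2 : Function.Injective j.hom := RingHom.injective _
    exact Subtype.ext (h2 h1)
  have hdvd := dvd_of_span_map_eq ι hinj (ρ' (S.presheaf.germ W y hy d))
    (ρ' (S.presheaf.germ W y hy e)) hspan
  obtain ⟨c, hc⟩ := hdvd
  exact ⟨c.1, c.2, congrArg Subtype.val hc⟩

end lift

section glue

variable {S S' : Scheme.{u}}

/-- Divisibility of germs at every point of an affine open gives divisibility of sections. -/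
theorem mem_span_of_germ_dvd {W : S.Opens} (hW : IsAffineOpen W) (d e : Γ(S, W))
    (h : ∀ (y : S) (hy : y ∈ W), S.presheaf.germ W y hy e ∣ S.presheaf.germ W y hy d) :
    d ∈ Ideal.span {e} := by
  let I : Ideal Γ(S, W) := (Ideal.span {e}).colon {d}
  suffices hI : I = ⊤ by
    have h1 : (1 : Γ(S, W)) ∈ I := by rw [hI]; trivial
    have h2 := Submodule.mem_colon.mp h1 d rfl
    simpa using h2
  by_contra hne
  obtain ⟨m, hm, hIm⟩ := Ideal.exists_le_maximal I hne
  let q : PrimeSpectrum Γ(S, W) := ⟨m, hm.isPrime⟩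
  let y : S := hW.fromSpec q
  have hy : y ∈ W := fromSpec_mem hW q
  have hq : hW.primeIdealOf ⟨y, hy⟩ = q := primeIdealOf_fromSpec hW q
  have hloc := hW.isLocalization_stalk ⟨y, hy⟩
  rw [hq] at hloc
  let _ : Algebra Γ(S, W) (S.presheaf.stalk y) := (S.presheaf.germ W y hy).hom.toAlgebra
  obtain ⟨c, hc⟩ := h y hy
  obtain ⟨⟨c', s⟩, hcs⟩ := IsLocalization.surj m.primeCompl c
  have h1 : algebraMap Γ(S, W) (S.presheaf.stalk y) (d * s) =
      algebraMap Γ(S, W) (S.presheaf.stalk y) (e * c') := by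
    rw [map_mul, map_mul]
    change (S.presheaf.germ W y hy) d * _ = (S.presheaf.germ W y hy) e * _
    rw [hc, mul_assoc]
    congr 1
  obtain ⟨t, ht⟩ := (IsLocalization.eq_iff_exists m.primeCompl _).mp h1
  have h2 : (t : Γ(S, W)) * s ∈ I := by
    apply Submodule.mem_colon.mpr
    intro x hx
    rw [Set.mem_singleton_iff.mp hx, smul_eq_mul]
    have : (t : Γ(S, W)) * s * d = e * (t * c') := by
      calc (t : Γ(S, W)) * s * d = t * (d * s) := by ring
        _ = t * (e * c') := ht
        _ = e * (t * c') := by ring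
    rw [this]
    exact Ideal.mul_mem_right _ _ (Ideal.mem_span_singleton_self e)
  have h3 := hIm h2
  rcases hm.isPrime.mem_or_mem h3 with h4 | h4
  · exact t.2 h4
  · exact s.2 h4

/-- On a normal scheme, principal ideals on an affine open are compared after a proper surjective
pull-back. -/
theorem mem_span_of_comap_eq
    (hnorm : ∀ x : S, IsDomain (S.presheaf.stalk x) ∧ IsIntegrallyClosed (S.presheaf.stalk x))
    (f : S' ⟶ S) [IsProper f] (hsurj : Function.Surjective f)
    (D E : S.IdealSheafData) (h : D.comap f = E.comap f)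
    {W : S.Opens} (hW : IsAffineOpen W) (d e : Γ(S, W)) (he : e ∈ nonZeroDivisors Γ(S, W))
    (hD : D.ideal ⟨W, hW⟩ = Ideal.span {d}) (hE : E.ideal ⟨W, hW⟩ = Ideal.span {e}) :
    d ∈ Ideal.span {e} := by
  apply mem_span_of_germ_dvd hW
  intro y hy
  have := (hnorm y).1
  have := (hnorm y).2
  apply dvd_of_forall_valuationSubring (FractionRing (S.presheaf.stalk y))
  · -- the germ of a nonzerodivisor is nonzero
    have hloc := hW.isLocalization_stalk ⟨y, hy⟩
    let _ : Algebra Γ(S, W) (S.presheaf.stalk y) := (S.presheaf.germ W y hy).hom.toAlgebra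
    have h1 : algebraMap Γ(S, W) (S.presheaf.stalk y) e ∈ nonZeroDivisors (S.presheaf.stalk y) :=
      IsLocalization.map_nonZeroDivisors_le (hW.primeIdealOf ⟨y, hy⟩).asIdeal.primeCompl
        (S.presheaf.stalk y) (Submonoid.mem_map_of_mem _ he)
    exact nonZeroDivisors.ne_zero h1
  · intro V hV
    exact exists_mul_eq_of_comap_eq f hsurj D E h hW d e hD hE y hy V hV

/-- **Effective Cartier divisors on a normal scheme are determined by their pull-back along a proper
dominant morphism.** -/
theorem eq_of_comap_eq_of_isProper_of_normal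
    (hnorm : ∀ x : S, IsDomain (S.presheaf.stalk x) ∧ IsIntegrallyClosed (S.presheaf.stalk x))
    (f : S' ⟶ S) [IsProper f] (hdom : f.ker = ⊥)
    (D E : S.IdealSheafData)
    (hD : ∀ x : S, ∃ U : S.affineOpens, x ∈ (U : S.Opens) ∧ ∃ g : Γ(S, U),
      g ∈ nonZeroDivisors Γ(S, U) ∧ D.ideal U = Ideal.span {g})
    (hE : ∀ x : S, ∃ U : S.affineOpens, x ∈ (U : S.Opens) ∧ ∃ g : Γ(S, U),
      g ∈ nonZeroDivisors Γ(S, U) ∧ E.ideal U = Ideal.span {g})
    (h : D.comap f = E.comap f) : D = E := by
  have hsurj := surjective_of_isProper_of_ker_eq_bot f hdom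
  have key : ∀ x : S, ∃ W : S.affineOpens, x ∈ W.1 ∧ D.ideal W = E.ideal W := by
    intro x
    obtain ⟨U₁, hx₁, p₁⟩ := hD x
    obtain ⟨U₂, hx₂, p₂⟩ := hE x
    obtain ⟨W, hxW, q₁, q₂⟩ := Groth.Agent.H20.CartierDiff.exists_common U₁ U₂ x hx₁ hx₂
    obtain ⟨d, hd, hDW⟩ := q₁ D p₁
    obtain ⟨e, he, hEW⟩ := q₂ E p₂
    refine ⟨W, hxW, ?_⟩
    have h1 := mem_span_of_comap_eq hnorm f hsurj D E h W.2 d e he hDW hEW
    have h2 := mem_span_of_comap_eq hnorm f hsurj E D h.symm W.2 e d hd hEW hDW
    rw [hDW, hEW]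
    apply le_antisymm
    · rw [Ideal.span_singleton_le_iff_mem]; exact h1
    · rw [Ideal.span_singleton_le_iff_mem]; exact h2
  choose W hxW hW using key
  apply Scheme.IdealSheafData.ext_of_iSup_eq_top W _ hW
  rw [eq_top_iff]
  intro x _
  exact TopologicalSpace.Opens.mem_iSup.mpr ⟨x, hxW x⟩

end glue

end Groth.Agent.H8
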