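import Mathlib
import Groth.Agent.H19.ComapAff
import Groth.Agent.H8.ValCritLift
import Groth.Agent.H8.GenericFibreZero
import Groth.Agent.H8.RelCartier

/-!
# Containment of ideal sheaves from containment on fibres (helper8)

Let `π : 𝒞 ⟶ T` with `T` reduced and locally Noetherian, and `D`, `D'` ideal sheaves on `𝒞` with the
closed subscheme of `D'` flat over `T`.  If `D ≤ D'` after pull-back to the fibre over every point of `T`
(generic points suffice), then `D ≤ D'`.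
-/

set_option autoImplicit false
universe u

open CategoryTheory CategoryTheory.Limits AlgebraicGeometry TensorProduct

namespace Groth.Agent.H8

section residue

variable {T : Scheme.{u}}

lemma top_le_preimage_fromSpecResidueField (t : T) {U : T.Opens} (ht : t ∈ U) :
    (⊤ : (Spec (T.residueField t)).Opens) ≤ (T.fromSpecResidueField t) ⁻¹ᵁ U := by
  intro z _
  change (T.fromSpecResidueField t) z ∈ U
  have hz : z = IsLocalRing.closedPoint (T.residueField t) := Subsingleton.elim _ _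
  rw [hz, Scheme.fromSpecResidueField_apply]
  exact ht

theorem appLE_eq_of_eq_specMap_fromSpec {S : Scheme.{u}} {W : S.Opens} (hW : IsAffineOpen W)
    {C : CommRingCat.{u}} (θ : Γ(S, W) ⟶ C) (g : Spec C ⟶ S) (hg : g = Spec.map θ ≫ hW.fromSpec)
    (e : (⊤ : (Spec C).Opens) ≤ g ⁻¹ᵁ W) :
    g.appLE W ⊤ e = θ ≫ (Scheme.ΓSpecIso C).inv := by
  subst hg
  exact appLE_specMap_fromSpec hW θ e

theorem appLE_fromSpecResidueField {U : T.Opens} (hU : IsAffineOpen U) (t : T) (ht : t ∈ U)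
    (e : (⊤ : (Spec (T.residueField t)).Opens) ≤ (T.fromSpecResidueField t) ⁻¹ᵁ U) :
    (T.fromSpecResidueField t).appLE U ⊤ e =
      (T.presheaf.germ U t ht ≫ T.residue t) ≫ (Scheme.ΓSpecIso (T.residueField t)).inv := by
  apply appLE_eq_of_eq_specMap_fromSpec hU
  rw [Scheme.fromSpecResidueField, ← hU.fromSpecStalk_eq_fromSpecStalk ht,
    IsAffineOpen.fromSpecStalk, Spec.map_comp, Category.assoc]

/-- The kernel of `Γ(T, U) ⟶ κ(t)` is the prime of `t`. -/
theorem mem_of_appLE_fromSpecResidueField_eq_zero {U : T.Opens} (hU : IsAffineOpen U)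
    (q : PrimeSpectrum Γ(T, U))
    (e : (⊤ : (Spec (T.residueField (hU.fromSpec q))).Opens) ≤
      (T.fromSpecResidueField (hU.fromSpec q)) ⁻¹ᵁ U) (r : Γ(T, U))
    (hr : ((T.fromSpecResidueField (hU.fromSpec q)).appLE U ⊤ e).hom r = 0) : r ∈ q.asIdeal := by
  have ht : hU.fromSpec q ∈ U := fromSpec_mem hU q
  rw [appLE_fromSpecResidueField hU _ ht] at hr
  have h1 : (T.residue (hU.fromSpec q)).hom ((T.presheaf.germ U _ ht).hom r) = 0 := by
    have hinj : Function.Injective (Scheme.ΓSpecIso (T.residueField (hU.fromSpec q))).inv.hom :=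
      (ConcreteCategory.bijective_of_isIso (Scheme.ΓSpecIso (T.residueField (hU.fromSpec q))).inv).1
    apply hinj
    rw [map_zero]
    exact hr
  have h2 : (T.presheaf.germ U _ ht).hom r ∈ IsLocalRing.maximalIdeal (T.presheaf.stalk _) :=
    (IsLocalRing.residue_eq_zero_iff _).mp h1
  have hloc := hU.isLocalization_stalk ⟨hU.fromSpec q, ht⟩
  rw [primeIdealOf_fromSpec hU q] at hloc
  let _ : Algebra Γ(T, U) (T.presheaf.stalk (hU.fromSpec q)) :=
    (T.presheaf.germ U _ ht).hom.toAlgebra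
  exact (IsLocalization.AtPrime.to_map_mem_maximal_iff (T.presheaf.stalk (hU.fromSpec q))
    q.asIdeal r).mp h2

end residue

section fibre

variable {𝒞 T : Scheme.{u}} (π : 𝒞 ⟶ T)

set_option backward.isDefEq.respectTransparency false in
theorem tmul_eq_zero_of_comap_le (D D' : 𝒞.IdealSheafData) (t : T)
    (hfib : D.comap (pullback.fst π (T.fromSpecResidueField t)) ≤
      D'.comap (pullback.fst π (T.fromSpecResidueField t)))
    {U : T.Opens} (hU : IsAffineOpen U) {V : 𝒞.Opens} (hV : IsAffineOpen V)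
    (e : V ≤ π ⁻¹ᵁ U)
    (e' : (⊤ : (Spec (T.residueField t)).Opens) ≤ (T.fromSpecResidueField t) ⁻¹ᵁ U)
    (x : Γ(𝒞, V)) (hx : x ∈ D.ideal ⟨V, hV⟩) :
    letI := (π.appLE U V e).hom.toAlgebra
    letI := ((T.fromSpecResidueField t).appLE U ⊤ e').hom.toAlgebra
    (Ideal.Quotient.mk (D'.ideal ⟨V, hV⟩) x) ⊗ₜ[Γ(T, U)]
      (1 : Γ(Spec (T.residueField t), ⊤)) = 0 := by
  let := (π.appLE U V e).hom.toAlgebra
  let := ((T.fromSpecResidueField t).appLE U ⊤ e').hom.toAlgebra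
  let f := T.fromSpecResidueField t
  let q := pullback.fst π f
  let r := pullback.snd π f
  have H : IsPullback q r π f := IsPullback.of_hasPullback _ _
  let UY : (pullback π f).Opens := q ⁻¹ᵁ V ⊓ r ⁻¹ᵁ ⊤
  have hiso : IsIso (pushoutSection H e' e (UY := UY) rfl) :=
    isIso_pushoutSection_of_isAffineOpen H e' e rfl hU (isAffineOpen_top _) hV
  have hpush := (isIso_pushoutSection_iff H e' e (UY := UY) rfl).mp hiso
  have hUY : IsAffineOpen UY := by
    have : IsAffine U.toScheme := hU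
    have : IsAffine (⊤ : (Spec (T.residueField t)).Opens).toScheme := isAffineOpen_top _
    have : IsAffine V.toScheme := hV
    exact .of_isIso (Scheme.Hom.isPullback_resLE H e' e (UY := UY) rfl).isoPullback.hom
  have eq : UY ≤ q ⁻¹ᵁ V := inf_le_left
  -- the ideals on the fibre
  have h1 := Groth.Agent.H19.ComapAff.ideal_comap_appLE q D ⟨V, hV⟩ ⟨UY, hUY⟩ eq
  have h2 := Groth.Agent.H19.ComapAff.ideal_comap_appLE q D' ⟨V, hV⟩ ⟨UY, hUY⟩ eq
  have h3 : (q.appLE V UY eq).hom x ∈ (D'.ideal ⟨V, hV⟩).map (q.appLE V UY eq).hom := by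
    rw [← h2]
    apply hfib ⟨UY, hUY⟩
    rw [h1]
    exact Ideal.mem_map_of_mem _ hx
  -- the target ring
  let Q : CommRingCat.{u} := CommRingCat.of
    ((Γ(𝒞, V) ⧸ D'.ideal ⟨V, hV⟩) ⊗[Γ(T, U)] Γ(Spec (T.residueField t), ⊤))
  let a : Γ(𝒞, V) ⟶ Q := CommRingCat.ofHom
    ((Algebra.TensorProduct.includeLeftRingHom).comp (Ideal.Quotient.mk (D'.ideal ⟨V, hV⟩)))
  let b : Γ(Spec (T.residueField t), ⊤) ⟶ Q := CommRingCat.ofHom
    (Algebra.TensorProduct.includeRight (R := Γ(T, U))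
      (A := Γ(𝒞, V) ⧸ D'.ideal ⟨V, hV⟩) (B := Γ(Spec (T.residueField t), ⊤))).toRingHom
  have hab : π.appLE U V e ≫ a = f.appLE U ⊤ e' ≫ b := by
    ext z
    change (algebraMap Γ(T, U) Γ(𝒞, V) z : Γ(𝒞, V) ⧸ D'.ideal ⟨V, hV⟩) ⊗ₜ[Γ(T, U)]
      (1 : Γ(Spec (T.residueField t), ⊤)) = (1 : Γ(𝒞, V) ⧸ D'.ideal ⟨V, hV⟩) ⊗ₜ[Γ(T, U)]
        (algebraMap Γ(T, U) Γ(Spec (T.residueField t), ⊤) z)
    rw [Algebra.algebraMap_eq_smul_one, Algebra.algebraMap_eq_smul_one (A := Γ(Spec _, ⊤)),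
      TensorProduct.tmul_smul]
    rfl
  let Φ := hpush.desc a b hab
  have hΦ : q.appLE V UY (by simp [UY]) ≫ Φ = a := hpush.inl_desc a b hab
  have h4 : (D'.ideal ⟨V, hV⟩).map (q.appLE V UY eq).hom ≤ RingHom.ker Φ.hom := by
    rw [Ideal.map_le_iff_le_comap]
    intro y hy
    rw [Ideal.mem_comap, RingHom.mem_ker]
    have : Φ.hom ((q.appLE V UY eq).hom y) = a.hom y := congrArg (fun g => g.hom y) hΦ
    rw [this]
    change (Ideal.Quotient.mk (D'.ideal ⟨V, hV⟩) y) ⊗ₜ[Γ(T, U)] (1 : Γ(Spec _, ⊤)) = 0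
    rw [Ideal.Quotient.eq_zero_iff_mem.mpr hy, TensorProduct.zero_tmul]
  have h5 := h4 h3
  rw [RingHom.mem_ker] at h5
  have : Φ.hom ((q.appLE V UY eq).hom x) = a.hom x := congrArg (fun g => g.hom x) hΦ
  rw [this] at h5
  exact h5

/-- Affine-local form of the fibrewise criterion. -/
theorem ideal_le_of_forall_fibre_le [IsLocallyNoetherian T] [AlgebraicGeometry.IsReduced T]
    (D D' : 𝒞.IdealSheafData) [Flat (D'.subschemeι ≫ π)]
    (hfib : ∀ t : T, D.comap (pullback.fst π (T.fromSpecResidueField t)) ≤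
      D'.comap (pullback.fst π (T.fromSpecResidueField t)))
    {U : T.Opens} (hU : IsAffineOpen U) {V : 𝒞.Opens} (hV : IsAffineOpen V)
    (e : V ≤ π ⁻¹ᵁ U) : D.ideal ⟨V, hV⟩ ≤ D'.ideal ⟨V, hV⟩ := by
  intro x hx
  let := (π.appLE U V e).hom.toAlgebra
  have hflat : Module.Flat Γ(T, U) (Γ(𝒞, V) ⧸ D'.ideal ⟨V, hV⟩) :=
    flat_quot_of_flat_subscheme π D' ⟨U, hU⟩ ⟨V, hV⟩ e
  have hnoeth : IsNoetherianRing Γ(T, U) := IsLocallyNoetherian.component_noetherian ⟨U, hU⟩
  let tp : minimalPrimes Γ(T, U) → T := fun p =>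
    hU.fromSpec ⟨p.1, p.2.1.1⟩
  have htp : ∀ p, tp p ∈ U := fun p => fromSpec_mem hU _
  have he' : ∀ p, (⊤ : (Spec (T.residueField (tp p))).Opens) ≤
      (T.fromSpecResidueField (tp p)) ⁻¹ᵁ U :=
    fun p => top_le_preimage_fromSpecResidueField (tp p) (htp p)
  let K : minimalPrimes Γ(T, U) → Type u := fun p => Γ(Spec (T.residueField (tp p)), ⊤)
  let _ : ∀ p, Algebra Γ(T, U) (K p) := fun p =>
    ((T.fromSpecResidueField (tp p)).appLE U ⊤ (he' p)).hom.toAlgebra
  have hker : ∀ p, RingHom.ker (algebraMap Γ(T, U) (K p)) ≤ p.1 := by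
    intro p r hr
    exact mem_of_appLE_fromSpecResidueField_eq_zero hU
      ⟨p.1, p.2.1.1⟩ (he' p) r hr
  have hzero := eq_zero_of_forall_tmul_eq_zero K hker (Ideal.Quotient.mk (D'.ideal ⟨V, hV⟩) x)
    (fun p => tmul_eq_zero_of_comap_le π D D' (tp p) (hfib (tp p)) hU hV e (he' p) x hx)
  exact Ideal.Quotient.eq_zero_iff_mem.mp hzero

/-- **Fibrewise containment of divisors implies containment** over a reduced locally Noetherian
base, when the larger ideal defines a flat subscheme. -/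
theorem le_of_forall_fibre_le [IsLocallyNoetherian T] [AlgebraicGeometry.IsReduced T]
    (D D' : 𝒞.IdealSheafData) [Flat (D'.subschemeι ≫ π)]
    (hfib : ∀ t : T, D.comap (pullback.fst π (T.fromSpecResidueField t)) ≤
      D'.comap (pullback.fst π (T.fromSpecResidueField t))) : D ≤ D' := by
  have key : ∀ c : 𝒞, ∃ V : 𝒞.affineOpens, c ∈ V.1 ∧ D.ideal V ≤ D'.ideal V := by
    intro c
    obtain ⟨_, ⟨U, hU, rfl⟩, hcU, -⟩ :=
      T.isBasis_affineOpens.exists_subset_of_mem_open (Set.mem_univ (π c)) isOpen_univ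
    obtain ⟨_, ⟨V, hV, rfl⟩, hcV, hVU⟩ :=
      𝒞.isBasis_affineOpens.exists_subset_of_mem_open (show c ∈ (π ⁻¹ᵁ U).1 from hcU)
        (π ⁻¹ᵁ U).isOpen
    exact ⟨⟨V, hV⟩, hcV, ideal_le_of_forall_fibre_le π D D' hfib hU hV hVU⟩
  choose V hcV hV using key
  apply Scheme.IdealSheafData.le_of_iSup_eq_top V _ hV
  rw [eq_top_iff]
  intro c _
  exact TopologicalSpace.Opens.mem_iSup.mpr ⟨c, hcV c⟩

end fibre

end Groth.Agent.H8
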