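import Mathlib

/-!
# Epimorphisms of fields are surjective; residue fields generated by two subfields
-/

set_option autoImplicit false
set_option linter.style.haveILetI false

universe u

open TensorProduct

namespace Groth.Agent.H8.FieldEpi

/-- a field extension `κ/F` with `1 ⊗ c = c ⊗ 1` in `κ ⊗[F] κ` for all `c` is trivial -/
theorem surjective_of_field_epi {F κ : Type*} [Field F] [Field κ] [Algebra F κ]
    (h : ∀ c : κ, (1 : κ) ⊗ₜ[F] c = c ⊗ₜ[F] (1 : κ)) : Function.Surjective (algebraMap F κ) := by
  intro c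
  set V : Submodule F κ := LinearMap.range (Algebra.linearMap F κ) with hV
  have h1 : V.mkQ (1 : κ) = 0 := by
    rw [Submodule.mkQ_apply, Submodule.Quotient.mk_eq_zero]
    exact ⟨1, by simp⟩
  have h2 : V.mkQ c ⊗ₜ[F] (1 : κ) = 0 := by
    have := congrArg (TensorProduct.map V.mkQ (LinearMap.id : κ →ₗ[F] κ)) (h c)
    rw [TensorProduct.map_tmul, TensorProduct.map_tmul, h1, zero_tmul] at this
    exact this.symm
  have hinj : Function.Injective ((Algebra.linearMap F κ).lTensor (κ ⧸ V)) :=
    Module.Flat.lTensor_preserves_injective_linearMap (M := κ ⧸ V) (Algebra.linearMap F κ)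
      (algebraMap F κ).injective
  have h3 : V.mkQ c ⊗ₜ[F] (1 : F) = 0 := by
    apply hinj
    rw [LinearMap.lTensor_tmul, map_zero]
    simpa using h2
  have h4 : V.mkQ c = 0 := by
    have := congrArg (TensorProduct.rid F (κ ⧸ V)) h3
    simpa using this
  rw [Submodule.mkQ_apply, Submodule.Quotient.mk_eq_zero] at h4
  obtain ⟨r, hr⟩ := h4
  exact ⟨r, hr⟩

variable {k k' K κ : Type u} [Field k] [Field k'] [Field K] [Field κ] [Algebra k k'] [Algebra k K]
  [Algebra k κ] [Algebra k' κ] [IsScalarTower k k' κ] [Algebra.IsAlgebraic k k']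

/-- if the field `κ` is generated, in the sense of ring epimorphisms, by the images of `K` and of an
algebraic extension `k'` of `k`, then `k' ⊗[k] K → κ` is surjective. -/
theorem surjective_lift_of_epi (a : K →ₐ[k] κ)
    (hepi : ∀ (R : Type u) [CommRing R] (φ₁ φ₂ : κ →+* R),
      φ₁.comp a.toRingHom = φ₂.comp a.toRingHom →
      φ₁.comp (algebraMap k' κ) = φ₂.comp (algebraMap k' κ) → φ₁ = φ₂) :
    Function.Surjective (Algebra.TensorProduct.lift (Algebra.ofId k' κ) a
      (fun _ _ => Commute.all _ _)) := by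
  set ψ := Algebra.TensorProduct.lift (Algebra.ofId k' κ) a (fun _ _ => Commute.all _ _) with hψ
  letI : Algebra K κ := a.toRingHom.toAlgebra
  haveI : IsScalarTower k K κ := IsScalarTower.of_algebraMap_eq' (by
    ext x
    exact (a.commutes x).symm)
  set S : Set κ := Set.range (algebraMap k' κ) with hS
  have halg : ∀ s ∈ S, IsAlgebraic K s := by
    rintro _ ⟨y, rfl⟩
    have h1 : IsAlgebraic k y := Algebra.IsAlgebraic.isAlgebraic y
    have h2 : IsAlgebraic k (algebraMap k' κ y) := h1.algebraMap
    exact h2.tower_top K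
  set E : IntermediateField K κ := IntermediateField.adjoin K S with hE
  have hEsub : E.toSubalgebra = Algebra.adjoin K S :=
    IntermediateField.adjoin_toSubalgebra_of_isAlgebraic halg
  -- every element of `E` is in the range of `ψ`
  have hEr : ∀ c ∈ E, c ∈ Set.range ψ := by
    intro c hc
    have hc' : c ∈ Algebra.adjoin K S := by
      rw [← hEsub]; exact hc
    clear hc
    induction hc' using Algebra.adjoin_induction with
    | mem s hs =>
      obtain ⟨y, rfl⟩ := hs
      refine ⟨y ⊗ₜ 1, ?_⟩
      rw [hψ, Algebra.TensorProduct.lift_tmul, map_one, mul_one]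
      rfl
    | algebraMap x =>
      refine ⟨1 ⊗ₜ x, ?_⟩
      rw [hψ, Algebra.TensorProduct.lift_tmul, map_one, one_mul]
      rfl
    | add x y _ _ hx hy =>
      obtain ⟨x', rfl⟩ := hx
      obtain ⟨y', rfl⟩ := hy
      exact ⟨x' + y', map_add _ _ _⟩
    | mul x y _ _ hx hy =>
      obtain ⟨x', rfl⟩ := hx
      obtain ⟨y', rfl⟩ := hy
      exact ⟨x' * y', map_mul _ _ _⟩
  -- `E = ⊤` by the epimorphism property
  have hsurj : Function.Surjective (algebraMap E κ) := by
    apply surjective_of_field_epi
    have key : (Algebra.TensorProduct.includeLeftRingHom : κ →+* κ ⊗[E] κ) =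
        (Algebra.TensorProduct.includeRight : κ →ₐ[E] κ ⊗[E] κ).toRingHom := by
      apply hepi
      · ext x
        change a x ⊗ₜ[E] (1 : κ) = (1 : κ) ⊗ₜ[E] a x
        have hx : a x ∈ E := E.algebraMap_mem x
        have : a x = (⟨a x, hx⟩ : E) • (1 : κ) := by
          rw [Algebra.smul_def, mul_one]; rfl
        conv_lhs => rw [this]
        conv_rhs => rw [this]
        rw [TensorProduct.smul_tmul]
      · ext y
        change algebraMap k' κ y ⊗ₜ[E] (1 : κ) = (1 : κ) ⊗ₜ[E] algebraMap k' κ y
        have hy : algebraMap k' κ y ∈ E := IntermediateField.subset_adjoin K S ⟨y, rfl⟩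
        have : algebraMap k' κ y = (⟨algebraMap k' κ y, hy⟩ : E) • (1 : κ) := by
          rw [Algebra.smul_def, mul_one]; rfl
        conv_lhs => rw [this]
        conv_rhs => rw [this]
        rw [TensorProduct.smul_tmul]
    intro c
    have := congrArg (fun φ : κ →+* κ ⊗[E] κ => φ c) key
    exact this.symm
  intro c
  obtain ⟨e, rfl⟩ := hsurj c
  exact hEr _ e.2

end Groth.Agent.H8.FieldEpi
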