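import Mathlib
import Groth.Prelude.Def_BlowUp2
import Groth.Agent.S14090
import Groth.Agent.H8.BlowUpChartGen
import Groth.Agent.H8.BlowUpDominate
import Groth.Agent.H8.BlowUpExist
import Groth.Agent.H8.ValCritLift
import Groth.Agent.H20.EffCartierInterior

/-!
# A finite birational morphism that is an isomorphism off an effective Cartier divisor is a blow-up
-/

set_option autoImplicit false
set_option linter.style.haveILetI false
universe u
open CategoryTheory CategoryTheory.Limits AlgebraicGeometry TopologicalSpace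

namespace Groth.Agent.H8.FiniteBirBlowUp

section Algebra

variable {A B : Type u} [CommRing A] [CommRing B] [Algebra A B]

/-- The affine statement: if `tⁿ B ⊆ A ⊆ B` with `t` a nonzerodivisor of `B`, then `Spec B → Spec A`
is the blow-up of the ideal `tⁿ B` of `A`. -/
theorem isBlowUp_spec_of_pow_mul_mem (hinj : Function.Injective (algebraMap A B)) (t : A)
    (ht : algebraMap A B t ∈ nonZeroDivisors B) (n : ℕ)
    (hn : ∀ b : B, ∃ a : A, algebraMap A B a = algebraMap A B t ^ n * b) :
    BlowUp.IsBlowUp (Spec.map (CommRingCat.ofHom (algebraMap A B)))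
      (Curv2.idealSheaf A ((Ideal.span {algebraMap A B t ^ n}).comap (algebraMap A B))) := by
  set I : Ideal A := (Ideal.span {algebraMap A B t ^ n}).comap (algebraMap A B) with hI
  have hmap : Ideal.map (algebraMap A B) I = Ideal.span {algebraMap A B t ^ n} := by
    apply le_antisymm
    · rw [Ideal.map_le_iff_le_comap]
    · rw [Ideal.span_singleton_le_iff_mem, ← map_pow]
      apply Ideal.mem_map_of_mem
      rw [hI, Ideal.mem_comap, map_pow]
      exact Ideal.mem_span_singleton_self _
  refine Groth.Agent.S14090.result A B hinj I ?_ (algebraMap A B t ^ n) (pow_mem ht n) hmap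
  rw [hmap]
  intro x hx
  obtain ⟨b, rfl⟩ := Ideal.mem_span_singleton'.mp hx
  obtain ⟨a, ha⟩ := hn b
  refine ⟨a, ?_, by rw [ha, mul_comm]⟩
  change a ∈ I
  rw [hI, Ideal.mem_comap, ha]
  exact Ideal.mul_mem_right _ _ (Ideal.mem_span_singleton_self _)

/-- A uniform exponent for a finite algebra. -/
theorem exists_uniform_pow [Module.Finite A B] (t : A)
    (h : ∀ b : B, ∃ (m : ℕ) (a : A), algebraMap A B a = algebraMap A B t ^ m * b) :
    ∃ n : ℕ, ∀ b : B, ∃ a : A, algebraMap A B a = algebraMap A B t ^ n * b := by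
  classical
  obtain ⟨S, hS⟩ := (Module.Finite.fg_top : (⊤ : Submodule A B).FG)
  choose m a ha using h
  refine ⟨S.sup m, fun b => ?_⟩
  have hb : b ∈ Submodule.span A (S : Set B) := by rw [hS]; exact Submodule.mem_top
  induction hb using Submodule.span_induction with
  | mem x hx =>
    refine ⟨t ^ (S.sup m - m x) * a x, ?_⟩
    rw [map_mul, ha, map_pow, ← mul_assoc, ← pow_add, Nat.sub_add_cancel (Finset.le_sup hx)]
  | zero => exact ⟨0, by rw [map_zero, mul_zero]⟩
  | add x y _ _ hx hy =>
    obtain ⟨ax, hax⟩ := hx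
    obtain ⟨ay, hay⟩ := hy
    exact ⟨ax + ay, by rw [map_add, hax, hay, mul_add]⟩
  | smul r x _ hx =>
    obtain ⟨ax, hax⟩ := hx
    exact ⟨r * ax, by rw [map_mul, hax, Algebra.smul_def]; ring⟩

end Algebra

section Local

variable {X Y : Scheme.{u}} (f : X ⟶ Y)

set_option backward.isDefEq.respectTransparency false in
/-- If `f` is an isomorphism over `W₀`, it induces isomorphisms on sections over opens in `W₀`. -/
theorem isIso_app_of_le (W₀ : Y.Opens) [IsIso (f ∣_ W₀)] (W : Y.Opens) (hW : W ≤ W₀) :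
    IsIso (f.app W) := by
  have e : W₀.ι ''ᵁ (W₀.ι ⁻¹ᵁ W) = W := by
    rw [Scheme.Hom.image_preimage_eq_opensRange_inf, Scheme.Opens.opensRange_ι]
    exact inf_eq_right.mpr hW
  have h1 := morphismRestrict_app f W₀ (W₀.ι ⁻¹ᵁ W)
  have key : IsIso (f.app (W₀.ι ''ᵁ (W₀.ι ⁻¹ᵁ W))) := by
    have h2 : IsIso (f.app (W₀.ι ''ᵁ (W₀.ι ⁻¹ᵁ W)) ≫ X.presheaf.map
        (eqToHom (image_morphismRestrict_preimage f W₀ (W₀.ι ⁻¹ᵁ W))).op) := by
      rw [← h1]
      infer_instance
    exact IsIso.of_isIso_comp_right _ (X.presheaf.map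
        (eqToHom (image_morphismRestrict_preimage f W₀ (W₀.ι ⁻¹ᵁ W))).op)
  exact e ▸ key

variable (L : Y.IdealSheafData)

/-- On an affine open where `L = (t)`, `D(t)` lies in the complement of `V(L)`. -/
theorem basicOpen_le_compl (U : Y.affineOpens) (t : Γ(Y, U.1)) (hLt : L.ideal U = Ideal.span {t}) :
    Y.basicOpen t ≤ L.support.compl := by
  have h := Groth.Agent.H20.EffCartierInterior.interior_inf_eq_basicOpen L U t hLt
  rw [← h]
  exact inf_le_left

theorem basicOpen_eq_compl_inf (U : Y.affineOpens) (t : Γ(Y, U.1))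
    (hLt : L.ideal U = Ideal.span {t}) : L.support.compl ⊓ U.1 = Y.basicOpen t :=
  Groth.Agent.H20.EffCartierInterior.interior_inf_eq_basicOpen L U t hLt

set_option backward.isDefEq.respectTransparency false in
/-- Compatibility of `f.app` with restriction to a basic open. -/
theorem app_res_basicOpen (U : Y.Opens) (t : Γ(Y, U)) (a : Γ(Y, U)) :
    (f.app (Y.basicOpen t)).hom ((Y.presheaf.map (homOfLE (Y.basicOpen_le t)).op).hom a) =
      (X.presheaf.map (homOfLE (show f ⁻¹ᵁ Y.basicOpen t ≤ f ⁻¹ᵁ U from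
        fun _ hx => Y.basicOpen_le t hx)).op).hom ((f.app U).hom a) := by
  have h := f.naturality (homOfLE (Y.basicOpen_le t)).op
  exact congrArg (fun k => k.hom a) h

set_option backward.isDefEq.respectTransparency false in
/-- `Γ(Y, U) → Γ(X, f⁻¹U)` is injective when `f` is an isomorphism off `V(L)`, `L = (t)` on `U` with
`t` a nonzerodivisor. -/
theorem app_injective_of_isIso_off [IsIso (f ∣_ L.support.compl)] (U : Y.affineOpens)
    (t : Γ(Y, U.1)) (ht : t ∈ nonZeroDivisors Γ(Y, U.1)) (hLt : L.ideal U = Ideal.span {t}) :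
    Function.Injective (f.app U.1).hom := by
  rw [injective_iff_map_eq_zero]
  intro a ha
  haveI := isIso_app_of_le f L.support.compl (Y.basicOpen t) (basicOpen_le_compl L U t hLt)
  have hinj : Function.Injective (f.app (Y.basicOpen t)).hom :=
    ((ConcreteCategory.isIso_iff_bijective (f.app (Y.basicOpen t))).mp inferInstance).1
  have h0 : (Y.presheaf.map (homOfLE (Y.basicOpen_le t)).op).hom a = 0 := by
    apply hinj
    rw [app_res_basicOpen, ha, map_zero, map_zero]
  obtain ⟨n, hn⟩ := exists_pow_mul_eq_zero_of_res_basicOpen_eq_zero_of_isAffineOpen Y U.2 a t h0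
  exact (mem_nonZeroDivisors_iff.mp (pow_mem ht n)).1 a hn

set_option backward.isDefEq.respectTransparency false in
/-- The pullback of the local equation of `L` is a nonzerodivisor when the preimage of the complement
of `V(L)` is dense and `X` is reduced. -/
theorem app_mem_nonZeroDivisors_of_dense [IsReduced X]
    (hdense : Dense (f.base ⁻¹' ((L.support : Set Y)ᶜ))) (U : Y.affineOpens) (t : Γ(Y, U.1))
    (hLt : L.ideal U = Ideal.span {t}) :
    (f.app U.1).hom t ∈ nonZeroDivisors Γ(X, f ⁻¹ᵁ U.1) := by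
  rw [mem_nonZeroDivisors_iff_right]
  intro b hb
  rw [← basicOpen_eq_bot_iff]
  by_contra hne
  have hne' : ((X.basicOpen b : X.Opens) : Set X).Nonempty := by
    rw [Set.nonempty_iff_ne_empty]
    intro h
    exact hne (Opens.ext h)
  obtain ⟨x, hxb, hxd⟩ := hdense.inter_open_nonempty _ (X.basicOpen b).2 hne'
  have hxU : f x ∈ U.1 := X.basicOpen_le b hxb
  have hxD : f x ∈ Y.basicOpen t := by
    rw [← basicOpen_eq_compl_inf L U t hLt]
    exact ⟨hxd, hxU⟩
  have hxt : x ∈ X.basicOpen ((f.app U.1).hom t) := by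
    rw [← Scheme.preimage_basicOpen]
    exact hxD
  have hmem : x ∈ X.basicOpen (b * (f.app U.1).hom t) := by
    rw [Scheme.basicOpen_mul]
    exact ⟨hxb, hxt⟩
  rw [hb, Scheme.basicOpen_zero] at hmem
  exact hmem

set_option backward.isDefEq.respectTransparency false in
/-- Every section of `X` over `f⁻¹U` becomes a section of `Y` after multiplication by a power of the
local equation. -/
theorem exists_app_eq_pow_mul [IsAffineHom f] [IsIso (f ∣_ L.support.compl)] (U : Y.affineOpens)
    (t : Γ(Y, U.1)) (hLt : L.ideal U = Ideal.span {t})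
    (hnzd : (f.app U.1).hom t ∈ nonZeroDivisors Γ(X, f ⁻¹ᵁ U.1))
    (b : Γ(X, f ⁻¹ᵁ U.1)) :
    ∃ (m : ℕ) (a : Γ(Y, U.1)), (f.app U.1).hom a = (f.app U.1).hom t ^ m * b := by
  haveI := isIso_app_of_le f L.support.compl (Y.basicOpen t) (basicOpen_le_compl L U t hLt)
  have hsurj : Function.Surjective (f.app (Y.basicOpen t)).hom :=
    ((ConcreteCategory.isIso_iff_bijective (f.app (Y.basicOpen t))).mp inferInstance).2
  have hle : f ⁻¹ᵁ Y.basicOpen t ≤ f ⁻¹ᵁ U.1 := fun _ hx => Y.basicOpen_le t hx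
  obtain ⟨c, hc⟩ := hsurj ((X.presheaf.map (homOfLE hle).op).hom b)
  have hloc := U.2.isLocalization_basicOpen t
  obtain ⟨⟨a, ⟨_, m, rfl⟩⟩, hac⟩ := IsLocalization.surj (Submonoid.powers t) c
  have hac' : c * (Y.presheaf.map (homOfLE (Y.basicOpen_le t)).op).hom (t ^ m) =
      (Y.presheaf.map (homOfLE (Y.basicOpen_le t)).op).hom a := hac
  refine ⟨m, a, ?_⟩
  have hV : IsAffineOpen (f ⁻¹ᵁ U.1) := U.2.preimage f
  have hres : (X.presheaf.map (homOfLE hle).op).hom
      ((f.app U.1).hom a - (f.app U.1).hom t ^ m * b) = 0 := by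
    rw [map_sub, map_mul, ← app_res_basicOpen, ← hac', map_mul, hc, ← map_pow,
      ← app_res_basicOpen, mul_comm, sub_self]
  have hpre : f ⁻¹ᵁ Y.basicOpen t = X.basicOpen ((f.app U.1).hom t) :=
    Scheme.preimage_basicOpen f t
  have hres' : (X.presheaf.map (homOfLE (X.basicOpen_le ((f.app U.1).hom t))).op).hom
      ((f.app U.1).hom a - (f.app U.1).hom t ^ m * b) = 0 := by
    have key : ∀ (W : X.Opens) (hW : W = f ⁻¹ᵁ Y.basicOpen t) (hWle : W ≤ f ⁻¹ᵁ U.1),
        (X.presheaf.map (homOfLE hWle).op).hom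
          ((f.app U.1).hom a - (f.app U.1).hom t ^ m * b) = 0 := by
      rintro W rfl hWle
      exact hres
    exact key _ hpre.symm _
  obtain ⟨k, hk⟩ := exists_pow_mul_eq_zero_of_res_basicOpen_eq_zero_of_isAffineOpen X hV _ _ hres'
  have h0 := (mem_nonZeroDivisors_iff.mp (pow_mem hnzd k)).1 _ hk
  exact sub_eq_zero.mp h0

set_option backward.isDefEq.respectTransparency false in
/-- From the affine chart to the restriction of `f` over an affine open. -/
theorem isBlowUp_morphismRestrict_of_spec [IsAffineHom f] (I : Y.IdealSheafData)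
    (U : Y.affineOpens)
    (h : BlowUp.IsBlowUp (Spec.map (f.app U.1)) (Curv2.idealSheaf Γ(Y, U.1) (I.ideal U))) :
    BlowUp.IsBlowUp (f ∣_ U.1) (I.comap U.1.ι) := by
  have hV : IsAffineOpen (f ⁻¹ᵁ U.1) := U.2.preimage f
  have h1 := Groth.Agent.H8.isBlowUp_comp_iso_base h U.2.isoSpec.symm
  have h2 := Groth.Agent.H8.isBlowUp_iso_comp h1 hV.isoSpec
  have e1 : hV.isoSpec.hom ≫ Spec.map (f.app U.1) ≫ U.2.isoSpec.symm.hom = f ∣_ U.1 := by
    rw [Iso.symm_hom, ← Category.assoc, IsAffineOpen.isoSpec_hom,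
      Scheme.Opens.toSpecΓ_naturality, Category.assoc, ← IsAffineOpen.isoSpec_hom U.2,
      Iso.hom_inv_id, Category.comp_id]
  have e2 : (Curv2.idealSheaf Γ(Y, U.1) (I.ideal U)).comap U.2.isoSpec.symm.inv =
      I.comap U.1.ι := by
    rw [Iso.symm_inv, ← Groth.Agent.H8.comap_ι_comap_isoSpec_inv I U.2,
      ← Scheme.IdealSheafData.comap_comp, Iso.hom_inv_id, Scheme.IdealSheafData.comap_id]
  rw [e1, e2] at h2
  exact h2

end Local

section Global

variable {X Y : Scheme.{u}}

set_option backward.isDefEq.respectTransparency false in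
/-- **A finite morphism from a reduced scheme which is an isomorphism off an effective Cartier
divisor `V(L)` with dense preimage of the complement is a blow-up with centre supported on
`V(L)`.** -/
theorem exists_isBlowUp_of_finite_birational [CompactSpace Y] [IsReduced X] (f : X ⟶ Y)
    [IsFinite f] (L : Y.IdealSheafData) (hL : BlowUp.IsEffCartierIdeal L)
    (hiso : IsIso (f ∣_ L.support.compl))
    (hdense : Dense (f.base ⁻¹' ((L.support : Set Y)ᶜ))) :
    ∃ I : Y.IdealSheafData, I.support = L.support ∧ BlowUp.IsBlowUp f I := by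
  classical
  choose U hxU t ht hLt using hL
  -- local facts
  have hinj : ∀ y, Function.Injective (f.app (U y).1).hom := fun y =>
    app_injective_of_isIso_off f L (U y) (t y) (ht y) (hLt y)
  have hnzd : ∀ y, (f.app (U y).1).hom (t y) ∈ nonZeroDivisors Γ(X, f ⁻¹ᵁ (U y).1) := fun y =>
    app_mem_nonZeroDivisors_of_dense f L hdense (U y) (t y) (hLt y)
  have hpow : ∀ y, ∃ n : ℕ, ∀ b : Γ(X, f ⁻¹ᵁ (U y).1), ∃ a : Γ(Y, (U y).1),
      (f.app (U y).1).hom a = (f.app (U y).1).hom (t y) ^ n * b := by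
    intro y
    letI := (f.app (U y).1).hom.toAlgebra
    haveI : Module.Finite Γ(Y, (U y).1) Γ(X, f ⁻¹ᵁ (U y).1) :=
      IsFinite.finite_app f (U y).1 (U y).2
    exact exists_uniform_pow (t y)
      (fun b => exists_app_eq_pow_mul f L (U y) (t y) (hLt y) (hnzd y) b)
  choose n hn using hpow
  -- a finite subcover
  obtain ⟨s, hs⟩ := isCompact_univ.elim_finite_subcover (fun y : Y => (((U y).1 : Y.Opens) : Set Y))
    (fun y => (U y).1.2) (fun y _ => Set.mem_iUnion.mpr ⟨y, hxU y⟩)
  set N : ℕ := s.sup n + 1 with hN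
  have hnN : ∀ y ∈ s, ∀ b : Γ(X, f ⁻¹ᵁ (U y).1), ∃ a : Γ(Y, (U y).1),
      (f.app (U y).1).hom a = (f.app (U y).1).hom (t y) ^ N * b := by
    intro y hy b
    obtain ⟨a, ha⟩ := hn y b
    have hle : n y ≤ N := (Finset.le_sup hy).trans (Nat.le_succ _)
    refine ⟨t y ^ (N - n y) * a, ?_⟩
    rw [map_mul, ha, map_pow, ← mul_assoc, ← pow_add, Nat.sub_add_cancel hle]
  have hcover : ∀ x : Y, ∃ y ∈ s, x ∈ (U y).1 := by
    intro x
    have := hs (Set.mem_univ x)
    simp only [Set.mem_iUnion] at this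
    obtain ⟨y, hy, hx⟩ := this
    exact ⟨y, hy, hx⟩
  refine ⟨((L ^ N).comap f).map f, ?_, ?_⟩
  · -- the support
    have hker : f.ker = ⊥ := by
      rw [eq_bot_iff]
      refine Scheme.IdealSheafData.le_of_iSup_eq_top U ?_ fun y => ?_
      · rw [eq_top_iff]
        intro x _
        exact Opens.mem_iSup.mpr ⟨x, hxU x⟩
      · rw [Scheme.Hom.ker_apply, (RingHom.injective_iff_ker_eq_bot _).mp (hinj y)]
        exact le_rfl
    have hsurj : Function.Surjective f := surjective_of_isProper_of_ker_eq_bot f hker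
    apply Closeds.ext
    rw [Scheme.IdealSheafData.support_map, Closeds.coe_closure,
      Scheme.IdealSheafData.support_comap, Closeds.coe_preimage,
      Scheme.IdealSheafData.support_pow L N (Nat.succ_ne_zero _),
      Set.image_preimage_eq _ hsurj, L.support.isClosed.closure_eq]
  · -- the blow-up property, locally on the base
    apply isBlowUp_of_local
    intro x
    obtain ⟨y, hy, hx⟩ := hcover x
    refine ⟨(U y).1, (U y).1.ι, inferInstance, f ⁻¹ᵁ (U y).1, f ∣_ (U y).1, (f ⁻¹ᵁ (U y).1).ι,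
      ?_, (isPullback_morphismRestrict f (U y).1).flip, ?_⟩
    · rw [Scheme.Opens.range_ι]
      exact hx
    · apply isBlowUp_morphismRestrict_of_spec
      letI := (f.app (U y).1).hom.toAlgebra
      have hI : (((L ^ N).comap f).map f).ideal (U y) =
          (Ideal.span {(f.app (U y).1).hom (t y) ^ N}).comap (f.app (U y).1).hom := by
        rw [Scheme.IdealSheafData.ideal_map_of_isAffineHom,
          Groth.Agent.H19.ComapAff.ideal_comap_appLE f (L ^ N) (U y)
            ⟨f ⁻¹ᵁ (U y).1, (U y).2.preimage f⟩ le_rfl,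
          Scheme.IdealSheafData.ideal_pow, Pi.pow_apply, hLt y, Ideal.span_singleton_pow,
          Ideal.map_span, Set.image_singleton, map_pow]
        change Ideal.comap _ (Ideal.span
          {(f.appLE (U y).1 (f ⁻¹ᵁ (U y).1) le_rfl).hom (t y) ^ N}) = _
        rw [Scheme.Hom.appLE_eq_app]
      rw [hI]
      exact isBlowUp_spec_of_pow_mul_mem (hinj y) (t y) (hnzd y) N (hnN y hy)

end Global

end Groth.Agent.H8.FiniteBirBlowUp
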