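import Mathlib.RingTheory.Flat.Tensor
import Mathlib.Tactic
import Mathlib.RingTheory.Flat.Stability
import Mathlib.RingTheory.Nakayama
import Mathlib.RingTheory.Noetherian.Basic
import Mathlib.LinearAlgebra.TensorProduct.RightExactness
import Mathlib.RingTheory.TensorProduct.Finite
import Mathlib.RingTheory.Flat.Equalizer
import Mathlib.RingTheory.Localization.BaseChange

/-!
# Local criterion of flatness along a divisor (helper8)

`A → B`, `B` Noetherian, `h` in the Jacobson radical of `B` a nonzerodivisor with `B/hB` flat over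
`A`: then `B` is flat over `A`.
-/

set_option autoImplicit false
universe u

namespace Groth.Agent.H8

open TensorProduct Function

variable {A B : Type u} [CommRing A] [CommRing B] [Algebra A B]

/-- the `B`-module structure on `B ⊗[A] N` is through the left factor -/
lemma smul_eq_rTensor_mulLeft (N : Type u) [AddCommGroup N] [Module A N] (h : B) (z : B ⊗[A] N) :
    h • z = (LinearMap.mulLeft A h).rTensor N z := by
  induction z using TensorProduct.induction_on with
  | zero => simp
  | tmul b n => simp [TensorProduct.smul_tmul']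
  | add x y hx hy => rw [smul_add, map_add, hx, hy]

/-- **Flatness along a divisor.** -/
theorem flat_of_flat_quot_of_mem_jacobson [IsNoetherianRing B] (h : B)
    (hjac : h ∈ Ideal.jacobson (⊥ : Ideal B)) (hreg : h ∈ nonZeroDivisors B)
    [Module.Flat A (B ⧸ Ideal.span {h})] : Module.Flat A B := by
  rw [Module.Flat.iff_lTensor_injective]
  intro I hI
  -- the `B`-linear version of `B ⊗ I → B ⊗ A`
  let μ : B ⊗[A] I →ₗ[B] B ⊗[A] A := AlgebraTensorModule.lTensor B B I.subtype
  have hμ : ∀ z, μ z = I.subtype.lTensor B z := fun z => rfl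
  let K : Submodule B (B ⊗[A] I) := LinearMap.ker μ
  have : Module.Finite A I := Module.Finite.iff_fg.mpr hI
  have : Module.Finite B (B ⊗[A] I) := inferInstance
  have : IsNoetherian B (B ⊗[A] I) := isNoetherian_of_isNoetherianRing_of_finite B _
  have hKfg : K.FG := IsNoetherian.noetherian K
  -- `h` is a nonzerodivisor on `B ⊗ A ≅ B`
  have hregBA : ∀ w : B ⊗[A] A, h • w = 0 → w = 0 := by
    intro w hw
    have h1 := congrArg (AlgebraTensorModule.rid A B B) hw
    rw [map_smul, map_zero, smul_eq_mul, mul_comm] at h1
    have h2 := (mem_nonZeroDivisors_iff_right.mp hreg) _ h1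
    exact (AlgebraTensorModule.rid A B B).injective (by rw [h2, map_zero])
  -- exactness of `B ⊗ I → B ⊗ I → (B/h) ⊗ I`
  have hex : Exact (LinearMap.mulLeft A h) ((Ideal.span {h}).mkQ.restrictScalars A) := by
    intro b
    change Ideal.Quotient.mk _ b = 0 ↔ _
    rw [Ideal.Quotient.eq_zero_iff_mem, Ideal.mem_span_singleton']
    constructor
    · rintro ⟨c, rfl⟩; exact ⟨c, by simp [mul_comm]⟩
    · rintro ⟨c, rfl⟩; exact ⟨c, by simp [mul_comm]⟩
  have hsurj : Surjective ((Ideal.span {h}).mkQ.restrictScalars A) :=
    Submodule.mkQ_surjective _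
  have hexI := rTensor_exact I hex hsurj
  -- the key inclusion
  have hle : K ≤ Ideal.span {h} • K := by
    intro k hk
    have hk0 : I.subtype.lTensor B k = 0 := hk
    -- reduce mod `h`
    have h1 : (I.subtype.lTensor (B ⧸ Ideal.span {h}))
        (((Ideal.span {h}).mkQ.restrictScalars A).rTensor I k) = 0 := by
      rw [← LinearMap.comp_apply, LinearMap.lTensor_comp_rTensor, ← LinearMap.rTensor_comp_lTensor,
        LinearMap.comp_apply, hk0, map_zero]
    have h2 : ((Ideal.span {h}).mkQ.restrictScalars A).rTensor I k = 0 := by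
      have hinj : Injective (I.subtype.lTensor (B ⧸ Ideal.span {h})) :=
        Module.Flat.lTensor_preserves_injective_linearMap _ I.injective_subtype
      exact hinj (by rw [h1, map_zero])
    obtain ⟨q, hq⟩ := (hexI k).mp h2
    rw [← smul_eq_rTensor_mulLeft] at hq
    have hqK : q ∈ K := by
      change μ q = 0
      apply hregBA
      rw [← map_smul, hq]
      exact hk
    rw [← hq]
    exact Submodule.smul_mem_smul (Ideal.mem_span_singleton_self h) hqK
  have hK : K = ⊥ := Submodule.eq_bot_of_le_smul_of_le_jacobson_bot (Ideal.span {h}) K hKfg hle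
    ((Ideal.span_singleton_le_iff_mem _).mpr hjac)
  rw [injective_iff_map_eq_zero]
  intro z hz
  have : z ∈ K := hz
  rw [hK] at this
  exact this

/-- if `B/h` is flat over `A` and `h` is a nonzerodivisor of `B`, then `h` is a nonzerodivisor on
`B ⊗[A] N` for every `A`-module `N` -/
lemma rTensor_mulLeft_injective (h : B) (hreg : h ∈ nonZeroDivisors B)
    [Module.Flat A (B ⧸ Ideal.span {h})] (N : Type u) [AddCommGroup N] [Module A N] :
    Injective ((LinearMap.mulLeft A h).rTensor N) := by
  rw [← LinearMap.lTensor_inj_iff_rTensor_inj]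
  refine LinearMap.lTensor_injective_of_exact_of_flat ((Ideal.span {h}).mkQ.restrictScalars A)
    (Submodule.mkQ_surjective _) (LinearMap.mulLeft A h) ?_ ?_ N
  · intro b c hbc
    have : (b - c) * h = 0 := by
      have h1 : h * b = h * c := hbc
      linear_combination h1
    exact sub_eq_zero.mp ((mem_nonZeroDivisors_iff_right.mp hreg) _ this)
  · intro b
    change Ideal.Quotient.mk _ b = 0 ↔ _
    rw [Ideal.Quotient.eq_zero_iff_mem, Ideal.mem_span_singleton']
    constructor
    · rintro ⟨c, rfl⟩; exact ⟨c, by simp [mul_comm]⟩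
    · rintro ⟨c, rfl⟩; exact ⟨c, by simp [mul_comm]⟩

/-- **Flatness from a divisor and its complement**: if `h` is a nonzerodivisor of `B` with `B/h`
and `B[1/h]` flat over `A`, then `B` is flat over `A`. -/
theorem flat_of_flat_quot_of_flat_away (h : B) (hreg : h ∈ nonZeroDivisors B)
    (Bh : Type u) [CommRing Bh] [Algebra B Bh] [IsLocalization.Away h Bh] [Algebra A Bh]
    [IsScalarTower A B Bh] [Module.Flat A (B ⧸ Ideal.span {h})] [Module.Flat A Bh] :
    Module.Flat A B := by
  rw [Module.Flat.iff_lTensor_injective']
  intro I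
  rw [injective_iff_map_eq_zero]
  intro z hz
  let g : B →ₗ[A] Bh := (IsScalarTower.toAlgHom A B Bh).toLinearMap
  -- the image of `z` in `Bh ⊗ I` vanishes
  have h1 : g.rTensor I z = 0 := by
    have hinj : Injective (I.subtype.lTensor Bh) :=
      Module.Flat.lTensor_preserves_injective_linearMap _ I.injective_subtype
    apply hinj
    rw [map_zero, ← LinearMap.comp_apply, LinearMap.lTensor_comp_rTensor,
      ← LinearMap.rTensor_comp_lTensor, LinearMap.comp_apply, hz, map_zero]
  -- hence `z` is killed by a power of `h`
  have h2 : (TensorProduct.mk B Bh (B ⊗[A] I) 1) z = 0 := by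
    apply (AlgebraTensorModule.cancelBaseChange A B Bh Bh I).injective
    rw [map_zero]
    have key : ∀ w : B ⊗[A] I, (AlgebraTensorModule.cancelBaseChange A B Bh Bh I)
        ((TensorProduct.mk B Bh (B ⊗[A] I) 1) w) = g.rTensor I w := by
      intro w
      induction w using TensorProduct.induction_on with
      | zero => simp
      | tmul b i =>
        simp only [TensorProduct.mk_apply, AlgebraTensorModule.cancelBaseChange_tmul,
          LinearMap.rTensor_tmul]
        congr 1
        simp [g, Algebra.smul_def]
      | add x y hx hy => rw [map_add, map_add, hx, hy, map_add]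
    rw [key, h1]
  obtain ⟨⟨_, n, rfl⟩, hn⟩ :=
    (IsLocalizedModule.eq_zero_iff (Submonoid.powers h) (TensorProduct.mk B Bh (B ⊗[A] I) 1)).mp h2
  have hn' : h ^ n • z = 0 := hn
  -- `h` is a nonzerodivisor on `B ⊗ I`
  have hinj := rTensor_mulLeft_injective (A := A) h hreg I
  clear hn
  induction n with
  | zero => simpa using hn'
  | succ m ih =>
    apply ih
    rw [pow_succ', mul_smul, smul_eq_rTensor_mulLeft] at hn'
    exact hinj (by rw [hn', map_zero])

end Groth.Agent.H8
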