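import Mathlib
import Groth.Agent.S1324
import Groth.Agent.H12.Topo

/-!
# Section components: geometric connectedness and fibre components (helper8)

* `isConnected_preimage_sectionComponents`: the preimage of the section components in any base
  change to a field is connected (via S1324).
* `exists_isOpen_inter_fibre_eq_connectedComponentIn`: connected components of fibres of a morphism
  locally of finite type are relatively open (after helper17's `H17.Chev.SecComp2`).
-/

set_option autoImplicit false
set_option linter.style.haveILetI false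

universe u

open CategoryTheory CategoryTheory.Limits AlgebraicGeometry Topology TopologicalSpace

namespace Groth.Agent.H8.GC

/-- a locally Noetherian scheme is locally connected (after helper17) -/
theorem locallyConnectedSpace_of_isLocallyNoetherian (X : Scheme.{u}) [IsLocallyNoetherian X] :
    LocallyConnectedSpace X := by
  rw [locallyConnectedSpace_iff_connectedComponentIn_open]
  intro F hF x hx
  rw [isOpen_iff_forall_mem_open]
  intro z hz
  have hzF : z ∈ F := connectedComponentIn_subset F x hz
  obtain ⟨_, ⟨(U : X.Opens), hU, rfl⟩, hzU, hUF⟩ :=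
    X.isBasis_affineOpens.exists_subset_of_mem_open hzF hF
  replace hU : IsAffineOpen U := hU
  haveI : IsNoetherianRing Γ(X, U) := IsLocallyNoetherian.component_noetherian ⟨U, hU⟩
  haveI : NoetherianSpace ↥U := noetherianSpace_of_isAffineOpen U hU
  let z' : ↥U := ⟨z, hzU⟩
  have hop : IsOpen (connectedComponent z') :=
    Groth.Agent.H12.isOpen_connectedComponent_of_noetherian z'
  refine ⟨Subtype.val '' connectedComponent z', ?_, U.isOpen.isOpenMap_subtype_val _ hop,
    ⟨z', mem_connectedComponent, rfl⟩⟩
  have h1 : Subtype.val '' connectedComponent z' = connectedComponentIn (U : Set X) z :=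
    (connectedComponentIn_eq_image (F := (U : Set X)) (x := z) hzU).symm
  rw [h1, connectedComponentIn_eq hz]
  exact connectedComponentIn_mono z hUF

/-- the connected component of a point in a fibre of a morphism locally of finite type is
open in the fibre (after helper17) -/
theorem exists_isOpen_inter_fibre_eq_connectedComponentIn {X Y : Scheme.{u}} (f : X ⟶ Y)
    [LocallyOfFiniteType f] (y : Y) (x₀ : X) (hx₀ : f x₀ = y) :
    ∃ O : Set X, IsOpen O ∧ O ∩ f ⁻¹' {y} = connectedComponentIn (f ⁻¹' {y}) x₀ := by
  let φ := f.fiberToSpecResidueField y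
  haveI : LocallyOfFiniteType φ :=
    inferInstanceAs (LocallyOfFiniteType (pullback.snd f (Y.fromSpecResidueField _)))
  haveI : IsLocallyNoetherian (f.fiber y) := LocallyOfFiniteType.isLocallyNoetherian φ
  haveI : LocallyConnectedSpace ↥(f.fiber y) := locallyConnectedSpace_of_isLocallyNoetherian _
  let h := f.fiberHomeo y
  haveI : LocallyConnectedSpace ↥(f ⁻¹' {y}) :=
    h.symm.isOpenEmbedding.locallyConnectedSpace
  let t₀ : ↥(f ⁻¹' {y}) := ⟨x₀, hx₀⟩
  have hCT : IsOpen (connectedComponent t₀) := isOpen_connectedComponent
  obtain ⟨O, hO, hOeq⟩ := isOpen_induced_iff.mp hCT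
  refine ⟨O, hO, ?_⟩
  rw [connectedComponentIn_eq_image (F := f ⁻¹' {y}) (x := x₀) hx₀]
  change _ = Subtype.val '' connectedComponent t₀
  rw [← hOeq, Subtype.image_preimage_coe, Set.inter_comm]

/-- The preimage of the section components under base change to a field is connected. -/
theorem isConnected_preimage_sectionComponents {P Z : Scheme.{u}} (p2 : P ⟶ Z) (s : Z ⟶ P)
    (hs : s ≫ p2 = 𝟙 Z) {Ω : Type u} [Field Ω] (ω : Spec (.of Ω) ⟶ Z) :
    _root_.IsConnected ((pullback.fst p2 ω) ⁻¹' MoreMor.sectionComponents p2 s) := by
  let s' : Spec (.of Ω) ⟶ pullback p2 ω := pullback.lift (ω ≫ s) (𝟙 _) (by simp [hs])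
  have h1 : s' ≫ pullback.snd p2 ω = 𝟙 _ := pullback.lift_snd _ _ _
  have h2 : s' ≫ pullback.fst p2 ω = ω ≫ s := pullback.lift_fst _ _ _
  have key := Groth.Agent.S1324.result p2 s hs (pullback.snd p2 ω) (pullback.fst p2 ω) ω
    (IsPullback.of_hasPullback p2 ω) s' h1 h2
  rw [← key]
  haveI : Subsingleton ↥(Spec (.of Ω)) := inferInstanceAs (Subsingleton (PrimeSpectrum Ω))
  let pt : ↥(Spec (.of Ω)) := (⊥ : PrimeSpectrum Ω)
  have : MoreMor.sectionComponents (pullback.snd p2 ω) s' = connectedComponent (s' pt) := by
    ext ξ
    unfold MoreMor.sectionComponents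
    simp only [Set.mem_ofPred_eq]
    have hu : (pullback.snd p2 ω) ⁻¹' {(pullback.snd p2 ω) ξ} = Set.univ :=
      Set.eq_univ_of_forall fun x => Subsingleton.elim _ _
    rw [hu, connectedComponentIn_univ, Subsingleton.elim ((pullback.snd p2 ω) ξ) pt]
  rw [this]
  exact isConnected_connectedComponent

end Groth.Agent.H8.GC
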