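import Mathlib.Topology.Connected.Clopen
import Mathlib.Topology.Connected.LocallyConnected
import Mathlib.Topology.Separation.Basic
import Mathlib.Topology.Constructible

/-!
# Topological core of S1453 (helper8)

A finite "covering" `pr : P → X` over `g : Z → Y`, a retraction-section `s` of `p2 : P → Z`, and
`T` the union of the connected components of the fibres of `p2` through `s`.  If all of
`pr ⁻¹' {x₀}` lies in `T`, then over `y' = f x₀` the preimage under `pr` of the connected component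
of `x₀` in `f ⁻¹' {y'}` is exactly the trace of `T`.
-/

set_option autoImplicit false
set_option linter.unusedSectionVars false

open Set Topology

namespace Groth.Agent.H8.GCTopo

variable {P X Y Z : Type*} [TopologicalSpace P] [TopologicalSpace X] [TopologicalSpace Y]
  [TopologicalSpace Z]

/-- A preconnected subset of `S` meeting a relatively clopen subset `A` of `S` lies in `A`. -/
theorem subset_of_relClopen {S C A O K : Set X} (hC : IsPreconnected C) (hCS : C ⊆ S)
    (hO : IsOpen O) (hK : IsClosed K) (hAO : A = O ∩ S) (hAK : A = K ∩ S)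
    (hne : (C ∩ A).Nonempty) : C ⊆ A := by
  have hcov : C ⊆ O ∪ Kᶜ := by
    intro x hx
    by_cases hxK : x ∈ K
    · left
      have : x ∈ A := by rw [hAK]; exact ⟨hxK, hCS hx⟩
      rw [hAO] at this
      exact this.1
    · right; exact hxK
  have h1 : (C ∩ O).Nonempty := by
    obtain ⟨x, hxC, hxA⟩ := hne
    rw [hAO] at hxA
    exact ⟨x, hxC, hxA.1⟩
  have h2 : ¬ (C ∩ Kᶜ).Nonempty := by
    intro h2
    obtain ⟨x, hxC, hxO, hxK⟩ := hC O Kᶜ hO hK.isOpen_compl hcov h1 h2
    have : x ∈ A := by rw [hAO]; exact ⟨hxO, hCS hxC⟩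
    rw [hAK] at this
    exact hxK this.1
  intro x hx
  rw [hAK]
  refine ⟨?_, hCS hx⟩
  by_contra hxK
  exact h2 ⟨x, hx, hxK⟩

/-- Connected components of a subset are relatively closed. -/
theorem exists_isClosed_inter_eq_connectedComponentIn (F : Set P) (w : P) (hw : w ∈ F) :
    ∃ K : Set P, IsClosed K ∧ K ∩ F = connectedComponentIn F w := by
  have hcl : IsClosed (connectedComponent (⟨w, hw⟩ : F)) := isClosed_connectedComponent
  obtain ⟨K, hK, hKeq⟩ := isClosed_induced_iff.mp hcl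
  refine ⟨K, hK, ?_⟩
  rw [connectedComponentIn_eq_image hw, ← hKeq, Subtype.image_preimage_coe, Set.inter_comm]

section

variable (pr : P → X) (p2 : P → Z) (f : X → Y) (g : Z → Y) (s : Z → P)
  (hpr_cont : Continuous pr) (hp2 : Continuous p2)
  (hcomm : ∀ w, f (pr w) = g (p2 w))
  (hsurj : ∀ x z, f x = g z → ∃ w, pr w = x ∧ p2 w = z)
  (T : Set P) (hT : T = {w | w ∈ connectedComponentIn (p2 ⁻¹' {p2 w}) (s (p2 w))})
  (y' : Y) (x₀ : X) (hx₀ : f x₀ = y') (hx₀T : ∀ w, pr w = x₀ → w ∈ T)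

include hpr_cont hcomm hsurj hT hx₀ hx₀T in
/-- Points of `T` over `y'` map into the connected component of `x₀`. -/
theorem pr_mem_of_mem_T (w : P) (hw : w ∈ T) (hwy : g (p2 w) = y') :
    pr w ∈ connectedComponentIn (f ⁻¹' {y'}) x₀ := by
  set z' := p2 w with hz'
  obtain ⟨w₀, hw₀x, hw₀z⟩ := hsurj x₀ z' (by rw [hx₀, hwy])
  have hw₀T : w₀ ∈ T := hx₀T w₀ hw₀x
  rw [hT] at hw hw₀T
  simp only [mem_ofPred_eq] at hw hw₀T
  rw [hw₀z] at hw₀T
  rw [← hz'] at hw
  set D := connectedComponentIn (p2 ⁻¹' {z'}) (s z') with hD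
  have hDpre : IsPreconnected D := isPreconnected_connectedComponentIn
  have hDsub : D ⊆ p2 ⁻¹' {z'} := connectedComponentIn_subset _ _
  have himg : IsPreconnected (pr '' D) := hDpre.image pr hpr_cont.continuousOn
  have hsub : pr '' D ⊆ f ⁻¹' {y'} := by
    rintro _ ⟨w', hw', rfl⟩
    have : p2 w' = z' := hDsub hw'
    simp only [mem_preimage, mem_singleton_iff]
    rw [hcomm, this, hwy]
  have hx₀D : x₀ ∈ pr '' D := ⟨w₀, hw₀T, hw₀x⟩
  exact himg.subset_connectedComponentIn hx₀D hsub ⟨w, hw, rfl⟩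

include hpr_cont hp2 hcomm hsurj hT hx₀ hx₀T in
/-- Points over the connected component of `x₀` lie in `T`. -/
theorem mem_T_of_pr_mem (hpr_open : IsOpenMap pr) (hpr_closed : IsClosedMap pr)
    (hdisc : DiscreteTopology (g ⁻¹' {y'}))
    (hcomp : ∀ w, g (p2 w) = y' →
      ∃ O : Set P, IsOpen O ∧ O ∩ p2 ⁻¹' {p2 w} = connectedComponentIn (p2 ⁻¹' {p2 w}) w)
    (w : P) (hw : pr w ∈ connectedComponentIn (f ⁻¹' {y'}) x₀) : w ∈ T := by
  have hprw : f (pr w) = y' := by
    have h := connectedComponentIn_subset (f ⁻¹' {y'}) x₀ hw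
    exact h
  have hwy : g (p2 w) = y' := by rw [← hcomm, hprw]
  set z' := p2 w with hz'
  set F := p2 ⁻¹' {z'} with hF
  have hwF : w ∈ F := rfl
  set D := connectedComponentIn F w with hD
  set S : Set X := f ⁻¹' {y'} with hS
  set S' : Set P := p2 ⁻¹' (g ⁻¹' {y'}) with hS'
  have hFS' : F ⊆ S' := by
    intro w' hw'
    have : p2 w' = z' := hw'
    simp only [hS', mem_preimage, mem_singleton_iff, this, hwy]
  have hprS' : S' = pr ⁻¹' S := by
    ext w'
    simp only [hS', hS, mem_preimage, mem_singleton_iff, hcomm]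
  -- `{z'}` is relatively clopen in the fibre of `g`
  have hz'mem : z' ∈ g ⁻¹' {y'} := hwy
  have hsing_open : IsOpen ({⟨z', hz'mem⟩} : Set (g ⁻¹' {y'})) := isOpen_discrete _
  have hsing_closed : IsClosed ({⟨z', hz'mem⟩} : Set (g ⁻¹' {y'})) := isClosed_discrete _
  obtain ⟨N, hN, hNeq⟩ := isOpen_induced_iff.mp hsing_open
  obtain ⟨M, hM, hMeq⟩ := isClosed_induced_iff.mp hsing_closed
  have hNF : p2 ⁻¹' N ∩ S' = F := by
    ext w'
    simp only [hS', hF, mem_inter_iff, mem_preimage, mem_singleton_iff]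
    constructor
    · rintro ⟨h1, h2⟩
      have : (⟨p2 w', h2⟩ : g ⁻¹' {y'}) ∈ Subtype.val ⁻¹' N := h1
      rw [hNeq] at this
      exact congrArg Subtype.val this
    · intro h
      rw [h]
      refine ⟨?_, hwy⟩
      have : (⟨z', hz'mem⟩ : g ⁻¹' {y'}) ∈ Subtype.val ⁻¹' N := by rw [hNeq]; rfl
      exact this
  have hMF : p2 ⁻¹' M ∩ S' = F := by
    ext w'
    simp only [hS', hF, mem_inter_iff, mem_preimage, mem_singleton_iff]
    constructor
    · rintro ⟨h1, h2⟩
      have : (⟨p2 w', h2⟩ : g ⁻¹' {y'}) ∈ Subtype.val ⁻¹' M := h1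
      rw [hMeq] at this
      exact congrArg Subtype.val this
    · intro h
      rw [h]
      refine ⟨?_, hwy⟩
      have : (⟨z', hz'mem⟩ : g ⁻¹' {y'}) ∈ Subtype.val ⁻¹' M := by rw [hMeq]; rfl
      exact this
  obtain ⟨O₁, hO₁, hO₁eq⟩ := hcomp w hwy
  obtain ⟨K₁, hK₁, hK₁eq⟩ := exists_isClosed_inter_eq_connectedComponentIn F w hwF
  -- `D` is relatively clopen in `S'`
  have hDO : D = (O₁ ∩ p2 ⁻¹' N) ∩ S' := by
    rw [Set.inter_assoc, hNF, hD, ← hO₁eq]
  have hDK : D = (K₁ ∩ p2 ⁻¹' M) ∩ S' := by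
    rw [Set.inter_assoc, hMF, hD, ← hK₁eq]
  -- images
  have himgO : pr '' D = pr '' (O₁ ∩ p2 ⁻¹' N) ∩ S := by
    rw [hDO, hprS', Set.image_inter_preimage]
  have himgK : pr '' D = pr '' (K₁ ∩ p2 ⁻¹' M) ∩ S := by
    rw [hDK, hprS', Set.image_inter_preimage]
  have hOopen : IsOpen (pr '' (O₁ ∩ p2 ⁻¹' N)) := hpr_open _ (hO₁.inter (hN.preimage hp2))
  have hKclosed : IsClosed (pr '' (K₁ ∩ p2 ⁻¹' M)) := hpr_closed _ (hK₁.inter (hM.preimage hp2))
  have hCpre : IsPreconnected (connectedComponentIn S x₀) := isPreconnected_connectedComponentIn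
  have hCsub : connectedComponentIn S x₀ ⊆ S := connectedComponentIn_subset _ _
  have hwD : w ∈ D := mem_connectedComponentIn hwF
  have hsubset : connectedComponentIn S x₀ ⊆ pr '' D :=
    subset_of_relClopen hCpre hCsub hOopen hKclosed himgO himgK ⟨pr w, hw, w, hwD, rfl⟩
  have hx₀S : x₀ ∈ S := hx₀
  obtain ⟨w₁, hw₁D, hw₁x⟩ := hsubset (mem_connectedComponentIn hx₀S)
  have hw₁T : w₁ ∈ T := hx₀T w₁ hw₁x
  have hw₁z : p2 w₁ = z' := by
    have h := connectedComponentIn_subset F w hw₁D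
    exact h
  rw [hT] at hw₁T ⊢
  simp only [mem_ofPred_eq] at hw₁T ⊢
  rw [hw₁z] at hw₁T
  rw [← hz']
  -- components agree
  have e1 : connectedComponentIn F w = connectedComponentIn F w₁ := connectedComponentIn_eq hw₁D
  have e2 : connectedComponentIn F (s z') = connectedComponentIn F w₁ :=
    connectedComponentIn_eq hw₁T
  rw [e2, ← e1]
  exact hwD

end

/-- Constructible subsets of a compact space are compact. -/
theorem isCompact_of_isConstructible [CompactSpace X] {s : Set X} (hs : IsConstructible s) :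
    IsCompact s := by
  induction s, hs using BooleanSubalgebra.closure_sdiff_sup_induction with
  | isSublattice =>
    exact ⟨fun s hs t ht ↦ ⟨hs.1.union ht.1, hs.2.union ht.2⟩,
      fun s hs t ht ↦ ⟨hs.1.inter ht.1, hs.2.inter_isOpen ht.2 ht.1⟩⟩
  | bot_mem => exact ⟨isOpen_empty, .empty⟩
  | top_mem => exact ⟨isOpen_univ, .univ⟩
  | sdiff U hU V hV => exact hU.2.isCompact.diff hV.1
  | sup s _ t _ hs' ht' => exact hs'.union ht'

/-- Complements of locally constructible sets are locally constructible. -/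
theorem isLocallyConstructible_compl {s : Set X} (hs : IsLocallyConstructible s) :
    IsLocallyConstructible sᶜ := by
  intro x
  obtain ⟨U, hxU, hU, hUs⟩ := hs x
  exact ⟨U, hxU, hU, by simpa [Set.preimage_compl] using hUs.compl⟩

end Groth.Agent.H8.GCTopo
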