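import Mathlib
import Groth.Agent.H8.GCSecComp
import Groth.Agent.H8.GCTopo
import Groth.Agent.H8.Compositum

/-!
# Geometric connectedness of the fibres of the "all preimages in the section components" locus
(helper8, for S1453)
-/

set_option autoImplicit false
set_option linter.style.haveILetI false
set_option linter.unusedSectionVars false

universe u

open CategoryTheory CategoryTheory.Limits AlgebraicGeometry Topology TopologicalSpace

namespace Groth.Agent.H8.GC

variable {X Y Z : Scheme.{u}} (f : X ⟶ Y) (g : Z ⟶ Y) (σ : Z ⟶ X) (hσ : σ ≫ f = g)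

/-- the induced section of the base change -/
noncomputable def sec : Z ⟶ pullback f g := pullback.lift σ (𝟙 Z) (by simp [hσ])

@[reassoc (attr := simp)]
lemma sec_snd : sec f g σ hσ ≫ pullback.snd f g = 𝟙 Z := pullback.lift_snd _ _ _

@[reassoc (attr := simp)]
lemma sec_fst : sec f g σ hσ ≫ pullback.fst f g = σ := pullback.lift_fst _ _ _

/-- section components upstairs -/
noncomputable def TT : Set ↥(pullback f g) :=
  MoreMor.sectionComponents (pullback.snd f g) (sec f g σ hσ)

/-- the points of `X` all of whose preimages lie in `TT` -/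
def U0 : Set X := {x | ∀ w : ↥(pullback f g), pullback.fst f g w = x → w ∈ TT f g σ hσ}

lemma comm_apply (w : ↥(pullback f g)) : f (pullback.fst f g w) = g (pullback.snd f g w) := by
  rw [← Scheme.Hom.comp_apply, ← Scheme.Hom.comp_apply, pullback.condition]

lemma U0_eq : U0 f g σ hσ = ((pullback.fst f g) '' (TT f g σ hσ)ᶜ)ᶜ := by
  ext x
  simp only [U0, Set.mem_ofPred_eq, Set.mem_compl_iff, Set.mem_image, not_exists, not_and]
  constructor
  · intro h w hw hwx
    exact hw (h w hwx)
  · intro h w hwx
    by_contra hw
    exact h w hw hwx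

/-- Points of `TT` over `f x₀` map into the connected component of `x₀`. -/
theorem pr_mem_cc (x₀ : X) (hx₀ : x₀ ∈ U0 f g σ hσ) (w : ↥(pullback f g))
    (hw : w ∈ TT f g σ hσ) (hwy : g (pullback.snd f g w) = f x₀) :
    pullback.fst f g w ∈ connectedComponentIn (f ⁻¹' {f x₀}) x₀ :=
  GCTopo.pr_mem_of_mem_T (pullback.fst f g) (pullback.snd f g) f g (sec f g σ hσ)
    (pullback.fst f g).continuous (comm_apply f g)
    (fun x z h => Scheme.Pullback.exists_preimage_pullback x z h)
    (TT f g σ hσ) rfl (f x₀) x₀ rfl hx₀ w hw hwy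

/-- Points over the connected component of `x₀` lie in `TT`. -/
theorem mem_TT_of_pr_mem_cc [IsFinite g] [Flat g] [LocallyOfFinitePresentation g]
    [LocallyOfFiniteType f] (x₀ : X) (hx₀ : x₀ ∈ U0 f g σ hσ) (w : ↥(pullback f g))
    (hw : pullback.fst f g w ∈ connectedComponentIn (f ⁻¹' {f x₀}) x₀) : w ∈ TT f g σ hσ := by
  refine GCTopo.mem_T_of_pr_mem (pullback.fst f g) (pullback.snd f g) f g (sec f g σ hσ)
    (pullback.fst f g).continuous (pullback.snd f g).continuous (comm_apply f g)
    (fun x z h => Scheme.Pullback.exists_preimage_pullback x z h)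
    (TT f g σ hσ) rfl (f x₀) x₀ rfl hx₀ (pullback.fst f g).isOpenMap (pullback.fst f g).isClosedMap
    (isDiscrete_iff_discreteTopology.mp (g.isDiscrete_preimage_singleton (f x₀))) ?_ w hw
  intro w' _
  exact exists_isOpen_inter_fibre_eq_connectedComponentIn (pullback.snd f g) _ w' rfl

theorem cc_subset_U0 [IsFinite g] [Flat g] [LocallyOfFinitePresentation g]
    [LocallyOfFiniteType f] (x₀ : X) (hx₀ : x₀ ∈ U0 f g σ hσ) :
    connectedComponentIn (f ⁻¹' {f x₀}) x₀ ⊆ U0 f g σ hσ := by
  intro x hx w hwx
  exact mem_TT_of_pr_mem_cc f g σ hσ x₀ hx₀ w (hwx ▸ hx)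

/-- pasting: base change of the base change -/
lemma isPullback_paste {T' : Scheme.{u}} (t : T' ⟶ Z) :
    IsPullback (pullback.fst (pullback.snd f g) t ≫ pullback.fst f g)
      (pullback.snd (pullback.snd f g) t) f (t ≫ g) :=
  (IsPullback.of_hasPullback (pullback.snd f g) t).paste_horiz (IsPullback.of_hasPullback f g)

/-- If the fibre of `f` over `g z` is geometrically connected, the fibre of the base change over
`z` is connected. -/
theorem connectedSpace_fiber (z : Z)
    (hXy : GeometricallyConnected (f.fiberToSpecResidueField (g z))) :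
    ConnectedSpace ↥((pullback.snd f g).fiber z) := by
  let p2 := pullback.snd f g
  let pr := pullback.fst f g
  have hcomm : (p2.fiberι z ≫ pr) ≫ f =
      (p2.fiberToSpecResidueField z ≫ Spec.map (g.residueFieldMap z)) ≫
        Y.fromSpecResidueField (g z) := by
    rw [Category.assoc, Category.assoc, Scheme.Hom.SpecMap_residueFieldMap_fromSpecResidueField,
      pullback.condition, ← Category.assoc, ← Category.assoc]
    congr 1
    exact pullback.condition
  let top : p2.fiber z ⟶ f.fiber (g z) := pullback.lift (p2.fiberι z ≫ pr)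
    (p2.fiberToSpecResidueField z ≫ Spec.map (g.residueFieldMap z)) hcomm
  have h1 : top ≫ f.fiberι (g z) = pullback.fst p2 (Z.fromSpecResidueField z) ≫ pr :=
    pullback.lift_fst _ _ _
  have h2 : top ≫ f.fiberToSpecResidueField (g z) =
      p2.fiberToSpecResidueField z ≫ Spec.map (g.residueFieldMap z) := pullback.lift_snd _ _ _
  have outer : IsPullback (top ≫ f.fiberι (g z)) (p2.fiberToSpecResidueField z) f
      (Spec.map (g.residueFieldMap z) ≫ Y.fromSpecResidueField (g z)) := by
    rw [h1, Scheme.Hom.SpecMap_residueFieldMap_fromSpecResidueField]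
    exact isPullback_paste f g (Z.fromSpecResidueField z)
  have sq : IsPullback top (p2.fiberToSpecResidueField z) (f.fiberToSpecResidueField (g z))
      (Spec.map (g.residueFieldMap z)) :=
    IsPullback.of_right outer h2 (IsPullback.of_hasPullback f (Y.fromSpecResidueField (g z)))
  exact hXy.geometrically_connectedSpace (K := ↑(Z.residueField z))
    (Spec.map (g.residueFieldMap z)) top (p2.fiberToSpecResidueField z) sq

/-- A geometrically connected fibre lies in `U0`. -/
theorem fibre_subset_U0 (y : Y) (hXy : GeometricallyConnected (f.fiberToSpecResidueField y)) :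
    f ⁻¹' {y} ⊆ U0 f g σ hσ := by
  intro x hx w hwx
  have hy : g (pullback.snd f g w) = y := by
    rw [← comm_apply, hwx]; exact hx
  subst hy
  set z := pullback.snd f g w with hz
  haveI := connectedSpace_fiber f g z hXy
  have hpre : _root_.IsPreconnected ((pullback.snd f g) ⁻¹' {z}) := by
    rw [← (pullback.snd f g).range_fiberι z, ← Set.image_univ]
    exact (isConnected_univ.image _ ((pullback.snd f g).fiberι z).continuous.continuousOn).isPreconnected
  have hsz : (sec f g σ hσ) z ∈ (pullback.snd f g) ⁻¹' {z} := by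
    change (pullback.snd f g) ((sec f g σ hσ) z) = z
    rw [← Scheme.Hom.comp_apply, sec_snd]
    rfl
  change w ∈ connectedComponentIn ((pullback.snd f g) ⁻¹' {z}) ((sec f g σ hσ) z)
  rw [hpre.connectedComponentIn hsz]
  rfl

end Groth.Agent.H8.GC
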