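import Mathlib
import Groth.Agent.H8.GCMain

/-!
# Geometric connectedness of the fibres of `U0` (helper8, for S1453)
-/

set_option autoImplicit false
set_option linter.style.haveILetI false
set_option linter.unusedSectionVars false

universe u

open CategoryTheory CategoryTheory.Limits AlgebraicGeometry Topology TopologicalSpace

namespace Groth.Agent.H8.GC

variable {X Y Z : Scheme.{u}} (f : X ⟶ Y) (g : Z ⟶ Y) (σ : Z ⟶ X) (hσ : σ ≫ f = g)

/-- The preimage of `U0` in the base change of `X` to a field over a point of `g(Z)` in `f(U0)`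
is connected. -/
theorem isConnected_preimage_U0 [IsFinite g] [Flat g] [LocallyOfFinitePresentation g]
    [LocallyOfFiniteType f] (z : Z) (x₀ : X) (hx₀ : x₀ ∈ U0 f g σ hσ) (hx₀z : f x₀ = g z)
    {K : Type u} [Field K] (φ : Y.residueField (g z) ⟶ .of K) :
    _root_.IsConnected ((pullback.fst f (Spec.map φ ≫ Y.fromSpecResidueField (g z))) ⁻¹'
      U0 f g σ hσ) := by
  letI : Algebra (Y.residueField (g z)) K := φ.hom.toAlgebra
  letI : Algebra (Y.residueField (g z)) (Z.residueField z) := (g.residueFieldMap z).hom.toAlgebra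
  obtain ⟨Ω, _, a, b, hab⟩ := exists_compositum (Y.residueField (g z)) K (Z.residueField z)
  let a' : CommRingCat.of K ⟶ CommRingCat.of Ω := CommRingCat.ofHom a
  let b' : Z.residueField z ⟶ CommRingCat.of Ω := CommRingCat.ofHom b
  have hab' : φ ≫ a' = g.residueFieldMap z ≫ b' := by
    ext x
    exact congr($hab x)
  set κ := Spec.map φ ≫ Y.fromSpecResidueField (g z) with hκ
  let ω : Spec (.of Ω) ⟶ Z := Spec.map b' ≫ Z.fromSpecResidueField z
  have hω : ω ≫ g = Spec.map a' ≫ κ := by
    simp only [ω, hκ, Category.assoc]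
    rw [← Scheme.Hom.SpecMap_residueFieldMap_fromSpecResidueField, ← Spec.map_comp_assoc,
      ← hab', Spec.map_comp_assoc]
  have hωpt : ∀ t, ω t = z := fun t => by simp [ω]
  let p2 := pullback.snd f g
  let pr := pullback.fst f g
  let bb := pullback.fst p2 ω
  have hcc : (bb ≫ pr) ≫ f = (pullback.snd p2 ω ≫ Spec.map a') ≫ κ := by
    rw [Category.assoc, Category.assoc, ← hω]
    exact (isPullback_paste f g ω).w
  let c : pullback p2 ω ⟶ pullback f κ :=
    pullback.lift (bb ≫ pr) (pullback.snd p2 ω ≫ Spec.map a') hcc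
  have hc1 : c ≫ pullback.fst f κ = bb ≫ pr := pullback.lift_fst _ _ _
  have hc2 : c ≫ pullback.snd f κ = pullback.snd p2 ω ≫ Spec.map a' := pullback.lift_snd _ _ _
  have outer : IsPullback (c ≫ pullback.fst f κ) (pullback.snd p2 ω) f (Spec.map a' ≫ κ) := by
    rw [hc1, ← hω]
    exact isPullback_paste f g ω
  have sq : IsPullback c (pullback.snd p2 ω) (pullback.snd f κ) (Spec.map a') :=
    IsPullback.of_right outer hc2 (IsPullback.of_hasPullback f κ)
  haveI : Subsingleton ↥(Spec (CommRingCat.of K)) :=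
    inferInstanceAs (Subsingleton (PrimeSpectrum K))
  haveI : Surjective (Spec.map a') :=
    ⟨fun x => ⟨(⊥ : PrimeSpectrum Ω), Subsingleton.elim _ _⟩⟩
  haveI : Surjective c := MorphismProperty.of_isPullback (P := @Surjective) sq.flip inferInstance
  have hconn := isConnected_preimage_sectionComponents p2 (sec f g σ hσ) (sec_snd f g σ hσ) ω
  have hset : (pullback.fst f κ) ⁻¹' U0 f g σ hσ = c '' (bb ⁻¹' TT f g σ hσ) := by
    ext ζ
    constructor
    · intro hζ
      obtain ⟨ξ, rfl⟩ := c.surjective ζ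
      refine ⟨ξ, ?_, rfl⟩
      have : pr (bb ξ) = pullback.fst f κ (c ξ) := by
        rw [← Scheme.Hom.comp_apply, ← Scheme.Hom.comp_apply, hc1]
      exact hζ (bb ξ) this
    · rintro ⟨ξ, hξ, rfl⟩
      have e : pullback.fst f κ (c ξ) = pr (bb ξ) := by
        rw [← Scheme.Hom.comp_apply, ← Scheme.Hom.comp_apply, hc1]
      change pullback.fst f κ (c ξ) ∈ U0 f g σ hσ
      rw [e]
      apply cc_subset_U0 f g σ hσ x₀ hx₀
      apply pr_mem_cc f g σ hσ x₀ hx₀ (bb ξ) hξ
      rw [hx₀z]
      congr 1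
      have : p2 (bb ξ) = ω (pullback.snd p2 ω ξ) := by
        rw [← Scheme.Hom.comp_apply, ← Scheme.Hom.comp_apply, pullback.condition]
      rw [this, hωpt]
  rw [hset]
  exact hconn.image _ c.continuous.continuousOn

/-- The fibres of `U = f⁻¹ W ∩ U0` over points of `g(Z) ∩ f(U)` are geometrically connected. -/
theorem geometricallyConnected_fiber [IsFinite g] [Flat g] [LocallyOfFinitePresentation g]
    [LocallyOfFiniteType f] (U : X.Opens) (W : Y.Opens)
    (hU : (U : Set X) = f ⁻¹' (W : Set Y) ∩ U0 f g σ hσ)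
    (z : Z) (hzW : g z ∈ W) (x₀ : X) (hx₀U : x₀ ∈ U) (hx₀z : f x₀ = g z) :
    GeometricallyConnected ((U.ι ≫ f).fiberToSpecResidueField (g z)) := by
  refine ⟨fun K _ κ' Z' fst snd hpb => ?_⟩
  obtain ⟨φ, rfl⟩ := Spec.map_surjective κ'
  let h := U.ι ≫ f
  have big : IsPullback (fst ≫ h.fiberι (g z)) snd h
      (Spec.map φ ≫ Y.fromSpecResidueField (g z)) :=
    hpb.paste_horiz (IsPullback.of_hasPullback h (Y.fromSpecResidueField (g z)))
  set κ := Spec.map φ ≫ Y.fromSpecResidueField (g z) with hκ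
  have hjc : (fst ≫ h.fiberι (g z) ≫ U.ι) ≫ f = snd ≫ κ := by
    have := big.w
    simpa [h, Category.assoc] using this
  let j : Z' ⟶ pullback f κ := pullback.lift (fst ≫ h.fiberι (g z) ≫ U.ι) snd hjc
  have hj1 : j ≫ pullback.fst f κ = (fst ≫ h.fiberι (g z)) ≫ U.ι := by
    rw [Category.assoc]; exact pullback.lift_fst _ _ _
  have hj2 : j ≫ pullback.snd f κ = snd := pullback.lift_snd _ _ _
  have outer : IsPullback (j ≫ pullback.snd f κ) (fst ≫ h.fiberι (g z)) κ (U.ι ≫ f) := by
    rw [hj2]; exact big.flip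
  have sqj : IsPullback j (fst ≫ h.fiberι (g z)) (pullback.fst f κ) U.ι :=
    IsPullback.of_right outer hj1 (IsPullback.of_hasPullback f κ).flip
  haveI : IsOpenImmersion j :=
    MorphismProperty.of_isPullback (P := @IsOpenImmersion) sqj.flip inferInstance
  have hx₀0 : x₀ ∈ U0 f g σ hσ := by
    have : x₀ ∈ (U : Set X) := hx₀U
    rw [hU] at this
    exact this.2
  have hrange : Set.range j = (pullback.fst f κ) ⁻¹' U0 f g σ hσ := by
    ext ξ
    constructor
    · rintro ⟨ζ, rfl⟩
      have e : pullback.fst f κ (j ζ) = U.ι ((fst ≫ h.fiberι (g z)) ζ) := by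
        rw [← Scheme.Hom.comp_apply, ← Scheme.Hom.comp_apply, hj1]
      have hmem : U.ι ((fst ≫ h.fiberι (g z)) ζ) ∈ (U : Set X) :=
        ((fst ≫ h.fiberι (g z)) ζ).2
      rw [hU] at hmem
      change pullback.fst f κ (j ζ) ∈ U0 f g σ hσ
      rw [e]
      exact hmem.2
    · intro hξ
      have hfξ : f (pullback.fst f κ ξ) = g z := by
        rw [← Scheme.Hom.comp_apply, pullback.condition, Scheme.Hom.comp_apply]
        change (Spec.map φ ≫ Y.fromSpecResidueField (g z)) _ = g z
        rw [Scheme.Hom.comp_apply]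
        simp
      have hξU : pullback.fst f κ ξ ∈ (U : Set X) := by
        rw [hU]
        refine ⟨?_, hξ⟩
        change f (pullback.fst f κ ξ) ∈ W
        rw [hfξ]; exact hzW
      obtain ⟨p, hp1, hp2⟩ := Scheme.Pullback.exists_preimage_pullback
        (f := pullback.fst f κ) (g := U.ι) ξ ⟨_, hξU⟩ rfl
      refine ⟨sqj.isoPullback.inv p, ?_⟩
      rw [← Scheme.Hom.comp_apply, IsPullback.isoPullback_inv_fst]
      exact hp1
  have hconn := isConnected_preimage_U0 f g σ hσ z x₀ hx₀0 hx₀z φ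
  rw [← hκ, ← hrange, ← Set.image_univ] at hconn
  have hpre : _root_.IsPreconnected (Set.univ : Set ↥Z') :=
    (j.isOpenEmbedding.isInducing.isPreconnected_image).mp hconn.isPreconnected
  haveI : PreconnectedSpace ↥Z' := ⟨hpre⟩
  have hne : Nonempty ↥Z' := by
    obtain ⟨_, ζ, _, _⟩ := hconn.nonempty
    exact ⟨ζ⟩
  exact ⟨hne⟩

end Groth.Agent.H8.GC
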