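import Mathlib
import Groth.Agent.H22.RedSub
import Groth.Agent.H46.GenFree.Scheme
import Groth.Agent.H37.OrbitLC2

/-!
# Spreading a fibrewise locus from the generic point

A fibrewise locus `E f ⊆ Y` (for every morphism `f : X ⟶ Y`) which is compatible with base change and
locally constructible for quasi-compact morphisms locally of finite presentation contains a nonempty
open of an irreducible `Y` as soon as it contains the generic point, for `f` merely of finite type
(no reducedness of `Y`).
-/

set_option autoImplicit false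
set_option linter.style.haveILetI false

universe u

open AlgebraicGeometry CategoryTheory Limits Topology

namespace Groth.Agent.H8.GenericLocus

variable {X Y : Scheme.{u}}

/-- the point of a topological space whose image under an embedding is generic is generic -/
theorem closure_singleton_eq_univ_of_isEmbedding {A B : Type*} [TopologicalSpace A]
    [TopologicalSpace B] {e : A → B} (he : IsEmbedding e) (a : A)
    (ha : closure {e a} = Set.univ) : closure ({a} : Set A) = Set.univ := by
  rw [he.closure_eq_preimage_closure_image, Set.image_singleton, ha, Set.preimage_univ]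

/-- **Spreading from the generic point.** -/
theorem exists_open_subset_locus
    (E : ∀ {X Y : Scheme.{u}} (_ : X ⟶ Y), Set Y)
    (hbc : ∀ {X Y X' Y' : Scheme.{u}} (f : X ⟶ Y) (g : Y' ⟶ Y) (f' : X' ⟶ Y') (g' : X' ⟶ X),
      IsPullback g' f' f g → E f' = g ⁻¹' E f)
    (hcons : ∀ {X Y : Scheme.{u}} (f : X ⟶ Y) [QuasiCompact f] [LocallyOfFinitePresentation f],
      IsLocallyConstructible (E f))
    (f : X ⟶ Y) [IrreducibleSpace Y] [LocallyOfFiniteType f] [QuasiCompact f]
    (hgen : genericPoint Y ∈ E f) :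
    ∃ V : Y.Opens, (V : Set Y).Nonempty ∧ (V : Set Y) ⊆ E f := by
  let i := Y.nilradical.subschemeι
  haveI : IsReduced Y.nilradical.subscheme := Groth.Agent.H22.isReduced_nilradical_subscheme Y
  haveI : Surjective i := Groth.Agent.H22.surjective_nilradical_subschemeι Y
  have hihomeo : IsHomeomorph i :=
    isHomeomorph_iff_isEmbedding_surjective.mpr ⟨i.isClosedEmbedding.isEmbedding, i.surjective⟩
  let f' := pullback.snd f i
  obtain ⟨U, hUd, hflat, hfp⟩ := Groth.Agent.H46.GenFree.generic_flatness f'
  haveI := hflat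
  haveI := hfp
  have hcU := hcons (f' ∣_ U)
  have hpb : IsPullback ((f' ⁻¹ᵁ U).ι ≫ pullback.fst f i) (f' ∣_ U) f (U.ι ≫ i) :=
    (isPullback_morphismRestrict f' U).flip.paste_horiz (IsPullback.of_hasPullback f i)
  have hE : E (f' ∣_ U) = (U.ι ≫ i) ⁻¹' E f := hbc f (U.ι ≫ i) (f' ∣_ U) _ hpb
  -- the embedding `U → Y`
  have hemb : IsOpenEmbedding (U.ι ≫ i) := by
    rw [Scheme.Hom.comp_base, TopCat.coe_comp]
    exact hihomeo.isOpenEmbedding.comp U.ι.isOpenEmbedding
  -- `U` is nonempty
  haveI : Nonempty Y := ⟨genericPoint Y⟩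
  haveI : Nonempty Y.nilradical.subscheme := (i.surjective (genericPoint Y)).nonempty
  obtain ⟨y₁, hy₁⟩ : (U : Set Y.nilradical.subscheme).Nonempty := hUd.nonempty
  -- the generic point lies in the image of `U`
  have hgenmem : genericPoint Y ∈ Set.range (U.ι ≫ i) :=
    ((genericPoint_spec Y).mem_open_set_iff hemb.isOpen_range).mpr
      ⟨(U.ι ≫ i) ⟨y₁, hy₁⟩, by simp, ⟨_, rfl⟩⟩
  obtain ⟨u₀, hu₀⟩ := hgenmem
  have hu₀E : u₀ ∈ E (f' ∣_ U) := by
    rw [hE, Set.mem_preimage, hu₀]
    exact hgen
  have hcl : closure ({u₀} : Set U) = Set.univ := by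
    apply closure_singleton_eq_univ_of_isEmbedding hemb.isEmbedding
    rw [hu₀]
    exact genericPoint_spec Y
  obtain ⟨W, hWo, hWne, hWsub⟩ :=
    Groth.Agent.H37.exists_open_inter_closure_subset' hcU ⟨u₀, hu₀E⟩
  have hclE : closure (E (f' ∣_ U)) = Set.univ := by
    apply Set.eq_univ_of_univ_subset
    rw [← hcl]
    exact closure_mono (Set.singleton_subset_iff.mpr hu₀E)
  rw [hclE, Set.inter_univ] at hWne hWsub
  refine ⟨⟨(U.ι ≫ i) '' W, hemb.isOpenMap W hWo⟩, hWne.image _, ?_⟩
  rintro _ ⟨w, hw, rfl⟩
  have := hWsub hw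
  rw [hE] at this
  exact this

end Groth.Agent.H8.GenericLocus
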