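import Mathlib
import Groth.Agent.H46.GenFree.Scheme

/-!
# Generic quasi-separatedness

A quasi-compact morphism locally of finite type to an integral affine scheme is quasi-separated over
a nonempty open subset of the base.
-/

set_option autoImplicit false
set_option linter.style.haveILetI false

universe u

open AlgebraicGeometry CategoryTheory CategoryTheory.Limits TopologicalSpace

namespace Groth.Agent.H8.GenericQS

variable {X S : Scheme.{u}} (h : X ⟶ S)

/-- the part of any subset lying in a fibre of a morphism of finite type is compact -/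
theorem isCompact_inter_fibre [LocallyOfFiniteType h] [QuasiCompact h] (η : S) (A : Set X) :
    IsCompact (A ∩ h ⁻¹' {η}) := by
  haveI : QuasiCompact (h.fiberToSpecResidueField η) :=
    inferInstanceAs (QuasiCompact (pullback.snd h (S.fromSpecResidueField η)))
  haveI : LocallyOfFiniteType (h.fiberToSpecResidueField η) :=
    inferInstanceAs (LocallyOfFiniteType (pullback.snd h (S.fromSpecResidueField η)))
  haveI : IsLocallyNoetherian (h.fiber η) :=
    LocallyOfFiniteType.isLocallyNoetherian (h.fiberToSpecResidueField η)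
  haveI : CompactSpace (h.fiber η) :=
    (quasiCompact_iff_compactSpace (f := h.fiberToSpecResidueField η)).mp inferInstance
  haveI : IsNoetherian (h.fiber η) := {}
  have h1 : IsCompact ((h.fiberι η) ⁻¹' A) := NoetherianSpace.isCompact _
  have h2 : A ∩ h ⁻¹' {η} = (h.fiberι η) '' ((h.fiberι η) ⁻¹' A) := by
    rw [Set.image_preimage_eq_inter_range, Scheme.Hom.range_fiberι]
  rw [h2]
  exact h1.image (h.fiberι η).continuous

/-- a compact subset of an open subset of a scheme is contained in a compact open subset of it -/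
theorem exists_compact_open_between (K : Set X) (hK : IsCompact K) (G : X.Opens)
    (hKG : K ⊆ G) : ∃ W : X.Opens, IsCompact (W : Set X) ∧ K ⊆ W ∧ W ≤ G := by
  have h1 : ∀ x ∈ K, ∃ U : X.Opens, IsAffineOpen U ∧ x ∈ U ∧ U ≤ G := by
    intro x hx
    obtain ⟨_, ⟨U, hU, rfl⟩, hxU, hUG⟩ :=
      X.isBasis_affineOpens.exists_subset_of_mem_open (hKG hx) G.isOpen
    exact ⟨U, hU, hxU, hUG⟩
  choose! U hU hxU hUG using h1
  obtain ⟨t, htK, hcov⟩ := hK.elim_nhds_subcover (fun x => (U x : Set X))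
    (fun x hx => (U x).isOpen.mem_nhds (hxU x hx))
  refine ⟨⨆ x ∈ t, U x, ?_, ?_, ?_⟩
  · have : ((⨆ x ∈ t, U x : X.Opens) : Set X) = ⋃ x ∈ t, (U x : Set X) := by simp
    rw [this]
    exact t.isCompact_biUnion (fun x hx => (hU x (htK x hx)).isCompact)
  · intro x hx
    have := hcov hx
    simpa using this
  · exact iSup₂_le (fun x hx => hUG x (htK x hx))

variable [IsAffine S] [IsIntegral S] [LocallyOfFiniteType h]

/-- for two affine opens `U₁`, `U₂`, over a dense open of the base the intersection `U₁ ∩ U₂` is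
contained in a fixed compact open subset of it -/
theorem exists_dense_open_inter_le {U₁ U₂ : X.Opens} (hU₁ : IsAffineOpen U₁) (W : X.Opens)
    (_hW : W ≤ U₁ ⊓ U₂)
    (hgen : ∀ x ∈ U₁ ⊓ U₂, h x = genericPoint S → x ∈ W) :
    ∃ O : S.Opens, Dense (O : Set S) ∧ ∀ x ∈ U₁ ⊓ U₂, h x ∈ O → x ∈ W := by
  haveI : IsAffine (U₁ : Scheme.{u}) := hU₁
  -- the closed complement of `W` in `U₁`, as a reduced closed subscheme
  let C : Closeds (U₁ : Scheme.{u}) := ⟨((U₁.ι ⁻¹ᵁ W : (U₁ : Scheme.{u}).Opens) :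
    Set (U₁ : Scheme.{u}))ᶜ, (U₁.ι ⁻¹ᵁ W).isOpen.isClosed_compl⟩
  let ιZ := (Scheme.IdealSheafData.vanishingIdeal C).subschemeι
  have hrange : Set.range ιZ = (C : Set (U₁ : Scheme.{u})) := by
    rw [Scheme.IdealSheafData.range_subschemeι, Scheme.IdealSheafData.coe_support_vanishingIdeal]
  let k₁ : (U₁ : Scheme.{u}) ⟶ S := U₁.ι ≫ h
  haveI : QuasiCompact k₁ := quasiCompact_of_compactSpace _
  let g := ιZ ≫ k₁
  obtain ⟨O, hOd, hflat, hfp⟩ := Groth.Agent.H46.GenFree.generic_flatness g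
  refine ⟨O, hOd, ?_⟩
  intro x hx hxO
  by_contra hxW
  -- the point of the closed subscheme
  have hx₁ : (⟨x, hx.1⟩ : (U₁ : Scheme.{u})) ∈ (C : Set (U₁ : Scheme.{u})) := hxW
  rw [← hrange] at hx₁
  obtain ⟨z, hz⟩ := hx₁
  have hgz : g z = h x := by
    change h (U₁.ι (ιZ z)) = h x
    rw [hz]
    rfl
  -- the open subset of points of the closed subscheme lying in `U₂`, over `O`
  let Θ : (g ⁻¹ᵁ O : Scheme.{u}).Opens := (g ⁻¹ᵁ O).ι ⁻¹ᵁ ((ιZ ≫ U₁.ι) ⁻¹ᵁ U₂)
  have hopen : IsOpenMap (g ∣_ O) := (g ∣_ O).isOpenMap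
  have himg : IsOpen (O.ι '' ((g ∣_ O) '' (SetLike.coe Θ))) :=
    O.ι.isOpenEmbedding.isOpenMap _ (hopen _ Θ.isOpen)
  have hmem : h x ∈ O.ι '' ((g ∣_ O) '' (SetLike.coe Θ)) := by
    have hzO : z ∈ g ⁻¹ᵁ O := by
      change g z ∈ O
      rw [hgz]; exact hxO
    refine ⟨(g ∣_ O) ⟨z, hzO⟩, ⟨⟨z, hzO⟩, ?_, rfl⟩, ?_⟩
    · change (ιZ ≫ U₁.ι) z ∈ U₂
      change U₁.ι (ιZ z) ∈ U₂
      rw [hz]
      exact hx.2
    · rw [← Scheme.Hom.comp_apply, morphismRestrict_ι]
      exact hgz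
  have hη : genericPoint S ∈ O.ι '' ((g ∣_ O) '' (SetLike.coe Θ)) :=
    (genericPoint_specializes (h x)).mem_open himg hmem
  obtain ⟨_, ⟨z', hz'Θ, rfl⟩, hz'η⟩ := hη
  rw [← Scheme.Hom.comp_apply, morphismRestrict_ι] at hz'η
  -- the point `x'` of `U₁ ∩ U₂` over the generic point
  have hx'mem : U₁.ι (ιZ z'.1) ∈ U₁ ⊓ U₂ := ⟨(ιZ z'.1).2, hz'Θ⟩
  have hx'W : U₁.ι (ιZ z'.1) ∈ W := hgen _ hx'mem hz'η
  have hC : ιZ z'.1 ∈ (C : Set (U₁ : Scheme.{u})) := by
    rw [← hrange]; exact ⟨_, rfl⟩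
  exact hC hx'W

/-- a quasi-compact morphism locally of finite type to an integral affine scheme is quasi-separated
over a basic open neighbourhood of the generic point -/
theorem exists_basicOpen_quasiSeparated [QuasiCompact h] :
    ∃ a : Γ(S, ⊤), genericPoint S ∈ S.basicOpen a ∧ QuasiSeparated (h ∣_ S.basicOpen a) := by
  haveI : CompactSpace X := (quasiCompact_iff_compactSpace (f := h)).mp inferInstance
  obtain ⟨s, hs, hcov⟩ := isCompact_iff_finite_and_eq_biUnion_affineOpens.mp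
    (show IsCompact ((⊤ : X.Opens) : Set X) from isCompact_univ)
  haveI : Finite s := hs.to_subtype
  have h1 : ∀ i j : s, ∃ O : S.Opens, Dense (O : Set S) ∧ ∃ W : X.Opens,
      IsCompact (W : Set X) ∧ W ≤ i.1.1 ⊓ j.1.1 ∧
        ∀ x ∈ i.1.1 ⊓ j.1.1, h x ∈ O → x ∈ W := by
    intro i j
    have hK := isCompact_inter_fibre h (genericPoint S) ((i.1.1 ⊓ j.1.1 : X.Opens) : Set X)
    obtain ⟨W, hWc, hKW, hWle⟩ := exists_compact_open_between _ hK (i.1.1 ⊓ j.1.1)
      Set.inter_subset_left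
    obtain ⟨O, hOd, hO⟩ := exists_dense_open_inter_le h i.1.2 W hWle
      (fun x hx hxη => hKW ⟨hx, hxη⟩)
    exact ⟨O, hOd, W, hWc, hWle, hO⟩
  choose O hOd W hWc hWle hO using h1
  have hη : ∀ i j, genericPoint S ∈ O i j := by
    intro i j
    obtain ⟨y, hy⟩ := (hOd i j).nonempty
    exact (genericPoint_specializes y).mem_open (O i j).isOpen hy
  have hG : IsOpen (⋂ i, ⋂ j, (O i j : Set S)) :=
    isOpen_iInter_of_finite fun i => isOpen_iInter_of_finite fun j => (O i j).isOpen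
  have hηG : genericPoint S ∈ ⋂ i, ⋂ j, (O i j : Set S) :=
    Set.mem_iInter.mpr fun i => Set.mem_iInter.mpr fun j => hη i j
  obtain ⟨_, ⟨_, ⟨a, rfl⟩, rfl⟩, hηa, haG⟩ :=
    (isBasis_basicOpen S).exists_subset_of_mem_open hηG hG
  refine ⟨a, hηa, ?_⟩
  haveI : IsAffine (S.basicOpen a : Scheme.{u}) := (isAffineOpen_top S).basicOpen a
  rw [HasAffineProperty.iff_of_isAffine (P := @QuasiSeparated)]
  let Ω : X.Opens := h ⁻¹ᵁ S.basicOpen a
  change QuasiSeparatedSpace (Ω : Scheme.{u})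
  have hΩ : ∀ U : X.Opens, Ω.ι ''ᵁ (Ω.ι ⁻¹ᵁ U) = U ⊓ Ω := by
    intro U
    rw [Scheme.Hom.image_preimage_eq_opensRange_inf, Scheme.Opens.opensRange_ι, inf_comm]
  refine Scheme.quasiSeparatedSpace_of_isOpenCover (fun i : s => Ω.ι ⁻¹ᵁ i.1.1) ?_ ?_ ?_
  · rw [IsOpenCover, eq_top_iff]
    intro x _
    have hx : Ω.ι x ∈ (⊤ : X.Opens) := trivial
    rw [hcov] at hx
    simp only [Opens.mem_iSup] at hx
    obtain ⟨i, hi, hxi⟩ := hx
    exact Opens.mem_iSup.mpr ⟨⟨i, hi⟩, hxi⟩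
  · intro i
    rw [← Ω.ι.isAffineOpen_iff_of_isOpenImmersion, hΩ]
    have := Scheme.basicOpen_appLE h i.1.1 ⊤ le_top a
    rw [← this]
    exact i.1.2.basicOpen _
  · intro i j
    rw [Ω.ι.isOpenEmbedding.isCompact_iff]
    have h2 : Ω.ι '' ((Ω.ι ⁻¹ᵁ i.1.1 : (Ω : Scheme.{u}).Opens) ∩
        (Ω.ι ⁻¹ᵁ j.1.1 : (Ω : Scheme.{u}).Opens)) = ((W i j ⊓ Ω : X.Opens) : Set X) := by
      ext x
      constructor
      · rintro ⟨y, ⟨hy1, hy2⟩, rfl⟩
        refine ⟨hO i j _ ⟨hy1, hy2⟩ ?_, y.2⟩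
        have := haG y.2
        exact Set.mem_iInter.mp (Set.mem_iInter.mp this i) j
      · rintro ⟨hxW, hxΩ⟩
        have := hWle i j hxW
        exact ⟨⟨x, hxΩ⟩, ⟨this.1, this.2⟩, rfl⟩
    rw [h2]
    have := Scheme.basicOpen_appLE h (W i j) ⊤ le_top a
    rw [← this]
    exact isCompact_basicOpen X (hWc i j) _

end Groth.Agent.H8.GenericQS
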