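import Mathlib
import Groth.Prelude.Def_HTop
import Groth.Agent.H90.ValLift4

/-!
# Finite families of universally closed morphisms as h coverings
-/

set_option autoImplicit false
universe w u

namespace Groth.Agent.H8.HCoverFamily

open CategoryTheory CategoryTheory.Limits AlgebraicGeometry IsLocalRing Groth.Agent

/-- A jointly surjective family of universally closed morphisms has the valuation lifting
property. -/
theorem hasValLift_of_universallyClosed {T : Scheme.{u}} (E : PreZeroHypercover.{w} T)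
    (huc : ∀ j, UniversallyClosed (E.f j))
    (hsurj : ∀ y : T, ∃ (j : E.I₀) (x : E.X j), E.f j x = y) : HTop.HasValLift E := by
  apply H90.hasValLift_of_specialization_lift
  intro V _ _ g
  obtain ⟨j, x, hx⟩ := hsurj (g (⟨⊥, Ideal.isPrime_bot⟩ : PrimeSpectrum V))
  have := huc j
  obtain ⟨p', hp'1, hp'2⟩ := Scheme.Pullback.exists_preimage_pullback (f := g) (g := E.f j)
    (⟨⊥, Ideal.isPrime_bot⟩ : PrimeSpectrum V) x hx.symm
  have hcl : IsClosedMap (pullback.fst g (E.f j)) := (pullback.fst g (E.f j)).isClosedMap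
  have hsp : SpecializingMap (pullback.fst g (E.f j)) := hcl.specializingMap
  have hspec : pullback.fst g (E.f j) p' ⤳ closedPoint V := by
    rw [hp'1]
    exact H73.bot_specializes_closedPoint V
  obtain ⟨p, hpp, hp⟩ := hsp hspec
  exact ⟨j, pullback g (E.f j), pullback.fst g (E.f j), pullback.snd g (E.f j), p, p',
    pullback.condition.symm, hpp, hp, hp'1⟩

/-- A finite family of quasi-compact morphisms with the valuation lifting property is a
V covering. -/
theorem isVCover_of_hasValLift {T : Scheme.{u}} (E : PreZeroHypercover.{0} T) [Finite E.I₀]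
    (hqc : ∀ j, QuasiCompact (E.f j)) (hE : HTop.HasValLift E) : HTop.IsVCover E := by
  intro U
  have hUaff : IsAffine ((U : T.Opens) : Scheme.{u}) := U.2
  have hcov : ∀ j : E.I₀, ∃ (n : ℕ) (D : Fin n → (E.X j).Opens), (∀ k, IsAffineOpen (D k)) ∧
      (∀ k, D k ≤ (E.f j) ⁻¹ᵁ (U : T.Opens)) ∧
      ∀ x : E.X j, x ∈ (E.f j) ⁻¹ᵁ (U : T.Opens) → ∃ k, x ∈ D k := by
    intro j
    have := hqc j
    have hc : IsCompact (((E.f j) ⁻¹ᵁ (U : T.Opens) : (E.X j).Opens) : Set (E.X j)) :=
      (E.f j).isCompact_preimage U.2.isCompact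
    obtain ⟨Us, hUs, hUf, hUeq⟩ :=
      (E.X j).isBasis_affineOpens.exists_finite_of_isCompact
        (U := (E.f j) ⁻¹ᵁ (U : T.Opens)) hc
    have hfin : Finite Us := hUf.to_subtype
    obtain ⟨n, ⟨e⟩⟩ := Finite.exists_equiv_fin Us
    refine ⟨n, fun i => (e.symm i).1, fun i => hUs (e.symm i).2, ?_, ?_⟩
    · intro i
      rw [hUeq]
      exact le_sSup (e.symm i).2
    · intro x hx
      rw [hUeq, TopologicalSpace.Opens.mem_sSup] at hx
      obtain ⟨u, hu, hxu⟩ := hx
      refine ⟨e ⟨u, hu⟩, ?_⟩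
      show x ∈ (e.symm (e ⟨u, hu⟩)).1
      rw [Equiv.symm_apply_apply]
      exact hxu
  choose n D hD hDle hDcov using hcov
  let F : PreZeroHypercover.{0} ((U : T.Opens) : Scheme.{u}) :=
    { I₀ := Σ j : E.I₀, Fin (n j)
      X := fun p => ((D p.1 p.2 : (E.X p.1).Opens) : Scheme.{u})
      f := fun p => (E.f p.1).resLE (U : T.Opens) (D p.1 p.2) (hDle p.1 p.2) }
  have hfac : ∀ p : F.I₀, F.f p ≫ (U : T.Opens).ι = (D p.1 p.2).ι ≫ E.f p.1 :=
    fun p => Scheme.Hom.resLE_comp_ι (E.f p.1) (hDle p.1 p.2)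
  refine ⟨F, ⟨hUaff, inferInstanceAs (Finite (Σ j : E.I₀, Fin (n j))), fun p => hD p.1 p.2, ?_⟩,
    ?_⟩
  · intro V _ _ g₀
    obtain ⟨W, hW1, hW2, φ, hφ, j, g', hg'⟩ := hE V (g₀ ≫ (U : T.Opens).ι)
    have hIsLoc : IsLocalRing W := inferInstance
    have hx : g' (closedPoint W) ∈ (E.f j) ⁻¹ᵁ (U : T.Opens) := by
      show (E.f j) (g' (closedPoint W)) ∈ (U : T.Opens)
      rw [← Scheme.Hom.comp_apply, hg', ← Category.assoc, Scheme.Hom.comp_apply]
      exact ((Spec.map φ ≫ g₀) (closedPoint W)).2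
    obtain ⟨k, hk⟩ := hDcov j _ hx
    have hrange : Set.range g' ⊆ Set.range (D j k).ι := by
      apply H37.range_subset_of_closedPoint W
      rw [Scheme.Opens.range_ι]
      exact hk
    refine ⟨W, hW1, hW2, φ, hφ, ⟨j, k⟩, IsOpenImmersion.lift (D j k).ι g' hrange, ?_⟩
    rw [← cancel_mono (U : T.Opens).ι, Category.assoc, hfac ⟨j, k⟩, ← Category.assoc,
      IsOpenImmersion.lift_fac, hg', Category.assoc]
  · intro p
    exact ⟨p.1, (D p.1 p.2).ι, (hfac p).symm⟩

/-- **A finite jointly surjective family of universally closed, quasi-compact morphisms locally of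
finite presentation is an h covering.** -/
theorem isHCover_of_universallyClosed {T : Scheme.{u}} (E : PreZeroHypercover.{0} T) [Finite E.I₀]
    (huc : ∀ j, UniversallyClosed (E.f j)) (hqc : ∀ j, QuasiCompact (E.f j))
    (hfp : ∀ j, LocallyOfFinitePresentation (E.f j))
    (hsurj : ∀ y : T, ∃ (j : E.I₀) (x : E.X j), E.f j x = y) : HTop.IsHCover E :=
  ⟨hfp, isVCover_of_hasValLift E hqc (hasValLift_of_universallyClosed E huc hsurj)⟩

end Groth.Agent.H8.HCoverFamily
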