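import Mathlib

/-!
# Cartesian squares of sections of a sheaf from a two-member covering

Let `i : Z ⟶ Y` be a monomorphism and `f : X ⟶ Y` a morphism of a site such that `{i, f}` is a
covering, `E` is a weak pullback of `i` and `f`, and two morphisms `g₁ g₂ : W ⟶ X` equalised by `f`
agree, locally on `W`, either on the nose or after landing in `Z`.  Then every sheaf of types takes
the square `E, Z, X, Y` to a cartesian square.
-/

set_option autoImplicit false
set_option linter.deprecated false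
universe w v u₁
open CategoryTheory Opposite

namespace Groth.Agent.H8.SheafSquare

variable {C : Type u₁} [Category.{v} C] (J : GrothendieckTopology C) (F : Sheaf J (Type w))

/-- The two objects of a two-member family. -/
def obj₂ (Z X : C) : Bool → C := fun b => cond b Z X

/-- The two arrows of a two-member family. -/
def arr₂ {Z X Y : C} (i : Z ⟶ Y) (f : X ⟶ Y) : ∀ b : Bool, obj₂ Z X b ⟶ Y := fun b =>
  match b with
  | true => i
  | false => f

theorem existsUnique_section {E Z X Y : C} (e : E ⟶ X) (π : E ⟶ Z) (f : X ⟶ Y) (i : Z ⟶ Y)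
    [Mono i] (hcov : Sieve.generate (Presieve.ofArrows (obj₂ Z X) (arr₂ i f)) ∈ J Y)
    (hpb : ∀ (W : C) (g₁ : W ⟶ Z) (g₂ : W ⟶ X), g₁ ≫ i = g₂ ≫ f →
      ∃ l : W ⟶ E, l ≫ π = g₁ ∧ l ≫ e = g₂)
    (hdiag : ∀ (W : C) (g₁ g₂ : W ⟶ X), g₁ ≫ f = g₂ ≫ f → ∃ R ∈ J W, ∀ (W' : C) (h : W' ⟶ W),
      R.arrows h → (h ≫ g₁ = h ≫ g₂ ∨ ∃ z : W' ⟶ Z, h ≫ g₁ ≫ f = z ≫ i))
    (t : F.obj.obj (op Z)) (s' : F.obj.obj (op X))
    (hts : F.obj.map π.op t = F.obj.map e.op s') :
    ∃! s : F.obj.obj (op Y), F.obj.map i.op s = t ∧ F.obj.map f.op s = s' := by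
  have hsheaf := (isSheaf_iff_isSheaf_of_type J F.obj).mp F.property
  have hs : Presieve.IsSheafFor F.obj
      (Sieve.generate (Presieve.ofArrows (obj₂ Z X) (arr₂ i f))).arrows := hsheaf _ hcov
  rw [← Presieve.isSheafFor_iff_generate, Presieve.isSheafFor_arrows_iff] at hs
  -- the family
  let x : ∀ b : Bool, F.obj.obj (op (obj₂ Z X b)) := fun b =>
    match b with
    | true => t
    | false => s'
  -- sections over `X` equalised by `f`
  have hXX : ∀ (W : C) (g₁ g₂ : W ⟶ X), g₁ ≫ f = g₂ ≫ f →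
      F.obj.map g₁.op s' = F.obj.map g₂.op s' := by
    intro W g₁ g₂ hg
    obtain ⟨R, hR, hRprop⟩ := hdiag W g₁ g₂ hg
    apply (hsheaf R hR).isSeparatedFor.ext
    intro W' h hh
    rw [← FunctorToTypes.map_comp_apply, ← FunctorToTypes.map_comp_apply, ← op_comp, ← op_comp]
    rcases hRprop W' h hh with heq | ⟨z, hz⟩
    · rw [heq]
    · have hz2 : h ≫ g₂ ≫ f = z ≫ i := by rw [← hg]; exact hz
      obtain ⟨l₁, hl₁π, hl₁e⟩ := hpb W' z (h ≫ g₁) (by rw [Category.assoc]; exact hz.symm)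
      obtain ⟨l₂, hl₂π, hl₂e⟩ := hpb W' z (h ≫ g₂) (by rw [Category.assoc]; exact hz2.symm)
      rw [← hl₁e, ← hl₂e, op_comp, op_comp, FunctorToTypes.map_comp_apply,
        FunctorToTypes.map_comp_apply, ← hts, ← FunctorToTypes.map_comp_apply,
        ← FunctorToTypes.map_comp_apply, ← op_comp, ← op_comp, hl₁π, hl₂π]
  have hZX : ∀ (W : C) (g₁ : W ⟶ Z) (g₂ : W ⟶ X), g₁ ≫ i = g₂ ≫ f →
      F.obj.map g₁.op t = F.obj.map g₂.op s' := by
    intro W g₁ g₂ hg
    obtain ⟨l, hlπ, hle⟩ := hpb W g₁ g₂ hg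
    rw [← hlπ, ← hle, op_comp, op_comp, FunctorToTypes.map_comp_apply,
      FunctorToTypes.map_comp_apply, hts]
  have hcompat : Presieve.Arrows.Compatible F.obj (arr₂ i f) x := by
    intro b₁ b₂ W g₁ g₂ hg
    match b₁, b₂, g₁, g₂, hg with
    | true, true, g₁, g₂, hg =>
      have : g₁ = g₂ := (cancel_mono i).mp hg
      rw [this]
    | true, false, g₁, g₂, hg => exact hZX W g₁ g₂ hg
    | false, true, g₁, g₂, hg => exact (hZX W g₂ g₁ hg.symm).symm
    | false, false, g₁, g₂, hg => exact hXX W g₁ g₂ hg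
  obtain ⟨s, hs1, hs2⟩ := hs x hcompat
  refine ⟨s, ⟨hs1 true, hs1 false⟩, fun s₂ hs₂ => hs2 s₂ ?_⟩
  intro b
  match b with
  | true => exact hs₂.1
  | false => exact hs₂.2

/-- In an over category, the sieve generated by a family is covering for `J.over S` as soon as the
family of underlying arrows is in a precoverage generating `J`. -/
theorem generate_ofArrows_mem_over (K : Precoverage C) {S : C} {Y : Over S} {ι : Type*}
    (X : ι → Over S) (f : ∀ i, X i ⟶ Y)
    (h : Presieve.ofArrows (fun i => (X i).left) (fun i => (f i).left) ∈ K Y.left) :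
    Sieve.generate (Presieve.ofArrows X f) ∈ (K.toGrothendieck.over S) Y := by
  rw [GrothendieckTopology.mem_over_iff]
  refine K.toGrothendieck.superset_covering ?_ (Precoverage.generate_mem_toGrothendieck h)
  rw [Sieve.generate_le_iff]
  rintro Z g ⟨i⟩
  rw [Sieve.overEquiv_iff]
  refine ⟨X i, Over.homMk (𝟙 _) (by simp), f i, ⟨i⟩, ?_⟩
  ext
  simp

end Groth.Agent.H8.SheafSquare
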