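import Mathlib
import Groth.Prelude.Def_HTop
import Groth.Agent.H8.SheafSquare
import Groth.Agent.H8.HCoverFamily
import Groth.Agent.H40.CD.LfpCancel

/-!
# h sheaves and squares `E, Z, X, Y` with `X ⟶ Y` proper, an isomorphism away from `Z`
-/

set_option autoImplicit false
set_option linter.style.haveILetI false
universe u
open CategoryTheory CategoryTheory.Limits AlgebraicGeometry Opposite

namespace Groth.Agent.H8.HSheafSquare

open Groth.Agent.H8.SheafSquare

variable {S : Scheme.{u}}

/-- A pair of universally closed quasi-compact morphisms locally of finite presentation which are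
jointly surjective generates a covering sieve of the big h site. -/
theorem generate_pair_mem_Jh {Z X Y : Over S} (i : Z ⟶ Y) (f : X ⟶ Y)
    [UniversallyClosed i.left] [QuasiCompact i.left] [LocallyOfFinitePresentation i.left]
    [UniversallyClosed f.left] [QuasiCompact f.left] [LocallyOfFinitePresentation f.left]
    (hsurj : ∀ y : Y.left, y ∈ Set.range i.left ∨ y ∈ Set.range f.left) :
    Sieve.generate (Presieve.ofArrows (obj₂ Z X) (arr₂ i f)) ∈ HTop.Jh S Y := by
  apply generate_ofArrows_mem_over HTop.hPrecoverage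
  let E : PreZeroHypercover.{0} Y.left :=
    { I₀ := Bool
      X := fun b => (obj₂ Z X b).left
      f := fun b => (arr₂ i f b).left }
  have hE : HTop.IsHCover E := by
    apply Groth.Agent.H8.HCoverFamily.isHCover_of_universallyClosed E
    · intro b
      match b with
      | true => exact inferInstanceAs (UniversallyClosed i.left)
      | false => exact inferInstanceAs (UniversallyClosed f.left)
    · intro b
      match b with
      | true => exact inferInstanceAs (QuasiCompact i.left)
      | false => exact inferInstanceAs (QuasiCompact f.left)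
    · intro b
      match b with
      | true => exact inferInstanceAs (LocallyOfFinitePresentation i.left)
      | false => exact inferInstanceAs (LocallyOfFinitePresentation f.left)
    · intro y
      rcases hsurj y with ⟨z, hz⟩ | ⟨x, hx⟩
      · exact ⟨true, z, hz⟩
      · exact ⟨false, x, hx⟩
  exact (HTop.presieve₀_mem_hPrecoverage_iff E).mpr hE

/-- A square in `Over S` whose underlying square is cartesian is a weak pullback. -/
theorem weakPullback_of_isPullback {E Z X Y : Over S} (e : E ⟶ X)
    (π : E ⟶ Z) (f : X ⟶ Y) (i : Z ⟶ Y)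
    (hsq : IsPullback e.left π.left f.left i.left)
    (W : Over S) (g₁ : W ⟶ Z) (g₂ : W ⟶ X) (hg : g₁ ≫ i = g₂ ≫ f) :
    ∃ l : W ⟶ E, l ≫ π = g₁ ∧ l ≫ e = g₂ := by
  have hgl : g₂.left ≫ f.left = g₁.left ≫ i.left := by
    rw [← Over.comp_left, ← Over.comp_left, hg]
  have h1 : hsq.lift g₂.left g₁.left hgl ≫ e.left = g₂.left := hsq.lift_fst _ _ _
  have h2 : hsq.lift g₂.left g₁.left hgl ≫ π.left = g₁.left := hsq.lift_snd _ _ _
  have hw : hsq.lift g₂.left g₁.left hgl ≫ E.hom = W.hom := by
    rw [← Over.w e, ← Category.assoc, h1, Over.w]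
  refine ⟨Over.homMk (hsq.lift g₂.left g₁.left hgl) hw, ?_, ?_⟩
  · ext
    exact h2
  · ext
    exact h1

set_option backward.isDefEq.respectTransparency false in
set_option maxHeartbeats 1600000 in
/-- Two morphisms to `X` equalised by `f` agree locally for the h topology, up to landing in `Z`. -/
theorem diag_cover {Z X Y : Over S}
    (f : X ⟶ Y) (i : Z ⟶ Y) [IsClosedImmersion i.left]
    [LocallyOfFinitePresentation i.left] [IsProper f.left] [LocallyOfFinitePresentation f.left]
    (hmono : ∀ (T : Scheme.{u}) (m₁ m₂ : T ⟶ X.left), m₁ ≫ f.left = m₂ ≫ f.left →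
      (∀ x : T, (m₁ ≫ f.left) x ∉ Set.range i.left) → m₁ = m₂)
    (W : Over S) (g₁ g₂ : W ⟶ X) (hg : g₁ ≫ f = g₂ ≫ f) :
    ∃ R ∈ HTop.Jh S W, ∀ (W' : Over S) (h : W' ⟶ W),
      R.arrows h → (h ≫ g₁ = h ≫ g₂ ∨ ∃ z : W' ⟶ Z, h ≫ g₁ ≫ f = z ≫ i) := by
  have hgl : g₁.left ≫ f.left = g₂.left ≫ f.left := by
    rw [← Over.comp_left, ← Over.comp_left, hg]
  have hΔfp : LocallyOfFinitePresentation (pullback.diagonal f.left) :=
    Groth.Agent.H40.CD.locallyOfFinitePresentation_diagonal f.left
  have hd1 : pullback.fst (pullback.lift g₁.left g₂.left hgl) (pullback.diagonal f.left) ≫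
      g₁.left = pullback.snd (pullback.lift g₁.left g₂.left hgl) (pullback.diagonal f.left) := by
    have h := pullback.condition (f := pullback.lift g₁.left g₂.left hgl)
      (g := pullback.diagonal f.left)
    have h' := congrArg (fun k => k ≫ pullback.fst f.left f.left) h
    simp only [Category.assoc, pullback.lift_fst, pullback.diagonal_fst, Category.comp_id] at h'
    exact h'
  have hd2 : pullback.fst (pullback.lift g₁.left g₂.left hgl) (pullback.diagonal f.left) ≫
      g₂.left = pullback.snd (pullback.lift g₁.left g₂.left hgl) (pullback.diagonal f.left) := by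
    have h := pullback.condition (f := pullback.lift g₁.left g₂.left hgl)
      (g := pullback.diagonal f.left)
    have h' := congrArg (fun k => k ≫ pullback.snd f.left f.left) h
    simp only [Category.assoc, pullback.lift_snd, pullback.diagonal_snd, Category.comp_id] at h'
    exact h'
  let WΔ : Over S := Over.mk
    (pullback.fst (pullback.lift g₁.left g₂.left hgl) (pullback.diagonal f.left) ≫ W.hom)
  let a₁ : WΔ ⟶ W := Over.homMk
    (pullback.fst (pullback.lift g₁.left g₂.left hgl) (pullback.diagonal f.left)) rfl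
  let WZ : Over S := Over.mk (pullback.fst (g₁.left ≫ f.left) i.left ≫ W.hom)
  let a₂ : WZ ⟶ W := Over.homMk (pullback.fst (g₁.left ≫ f.left) i.left) rfl
  have ha₁ : a₁.left =
      pullback.fst (pullback.lift g₁.left g₂.left hgl) (pullback.diagonal f.left) := rfl
  have ha₂ : a₂.left = pullback.fst (g₁.left ≫ f.left) i.left := rfl
  haveI : IsClosedImmersion a₁.left := by rw [ha₁]; infer_instance
  haveI : LocallyOfFinitePresentation a₁.left := by rw [ha₁]; infer_instance
  haveI : IsClosedImmersion a₂.left := by rw [ha₂]; infer_instance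
  haveI : LocallyOfFinitePresentation a₂.left := by rw [ha₂]; infer_instance
  refine ⟨Sieve.generate (Presieve.ofArrows (obj₂ WΔ WZ) (arr₂ a₁ a₂)),
    generate_pair_mem_Jh a₁ a₂ ?_, ?_⟩
  · -- joint surjectivity
    intro w
    by_cases hw : (g₁.left ≫ f.left) w ∈ Set.range i.left
    · right
      obtain ⟨z, hz⟩ := hw
      obtain ⟨p, hp1, -⟩ := Scheme.Pullback.exists_preimage_pullback
        (f := g₁.left ≫ f.left) (g := i.left) w z hz.symm
      exact ⟨p, hp1⟩
    · left
      have hcl : IsClosed (Set.range i.left) := i.left.isClosedEmbedding.isClosed_range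
      let U : Y.left.Opens := ⟨(Set.range i.left)ᶜ, hcl.isOpen_compl⟩
      let W₀ : W.left.Opens := (g₁.left ≫ f.left) ⁻¹ᵁ U
      have hm : W₀.ι ≫ g₁.left = W₀.ι ≫ g₂.left := by
        apply hmono
        · rw [Category.assoc, Category.assoc, hgl]
        · intro x
          rw [Category.assoc, Scheme.Hom.comp_apply]
          exact x.2
      have hcond : W₀.ι ≫ pullback.lift g₁.left g₂.left hgl =
          (W₀.ι ≫ g₁.left) ≫ pullback.diagonal f.left := by
        apply pullback.hom_ext
        · simp
        · simp [hm]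
      have hl : pullback.lift W₀.ι (W₀.ι ≫ g₁.left) hcond ≫ a₁.left = W₀.ι := by
        rw [ha₁, pullback.lift_fst]
      have hwW : w ∈ W₀ := hw
      refine ⟨pullback.lift W₀.ι (W₀.ι ≫ g₁.left) hcond ⟨w, hwW⟩, ?_⟩
      have h3 := congrArg (fun k : (W₀ : Scheme.{u}) ⟶ W.left => k ⟨w, hwW⟩) hl
      simp only [Scheme.Hom.comp_apply] at h3
      exact h3
  · -- the two members have the required property
    intro W' h hh
    obtain ⟨V, k, a, ⟨b⟩, rfl⟩ := hh
    match b with
    | true =>
      left
      ext
      simp only [Over.comp_left, Category.assoc]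
      change k.left ≫ a₁.left ≫ g₁.left = k.left ≫ a₁.left ≫ g₂.left
      rw [ha₁, hd1, hd2]
    | false =>
      right
      have hw : pullback.snd (g₁.left ≫ f.left) i.left ≫ Z.hom = WZ.hom := by
        change _ = pullback.fst (g₁.left ≫ f.left) i.left ≫ W.hom
        rw [← Over.w i, ← Category.assoc, ← pullback.condition, Category.assoc, Category.assoc,
          Over.w f, Over.w g₁]
      refine ⟨k ≫ (Over.homMk (pullback.snd (g₁.left ≫ f.left) i.left) hw : WZ ⟶ Z), ?_⟩
      ext
      simp only [Over.comp_left, Category.assoc, Over.homMk_left]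
      change k.left ≫ a₂.left ≫ g₁.left ≫ f.left = _
      rw [ha₂, ← pullback.condition]

/-- **Cartesian squares of sections of an h sheaf.** -/
theorem existsUnique_section_of_square (F : HTop.ShH S) {E Z X Y : Over S} (e : E ⟶ X)
    (π : E ⟶ Z) (f : X ⟶ Y) (i : Z ⟶ Y) [IsClosedImmersion i.left]
    [LocallyOfFinitePresentation i.left] [IsProper f.left] [LocallyOfFinitePresentation f.left]
    (hsq : IsPullback e.left π.left f.left i.left)
    (hsurj : ∀ y : Y.left, y ∈ Set.range i.left ∨ y ∈ Set.range f.left)
    (hmono : ∀ (T : Scheme.{u}) (m₁ m₂ : T ⟶ X.left), m₁ ≫ f.left = m₂ ≫ f.left →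
      (∀ x : T, (m₁ ≫ f.left) x ∉ Set.range i.left) → m₁ = m₂)
    (t : F.obj.obj (op Z)) (s' : F.obj.obj (op X))
    (hts : F.obj.map π.op t = F.obj.map e.op s') :
    ∃! s : F.obj.obj (op Y), F.obj.map i.op s = t ∧ F.obj.map f.op s = s' := by
  haveI : Mono i := (Over.forget S).mono_of_mono_map (inferInstanceAs (Mono i.left))
  exact existsUnique_section (HTop.Jh S) F e π f i (generate_pair_mem_Jh i f hsurj)
    (weakPullback_of_isPullback e π f i hsq) (diag_cover f i hmono) t s' hts

end Groth.Agent.H8.HSheafSquare
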