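import Groth.Prelude.Def_CohB1
import Mathlib.RingTheory.PrincipalIdealDomain
import Mathlib.RingTheory.Polynomial.Basic
import Mathlib.RingTheory.Localization.FractionRing

/-!
# Charts of the projective line are principal ideal domains (helper8)

The dehomogenization map `θ` is copied (renamed into `Groth.Agent.H8.P1`) from helper54's
`H54/ProjClosedPt.lean`, to avoid its heavy import closure.
-/

set_option autoImplicit false
universe u
open CategoryTheory CategoryTheory.Limits AlgebraicGeometry TopologicalSpace Opposite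
open HomogeneousLocalization

namespace Groth.Agent.H8.P1

section alg
variable (k : Type u) [Field k] (n : ℕ)

local notation "𝒜" => CohB1.polyGrading n k
local notation "S" => MvPolynomial (Fin (n + 1)) k

/-- the linear form with coefficients `c` -/
noncomputable def lin (c : Fin (n + 1) → k) : S := ∑ j, MvPolynomial.C (c j) * MvPolynomial.X j

theorem X_mem (j : Fin (n + 1)) : (MvPolynomial.X j : S) ∈ 𝒜 1 :=
  (MvPolynomial.mem_homogeneousSubmodule 1 _).mpr (MvPolynomial.isHomogeneous_X k j)

theorem C_mem (a : k) : (MvPolynomial.C a : S) ∈ 𝒜 0 :=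
  (MvPolynomial.mem_homogeneousSubmodule 0 _).mpr (MvPolynomial.isHomogeneous_C _ a)

theorem lin_mem (c : Fin (n + 1) → k) : lin k n c ∈ 𝒜 1 := by
  unfold lin
  apply Submodule.sum_mem
  intro j _
  have := SetLike.mul_mem_graded (C_mem k n (c j)) (X_mem k n j)
  rwa [zero_add] at this

/-- constants in a homogeneous localization -/
noncomputable def cst (x : Submonoid S) : k →+* HomogeneousLocalization 𝒜 x :=
  (fromZeroRingHom 𝒜 x).comp (algebraMap k (𝒜 0))

theorem val_cst (x : Submonoid S) (a : k) :
    (cst k n x a).val = Localization.mk (MvPolynomial.C a) 1 := by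
  unfold cst
  rw [RingHom.comp_apply]
  unfold fromZeroRingHom
  simp only [RingHom.coe_mk, MonoidHom.coe_mk, OneHom.coe_mk, val_mk]
  rfl

variable (i : Fin (n + 1))

/-- the coordinate functions `X j / X i` on the chart `D₊(X i)` -/
noncomputable def xc (j : Fin (n + 1)) : Away 𝒜 (MvPolynomial.X i : S) :=
  HomogeneousLocalization.mk ⟨1, ⟨MvPolynomial.X j, X_mem k n j⟩, ⟨MvPolynomial.X i, X_mem k n i⟩,
    Submonoid.mem_powers _⟩

theorem val_xc (j : Fin (n + 1)) :
    (xc k n i j).val = Localization.mk (MvPolynomial.X j) ⟨MvPolynomial.X i, Submonoid.mem_powers _⟩ := rfl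

/-- the element `X i ^ d` of the submonoid of powers -/
noncomputable def powX (d : ℕ) : Submonoid.powers (MvPolynomial.X i : S) :=
  ⟨MvPolynomial.X i ^ d, d, rfl⟩

theorem coe_powX (d : ℕ) : ((powX k n i d : Submonoid.powers (MvPolynomial.X i : S)) : S) =
    MvPolynomial.X i ^ d := rfl

/-- dehomogenization -/
noncomputable def θ : S →+* Away 𝒜 (MvPolynomial.X i : S) :=
  MvPolynomial.eval₂Hom (cst k n _) (xc k n i)

theorem θ_X (j : Fin (n + 1)) : θ k n i (MvPolynomial.X j) = xc k n i j := by
  unfold θ; simp

theorem θ_C (a : k) : θ k n i (MvPolynomial.C a) = cst k n _ a := by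
  unfold θ; simp

theorem loc_mk_prod {R : Type*} [CommRing R] {M : Submonoid R} {ι : Type*} (s : Finset ι)
    (a : ι → R) (b : ι → M) :
    ∏ j ∈ s, Localization.mk (a j) (b j) = Localization.mk (∏ j ∈ s, a j) (∏ j ∈ s, b j) := by
  classical
  induction s using Finset.induction_on with
  | empty => simp [Localization.mk_one]
  | insert j s hj ih =>
    rw [Finset.prod_insert hj, Finset.prod_insert hj, Finset.prod_insert hj, ih, Localization.mk_mul]

theorem val_θ_of_mem (d : ℕ) (g : S) (hg : g ∈ 𝒜 d) :
    (θ k n i g).val = Localization.mk g (powX k n i d) := by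
  have hg' : g.IsHomogeneous d := (MvPolynomial.mem_homogeneousSubmodule d _).mp hg
  unfold θ
  rw [MvPolynomial.coe_eval₂Hom, MvPolynomial.eval₂_eq']
  rw [← HomogeneousLocalization.algebraMap_apply, map_sum]
  have hterm : ∀ α ∈ g.support,
      algebraMap (Away 𝒜 (MvPolynomial.X i : S)) (Localization (Submonoid.powers (MvPolynomial.X i : S)))
        (cst k n _ (g.coeff α) * ∏ j, xc k n i j ^ α j) =
      Localization.mk (MvPolynomial.monomial α (g.coeff α)) (powX k n i d) := by
    intro α hα
    have hdeg : α.degree = d := by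
      by_contra hne
      exact (MvPolynomial.mem_support_iff.mp hα) (hg'.coeff_eq_zero hne)
    rw [map_mul, map_prod, HomogeneousLocalization.algebraMap_apply, val_cst]
    simp only [map_pow, HomogeneousLocalization.algebraMap_apply, val_xc, Localization.mk_pow]
    rw [loc_mk_prod, Localization.mk_mul, MvPolynomial.monomial_eq, Finsupp.prod_fintype _ _ (by simp)]
    congr 1
    apply Subtype.ext
    rw [one_mul, Submonoid.coe_finsetProd, coe_powX]
    simp only [SubmonoidClass.coe_pow]
    rw [Finset.prod_pow_eq_pow_sum]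
    congr 1
    rw [← hdeg, Finsupp.degree_eq_sum]
  rw [Finset.sum_congr rfl hterm, ← Localization.mk_sum]
  congr 1
  exact (MvPolynomial.support_sum_monomial_coeff g)

end alg

end Groth.Agent.H8.P1

namespace Groth.Agent.H8.P1

section alg2
variable (k : Type u) [Field k] (n : ℕ)

local notation "𝒜" => CohB1.polyGrading n k
local notation "S" => MvPolynomial (Fin (n + 1)) k

variable (i : Fin (n + 1))

theorem θ_eq_mk (d : ℕ) (g : S) (hg : g ∈ 𝒜 d) :
    θ k n i g = HomogeneousLocalization.mk ⟨d, ⟨g, hg⟩,
      ⟨MvPolynomial.X i ^ d, by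
        have := SetLike.pow_mem_graded d (X_mem k n i)
        rwa [smul_eq_mul, mul_one] at this⟩, (powX k n i d).2⟩ := by
  apply val_injective
  rw [val_θ_of_mem k n i d g hg, val_mk]
  rfl

theorem xc_self' : xc k n i i = 1 := by
  apply val_injective
  rw [val_xc, val_one]
  exact Localization.mk_self (⟨MvPolynomial.X i, Submonoid.mem_powers _⟩ :
    Submonoid.powers (MvPolynomial.X i : S))

theorem θ_surjective : Function.Surjective (θ k n i) := by
  intro z
  obtain ⟨d, g, hg, rfl⟩ := Away.mk_surjective 𝒜 (X_mem k n i) z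
  refine ⟨g, ?_⟩
  apply val_injective
  rw [val_θ_of_mem k n i (d • 1) g hg, Away.val_mk]
  congr 1
  apply Subtype.ext
  rw [coe_powX, smul_eq_mul, mul_one]
end alg2

end Groth.Agent.H8.P1


namespace Groth.Agent.H8.P1

section line
variable (k : Type u) [Field k]

local notation "𝒜" => CohB1.polyGrading 1 k
local notation "S" => MvPolynomial (Fin 2) k

variable (i : Fin 2)

/-- The surjection from the polynomial ring in one variable onto the chart ring of `P¹`. -/
noncomputable def ψ : Polynomial k →+* Away 𝒜 (MvPolynomial.X i : S) :=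
  Polynomial.eval₂RingHom (cst k 1 _) (xc k 1 i (1 - i))

theorem ψ_surjective : Function.Surjective (ψ k i) := by
  intro z
  obtain ⟨g, rfl⟩ := θ_surjective k 1 i z
  induction g using MvPolynomial.induction_on with
  | C a => exact ⟨Polynomial.C a, by simp [ψ, θ_C]⟩
  | add p q hp hq =>
    obtain ⟨a, ha⟩ := hp
    obtain ⟨b, hb⟩ := hq
    exact ⟨a + b, by rw [map_add, map_add, ha, hb]⟩
  | mul_X p j hp =>
    obtain ⟨a, ha⟩ := hp
    by_cases hj : j = i
    · subst hj
      refine ⟨a, ?_⟩
      rw [map_mul, θ_X, xc_self', mul_one, ha]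
    · have hj' : j = 1 - i := by
        fin_cases i <;> fin_cases j <;> simp_all
      refine ⟨a * Polynomial.X, ?_⟩
      rw [map_mul, map_mul, θ_X, ha, hj']
      simp [ψ]

instance : IsPrincipalIdealRing (Away 𝒜 (MvPolynomial.X i : S)) :=
  IsPrincipalIdealRing.of_surjective (ψ k i) (ψ_surjective k i)

instance : IsDomain (Away 𝒜 (MvPolynomial.X i : S)) := by
  have hinj : Function.Injective (algebraMap (Away 𝒜 (MvPolynomial.X i : S))
      (Localization (Submonoid.powers (MvPolynomial.X i : S)))) :=
    HomogeneousLocalization.val_injective _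
  have : IsDomain (Localization (Submonoid.powers (MvPolynomial.X i : S))) :=
    IsLocalization.isDomain_of_le_nonZeroDivisors (R := S)
      (M := Submonoid.powers (MvPolynomial.X i : S)) _
      (powers_le_nonZeroDivisors_of_noZeroDivisors
        (MvPolynomial.X_ne_zero (R := k) (σ := Fin 2) i))
  exact hinj.isDomain _

end line

end Groth.Agent.H8.P1
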