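import Mathlib
import Groth.Agent.H69.EtaScheme

/-!
# Spreading a finite purely inseparable extension of the fraction field to a finite universal
homeomorphism

`A → K` has nilpotent kernel and `K` is the field of fractions of the image; `K'/K` is finite purely
inseparable.  We construct a finitely generated `A`-subalgebra `A' ⊆ K'` with fraction field `K'`,
finite over `A`, such that `Spec A' → Spec A` is a universal homeomorphism.
-/

set_option autoImplicit false
set_option linter.style.haveILetI false

universe u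

open Polynomial

namespace Groth.Agent.H8.PIAdjoin

variable {A K K' : Type u} [CommRing A] [Field K] [Field K'] [Algebra A K] [Algebra K K']
  [Algebra A K'] [IsScalarTower A K K']

/-- `K` is the field of fractions of the image of `A` -/
def IsFrac (A K : Type*) [CommRing A] [Field K] [Algebra A K] : Prop :=
  ∀ c : K, ∃ a s : A, algebraMap A K s ≠ 0 ∧ c * algebraMap A K s = algebraMap A K a

variable (A K K')

/-- a finite spanning set of `K'` whose `q^N`-th powers lie in the image of `A` -/
theorem exists_spanning_finset (hfrac : IsFrac A K) [FiniteDimensional K K']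
    [IsPurelyInseparable K K'] (q : ℕ) [ExpChar K q] :
    ∃ (T : Finset K') (N : ℕ), Submodule.span K (T : Set K') = ⊤ ∧
      ∀ t ∈ T, t ^ q ^ N ∈ (algebraMap A K').range := by
  classical
  have hq : 0 < q := expChar_pos K q
  let b := Module.finBasis K K'
  have h1 : ∀ i, ∃ n : ℕ, (b i) ^ q ^ n ∈ (algebraMap K K').range :=
    fun i => IsPurelyInseparable.pow_mem K q (b i)
  choose n hn using h1
  let N := Finset.univ.sup n
  have h2 : ∀ i, (b i) ^ q ^ N ∈ (algebraMap K K').range := by
    intro i
    have hle : n i ≤ N := Finset.le_sup (Finset.mem_univ i)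
    obtain ⟨d, hd⟩ := Nat.exists_eq_add_of_le hle
    rw [hd, pow_add, pow_mul]
    exact Subring.pow_mem _ (hn i) _
  choose c hc using h2
  have h3 : ∀ i, ∃ a s : A, algebraMap A K s ≠ 0 ∧ c i * algebraMap A K s = algebraMap A K a :=
    fun i => hfrac (c i)
  choose a s hs has using h3
  refine ⟨Finset.univ.image (fun i => algebraMap A K' (s i) * b i), N, ?_, ?_⟩
  · rw [eq_top_iff, ← b.span_eq]
    apply Submodule.span_le.mpr
    rintro _ ⟨i, rfl⟩
    have hs' : algebraMap K K' (algebraMap A K (s i)) ≠ 0 := by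
      rw [Ne, map_eq_zero]; exact hs i
    have : b i = (algebraMap A K (s i))⁻¹ • (algebraMap A K' (s i) * b i) := by
      rw [Algebra.smul_def, map_inv₀, IsScalarTower.algebraMap_apply A K K', ← mul_assoc,
        inv_mul_cancel₀ hs', one_mul]
    rw [this]
    apply Submodule.smul_mem
    apply Submodule.subset_span
    rw [Finset.coe_image]
    exact ⟨i, Finset.mem_coe.mpr (Finset.mem_univ i), rfl⟩
  · intro t ht
    obtain ⟨i, -, rfl⟩ := Finset.mem_image.mp ht
    have hpos : 0 < q ^ N := pow_pos hq N
    obtain ⟨m, hm⟩ : ∃ m, q ^ N = m + 1 := ⟨q ^ N - 1, by omega⟩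
    refine ⟨s i ^ m * a i, ?_⟩
    rw [mul_pow, ← hc i, map_mul, map_pow, hm, pow_succ, mul_assoc]
    congr 1
    rw [IsScalarTower.algebraMap_apply A K K' (a i), ← has i, map_mul,
      ← IsScalarTower.algebraMap_apply A K K', mul_comm]

variable {A K K'}

section adjoin

variable (T : Finset K') (N q : ℕ) [ExpChar K' q]
  (hT : ∀ t ∈ T, t ^ q ^ N ∈ (algebraMap A K').range)

/-- the subalgebra of `K'` generated by `T` -/
noncomputable abbrev adj (T : Finset K') : Subalgebra A K' := Algebra.adjoin A (T : Set K')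

include hT in
theorem pow_mem_range (b : K') (hb : b ∈ adj (A := A) T) :
    b ^ q ^ N ∈ (algebraMap A K').range := by
  induction hb using Algebra.adjoin_induction with
  | mem t ht => exact hT t ht
  | algebraMap a => exact ⟨a ^ q ^ N, map_pow _ _ _⟩
  | add x y _ _ hx hy =>
    rw [add_pow_expChar_pow]
    exact Subring.add_mem _ hx hy
  | mul x y _ _ hx hy =>
    rw [mul_pow]
    exact Subring.mul_mem _ hx hy

omit [ExpChar K' q] in
include hT in
theorem isIntegral_of_mem (hq : 0 < q) (t : K') (ht : t ∈ T) : IsIntegral A t := by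
  obtain ⟨a, ha⟩ := hT t ht
  refine ⟨X ^ q ^ N - C a, monic_X_pow_sub_C a (pow_pos hq N).ne', ?_⟩
  simp [ha]

omit [ExpChar K' q] in
include hT in
theorem finite_adj (hq : 0 < q) : Module.Finite A (adj (A := A) T) := by
  have := fg_adjoin_of_finite (R := A) (s := (T : Set K')) T.finite_toSet
    (fun t ht => isIntegral_of_mem T N q hT hq t ht)
  exact Module.Finite.of_fg this

theorem ker_algebraMap_adj :
    RingHom.ker (algebraMap A (adj (A := A) T)) = RingHom.ker (algebraMap A K) := by
  ext a
  rw [RingHom.mem_ker, RingHom.mem_ker]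
  constructor
  · intro h
    have h1 : algebraMap A K' a = 0 := by
      have := congrArg (Subtype.val) h
      exact this
    rw [IsScalarTower.algebraMap_apply A K K', map_eq_zero] at h1
    exact h1
  · intro h
    apply Subtype.ext
    change algebraMap A K' a = 0
    rw [IsScalarTower.algebraMap_apply A K K', h, map_zero]

include hT in
/-- `Spec A' → Spec A` is a universal homeomorphism -/
theorem isUnivHomeo_adj (hq : 0 < q) (hker : RingHom.ker (algebraMap A K) ≤ nilradical A) :
    FlatMor.IsUnivHomeo (AlgebraicGeometry.Spec.map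
      (CommRingCat.ofHom (algebraMap A (adj (A := A) T)))) := by
  haveI := finite_adj T N q hT hq
  have hint : (algebraMap A (adj (A := A) T)).IsIntegral :=
    (RingHom.finite_algebraMap.mpr this).to_isIntegral
  apply Groth.Agent.H69.isUnivHomeo_of _ hint
  · intro 𝔭
    haveI : Algebra.IsIntegral A (adj (A := A) T) := ⟨hint⟩
    obtain ⟨Q, -, hQ, hQ𝔭⟩ := Ideal.exists_ideal_over_prime_of_isIntegral 𝔭.asIdeal
      (⊥ : Ideal (adj (A := A) T)) (by
        intro a ha
        have ha' : a ∈ RingHom.ker (algebraMap A (adj (A := A) T)) := ha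
        rw [ker_algebraMap_adj (K := K) T] at ha'
        obtain ⟨n, hn⟩ := mem_nilradical.mp (hker ha')
        exact 𝔭.2.mem_of_pow_mem n (hn ▸ zero_mem _))
    exact ⟨⟨Q, hQ⟩, PrimeSpectrum.ext hQ𝔭⟩
  · intro L _ α β hαβ
    ext b
    obtain ⟨a, ha⟩ := pow_mem_range T N q hT b.1 b.2
    have hb : b ^ q ^ N = algebraMap A (adj (A := A) T) a := by
      apply Subtype.ext
      exact ha.symm
    have h1 : α b ^ q ^ N = β b ^ q ^ N := by
      rw [← map_pow, ← map_pow, hb]
      exact RingHom.congr_fun hαβ a
    rcases ‹ExpChar K' q› with _ | hp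
    · simpa using h1
    · haveI : Fact q.Prime := ⟨hp⟩
      have hq0 : ((q : ℕ) : adj (A := A) T) = 0 := by
        apply Subtype.ext
        change ((q : ℕ) : K') = 0
        exact CharP.cast_eq_zero K' q
      have hqL : ((q : ℕ) : L) = 0 := by
        have := congrArg α hq0
        simpa using this
      haveI : CharP L q := (CharP.charP_iff_prime_eq_zero hp).2 hqL
      exact (frobenius_inj L q).iterate N (by simpa [iterate_frobenius] using h1)

/-- every element of `K'` is a quotient of an element of `A'` by (the image of) an element of `A` -/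
theorem exists_div_of_span (hfrac : IsFrac A K) (hspan : Submodule.span K (T : Set K') = ⊤)
    (x : K') : ∃ b ∈ adj (A := A) T, ∃ s : A, algebraMap A K s ≠ 0 ∧
      x * algebraMap A K' s = b := by
  have hx : x ∈ Submodule.span K (T : Set K') := hspan ▸ Submodule.mem_top
  induction hx using Submodule.span_induction with
  | mem t ht =>
    exact ⟨t, Algebra.subset_adjoin ht, 1, by simp, by simp⟩
  | zero =>
    exact ⟨0, Subalgebra.zero_mem _, 1, by simp, by simp⟩
  | add x y _ _ hx hy =>
    obtain ⟨b₁, hb₁, s₁, hs₁, e₁⟩ := hx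
    obtain ⟨b₂, hb₂, s₂, hs₂, e₂⟩ := hy
    refine ⟨b₁ * algebraMap A K' s₂ + b₂ * algebraMap A K' s₁,
      Subalgebra.add_mem _ (Subalgebra.mul_mem _ hb₁ (Subalgebra.algebraMap_mem _ _))
        (Subalgebra.mul_mem _ hb₂ (Subalgebra.algebraMap_mem _ _)), s₁ * s₂, ?_, ?_⟩
    · rw [map_mul]; exact mul_ne_zero hs₁ hs₂
    · rw [← e₁, ← e₂, map_mul]; ring
  | smul c x _ hx =>
    obtain ⟨b, hb, s, hs, e⟩ := hx
    obtain ⟨a₀, s₀, hs₀, e₀⟩ := hfrac c
    refine ⟨algebraMap A K' a₀ * b,
      Subalgebra.mul_mem _ (Subalgebra.algebraMap_mem _ _) hb, s₀ * s, ?_, ?_⟩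
    · rw [map_mul]; exact mul_ne_zero hs₀ hs
    · rw [← e, IsScalarTower.algebraMap_apply A K K' a₀, ← e₀, Algebra.smul_def, map_mul, map_mul,
        ← IsScalarTower.algebraMap_apply A K K']
      ring

theorem isFractionRing_adj (hfrac : IsFrac A K) (hspan : Submodule.span K (T : Set K') = ⊤) :
    IsFractionRing (adj (A := A) T) K' := by
  apply IsFractionRing.of_field
  intro z
  obtain ⟨b, hb, s, hs, e⟩ := exists_div_of_span T hfrac hspan z
  have hs' : algebraMap A K' s ≠ 0 := by
    rw [IsScalarTower.algebraMap_apply A K K', Ne, map_eq_zero]; exact hs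
  refine ⟨⟨b, hb⟩, ⟨algebraMap A K' s, Subalgebra.algebraMap_mem _ _⟩, ?_⟩
  change z = b / algebraMap A K' s
  rw [← e, mul_div_cancel_right₀ _ hs']

end adjoin

end Groth.Agent.H8.PIAdjoin
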