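import Mathlib
import Groth.Agent.H48.GeomRedPI

/-!
# A common finite purely inseparable extension for finitely many finitely generated fields
-/

set_option autoImplicit false
set_option linter.style.haveILetI false

universe u

open TensorProduct

namespace Groth.Agent.H8.PICommon

variable {k : Type u} [Field k]

/-- finitely many essentially finite type `k`-fields embed into a common nontrivial essentially
finite type `k`-algebra (their tensor product) -/
theorem exists_common_algebra {ι : Type*} (K : ι → Type u) [∀ i, Field (K i)]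
    [∀ i, Algebra k (K i)] [∀ i, Algebra.EssFiniteType k (K i)] (s : Finset ι) :
    ∃ (A : Type u) (_ : CommRing A) (_ : Algebra k A), Algebra.EssFiniteType k A ∧ Nontrivial A ∧
      ∀ i ∈ s, Nonempty (K i →ₐ[k] A) := by
  classical
  induction s using Finset.induction_on with
  | empty =>
    exact ⟨k, inferInstance, inferInstance, inferInstance, inferInstance, fun i hi => by simp at hi⟩
  | insert i s _ ih =>
    obtain ⟨A, _, _, hA, hnt, hmap⟩ := ih
    haveI : Algebra.EssFiniteType (K i) (K i ⊗[k] A) := inferInstance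
    refine ⟨K i ⊗[k] A, inferInstance, inferInstance,
      Algebra.EssFiniteType.comp k (K i) (K i ⊗[k] A), inferInstance, ?_⟩
    intro j hj
    rcases Finset.mem_insert.mp hj with rfl | hj
    · exact ⟨Algebra.TensorProduct.includeLeft⟩
    · obtain ⟨φ⟩ := hmap j hj
      exact ⟨(Algebra.TensorProduct.includeRight : A →ₐ[k] K i ⊗[k] A).comp φ⟩

/-- injectivity of `k' ⊗ K → k' ⊗ A` passes to the quotients by the nilradicals -/
theorem quotient_nilradical_map_injective {k' B C : Type*} [CommRing k'] [CommRing B] [CommRing C]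
    [Algebra k' B] [Algebra k' C] (φ : B →ₐ[k'] C) (hφ : Function.Injective φ) :
    ∃ ψ : (B ⧸ nilradical B) →ₐ[k'] (C ⧸ nilradical C), Function.Injective ψ := by
  have hle : nilradical B ≤ (nilradical C).comap φ := by
    intro x hx
    rw [Ideal.mem_comap, mem_nilradical]
    exact (mem_nilradical.mp hx).map φ
  refine ⟨Ideal.quotientMapₐ (nilradical C) φ hle, ?_⟩
  rw [injective_iff_map_eq_zero]
  intro x hx
  obtain ⟨b, rfl⟩ := Ideal.Quotient.mk_surjective x
  have h1 : Ideal.Quotient.mk (nilradical C) (φ b) = 0 := hx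
  rw [Ideal.Quotient.eq_zero_iff_mem, mem_nilradical] at h1
  rw [Ideal.Quotient.eq_zero_iff_mem, mem_nilradical]
  exact (IsNilpotent.map_iff hφ).mp h1

/-- **A common finite purely inseparable extension.** -/
theorem exists_common_pi {ι : Type*} [Finite ι] (K : ι → Type u) [∀ i, Field (K i)]
    [∀ i, Algebra k (K i)] [∀ i, Algebra.EssFiniteType k (K i)] :
    ∃ (k' : Type u) (_ : Field k') (_ : Algebra k k'), FiniteDimensional k k' ∧
      IsPurelyInseparable k k' ∧ ∀ (i : ι) (m : Ideal (k' ⊗[k] K i)), m.IsMaximal →
        Algebra.IsGeometricallyReduced k' ((k' ⊗[k] K i) ⧸ m) := by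
  classical
  haveI := Fintype.ofFinite ι
  obtain ⟨A, _, _, hA, hnt, hmap⟩ := exists_common_algebra (k := k) K (Finset.univ : Finset ι)
  have : IsNoetherianRing ((perfectClosure k (AlgebraicClosure k)) ⊗[k] A) :=
    Groth.Agent.H48.GeomRedPI.isNoetherianRing_of_essFiniteType
      (perfectClosure k (AlgebraicClosure k)) ((perfectClosure k (AlgebraicClosure k)) ⊗[k] A)
  obtain ⟨k', hF, hAlg, hfin, hpi, hgr⟩ :=
    Groth.Agent.H48.GeomRedPI.exists_finite_pi_geomReduced (k := k) (A := A)
  refine ⟨k', hF, hAlg, hfin, hpi, fun i m hm => ?_⟩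
  obtain rfl := Groth.Agent.H48.GeomRedPI.eq_nilradical_of_isMaximal k' (K i) m hm
  obtain ⟨φ⟩ := hmap i (Finset.mem_univ i)
  have hφ : Function.Injective φ := φ.toRingHom.injective
  have hinj : Function.Injective (Algebra.TensorProduct.map (AlgHom.id k' k') φ) := by
    have := Module.Flat.lTensor_preserves_injective_linearMap (M := k') φ.toLinearMap hφ
    exact this
  obtain ⟨ψ, hψ⟩ := quotient_nilradical_map_injective
    (Algebra.TensorProduct.map (AlgHom.id k' k') φ) hinj
  exact Algebra.IsGeometricallyReduced.of_injective ψ hψ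

end Groth.Agent.H8.PICommon
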