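import Mathlib
import Groth.Agent.H8.AffCover
import Groth.Agent.H8.PIAdjoin

/-!
# Residue fields at generic points of affine covers
-/

set_option autoImplicit false
set_option linter.style.haveILetI false

universe u

open AlgebraicGeometry CategoryTheory TopologicalSpace Opposite

namespace Groth.Agent.H8.PICover

open Groth.Agent.H8.AffCover

variable {Y : Scheme.{u}} {V : Y.Opens} (hV : IsAffineOpen V)

include hV in
/-- the residue field at a point of an affine open is the field of fractions of the image of the
ring of sections -/
theorem isFrac_evaluation (η : Y) (hηV : η ∈ V) :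
    letI := (Y.evaluation V η hηV).hom.toAlgebra
    Groth.Agent.H8.PIAdjoin.IsFrac Γ(Y, V) (Y.residueField η) := by
  letI := (Y.evaluation V η hηV).hom.toAlgebra
  intro c
  have hres : Function.Surjective (Y.residue η).hom := Ideal.Quotient.mk_surjective
  obtain ⟨z, rfl⟩ := hres c
  letI := TopCat.Presheaf.algebra_section_stalk Y.presheaf (⟨η, hηV⟩ : V)
  haveI := hV.isLocalization_stalk ⟨η, hηV⟩
  obtain ⟨⟨a, s⟩, has⟩ := IsLocalization.surj (hV.primeIdealOf ⟨η, hηV⟩).asIdeal.primeCompl z
  refine ⟨a, s.1, ?_, ?_⟩
  · have hu : IsUnit (algebraMap Γ(Y, V) (Y.presheaf.stalk η) s.1) :=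
      IsLocalization.map_units (M := (hV.primeIdealOf ⟨η, hηV⟩).asIdeal.primeCompl) _ s
    have hu' := hu.map (Y.residue η).hom
    exact hu'.ne_zero
  · have := congrArg (Y.residue η).hom has
    rw [map_mul] at this
    exact this

variable (B : Type u) [CommRing B] [Algebra Γ(Y, V) B]

/-- the residue field at the generic point of `Spec B` is the fraction field of `B`, compatibly
with the residue field of the base point -/
theorem nonempty_algEquiv_residueField (η' : PrimeSpectrum B) (hη' : η'.asIdeal = ⊥)
    (K' : Type u) [Field K'] [Algebra (Y.residueField (affToBase hV B η')) K']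
    (j : B →+* K') (hj : Function.Injective j)
    (hcomp : j.comp (algebraMap Γ(Y, V) B) =
      (algebraMap (Y.residueField (affToBase hV B η')) K').comp
        (Y.evaluation V (affToBase hV B η') (affToBase_mem hV B η')).hom)
    (hdiv : ∀ x : K', ∃ b s : B, j s ≠ 0 ∧ x * j s = j b) :
    letI := ((affToBase hV B).residueFieldMap η').hom.toAlgebra
    Nonempty (K' ≃ₐ[Y.residueField (affToBase hV B η')] (affScheme B).residueField η') := by
  letI := ((affToBase hV B).residueFieldMap η').hom.toAlgebra
  have hev : Function.Injective (evSpec B η') := by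
    rw [RingHom.injective_iff_ker_eq_bot, ker_evSpec, hη']
  letI : Algebra B K' := j.toAlgebra
  haveI : FaithfulSMul B K' := (faithfulSMul_iff_algebraMap_injective B K').mpr hj
  haveI : IsFractionRing B K' := by
    apply IsFractionRing.of_field
    intro z
    obtain ⟨b, s, hs, e⟩ := hdiv z
    refine ⟨b, s, ?_⟩
    change z = j b / j s
    rw [← e, mul_div_cancel_right₀ _ hs]
  let σ : K' →+* (affScheme B).residueField η' := IsFractionRing.lift hev
  have hσ : ∀ b : B, σ (j b) = evSpec B η' b := fun b => IsFractionRing.lift_algebraMap hev b
  have hσsurj : Function.Surjective σ := by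
    intro c
    obtain ⟨a, s, hs, e⟩ := exists_evSpec_div B η' c
    refine ⟨j a / j s, ?_⟩
    rw [map_div₀, hσ, hσ, ← e, mul_div_cancel_right₀ _ hs]
  have hcomm : ∀ c : Y.residueField (affToBase hV B η'),
      σ (algebraMap _ K' c) = (affToBase hV B).residueFieldMap η' c := by
    intro c
    have hval : ∀ a : Γ(Y, V), σ (algebraMap _ K'
        (Y.evaluation V (affToBase hV B η') (affToBase_mem hV B η') a)) =
        (affToBase hV B).residueFieldMap η'
          (Y.evaluation V (affToBase hV B η') (affToBase_mem hV B η') a) := by
      intro a
      have h1 := congrArg (fun φ => φ a) hcomp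
      simp only [RingHom.comp_apply] at h1
      rw [residueFieldMap_evaluation]
      change σ (algebraMap _ K'
        ((Y.evaluation V (affToBase hV B η') (affToBase_mem hV B η')).hom a)) = _
      rw [← h1, hσ]
    obtain ⟨a, s, hs, e⟩ := isFrac_evaluation hV (affToBase hV B η') (affToBase_mem hV B η') c
    have hs' : (affToBase hV B).residueFieldMap η'
        (Y.evaluation V (affToBase hV B η') (affToBase_mem hV B η') s) ≠ 0 := by
      rw [Ne, map_eq_zero]
      exact hs
    have e' : c * (Y.evaluation V (affToBase hV B η') (affToBase_mem hV B η')) s =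
        (Y.evaluation V (affToBase hV B η') (affToBase_mem hV B η')) a := e
    have h2 : σ (algebraMap _ K' c) * (affToBase hV B).residueFieldMap η'
        (Y.evaluation V (affToBase hV B η') (affToBase_mem hV B η') s) =
        (affToBase hV B).residueFieldMap η' c * (affToBase hV B).residueFieldMap η'
        (Y.evaluation V (affToBase hV B η') (affToBase_mem hV B η') s) := by
      calc σ (algebraMap _ K' c) * (affToBase hV B).residueFieldMap η'
            (Y.evaluation V (affToBase hV B η') (affToBase_mem hV B η') s)
          = σ (algebraMap _ K' c) * σ (algebraMap _ K'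
              (Y.evaluation V (affToBase hV B η') (affToBase_mem hV B η') s)) := by rw [hval s]
        _ = σ (algebraMap _ K'
              (c * Y.evaluation V (affToBase hV B η') (affToBase_mem hV B η') s)) := by
            rw [map_mul, map_mul]
        _ = (affToBase hV B).residueFieldMap η'
              (c * Y.evaluation V (affToBase hV B η') (affToBase_mem hV B η') s) := by
            rw [e', hval a]
        _ = _ := by rw [map_mul]
    exact mul_right_cancel₀ hs' h2
  exact ⟨AlgEquiv.ofBijective { σ with commutes' := hcomm } ⟨σ.injective, hσsurj⟩⟩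

end Groth.Agent.H8.PICover
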