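import Mathlib
import Groth.Prelude.Def_Curv2
import Groth.Agent.H7.PurelyInsepSplit
import Groth.Agent.H7.FieldResidue
import Groth.Agent.H79.SchResMap
import Groth.Agent.H22.RedSub
import Groth.Agent.H25.GeomRedGeneric
import Groth.Agent.H25.FTResidue
import Groth.Agent.H25.GeomIrrComp
import Groth.Agent.H25.ResProp
import Groth.Agent.H8.FieldEpi
import Groth.Agent.H8.PICommon

/-!
# The reduction of a base change to a suitable finite purely inseparable extension is geometrically
reduced
-/

set_option autoImplicit false
set_option linter.style.haveILetI false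

universe u

open AlgebraicGeometry CategoryTheory CategoryTheory.Limits TensorProduct TopologicalSpace

attribute [local instance] Curv2.stalkAlgebra Curv2.resAlgebra

namespace Groth.Agent.H8.PIGeomRed

section epi

open Scheme.Pullback in
/-- the residue field of a point of a scheme preimmersed into a fibre product is generated, in the
sense of epimorphisms, by the residue fields of the two projections -/
theorem residueField_hom_ext {X S U Z : Scheme.{u}} (f : X ⟶ S) (g : U ⟶ S)
    (i : Z ⟶ pullback f g) [IsPreimmersion i] (z : Z) {R : CommRingCat.{u}}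
    (φ₁ φ₂ : Z.residueField z ⟶ R)
    (h1 : (i ≫ pullback.fst f g).residueFieldMap z ≫ φ₁ =
      (i ≫ pullback.fst f g).residueFieldMap z ≫ φ₂)
    (h2 : (i ≫ pullback.snd f g).residueFieldMap z ≫ φ₁ =
      (i ≫ pullback.snd f g).residueFieldMap z ≫ φ₂) : φ₁ = φ₂ := by
  have hsurj : Function.Surjective (i.residueFieldMap z).hom := by
    have hst : Function.Surjective (i.stalkMap z).hom := i.stalkMap_surjective z
    have hres : Function.Surjective (Z.residue z).hom := Ideal.Quotient.mk_surjective
    have hcomp := Scheme.residue_residueFieldMap i z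
    intro c
    obtain ⟨b, rfl⟩ := hres c
    obtain ⟨a, rfl⟩ := hst b
    refine ⟨(pullback f g).residue (i z) a, ?_⟩
    exact congr($(hcomp).hom a)
  haveI : Epi (i.residueFieldMap z) := ConcreteCategory.epi_of_surjective _ hsurj
  haveI := Groth.Agent.H7.epi_ofPointTensor f g (i z)
  let T := Triplet.ofPoint (i z)
  have hl : T.tensorInl ≫ ofPointTensor (i z) = (pullback.fst f g).residueFieldMap (i z) :=
    pushout.inl_desc _ _ _
  have hr : T.tensorInr ≫ ofPointTensor (i z) = (pullback.snd f g).residueFieldMap (i z) :=
    pushout.inr_desc _ _ _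
  rw [← cancel_epi (i.residueFieldMap z), ← cancel_epi (ofPointTensor (i z))]
  apply pushout.hom_ext
  · change T.tensorInl ≫ ofPointTensor (i z) ≫ _ = T.tensorInl ≫ ofPointTensor (i z) ≫ _
    rw [reassoc_of% hl, reassoc_of% hl, ← Category.assoc, ← Category.assoc]
    rw [Scheme.residueFieldMap_comp] at h1
    exact h1
  · change T.tensorInr ≫ ofPointTensor (i z) ≫ _ = T.tensorInr ≫ ofPointTensor (i z) ≫ _
    rw [reassoc_of% hr, reassoc_of% hr, ← Category.assoc, ← Category.assoc]
    rw [Scheme.residueFieldMap_comp] at h2
    exact h2

end epi

section main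

variable (k : Type u) [Field k] (X : Scheme.{u}) [X.Over (Spec (CommRingCat.of k))]
  (k' : Type u) [Field k'] [Algebra k k']

/-- the reduction of the base change -/
noncomputable abbrev Xred : Scheme.{u} := (Curv2.bc k X k').nilradical.subscheme

/-- the closed immersion of the reduction -/
noncomputable abbrev redι : Xred k X k' ⟶ Curv2.bc k X k' := (Curv2.bc k X k').nilradical.subschemeι

/-- the reduction of the base change as a `k'`-scheme -/
@[reducible] noncomputable def overRed : (Xred k X k').Over (Spec (CommRingCat.of k')) :=
  ⟨redι k X k' ≫ Curv2.bcSnd k X k'⟩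

attribute [local instance] overRed

/-- the projection from the reduction of the base change to `X` -/
noncomputable abbrev redTo : Xred k X k' ⟶ X := redι k X k' ≫ Curv2.bcFst k X k'

theorem redTo_comp :
    redTo k X k' ≫ (X ↘ Spec (CommRingCat.of k)) =
      ((Xred k X k') ↘ Spec (CommRingCat.of k')) ≫
        Spec.map (CommRingCat.ofHom (algebraMap k k')) := by
  change (redι k X k' ≫ Curv2.bcFst k X k') ≫ _ = (redι k X k' ≫ Curv2.bcSnd k X k') ≫ _
  rw [Category.assoc, Category.assoc]
  congr 1
  exact pullback.condition

variable (η' : Xred k X k')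

/-- compatibility of the structure maps to the residue fields -/
theorem residueFieldMap_resMap (c : k) :
    (redTo k X k').residueFieldMap η' (Curv2.resMap k X (redTo k X k' η') c) =
      Curv2.resMap k' (Xred k X k') η' (algebraMap k k' c) := by
  letI ov : (Xred k X k').Over (Spec (CommRingCat.of k)) :=
    ⟨redTo k X k' ≫ (X ↘ Spec (CommRingCat.of k))⟩
  have h1 := Groth.Agent.H79.SchResMap.resMap_comp k (redTo k X k') rfl η'
  have h2 : (Curv2.resMap k' (Xred k X k') η').comp (algebraMap k k') =
      Curv2.resMap k (Xred k X k') η' := by
    apply Groth.Agent.H25.ResProp.eq_resMap (redTo k X k' ≫ (X ↘ Spec (CommRingCat.of k))) η'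
    rw [CommRingCat.ofHom_comp, Spec.map_comp, redTo_comp, ← Category.assoc]
    congr 1
    exact (Groth.Agent.H25.GenFibre.fromSpecResidueField_comp k' (Xred k X k') η').symm
  have h3 := congrArg (fun φ => φ c) h1
  have h4 := congrArg (fun φ => φ c) h2
  exact h3.trans h4.symm

/-- the `k`-algebra structure on a residue field of the reduction of the base change -/
@[reducible] noncomputable def resAlgebraBase : Algebra k ((Xred k X k').residueField η') :=
  ((algebraMap k' ((Xred k X k').residueField η')).comp (algebraMap k k')).toAlgebra

attribute [local instance] resAlgebraBase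

instance isScalarTower_res : IsScalarTower k k' ((Xred k X k').residueField η') :=
  IsScalarTower.of_algebraMap_eq (fun _ => rfl)

/-- the residue field map `κ(x) → κ(η')` as a `k`-algebra map -/
noncomputable def resHom :
    X.residueField (redTo k X k' η') →ₐ[k] (Xred k X k').residueField η' :=
  { ((redTo k X k').residueFieldMap η').hom with
    commutes' := fun c => residueFieldMap_resMap k X k' η' c }

/-- `k' ⊗[k] κ(x) → κ(η')` -/
noncomputable def tensorToRes :
    k' ⊗[k] X.residueField (redTo k X k' η') →ₐ[k'] (Xred k X k').residueField η' :=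
  Algebra.TensorProduct.lift (Algebra.ofId k' _) (resHom k X k' η') (fun _ _ => Commute.all _ _)

theorem surjective_tensorToRes [Algebra.IsAlgebraic k k'] :
    Function.Surjective (tensorToRes k X k' η') := by
  apply Groth.Agent.H8.FieldEpi.surjective_lift_of_epi
  intro R _ φ₁ φ₂ h1 h2
  have key : CommRingCat.ofHom φ₁ = CommRingCat.ofHom φ₂ := by
    apply residueField_hom_ext (X ↘ Spec (CommRingCat.of k))
      (Spec.map (CommRingCat.ofHom (algebraMap k k'))) (redι k X k') η'
    · ext x
      exact congrArg (fun φ => φ x) h1
    · have hres := Groth.Agent.H7.resMap_eq k' (Xred k X k') η'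
      have hbij := Groth.Agent.H7.fieldToResidue_bijective k'
        (((Xred k X k') ↘ Spec (CommRingCat.of k')) η')
      ext y
      obtain ⟨c, rfl⟩ := hbij.2 y
      have h3 := congrArg (fun φ => φ c) h2
      have h4 : algebraMap k' ((Xred k X k').residueField η') c =
          (((Xred k X k') ↘ Spec (CommRingCat.of k')).residueFieldMap η').hom
            ((Groth.Agent.H7.fieldToResidue k'
              (((Xred k X k') ↘ Spec (CommRingCat.of k')) η')).hom c) :=
        congrArg (fun φ => φ c) hres
      simp only [RingHom.comp_apply] at h3
      rw [h4] at h3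
      exact h3
  exact congrArg CommRingCat.Hom.hom key

theorem isGeometricallyReduced_residueField [Algebra.IsAlgebraic k k']
    (hgr : ∀ m : Ideal (k' ⊗[k] X.residueField (redTo k X k' η')), m.IsMaximal →
      Algebra.IsGeometricallyReduced k' ((k' ⊗[k] X.residueField (redTo k X k' η')) ⧸ m)) :
    Algebra.IsGeometricallyReduced k' ((Xred k X k').residueField η') := by
  have hs := surjective_tensorToRes k X k' η'
  have hmax : (RingHom.ker (tensorToRes k X k' η')).IsMaximal :=
    RingHom.ker_isMaximal_of_surjective _ hs
  haveI := hgr _ hmax
  let e := Ideal.quotientKerAlgEquivOfSurjective hs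
  exact Algebra.IsGeometricallyReduced.of_injective e.symm.toAlgHom e.symm.injective

theorem isGeometricallyReduced_stalk [Algebra.IsAlgebraic k k']
    (hη' : closure {η'} ∈ irreducibleComponents (Xred k X k'))
    (hgr : ∀ m : Ideal (k' ⊗[k] X.residueField (redTo k X k' η')), m.IsMaximal →
      Algebra.IsGeometricallyReduced k' ((k' ⊗[k] X.residueField (redTo k X k' η')) ⧸ m)) :
    Algebra.IsGeometricallyReduced k' ((Xred k X k').presheaf.stalk η') := by
  haveI := isGeometricallyReduced_residueField k X k' η' hgr
  have hfield : IsField ((Xred k X k').presheaf.stalk η') :=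
    isField_stalk_of_closure_mem_irreducibleComponents _ η' hη'
  let r : (Xred k X k').presheaf.stalk η' →ₐ[k'] (Xred k X k').residueField η' :=
    { ((Xred k X k').residue η').hom with commutes' := fun c => rfl }
  have hinj : Function.Injective r := by
    letI := hfield.toField
    exact ((Xred k X k').residue η').hom.injective
  exact Algebra.IsGeometricallyReduced.of_injective r hinj

theorem generalizingMap_redTo : GeneralizingMap (redTo k X k') := by
  haveI : Flat (Curv2.bcFst k X k') :=
    Groth.Agent.H25.GeomPtInt.flat_bcFst (X ↘ Spec (CommRingCat.of k)) k'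
  have h1 : GeneralizingMap (Curv2.bcFst k X k') := Flat.generalizingMap _
  have h2 : GeneralizingMap (redι k X k') := by
    apply (redι k X k').isClosedEmbedding.isInducing.generalizingMap
    have hsurj : Function.Surjective (redι k X k') :=
      (Groth.Agent.H22.surjective_nilradical_subschemeι _).surj
    rw [hsurj.range_eq]
    exact stableUnderGeneralization_univ
  exact h2.comp h1

end main

section final

variable (k : Type u) [Field k] (X : Scheme.{u}) [X.Over (Spec (CommRingCat.of k))]
  [LocallyOfFiniteType (X ↘ Spec (CommRingCat.of k))]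

attribute [local instance] overRed

/-- **S1629**: after a finite purely inseparable extension the reduction of the base change is
geometrically reduced. -/
theorem exists_pi_geometricallyReduced (hirr : (irreducibleComponents (X : Type u)).Finite) :
    ∃ (k' : Type u) (_ : Field k') (_ : Algebra k k'), FiniteDimensional k k' ∧
      IsPurelyInseparable k k' ∧
      GeometricallyReduced ((Curv2.bc k X k').nilradical.subschemeι ≫ Curv2.bcSnd k X k') := by
  haveI : Finite {x : X // closure {x} ∈ irreducibleComponents X} := by
    haveI : Finite (irreducibleComponents X) := hirr.to_subtype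
    refine Finite.of_injective (fun x : {x : X // closure {x} ∈ irreducibleComponents X} =>
      (⟨closure {x.1}, x.2⟩ : irreducibleComponents X)) ?_
    intro x y hxy
    have h1 : closure {x.1} = closure {y.1} := congrArg Subtype.val hxy
    have h2 : x.1 ⤳ y.1 := by
      rw [specializes_iff_mem_closure, h1]
      exact subset_closure rfl
    have h3 : y.1 ⤳ x.1 := by
      rw [specializes_iff_mem_closure, ← h1]
      exact subset_closure rfl
    exact Subtype.ext (h2.antisymm h3).eq
  haveI : ∀ x : {x : X // closure {x} ∈ irreducibleComponents X},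
      Algebra.EssFiniteType k (X.residueField x.1) := fun x =>
    Groth.Agent.H25.FTResidue.essFiniteType_residueField k X x.1
  obtain ⟨k', hF, hAlg, hfin, hpi, hcommon⟩ := Groth.Agent.H8.PICommon.exists_common_pi (k := k)
    (fun x : {x : X // closure {x} ∈ irreducibleComponents X} => X.residueField x.1)
  refine ⟨k', hF, hAlg, hfin, hpi, ?_⟩
  haveI : Algebra.IsAlgebraic k k' := Algebra.IsAlgebraic.of_finite k k'
  apply Groth.Agent.H25.GeomRedGeneric.geometricallyReduced_of_generic k' (Xred k X k')
  intro Z hZ η' hη'
  have hcl : closure {η'} ∈ irreducibleComponents (Xred k X k') := by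
    have : closure {η'} = Z := hη'.def
    rw [this]; exact hZ
  have hgen : closure {redTo k X k' η'} ∈ irreducibleComponents X :=
    Groth.Agent.H25.GeomIrrComp.closure_image_mem_irreducibleComponents
      (generalizingMap_redTo k X k') hcl
  rw [Groth.Agent.H25.GeomRedAt.isGeomReducedAt_iff]
  exact isGeometricallyReduced_stalk k X k' η' hcl (fun m hm => hcommon ⟨_, hgen⟩ m hm)

end final

end Groth.Agent.H8.PIGeomRed
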