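import Mathlib
import Groth.Agent.H8.PIGeomRed

/-!
# Geometric reducedness of reduced closed subschemes of an algebraic base change
-/

set_option autoImplicit false
set_option linter.style.haveILetI false

universe u

open AlgebraicGeometry CategoryTheory CategoryTheory.Limits TensorProduct TopologicalSpace

attribute [local instance] Curv2.stalkAlgebra Curv2.resAlgebra

namespace Groth.Agent.H8.PIGeomRed

variable (k : Type u) [Field k] (X : Scheme.{u}) [X.Over (Spec (CommRingCat.of k))]
  (k' : Type u) [Field k'] [Algebra k k'] [Algebra.IsAlgebraic k k']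

attribute [local instance] overRed

/-- if all residue fields of `k' ⊗ κ(x)`, `x` a generic point of `X`, are geometrically reduced over
`k'`, the reduction of `X_{k'}` is geometrically reduced over `k'` -/
theorem geometricallyReduced_red_of_common
    (hcommon : ∀ x : X, closure {x} ∈ irreducibleComponents X →
      ∀ m : Ideal (k' ⊗[k] X.residueField x), m.IsMaximal →
        Algebra.IsGeometricallyReduced k' ((k' ⊗[k] X.residueField x) ⧸ m)) :
    GeometricallyReduced ((Curv2.bc k X k').nilradical.subschemeι ≫ Curv2.bcSnd k X k') := by
  apply Groth.Agent.H25.GeomRedGeneric.geometricallyReduced_of_generic k' (Xred k X k')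
  intro Z hZ η' hη'
  have hcl : closure {η'} ∈ irreducibleComponents (Xred k X k') := by
    have : closure {η'} = Z := hη'.def
    rw [this]; exact hZ
  have hgen : closure {redTo k X k' η'} ∈ irreducibleComponents X :=
    Groth.Agent.H25.GeomIrrComp.closure_image_mem_irreducibleComponents
      (generalizingMap_redTo k X k') hcl
  rw [Groth.Agent.H25.GeomRedAt.isGeomReducedAt_iff]
  exact isGeometricallyReduced_stalk k X k' η' hcl (fun m hm => hcommon _ hgen m hm)

/-- the same for any reduced scheme with a surjective closed immersion into `X_{k'}` -/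
theorem geometricallyReduced_of_closedImmersion {Z : Scheme.{u}} (i : Z ⟶ Curv2.bc k X k')
    [IsClosedImmersion i] [Surjective i] [IsReduced Z]
    (hcommon : ∀ x : X, closure {x} ∈ irreducibleComponents X →
      ∀ m : Ideal (k' ⊗[k] X.residueField x), m.IsMaximal →
        Algebra.IsGeometricallyReduced k' ((k' ⊗[k] X.residueField x) ⧸ m)) :
    GeometricallyReduced (i ≫ Curv2.bcSnd k X k') := by
  have hker := Groth.Agent.H22.ker_eq_nilradical_of_isReduced i
  have key : ∃ φ : Z ≅ (Curv2.bc k X k').nilradical.subscheme,
      φ.hom ≫ (Curv2.bc k X k').nilradical.subschemeι = i := by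
    rw [← hker]
    exact ⟨asIso i.toImage, i.toImage_imageι⟩
  obtain ⟨φ, hφ⟩ := key
  have h := geometricallyReduced_red_of_common k X k' hcommon
  rw [← hφ, Category.assoc]
  exact (MorphismProperty.cancel_left_of_respectsIso @GeometricallyReduced φ.hom _).mpr h

end Groth.Agent.H8.PIGeomRed
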