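import Mathlib

/-!
# Transport of geometric reducedness along an isomorphism of base fields
-/

set_option autoImplicit false
set_option linter.style.haveILetI false

universe u

open TensorProduct

namespace Groth.Agent.H8.PITransport

/-- geometric reducedness does not change when the base field is replaced by an isomorphic one -/
theorem isGeometricallyReduced_of_bijective {K' L C : Type u} [Field K'] [Field L] [CommRing C]
    [Algebra K' L] [Algebra K' C] [Algebra L C] [IsScalarTower K' L C]
    (hbij : Function.Bijective (algebraMap K' L)) [Algebra.IsGeometricallyReduced K' C] :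
    Algebra.IsGeometricallyReduced L C := by
  rw [Algebra.isGeometricallyReduced_field_iff]
  let e₀ : K' ≃ₐ[K'] L := AlgEquiv.ofBijective (Algebra.ofId K' L) hbij
  haveI : Algebra.IsAlgebraic K' L :=
    Algebra.IsAlgebraic.of_injective e₀.symm.toAlgHom e₀.symm.injective
  haveI : Algebra.IsAlgebraic K' (AlgebraicClosure L) := Algebra.IsAlgebraic.trans K' L _
  haveI : IsReduced (AlgebraicClosure L ⊗[K'] C) := inferInstance
  haveI : TensorProduct.CompatibleSMul K' L (AlgebraicClosure L) C := by
    constructor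
    intro l ω c
    obtain ⟨l₀, rfl⟩ := hbij.2 l
    rw [algebraMap_smul, algebraMap_smul, TensorProduct.smul_tmul]
  let e : AlgebraicClosure L ⊗[L] C ≃ₐ[L] AlgebraicClosure L ⊗[K'] C :=
    Algebra.TensorProduct.equivOfCompatibleSMul K' L L (AlgebraicClosure L) C
  exact isReduced_of_injective e.toRingEquiv.toRingHom e.injective

variable {k K' L F : Type u} [Field k] [Field K'] [Field L] [Field F] [Algebra k K'] [Algebra k L]
  [Algebra k F]

/-- transport along `e : K' ≃ₐ[k] L` of the property that all residue fields of `K' ⊗[k] F` are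
geometrically reduced over `K'` -/
theorem isGeometricallyReduced_quotient_of_algEquiv (e : K' ≃ₐ[k] L)
    (h : ∀ m : Ideal (K' ⊗[k] F), m.IsMaximal →
      Algebra.IsGeometricallyReduced K' ((K' ⊗[k] F) ⧸ m))
    (m : Ideal (L ⊗[k] F)) (hm : m.IsMaximal) :
    Algebra.IsGeometricallyReduced L ((L ⊗[k] F) ⧸ m) := by
  let τ : K' ⊗[k] F ≃ₐ[k] L ⊗[k] F := Algebra.TensorProduct.congr e AlgEquiv.refl
  let m' : Ideal (K' ⊗[k] F) := m.comap τ.toRingEquiv.toRingHom
  have hm' : m'.IsMaximal := Ideal.comap_isMaximal_of_surjective _ τ.surjective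
  haveI := h m' hm'
  -- `L` and the quotient as `K'`-algebras
  letI : Algebra K' L := e.toAlgHom.toRingHom.toAlgebra
  haveI : IsScalarTower k K' L := IsScalarTower.of_algebraMap_eq (fun c => (e.commutes c).symm)
  haveI : IsScalarTower K' L ((L ⊗[k] F) ⧸ m) := inferInstance
  have hmap : m' = m.comap τ.toRingEquiv.toRingHom := rfl
  let ψ : ((K' ⊗[k] F) ⧸ m') →+* ((L ⊗[k] F) ⧸ m) :=
    Ideal.quotientMap m τ.toRingEquiv.toRingHom (le_of_eq hmap)
  have hψinj : Function.Injective ψ := Ideal.quotientMap_injective' (le_of_eq hmap.symm)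
  have hψsurj : Function.Surjective ψ :=
    Ideal.quotientMap_surjective τ.surjective
  let ψa : ((K' ⊗[k] F) ⧸ m') →ₐ[K'] ((L ⊗[k] F) ⧸ m) :=
    { ψ with
      commutes' := fun c => by
        change ψ (Ideal.Quotient.mk m' (c ⊗ₜ 1)) = Ideal.Quotient.mk m (e c ⊗ₜ 1)
        rw [Ideal.quotientMap_mk]
        rfl }
  let ψe : ((K' ⊗[k] F) ⧸ m') ≃ₐ[K'] ((L ⊗[k] F) ⧸ m) :=
    AlgEquiv.ofBijective ψa ⟨hψinj, hψsurj⟩
  haveI : Algebra.IsGeometricallyReduced K' ((L ⊗[k] F) ⧸ m) :=
    Algebra.IsGeometricallyReduced.of_injective ψe.symm.toAlgHom ψe.symm.injective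
  exact isGeometricallyReduced_of_bijective (K' := K') e.bijective

end Groth.Agent.H8.PITransport
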