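import Mathlib
import Groth.Agent.S4366
import Groth.Agent.H8.PIGeomRed2
import Groth.Agent.H8.GeomIrrCover
import Groth.Agent.H8.PICover
import Groth.Agent.H8.PITransport

/-!
# Geometric reducedness of a fibre of the reduction of a base change
-/

set_option autoImplicit false
set_option linter.style.haveILetI false

universe u

open AlgebraicGeometry CategoryTheory CategoryTheory.Limits TensorProduct TopologicalSpace

attribute [local instance] Curv2.resAlgebra
attribute [local instance] Groth.Agent.H8.GeomIrrCover.fiberOver

namespace Groth.Agent.H8.PIFibre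

/-- the fibre of a reduced scheme over a point whose local ring is a field is reduced -/
theorem isReduced_fiber_of_isField_stalk {Z Y' : Scheme.{u}} (h : Z ⟶ Y') [IsReduced Z] (η' : Y')
    (hF : IsField (Y'.presheaf.stalk η')) : IsReduced (h.fiber η') := by
  -- the residue map at `η'` is an isomorphism
  have hbij : Function.Bijective (Y'.residue η').hom := by
    letI := hF.toField
    exact ⟨(Y'.residue η').hom.injective, Ideal.Quotient.mk_surjective⟩
  haveI : IsIso (Y'.residue η') := (ConcreteCategory.isIso_iff_bijective _).mpr hbij
  -- the pullback along the local scheme is reduced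
  haveI : IsReduced (pullback h (Y'.fromSpecStalk η')) := by
    haveI : ∀ t : ↑(pullback h (Y'.fromSpecStalk η')),
        _root_.IsReduced ((pullback h (Y'.fromSpecStalk η')).presheaf.stalk t) := by
      intro t
      haveI := Groth.Agent.S4366.result h η' t
      let e := (asIso ((pullback.fst h (Y'.fromSpecStalk η')).stalkMap t)).commRingCatIsoToRingEquiv
      exact isReduced_of_injective e.symm.toRingHom e.symm.injective
    exact isReduced_of_isReduced_stalk _
  let φ : h.fiber η' ⟶ pullback h (Y'.fromSpecStalk η') :=
    pullback.map h (Y'.fromSpecResidueField η') h (Y'.fromSpecStalk η') (𝟙 _)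
      (Spec.map (Y'.residue η')) (𝟙 _) (by simp) (by simp [Scheme.fromSpecResidueField])
  haveI h1 : IsIso (Spec.map (Y'.residue η')) := inferInstance
  haveI : IsIso φ :=
    pullback.map_isIso h (Y'.fromSpecResidueField η') h (Y'.fromSpecStalk η') (𝟙 _)
      (Spec.map (Y'.residue η')) (𝟙 _) _ _
  exact isReduced_of_isOpenImmersion φ

variable {X Y : Scheme.{u}} (f : X ⟶ Y)

set_option backward.isDefEq.respectTransparency false in
/-- **Geometric reducedness of a fibre of a reduced closed subscheme of a base change.** -/
theorem geometricallyReduced_fiber {Y' Z : Scheme.{u}} (q : Y' ⟶ Y) (r : Z ⟶ pullback f q)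
    [IsClosedImmersion r] [Surjective r] (η' : Y')
    (hred : IsReduced ((r ≫ pullback.snd f q).fiber η'))
    (halg : letI : Algebra (Y.residueField (q η')) (Y'.residueField η') :=
      (q.residueFieldMap η').hom.toAlgebra
      Algebra.IsAlgebraic (Y.residueField (q η')) (Y'.residueField η'))
    (hcommon : letI : Algebra (Y.residueField (q η')) (Y'.residueField η') :=
      (q.residueFieldMap η').hom.toAlgebra
      ∀ x : f.fiber (q η'), closure {x} ∈ irreducibleComponents (f.fiber (q η')) →
        ∀ m : Ideal (Y'.residueField η' ⊗[Y.residueField (q η')] (f.fiber (q η')).residueField x),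
          m.IsMaximal → Algebra.IsGeometricallyReduced (Y'.residueField η')
            ((Y'.residueField η' ⊗[Y.residueField (q η')] (f.fiber (q η')).residueField x) ⧸ m)) :
    GeometricallyReduced ((r ≫ pullback.snd f q).fiberToSpecResidueField η') := by
  letI : Algebra (Y.residueField (q η')) (Y'.residueField η') :=
      (q.residueFieldMap η').hom.toAlgebra
  haveI := halg
  haveI := hred
  have hpb := isPullback_fiberToSpecResidueField_of_isPullback
    (IsPullback.of_hasPullback f q) η'
  -- the fibre of the base change is the base change of the fibre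
  let e := hpb.isoPullback
  have he : e.hom ≫ Curv2.bcSnd (Y.residueField (q η')) (f.fiber (q η')) (Y'.residueField η') =
      (pullback.snd f q).fiberToSpecResidueField η' := hpb.isoPullback_hom_snd
  -- the closed immersion of the fibres
  let ι₀ := pullbackRightPullbackFstIso (pullback.snd f q) (Y'.fromSpecResidueField η') r
  let c : (r ≫ pullback.snd f q).fiber η' ⟶ (pullback.snd f q).fiber η' :=
    ι₀.inv ≫ pullback.snd r (pullback.fst (pullback.snd f q) (Y'.fromSpecResidueField η'))
  have hc : c ≫ (pullback.snd f q).fiberToSpecResidueField η' =
      (r ≫ pullback.snd f q).fiberToSpecResidueField η' := by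
    change (ι₀.inv ≫ pullback.snd r _) ≫ pullback.snd _ _ = pullback.snd _ _
    rw [Category.assoc]
    exact pullbackRightPullbackFstIso_inv_snd_snd _ _ _
  haveI : IsClosedImmersion c := by
    dsimp only [c]
    infer_instance
  haveI : Surjective c := by
    dsimp only [c]
    infer_instance
  have key := Groth.Agent.H8.PIGeomRed.geometricallyReduced_of_closedImmersion
    (Y.residueField (q η')) (f.fiber (q η')) (Y'.residueField η') (c ≫ e.hom) hcommon
  rw [Category.assoc, he, hc] at key
  exact key

open Groth.Agent.H8.AffCover in
/-- the generic fibre of the reduction of the base change to the affine cover `Spec B` is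
geometrically reduced, when `Frac B = K'` is chosen by `PICommon.exists_common_pi` -/
theorem geometricallyReduced_cover (η : Y)
    (K' : Type u) [Field K'] [Algebra (Y.residueField η) K']
    [Algebra.IsAlgebraic (Y.residueField η) K']
    (hcommon : ∀ x : f.fiber η, closure {x} ∈ irreducibleComponents (f.fiber η) →
      ∀ m : Ideal (K' ⊗[Y.residueField η] (f.fiber η).residueField x), m.IsMaximal →
        Algebra.IsGeometricallyReduced K'
          ((K' ⊗[Y.residueField η] (f.fiber η).residueField x) ⧸ m))
    {V : Y.Opens} (hV : IsAffineOpen V) (hηV : η ∈ V)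
    (B : Type u) [CommRing B] [Algebra Γ(Y, V) B]
    (j : B →+* K') (hj : Function.Injective j)
    (hcomp : j.comp (algebraMap Γ(Y, V) B) =
      (algebraMap (Y.residueField η) K').comp (Y.evaluation V η hηV).hom)
    (hdiv : ∀ x : K', ∃ b s : B, j s ≠ 0 ∧ x * j s = j b)
    (η' : PrimeSpectrum B) (hη' : η'.asIdeal = ⊥) (h : affToBase hV B η' = η)
    (hF : IsField ((affScheme B).presheaf.stalk η'))
    {Z : Scheme.{u}} (r : Z ⟶ pullback f (affToBase hV B)) [IsClosedImmersion r] [Surjective r]
    [IsReduced Z] :
    GeometricallyReduced ((r ≫ pullback.snd f (affToBase hV B)).fiberToSpecResidueField η') := by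
  subst h
  letI : Algebra (Y.residueField (affToBase hV B η')) ((affScheme B).residueField η') :=
    ((affToBase hV B).residueFieldMap η').hom.toAlgebra
  obtain ⟨e⟩ := Groth.Agent.H8.PICover.nonempty_algEquiv_residueField hV B η' hη' K' j hj hcomp hdiv
  have h1 : IsReduced ((r ≫ pullback.snd f (affToBase hV B)).fiber η') :=
    isReduced_fiber_of_isField_stalk (Y' := affScheme B) (r ≫ pullback.snd f (affToBase hV B)) η' hF
  have h2 : Algebra.IsAlgebraic (Y.residueField (affToBase hV B η'))
      ((affScheme B).residueField η') :=
    Algebra.IsAlgebraic.of_injective e.symm.toAlgHom e.symm.injective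
  have h3 : ∀ x : f.fiber (affToBase hV B η'),
      closure {x} ∈ irreducibleComponents (f.fiber (affToBase hV B η')) →
      ∀ m : Ideal ((affScheme B).residueField η' ⊗[Y.residueField (affToBase hV B η')]
        (f.fiber (affToBase hV B η')).residueField x), m.IsMaximal →
        Algebra.IsGeometricallyReduced ((affScheme B).residueField η')
          (((affScheme B).residueField η' ⊗[Y.residueField (affToBase hV B η')]
            (f.fiber (affToBase hV B η')).residueField x) ⧸ m) := by
    intro x hx m hm
    exact Groth.Agent.H8.PITransport.isGeometricallyReduced_quotient_of_algEquiv e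
      (hcommon x hx) m hm
  exact geometricallyReduced_fiber (Y' := affScheme B) f (affToBase hV B) r η' h1 h2 h3

end Groth.Agent.H8.PIFibre
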