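import Mathlib
import Groth.Agent.H8.PIFibre
import Groth.Agent.H8.PIAdjoin
import Groth.Agent.H8.PICommon

/-!
# A finite purely inseparable cover of the base making the generic fibre of the reduction
geometrically reduced: the affine construction
-/

set_option autoImplicit false
set_option linter.style.haveILetI false

universe u

open AlgebraicGeometry CategoryTheory CategoryTheory.Limits TensorProduct TopologicalSpace

attribute [local instance] Curv2.resAlgebra
attribute [local instance] Groth.Agent.H8.GeomIrrCover.fiberOver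

namespace Groth.Agent.H8.PIMain

open Groth.Agent.H8.AffCover

variable {X Y : Scheme.{u}} (f : X ⟶ Y)

/-- a universal homeomorphism is surjective -/
theorem surjective_of_isUnivHomeo {X Y : Scheme.{u}} (g : X ⟶ Y) (hg : FlatMor.IsUnivHomeo g) :
    Function.Surjective g := by
  have h1 := MorphismProperty.universally_le _ _ hg
  exact (show IsHomeomorph g from h1).surjective

/-- a universal homeomorphism is a homeomorphism -/
theorem isHomeomorph_of_isUnivHomeo {X Y : Scheme.{u}} (g : X ⟶ Y) (hg : FlatMor.IsUnivHomeo g) :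
    IsHomeomorph g :=
  MorphismProperty.universally_le _ _ hg

set_option backward.isDefEq.respectTransparency false in
/-- **The affine purely inseparable cover.** -/
theorem exists_cover_algebra [LocallyOfFiniteType f] [QuasiCompact f] (η : Y)
    (hgen : ∀ y : Y, η ⤳ y) {V : Y.Opens} (hV : IsAffineOpen V) (hηV : η ∈ V) :
    ∃ (B : Type u) (_ : CommRing B) (_ : Algebra Γ(Y, V) B), IsDomain B ∧
      Module.Finite Γ(Y, V) B ∧ FlatMor.IsUnivHomeo (affToOpen hV B) ∧
      ∀ η' : PrimeSpectrum B, η'.asIdeal = ⊥ → affToBase hV B η' = η ∧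
        ∀ {Z : Scheme.{u}} (r : Z ⟶ pullback f (affToBase hV B)) [IsClosedImmersion r]
          [Surjective r] [IsReduced Z],
          GeometricallyReduced
            ((r ≫ pullback.snd f (affToBase hV B)).fiberToSpecResidueField η') := by
  haveI : QuasiCompact (f.fiberToSpecResidueField η) :=
    inferInstanceAs (QuasiCompact (pullback.snd f (Y.fromSpecResidueField η)))
  haveI : LocallyOfFiniteType (f.fiberToSpecResidueField η) :=
    inferInstanceAs (LocallyOfFiniteType (pullback.snd f (Y.fromSpecResidueField η)))
  haveI : IsLocallyNoetherian (f.fiber η) :=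
    LocallyOfFiniteType.isLocallyNoetherian (f.fiberToSpecResidueField η)
  haveI : CompactSpace (f.fiber η) := by
    have := (quasiCompact_iff_compactSpace (f := f.fiberToSpecResidueField η)).mp inferInstance
    exact this
  haveI : IsNoetherian (f.fiber η) := {}
  haveI := Groth.Agent.H8.GeomIrrCover.finite_genericPoints (f.fiber η)
  haveI : ∀ i : {x : f.fiber η // closure {x} ∈ irreducibleComponents (f.fiber η)},
      Algebra.EssFiniteType (Y.residueField η) ((f.fiber η).residueField i.1) := fun i =>
    Groth.Agent.H25.FTResidue.essFiniteType_residueField (Y.residueField η) (f.fiber η) i.1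
  obtain ⟨K', _, _, hfd, hpi, hcommon⟩ :=
    Groth.Agent.H8.PICommon.exists_common_pi (k := Y.residueField η)
      (fun i : {x : f.fiber η // closure {x} ∈ irreducibleComponents (f.fiber η)} =>
        (f.fiber η).residueField i.1)
  letI algA : Algebra Γ(Y, V) (Y.residueField η) := (Y.evaluation V η hηV).hom.toAlgebra
  letI algAK' : Algebra Γ(Y, V) K' :=
    ((algebraMap (Y.residueField η) K').comp (Y.evaluation V η hηV).hom).toAlgebra
  haveI : IsScalarTower Γ(Y, V) (Y.residueField η) K' :=
    IsScalarTower.of_algebraMap_eq (fun _ => rfl)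
  have hfrac : Groth.Agent.H8.PIAdjoin.IsFrac Γ(Y, V) (Y.residueField η) :=
    Groth.Agent.H8.PICover.isFrac_evaluation hV η hηV
  have hker := Groth.Agent.H8.FinEtSpread.ker_evaluation_eq_nilradical η hV hηV hgen
  let q := ringExpChar (Y.residueField η)
  haveI : ExpChar (Y.residueField η) q := ringExpChar.expChar _
  haveI : ExpChar K' q := expChar_of_injective_algebraMap (algebraMap (Y.residueField η) K').injective q
  have hq : 0 < q := expChar_pos (Y.residueField η) q
  obtain ⟨T, N, hspan, hT⟩ :=
    Groth.Agent.H8.PIAdjoin.exists_spanning_finset Γ(Y, V) (Y.residueField η) K' hfrac q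
  let B := Groth.Agent.H8.PIAdjoin.adj (A := Γ(Y, V)) T
  haveI hfinB : Module.Finite Γ(Y, V) B := Groth.Agent.H8.PIAdjoin.finite_adj T N q hT hq
  have hkerle : RingHom.ker (algebraMap Γ(Y, V) (Y.residueField η)) ≤ nilradical Γ(Y, V) :=
    hker.le
  have hUH0 : FlatMor.IsUnivHomeo (affHom (Y := Y) (V := V) B) :=
    Groth.Agent.H8.PIAdjoin.isUnivHomeo_adj T N q hT hq hkerle
  have hUH : FlatMor.IsUnivHomeo (affToOpen hV B) := by
    rw [affToOpen]
    haveI : FlatMor.IsUnivHomeo.RespectsIso :=
      MorphismProperty.universally_respectsIso (topologically (fun f => IsHomeomorph f))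
    exact (MorphismProperty.cancel_right_of_respectsIso FlatMor.IsUnivHomeo _ _).mpr hUH0
  refine ⟨B, inferInstance, inferInstance, inferInstance, hfinB, hUH, ?_⟩
  intro η' hη'
  -- the generic point of the cover lies over `η`
  have hηη' : affToBase hV B η' = η := by
    obtain ⟨z, hz⟩ := surjective_of_isUnivHomeo _ hUH ⟨η, hηV⟩
    have hz' : affToBase hV B z = η := by
      rw [← affToOpen_ι, Scheme.Hom.comp_apply, hz]
      rfl
    have h1 : η' ⤳ (show PrimeSpectrum B from z) := by
      rw [← PrimeSpectrum.le_iff_specializes]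
      change η'.asIdeal ≤ _
      rw [hη']
      exact bot_le
    have h2 : affToBase hV B η' ⤳ η := by
      rw [← hz']
      exact Specializes.map h1 (affToBase hV B).continuous
    exact (h2.antisymm (hgen _)).eq
  refine ⟨hηη', ?_⟩
  intro Z r _ _ _
  haveI : Algebra.IsAlgebraic (Y.residueField η) K' := Algebra.IsAlgebraic.of_finite _ _
  have hspec : ∀ z : affScheme B, (show affScheme B from η') ⤳ z := by
    intro z
    change η' ⤳ (show PrimeSpectrum B from z)
    rw [← PrimeSpectrum.le_iff_specializes]
    change η'.asIdeal ≤ _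
    rw [hη']
    exact bot_le
  have hF : IsField ((affScheme B).presheaf.stalk η') := by
    refine isField_stalk_of_closure_mem_irreducibleComponents (affScheme B) η' ?_
    have hcl : closure {(show affScheme B from η')} = Set.univ := by
      rw [Set.eq_univ_iff_forall]
      intro z
      exact (specializes_iff_mem_closure).mp (hspec z)
    rw [irreducibleComponents_eq_singleton]
    exact hcl
  have hj : Function.Injective (B.val : B →ₐ[Γ(Y, V)] K').toRingHom := Subtype.val_injective
  have hcomp : (B.val : B →ₐ[Γ(Y, V)] K').toRingHom.comp (algebraMap Γ(Y, V) B) =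
      (algebraMap (Y.residueField η) K').comp (Y.evaluation V η hηV).hom := rfl
  have hdiv : ∀ x : K', ∃ b s : B, (B.val : B →ₐ[Γ(Y, V)] K').toRingHom s ≠ 0 ∧
      x * (B.val : B →ₐ[Γ(Y, V)] K').toRingHom s = (B.val : B →ₐ[Γ(Y, V)] K').toRingHom b := by
    intro x
    obtain ⟨b, hb, s, hs, e⟩ := Groth.Agent.H8.PIAdjoin.exists_div_of_span T hfrac hspan x
    refine ⟨⟨b, hb⟩, algebraMap Γ(Y, V) B s, ?_, e⟩
    change algebraMap (Y.residueField η) K' (algebraMap Γ(Y, V) (Y.residueField η) s) ≠ 0
    rw [Ne, map_eq_zero]
    exact hs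
  exact Groth.Agent.H8.PIFibre.geometricallyReduced_cover f η K'
    (fun x hx m hm => hcommon ⟨x, hx⟩ m hm) hV hηV B _ hj hcomp hdiv η' hη' hηη' hF r

end Groth.Agent.H8.PIMain
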