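import Mathlib

/-!
# Restricting a closed subscheme of a base change to an open of the new base
-/

set_option autoImplicit false
set_option linter.style.haveILetI false

universe u

open AlgebraicGeometry CategoryTheory CategoryTheory.Limits TopologicalSpace

namespace Groth.Agent.H8.PIRestrict

/-- a property local on the target holding over an open holds over any smaller open -/
theorem restrict_of_le {P : MorphismProperty Scheme.{u}} [IsZariskiLocalAtTarget P]
    {X S : Scheme.{u}} (f : X ⟶ S) {U W : S.Opens} (hUW : U ≤ W) (h : P (f ∣_ W)) :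
    P (f ∣_ U) := by
  have h1 : P (f ∣_ W ∣_ (W.ι ⁻¹ᵁ U)) := IsZariskiLocalAtTarget.restrict h _
  rw [P.arrow_mk_iso_iff (morphismRestrictRestrict f W _)] at h1
  have : W.ι ''ᵁ (W.ι ⁻¹ᵁ U) = U := by
    rw [Scheme.Hom.image_preimage_eq_opensRange_inf, Scheme.Opens.opensRange_ι]
    exact inf_eq_right.mpr hUW
  rwa [this] at h1

/-- the restriction of a morphism factoring through an open `V₀` to a smaller open `V` is a base
change of the factorization -/
theorem isPullback_restrict_of_factor {Y' Y : Scheme.{u}} {V₀ : Y.Opens}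
    (g₀ : Y' ⟶ (V₀ : Scheme.{u})) (q₀ : Y' ⟶ Y) (hq : g₀ ≫ V₀.ι = q₀) (V : Y.Opens)
    (hVV₀ : V ≤ V₀) :
    IsPullback (q₀ ⁻¹ᵁ V).ι (q₀ ∣_ V) g₀ (Y.homOfLE hVV₀) := by
  subst hq
  have hbig := (isPullback_morphismRestrict (g₀ ≫ V₀.ι) V).flip
  have hbot : IsPullback (Y.homOfLE hVV₀) (𝟙 _) V₀.ι V.ι :=
    IsPullback.of_vert_isIso_mono ⟨by simp⟩
  refine IsPullback.of_bot ?_ ?_ hbot
  · simpa using hbig
  · rw [← cancel_mono V₀.ι, Category.assoc, Category.assoc, Scheme.homOfLE_ι, morphismRestrict_ι]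

/-- the geometric reducedness of a fibre over a point of an open of the base can be checked before
restricting to the open -/
theorem geometricallyReduced_fiber_restrict {Z Y' : Scheme.{u}} (h : Z ⟶ Y') (U' : Y'.Opens)
    (ξ : (U' : Scheme.{u}))
    (hgr : GeometricallyReduced (h.fiberToSpecResidueField (U'.ι ξ))) :
    GeometricallyReduced ((h ∣_ U').fiberToSpecResidueField ξ) := by
  have hpb := isPullback_fiberToSpecResidueField_of_isPullback (isPullback_morphismRestrict h U').flip ξ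
  exact MorphismProperty.of_isPullback hpb hgr

variable {X Y : Scheme.{u}} (f : X ⟶ Y)

/-- **Restriction of a closed subscheme of a base change** to an open of the new base. -/
theorem exists_restrict_closedImmersion {Y' Z : Scheme.{u}} (q : Y' ⟶ Y)
    (r₀ : Z ⟶ pullback f q) [IsClosedImmersion r₀] [Surjective r₀] (U' : Y'.Opens)
    (g' : (U' : Scheme.{u}) ⟶ Y) (hg' : g' = U'.ι ≫ q) :
    ∃ r : ((r₀ ≫ pullback.snd f q) ⁻¹ᵁ U' : Scheme.{u}) ⟶ pullback f g',
      IsClosedImmersion r ∧ Surjective r ∧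
        r ≫ pullback.snd f g' = (r₀ ≫ pullback.snd f q) ∣_ U' := by
  subst hg'
  set h := r₀ ≫ pullback.snd f q with hh
  have hw : ((h ⁻¹ᵁ U').ι ≫ r₀ ≫ pullback.fst f q) ≫ f = (h ∣_ U') ≫ U'.ι ≫ q := by
    rw [← Category.assoc (h ∣_ U'), morphismRestrict_ι, hh]
    simp only [Category.assoc]
    rw [pullback.condition]
  let r : (h ⁻¹ᵁ U' : Scheme.{u}) ⟶ pullback f (U'.ι ≫ q) :=
    pullback.lift ((h ⁻¹ᵁ U').ι ≫ r₀ ≫ pullback.fst f q) (h ∣_ U') hw
  let φ : pullback f (U'.ι ≫ q) ⟶ pullback f q :=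
    pullback.lift (pullback.fst _ _) (pullback.snd _ _ ≫ U'.ι)
      (by rw [pullback.condition, Category.assoc])
  -- the bottom square is a pullback
  have hbot : IsPullback φ (pullback.snd f (U'.ι ≫ q)) (pullback.snd f q) U'.ι := by
    refine IsPullback.of_right ?_ (pullback.lift_snd _ _ _) (IsPullback.of_hasPullback f q)
    have h1 : φ ≫ pullback.fst f q = pullback.fst f (U'.ι ≫ q) := pullback.lift_fst _ _ _
    rw [h1]
    exact IsPullback.of_hasPullback f (U'.ι ≫ q)
  have hbig : IsPullback (h ⁻¹ᵁ U').ι (r ≫ pullback.snd f (U'.ι ≫ q)) (r₀ ≫ pullback.snd f q)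
      U'.ι := by
    have h1 : r ≫ pullback.snd f (U'.ι ≫ q) = h ∣_ U' := pullback.lift_snd _ _ _
    rw [h1]
    exact (isPullback_morphismRestrict h U').flip
  have htop : IsPullback (h ⁻¹ᵁ U').ι r r₀ φ := by
    refine IsPullback.of_bot hbig ?_ hbot
    have hφ1 : φ ≫ pullback.fst f q = pullback.fst f (U'.ι ≫ q) := pullback.lift_fst _ _ _
    have hφ2 : φ ≫ pullback.snd f q = pullback.snd f (U'.ι ≫ q) ≫ U'.ι := pullback.lift_snd _ _ _
    have hr1 : r ≫ pullback.fst f (U'.ι ≫ q) = (h ⁻¹ᵁ U').ι ≫ r₀ ≫ pullback.fst f q :=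
      pullback.lift_fst _ _ _
    have hr2 : r ≫ pullback.snd f (U'.ι ≫ q) = h ∣_ U' := pullback.lift_snd _ _ _
    apply pullback.hom_ext
    · rw [Category.assoc, Category.assoc, hφ1, hr1]
    · rw [Category.assoc, Category.assoc, hφ2, ← Category.assoc r, hr2, morphismRestrict_ι]
  refine ⟨r, ?_, ?_, pullback.lift_snd _ _ _⟩
  · exact MorphismProperty.of_isPullback (P := @IsClosedImmersion) htop inferInstance
  · exact MorphismProperty.of_isPullback (P := @Surjective) htop inferInstance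

end Groth.Agent.H8.PIRestrict
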