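import Mathlib
import Groth.Agent.H8.PIMain
import Groth.Agent.H8.PIRestrict
import Groth.Agent.H8.GenericQS
import Groth.Agent.H22.RedSub

/-!
# Assembling the finite purely inseparable cover
-/

set_option autoImplicit false
set_option linter.style.haveILetI false

universe u

open AlgebraicGeometry CategoryTheory CategoryTheory.Limits TopologicalSpace

namespace Groth.Agent.H8.PIAssemble

open Groth.Agent.H8.PIMain Groth.Agent.H8.PIRestrict

set_option backward.isDefEq.respectTransparency false in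
/-- from a finite universal homeomorphism `g₀ : Y'₀ ⟶ V₀` from an integral affine scheme such that
the generic fibre of the reduction of the base change of `f` to `Y'₀` is geometrically reduced,
shrink to obtain flatness, finite presentation and quasi-separatedness -/
theorem assemble {X Y : Scheme.{u}} (f : X ⟶ Y) [LocallyOfFiniteType f] [QuasiCompact f]
    {V₀ : Y.Opens} {Y'₀ : Scheme.{u}} [IsAffine Y'₀] [IsIntegral Y'₀]
    (g₀ : Y'₀ ⟶ (V₀ : Scheme.{u})) [IsFinite g₀] (hUH : FlatMor.IsUnivHomeo g₀) (q₀ : Y'₀ ⟶ Y)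
    (hq : g₀ ≫ V₀.ι = q₀)
    (hgr : ∀ {Z : Scheme.{u}} (r : Z ⟶ pullback f q₀) [IsClosedImmersion r] [Surjective r]
      [IsReduced Z],
      GeometricallyReduced ((r ≫ pullback.snd f q₀).fiberToSpecResidueField (genericPoint Y'₀))) :
    ∃ (V : Y.Opens) (Y' : Scheme.{u}) (g : Y' ⟶ (V : Scheme.{u})) (X' : Scheme.{u})
      (r : X' ⟶ pullback f (g ≫ V.ι)) (_ : IsIntegral Y'),
      (V : Set ↑Y).Nonempty ∧ IsAffine Y' ∧ IsFinite g ∧ FlatMor.IsUnivHomeo g ∧
      IsClosedImmersion r ∧ Surjective r ∧ IsReduced X' ∧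
      Flat (r ≫ pullback.snd f (g ≫ V.ι)) ∧
      LocallyOfFinitePresentation (r ≫ pullback.snd f (g ≫ V.ι)) ∧
      QuasiCompact (r ≫ pullback.snd f (g ≫ V.ι)) ∧ QuasiSeparated (r ≫ pullback.snd f (g ≫ V.ι)) ∧
      GeometricallyReduced
        ((r ≫ pullback.snd f (g ≫ V.ι)).fiberToSpecResidueField (genericPoint ↑Y')) := by
  -- the reduction of the base change
  let r₀ := (pullback f q₀).nilradical.subschemeι
  set h₀ := r₀ ≫ pullback.snd f q₀ with hh₀
  have hgr₀ : GeometricallyReduced (h₀.fiberToSpecResidueField (genericPoint Y'₀)) := hgr r₀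
  obtain ⟨W₁, hW₁d, hW₁flat, hW₁fp⟩ := Groth.Agent.H46.GenFree.generic_flatness h₀
  obtain ⟨a, hηa, hqs⟩ := Groth.Agent.H8.GenericQS.exists_basicOpen_quasiSeparated h₀
  have hηW₁ : genericPoint Y'₀ ∈ W₁ := by
    obtain ⟨y, hy⟩ := hW₁d.nonempty
    exact (genericPoint_specializes y).mem_open W₁.isOpen hy
  let W' : Y'₀.Opens := W₁ ⊓ Y'₀.basicOpen a
  have hηW' : genericPoint Y'₀ ∈ W' := ⟨hηW₁, hηa⟩
  -- `q₀` is an injective open map
  have hhomeo := isHomeomorph_of_isUnivHomeo g₀ hUH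
  have hq₀app : ∀ y, q₀ y = V₀.ι (g₀ y) := by
    intro y
    rw [← hq]
    rfl
  have hinj : Function.Injective q₀ := by
    intro y₁ y₂ h12
    rw [hq₀app, hq₀app] at h12
    exact hhomeo.injective (V₀.ι.isOpenEmbedding.injective h12)
  have hopen : IsOpen (q₀ '' (W' : Set Y'₀)) := by
    have : q₀ '' (W' : Set Y'₀) = V₀.ι '' (g₀ '' (W' : Set Y'₀)) := by
      rw [Set.image_image]
      exact Set.image_congr (fun y _ => hq₀app y)
    rw [this]
    exact V₀.ι.isOpenEmbedding.isOpenMap _ (hhomeo.isOpenMap _ W'.isOpen)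
  obtain ⟨V, hV, hηV, hVsub⟩ : ∃ V : Y.Opens, IsAffineOpen V ∧ q₀ (genericPoint Y'₀) ∈ V ∧
      (V : Set Y) ⊆ q₀ '' (W' : Set Y'₀) := by
    obtain ⟨_, ⟨V, hV, rfl⟩, hηV, hVsub⟩ := Y.isBasis_affineOpens.exists_subset_of_mem_open
      (⟨_, hηW', rfl⟩ : q₀ (genericPoint Y'₀) ∈ q₀ '' (W' : Set Y'₀)) hopen
    exact ⟨V, hV, hηV, hVsub⟩
  have hVV₀ : V ≤ V₀ := by
    intro y hy
    obtain ⟨w, -, rfl⟩ := hVsub hy
    rw [hq₀app]
    exact (g₀ w).2
  let U' : Y'₀.Opens := q₀ ⁻¹ᵁ V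
  have hU'W' : U' ≤ W' := by
    intro y hy
    obtain ⟨w, hw, hwy⟩ := hVsub (show q₀ y ∈ (V : Set Y) from hy)
    rw [← hinj hwy]
    exact hw
  have hηU' : genericPoint Y'₀ ∈ U' := hηV
  haveI : Nonempty U' := ⟨⟨_, hηU'⟩⟩
  have hU'aff : IsAffineOpen U' := by
    have h1 : IsAffineOpen (V₀.ι ⁻¹ᵁ V) :=
      hV.preimage_of_isOpenImmersion V₀.ι (by rw [Scheme.Opens.opensRange_ι]; exact hVV₀)
    have h2 : IsAffineOpen (g₀ ⁻¹ᵁ (V₀.ι ⁻¹ᵁ V)) := h1.preimage g₀
    have : U' = g₀ ⁻¹ᵁ (V₀.ι ⁻¹ᵁ V) := by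
      change q₀ ⁻¹ᵁ V = _
      rw [← hq]
      rfl
    rwa [this]
  let g : (U' : Scheme.{u}) ⟶ (V : Scheme.{u}) := q₀ ∣_ V
  have hpb := isPullback_restrict_of_factor g₀ q₀ hq V hVV₀
  have hgfin : IsFinite g := MorphismProperty.of_isPullback (P := @IsFinite) hpb inferInstance
  haveI : FlatMor.IsUnivHomeo.IsStableUnderBaseChange :=
    MorphismProperty.universally_isStableUnderBaseChange
      (topologically (fun f => IsHomeomorph f))
  have hgUH : FlatMor.IsUnivHomeo g :=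
    MorphismProperty.of_isPullback (P := FlatMor.IsUnivHomeo) hpb hUH
  have hgι : g ≫ V.ι = U'.ι ≫ q₀ := morphismRestrict_ι q₀ V
  obtain ⟨r, hrci, hrsurj, hrsnd⟩ := exists_restrict_closedImmersion f q₀ r₀ U' (g ≫ V.ι) hgι
  refine ⟨V, U', g, _, r, inferInstance, ⟨_, hηV⟩, hU'aff, hgfin, hgUH, hrci, hrsurj,
    inferInstance, ?_⟩
  rw [hrsnd]
  haveI h1 : IsZariskiLocalAtTarget @Flat.{u} :=
    HasRingHomProperty.instIsZariskiLocalAtTarget (P := @Flat) (Q := RingHom.Flat)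
  haveI h2 : IsZariskiLocalAtTarget @LocallyOfFinitePresentation.{u} :=
    HasRingHomProperty.instIsZariskiLocalAtTarget (P := @LocallyOfFinitePresentation)
      (Q := RingHom.FinitePresentation)
  refine ⟨restrict_of_le (P := @Flat) h₀ (hU'W'.trans inf_le_left) hW₁flat,
    restrict_of_le (P := @LocallyOfFinitePresentation) h₀ (hU'W'.trans inf_le_left) hW₁fp,
    inferInstance, restrict_of_le (P := @QuasiSeparated) h₀ (hU'W'.trans inf_le_right) hqs, ?_⟩
  apply geometricallyReduced_fiber_restrict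
  rw [genericPoint_eq_of_isOpenImmersion U'.ι]
  exact hgr₀

open Groth.Agent.H8.AffCover in
set_option backward.isDefEq.respectTransparency false in
/-- **A finite purely inseparable cover of an open of the base making the generic fibre of the
reduction geometrically reduced.** -/
theorem main {X Y : Scheme.{u}} (f : X ⟶ Y) [IrreducibleSpace ↑Y] [LocallyOfFiniteType f]
    [QuasiCompact f] :
    ∃ (V : Y.Opens) (Y' : Scheme.{u}) (g : Y' ⟶ (V : Scheme.{u})) (X' : Scheme.{u})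
      (r : X' ⟶ pullback f (g ≫ V.ι)) (_ : IsIntegral Y'),
      (V : Set ↑Y).Nonempty ∧ IsAffine Y' ∧ IsFinite g ∧ FlatMor.IsUnivHomeo g ∧
      IsClosedImmersion r ∧ Surjective r ∧ IsReduced X' ∧
      Flat (r ≫ pullback.snd f (g ≫ V.ι)) ∧
      LocallyOfFinitePresentation (r ≫ pullback.snd f (g ≫ V.ι)) ∧
      QuasiCompact (r ≫ pullback.snd f (g ≫ V.ι)) ∧ QuasiSeparated (r ≫ pullback.snd f (g ≫ V.ι)) ∧
      GeometricallyReduced
        ((r ≫ pullback.snd f (g ≫ V.ι)).fiberToSpecResidueField (genericPoint ↑Y')) := by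
  have hgen : ∀ y : Y, genericPoint Y ⤳ y := genericPoint_specializes
  obtain ⟨V₀, hV₀, hηV₀⟩ : ∃ V₀ : Y.Opens, IsAffineOpen V₀ ∧ genericPoint Y ∈ V₀ := by
    obtain ⟨_, ⟨U, hU, rfl⟩, hxU, -⟩ := Y.isBasis_affineOpens.exists_subset_of_mem_open
      (Set.mem_univ (genericPoint Y)) isOpen_univ
    exact ⟨U, hU, hxU⟩
  obtain ⟨B, _, _, hdom, hfin, hUH, hB⟩ := exists_cover_algebra f (genericPoint Y) hgen hV₀ hηV₀
  haveI := hdom
  haveI := hfin
  haveI : IsFinite (affToOpen hV₀ B) := isFinite_affToOpen hV₀ B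
  haveI : IsIntegral (affScheme B) := inferInstance
  have hbot : (show PrimeSpectrum B from genericPoint (affScheme B)).asIdeal = ⊥ := by
    have := genericPoint_eq_bot_of_affine (CommRingCat.of B)
    rw [this]
    rfl
  exact assemble f (affToOpen hV₀ B) hUH (affToBase hV₀ B) (affToOpen_ι hV₀ B)
    (fun r => (hB _ hbot).2 r)

end Groth.Agent.H8.PIAssemble
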