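import Mathlib
import Groth.Prelude.Def_HTop

/-!
# Two proper morphisms which are jointly surjective form a ph covering
-/

set_option autoImplicit false
universe u
open CategoryTheory CategoryTheory.Limits AlgebraicGeometry

namespace Groth.Agent.H8.PhCoverPair

/-- The co-pairing of two proper morphisms is proper. -/
theorem isProper_coprodDesc {X Y T : Scheme.{u}} (f : X ⟶ T) (g : Y ⟶ T) [IsProper f]
    [IsProper g] : IsProper (coprod.desc f g) := by
  have h1 : IsProper (coprod.map f g) := by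
    rw [IsZariskiLocalAtTarget.iff_of_openCover (P := @IsProper) (coprodOpenCover.{u, 0} T T)]
    rintro (⟨⟨⟩⟩ | ⟨⟨⟩⟩)
    · have hP := isPullback_inl_inl_coprodMap f g
      have : pullback.snd (coprod.map f g) coprod.inl = hP.flip.isoPullback.inv ≫ f := by
        rw [Iso.eq_inv_comp]
        exact hP.flip.isoPullback_hom_snd
      change IsProper (pullback.snd (coprod.map f g) coprod.inl)
      rw [this]
      infer_instance
    · have hP := isPullback_inr_inr_coprodMap f g
      have : pullback.snd (coprod.map f g) coprod.inr = hP.flip.isoPullback.inv ≫ g := by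
        rw [Iso.eq_inv_comp]
        exact hP.flip.isoPullback_hom_snd
      change IsProper (pullback.snd (coprod.map f g) coprod.inr)
      rw [this]
      infer_instance
  have h2 : IsFinite (coprod.desc (𝟙 T) (𝟙 T)) := inferInstance
  have h3 : coprod.desc f g = coprod.map f g ≫ coprod.desc (𝟙 T) (𝟙 T) := by
    rw [coprod.map_desc, Category.comp_id, Category.comp_id]
  rw [h3]
  infer_instance

/-- A finite cover of the preimage of an affine open under a quasi-compact morphism by affine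
opens, indexed by `Fin n`. -/
theorem exists_fin_affine_cover {X T : Scheme.{u}} (f : X ⟶ T) [QuasiCompact f]
    (U : T.affineOpens) :
    ∃ (n : ℕ) (D : Fin n → X.Opens), (∀ k, IsAffineOpen (D k)) ∧
      (∀ k, D k ≤ f ⁻¹ᵁ (U : T.Opens)) ∧
      ∀ x : X, x ∈ f ⁻¹ᵁ (U : T.Opens) → ∃ k, x ∈ D k := by
  have hc : IsCompact ((f ⁻¹ᵁ (U : T.Opens) : X.Opens) : Set X) :=
    f.isCompact_preimage U.2.isCompact
  obtain ⟨Us, hUs, hUf, hUeq⟩ :=
    X.isBasis_affineOpens.exists_finite_of_isCompact (U := f ⁻¹ᵁ (U : T.Opens)) hc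
  have hfin : Finite Us := hUf.to_subtype
  obtain ⟨n, ⟨e⟩⟩ := Finite.exists_equiv_fin Us
  refine ⟨n, fun i => (e.symm i).1, fun i => hUs (e.symm i).2, ?_, ?_⟩
  · intro i
    rw [hUeq]
    exact le_sSup (e.symm i).2
  · intro x hx
    rw [hUeq, TopologicalSpace.Opens.mem_sSup] at hx
    obtain ⟨u, hu, hxu⟩ := hx
    refine ⟨e ⟨u, hu⟩, ?_⟩
    show x ∈ (e.symm (e ⟨u, hu⟩)).1
    rw [Equiv.symm_apply_apply]
    exact hxu

set_option backward.isDefEq.respectTransparency false in
/-- **Two proper morphisms which are jointly surjective form a ph covering.** -/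
theorem isPhCover_bool {T : Scheme.{u}} (X : Bool → Scheme.{u}) (f : ∀ b, X b ⟶ T)
    (hp : ∀ b, IsProper (f b)) (hsurj : ∀ y : T, ∃ (b : Bool) (x : X b), f b x = y) :
    HTop.IsPhCover ({ I₀ := Bool, X := X, f := f } : PreZeroHypercover.{0} T) := by
  refine ⟨fun b => ?_, fun U => ?_⟩
  · have := hp b
    exact (inferInstance : LocallyOfFiniteType (f b))
  have hUaff : IsAffine ((U : T.Opens) : Scheme.{u}) := U.2
  have := hp true
  have := hp false
  obtain ⟨n₁, D₁, hD₁, hle₁, hcov₁⟩ := exists_fin_affine_cover (f true) U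
  obtain ⟨n₂, D₂, hD₂, hle₂, hcov₂⟩ := exists_fin_affine_cover (f false) U
  have hp₁ : IsProper (f true ∣_ (U : T.Opens)) :=
    IsZariskiLocalAtTarget.restrict (P := @IsProper) (hp true) _
  have hp₂ : IsProper (f false ∣_ (U : T.Opens)) :=
    IsZariskiLocalAtTarget.restrict (P := @IsProper) (hp false) _
  let F : PreZeroHypercover.{0} ((U : T.Opens) : Scheme.{u}) :=
    { I₀ := Fin n₁ ⊕ Fin n₂
      X := fun p => Sum.casesOn p (fun k => ((D₁ k : (X true).Opens) : Scheme.{u}))
        (fun k => ((D₂ k : (X false).Opens) : Scheme.{u}))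
      f := fun p => match p with
        | Sum.inl k => (f true).resLE (U : T.Opens) (D₁ k) (hle₁ k)
        | Sum.inr k => (f false).resLE (U : T.Opens) (D₂ k) (hle₂ k) }
  refine ⟨F, ⟨hUaff, inferInstanceAs (Finite (Fin n₁ ⊕ Fin n₂)), ?_, ?_⟩, ?_⟩
  · rintro (k | k)
    · exact hD₁ k
    · exact hD₂ k
  · refine ⟨_, coprod.desc (f true ∣_ (U : T.Opens)) (f false ∣_ (U : T.Opens)),
      fun p => match p with
        | Sum.inl k => (X true).homOfLE (hle₁ k) ≫ coprod.inl
        | Sum.inr k => (X false).homOfLE (hle₂ k) ≫ coprod.inr,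
      isProper_coprodDesc _ _, ?_, ?_, ?_, ?_⟩
    · -- surjective
      constructor
      intro u
      obtain ⟨b, x, hx⟩ := hsurj u.1
      match b, x, hx with
      | true, x, hx =>
        have hxU : x ∈ f true ⁻¹ᵁ (U : T.Opens) := by
          change f true x ∈ (U : T.Opens); rw [hx]; exact u.2
        refine ⟨(coprod.inl : _ ⟶ ((f true ⁻¹ᵁ (U : T.Opens) : (X true).Opens) : Scheme.{u}) ⨿
          ((f false ⁻¹ᵁ (U : T.Opens) : (X false).Opens) : Scheme.{u})) ⟨x, hxU⟩, ?_⟩
        rw [← Scheme.Hom.comp_apply, coprod.inl_desc]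
        apply Subtype.ext
        have h3 := congrArg (fun k : ((f true ⁻¹ᵁ (U : T.Opens) : (X true).Opens) : Scheme.{u}) ⟶ T =>
          k ⟨x, hxU⟩) (morphismRestrict_ι (f true) (U : T.Opens))
        simp only [Scheme.Hom.comp_apply] at h3
        exact h3.trans hx
      | false, x, hx =>
        have hxU : x ∈ f false ⁻¹ᵁ (U : T.Opens) := by
          change f false x ∈ (U : T.Opens); rw [hx]; exact u.2
        refine ⟨(coprod.inr : _ ⟶ ((f true ⁻¹ᵁ (U : T.Opens) : (X true).Opens) : Scheme.{u}) ⨿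
          ((f false ⁻¹ᵁ (U : T.Opens) : (X false).Opens) : Scheme.{u})) ⟨x, hxU⟩, ?_⟩
        rw [← Scheme.Hom.comp_apply, coprod.inr_desc]
        apply Subtype.ext
        have h3 := congrArg (fun k : ((f false ⁻¹ᵁ (U : T.Opens) : (X false).Opens) : Scheme.{u}) ⟶ T =>
          k ⟨x, hxU⟩) (morphismRestrict_ι (f false) (U : T.Opens))
        simp only [Scheme.Hom.comp_apply] at h3
        exact h3.trans hx
    · rintro (k | k)
      · exact inferInstanceAs (IsOpenImmersion ((X true).homOfLE (hle₁ k) ≫ coprod.inl))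
      · exact inferInstanceAs (IsOpenImmersion ((X false).homOfLE (hle₂ k) ≫ coprod.inr))
    · rintro (k | k)
      · change ((X true).homOfLE (hle₁ k) ≫ coprod.inl) ≫ coprod.desc _ _ = _
        rw [Category.assoc, coprod.inl_desc]
        rfl
      · change ((X false).homOfLE (hle₂ k) ≫ coprod.inr) ≫ coprod.desc _ _ = _
        rw [Category.assoc, coprod.inr_desc]
        rfl
    · intro x
      obtain ⟨y | y, rfl⟩ := (coprodMk _ _).surjective x
      · obtain ⟨k, hk⟩ := hcov₁ y.1 y.2
        refine ⟨Sum.inl k, ⟨y.1, hk⟩, ?_⟩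
        change ((X true).homOfLE (hle₁ k) ≫ coprod.inl) ⟨y.1, hk⟩ = _
        rw [coprodMk_inl, Scheme.Hom.comp_apply, Scheme.homOfLE_apply']
        rfl
      · obtain ⟨k, hk⟩ := hcov₂ y.1 y.2
        refine ⟨Sum.inr k, ⟨y.1, hk⟩, ?_⟩
        change ((X false).homOfLE (hle₂ k) ≫ coprod.inr) ⟨y.1, hk⟩ = _
        rw [coprodMk_inr, Scheme.Hom.comp_apply, Scheme.homOfLE_apply']
        rfl
  · rintro (k | k)
    · exact ⟨true, (D₁ k).ι, (Scheme.Hom.resLE_comp_ι (f true) (hle₁ k)).symm⟩
    · exact ⟨false, (D₂ k).ι, (Scheme.Hom.resLE_comp_ι (f false) (hle₂ k)).symm⟩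

end Groth.Agent.H8.PhCoverPair
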