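import Groth.Agent.H5.Stalk.PullbackFlat
import Groth.Agent.H8.CartierDim
import Groth.Agent.H8.AffineLocal
import Mathlib.RingTheory.Flat.TorsionFree

/-!
# Modules flat along an effective Cartier divisor have no torsion for it (helper8)
-/

set_option autoImplicit false
universe u
open CategoryTheory CategoryTheory.Limits AlgebraicGeometry TopologicalSpace Opposite

namespace Groth.Agent.H8

open Groth.Agent.H5.Stalk

/-- The pullback of a module flat at `f x` is flat at `x`. -/
theorem isFlatAt_pullback {X Y : Scheme.{u}} (f : X ⟶ Y) (M : Y.Modules) (x : X)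
    (hM : FlatMod.IsFlatAt M (f x)) :
    FlatMod.IsFlatAt ((Scheme.Modules.pullback f).obj M) x := by
  have h₁ : Module.Flat (Y.presheaf.stalk (f x)) ((stalkFunctor (f x)).obj M) := hM
  have h₂ : Module.Flat (X.presheaf.stalk x) ((stalkExt f x).obj M) :=
    Groth.Agent.H5.FlatRing.flat_extendScalars_obj _ _ h₁
  exact Module.Flat.of_linearEquiv ((pullbackStalkIso f x).app M).toLinearEquiv

variable {X : Scheme.{u}}

set_option backward.isDefEq.respectTransparency false in
/-- A section over an affine open killed by a power of an effective Cartier ideal vanishes,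
provided the module is flat at the points of the divisor. -/
theorem eq_zero_of_killedByPowerNear (𝓔 : X.IdealSheafData) (hE : BlowUp.IsEffCartierIdeal 𝓔)
    (M : X.Modules) (hM : ∀ x : X, x ∈ 𝓔.support → FlatMod.IsFlatAt M x) (V : X.affineOpens)
    (m : M.presheaf.obj (op V.1)) (h : BlowUp.KilledByPowerNear 𝓔 M V m) : m = 0 := by
  obtain ⟨n, hn⟩ := h
  apply TopCat.Presheaf.section_ext ⟨M.presheaf, M.isSheaf⟩ V.1
  intro x hx
  rw [map_zero]
  obtain ⟨W, hxW, hWV, a, ha, haI⟩ := exists_principal_chart_le 𝓔 hE x V.1 hx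
  -- `a ^ n` kills the restriction of `m`
  have hres : (a ^ n) • M.presheaf.map (homOfLE hWV).op m = 0 := by
    have h1 : a ^ n ∈ (𝓔 ^ n).ideal W := by
      rw [Scheme.IdealSheafData.ideal_pow, Pi.pow_apply, haI]
      exact Ideal.pow_mem_pow (Ideal.mem_span_singleton_self a) n
    rw [← (𝓔 ^ n).map_ideal (U := W) (V := V) hWV] at h1
    have h2 : ((𝓔 ^ n).ideal V).map (X.presheaf.map (homOfLE hWV).op).hom ≤
        LinearMap.ker (LinearMap.toSpanSingleton Γ(X, W.1) (M.presheaf.obj (op W.1))
          (M.presheaf.map (homOfLE hWV).op m)) := by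
      rw [Ideal.map_le_iff_le_comap]
      intro c hc
      rw [Ideal.mem_comap, LinearMap.mem_ker, LinearMap.toSpanSingleton_apply,
        ← Scheme.Modules.map_smul, hn c hc, map_zero]
    have h3 := h2 h1
    rwa [LinearMap.mem_ker, LinearMap.toSpanSingleton_apply] at h3
  have hgerm : (X.presheaf.germ W.1 x hxW a) ^ n • M.presheaf.germ V.1 x hx m = 0 := by
    have := congrArg (M.presheaf.germ W.1 x hxW) hres
    rw [Groth.Agent.H5.Stalk.germ_smul, map_zero, TopCat.Presheaf.germ_res_apply, map_pow] at this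
    exact this
  by_cases hxs : x ∈ 𝓔.support
  · -- flat stalk, nonzerodivisor
    letI : Algebra Γ(X, W.1) (X.presheaf.stalk x) := X.presheaf.algebra_section_stalk ⟨x, hxW⟩
    haveI locX : IsLocalization.AtPrime (X.presheaf.stalk x) (W.2.primeIdealOf ⟨x, hxW⟩).asIdeal :=
      W.2.isLocalization_stalk ⟨x, hxW⟩
    have hreg : X.presheaf.germ W.1 x hxW a ∈ nonZeroDivisors (X.presheaf.stalk x) :=
      IsLocalization.map_nonZeroDivisors_le (W.2.primeIdealOf ⟨x, hxW⟩).asIdeal.primeCompl _
        (Submonoid.mem_map_of_mem _ ha)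
    haveI : Module.Flat (X.presheaf.stalk x) (M.presheaf.stalk x) := hM x hxs
    have hreg' := Module.Flat.isSMulRegular_of_nonZeroDivisors (M := M.presheaf.stalk x)
      (pow_mem hreg n)
    exact hreg' (by simp only [hgerm, smul_zero])
  · -- the generator is a unit at `x`
    have hnot : ¬ 𝓔.ideal W ≤ (W.2.primeIdealOf ⟨x, hxW⟩).asIdeal := by
      rwa [← mem_support_iff_le_primeIdealOf 𝓔 W.2 x hxW]
    have haP : a ∉ (W.2.primeIdealOf ⟨x, hxW⟩).asIdeal := by
      intro haP
      apply hnot
      rw [haI, Ideal.span_singleton_le_iff_mem]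
      exact haP
    have hu : IsUnit (X.presheaf.germ W.1 x hxW a) := by
      letI : Algebra Γ(X, W.1) (X.presheaf.stalk x) := X.presheaf.algebra_section_stalk ⟨x, hxW⟩
      haveI locX : IsLocalization.AtPrime (X.presheaf.stalk x) (W.2.primeIdealOf ⟨x, hxW⟩).asIdeal :=
        W.2.isLocalization_stalk ⟨x, hxW⟩
      exact IsLocalization.map_units (X.presheaf.stalk x)
        (⟨a, haP⟩ : (W.2.primeIdealOf ⟨x, hxW⟩).asIdeal.primeCompl)
    have hu' := hu.pow n
    have := congrArg (fun t => (↑hu'.unit⁻¹ : X.presheaf.stalk x) • t) hgerm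
    simp only [smul_zero] at this
    rw [smul_smul, IsUnit.val_inv_mul, one_smul] at this
    exact this

end Groth.Agent.H8
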