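import Groth.Agent.H8.Localizing
import Groth.Agent.H8.WeakAssFinite

/-!
# Weakly associated points and finite pushforward (helper8)
-/

set_option autoImplicit false
universe u
open CategoryTheory CategoryTheory.Limits AlgebraicGeometry TopologicalSpace Opposite

namespace Groth.Agent.H8

noncomputable section

open Curv2 in
set_option backward.isDefEq.respectTransparency false in
theorem isWeakAssPoint_pushforward_of_isFinite {X S : Scheme.{u}} (f : X ⟶ S)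
    [IsFinite f] (F : X.Modules) [F.IsQuasicoherent] (x : X)
    (hx : IsWeakAssPoint F x) :
    IsWeakAssPoint ((Scheme.Modules.pushforward f).obj F) (f x) := by
  obtain ⟨_, ⟨V, hV, rfl⟩, hsV, -⟩ :=
    S.isBasis_affineOpens.exists_subset_of_mem_open (Set.mem_univ (f x)) isOpen_univ
  have hV : IsAffineOpen V := hV
  have hsV : f x ∈ V := hsV
  have hU : IsAffineOpen (f ⁻¹ᵁ V) := hV.preimage f
  have hxU : x ∈ f ⁻¹ᵁ V := hsV
  have hloc := isLocalizingOn_pushforward f F V hU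
  rw [hloc.isWeakAssPoint_iff_mem_weakAss hV hsV]
  rw [isWeakAssPoint_iff_mem_weakAss F hU hxU] at hx
  let _ : Algebra Γ(S, V) Γ(X, f ⁻¹ᵁ V) := (f.app V).hom.toAlgebra
  have : Module.Finite Γ(S, V) Γ(X, f ⁻¹ᵁ V) := IsFinite.finite_app f V hV
  let _ : Module Γ(S, V) Γ(F, f ⁻¹ᵁ V) :=
    inferInstanceAs (Module Γ(S, V) Γ((Scheme.Modules.pushforward f).obj F, V))
  have : IsScalarTower Γ(S, V) Γ(X, f ⁻¹ᵁ V) Γ(F, f ⁻¹ᵁ V) :=
    .of_algebraMap_smul fun r m => rfl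
  have h1 := comap_mem_weakAss_of_finite (A := Γ(S, V)) (B := Γ(X, f ⁻¹ᵁ V))
    (M := Γ(F, f ⁻¹ᵁ V)) hx
  have h2 := IsAffineOpen.comap_primeIdealOf_appLE (f := f) (x := x) V hV (f ⁻¹ᵁ V) hU le_rfl hxU
  have h3 : (hV.primeIdealOf ⟨f x, hsV⟩).asIdeal =
      Ideal.comap (algebraMap Γ(S, V) Γ(X, f ⁻¹ᵁ V)) (hU.primeIdealOf ⟨x, hxU⟩).asIdeal := by
    rw [← h2]
    change Ideal.comap (f.appLE V (f ⁻¹ᵁ V) le_rfl).hom _ = Ideal.comap (f.app V).hom _
    rw [Scheme.Hom.app_eq_appLE]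
  rw [h3]
  exact h1

end

end Groth.Agent.H8
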