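import Groth.Prelude.Def_Rees
import Groth.Prelude.Def_BlowUp2
import Groth.Agent.Lead.Coh.ProjSpaceCover
import Mathlib.AlgebraicGeometry.ProjectiveSpectrum.Basic

/-!
# The charts of `Proj` of a Rees algebra (helper8)

Algebra of the rings `B_a = (R(I)_{aX})_0` (`a ∈ I`): `I B_a = a B_a`, `a` is a nonzerodivisor of
`B_a`, and the degree-one elements `aX` generate the irrelevant ideal.
-/

set_option autoImplicit false
universe u
open Polynomial HomogeneousLocalization

namespace Groth.Agent.H8.ReesProj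

variable {A : Type u} [CommRing A] (I : Ideal A)

/-- The homogeneous element `c Xⁿ` of the Rees algebra, `c ∈ Iⁿ`. -/
noncomputable def mon (n : ℕ) (c : A) (hc : c ∈ I ^ n) : reesAlgebra I :=
  ⟨monomial n c, reesAlgebra.monomial_mem.mpr hc⟩

lemma coe_mon (n : ℕ) (c : A) (hc : c ∈ I ^ n) : ((mon I n c hc : reesAlgebra I) : A[X]) =
    monomial n c := rfl

lemma mon_mem (n : ℕ) (c : A) (hc : c ∈ I ^ n) : mon I n c hc ∈ Rees.deg (reesAlgebra I) n := by
  rw [Rees.mem_deg_iff]
  intro m hm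
  rw [coe_mon, coeff_monomial]
  exact if_neg fun h => hm h.symm

/-- Every homogeneous element of degree `n` is `c Xⁿ`. -/
lemma eq_mon_of_mem {n : ℕ} {r : reesAlgebra I} (hr : r ∈ Rees.deg (reesAlgebra I) n) :
    r = mon I n ((r : A[X]).coeff n) (r.2 n) := by
  apply Subtype.ext
  rw [coe_mon]
  ext m
  rw [coeff_monomial]
  split_ifs with h
  · rw [h]
  · exact (Rees.mem_deg_iff _ n r).mp hr m (fun h' => h h'.symm)

/-- The degree-one element `a X`, `a ∈ I`. -/
noncomputable def tt (a : A) (ha : a ∈ I) : reesAlgebra I := mon I 1 a (by rwa [pow_one])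

lemma tt_mem (a : A) (ha : a ∈ I) : tt I a ha ∈ Rees.deg (reesAlgebra I) 1 := mon_mem I 1 a _

lemma coe_tt (a : A) (ha : a ∈ I) : ((tt I a ha : reesAlgebra I) : A[X]) = monomial 1 a := rfl

lemma algebraMap_mem_zero (x : A) :
    algebraMap A (reesAlgebra I) x ∈ Rees.deg (reesAlgebra I) 0 :=
  SetLike.algebraMap_mem_graded _ x

lemma coe_algebraMap (x : A) : ((algebraMap A (reesAlgebra I) x : reesAlgebra I) : A[X]) = C x :=
  rfl

/-- The Rees algebra is generated by the elements `a X`, `a ∈ I`. -/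
lemma adjoin_tt_eq_top :
    Algebra.adjoin A (Set.range fun a : I => tt I a.1 a.2) = ⊤ := by
  apply Subalgebra.map_injective (f := (reesAlgebra I).val) Subtype.val_injective
  rw [Algebra.map_top, Subalgebra.range_val, AlgHom.map_adjoin]
  refine Eq.trans ?_ (adjoin_monomial_eq_reesAlgebra I)
  congr 1
  ext p
  constructor
  · rintro ⟨_, ⟨a, rfl⟩, rfl⟩
    exact ⟨a.1, a.2, rfl⟩
  · rintro ⟨a, ha, rfl⟩
    exact ⟨tt I a ha, ⟨⟨a, ha⟩, rfl⟩, rfl⟩

/-- The irrelevant ideal of the Rees algebra is generated by the `a X`. -/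
lemma irrelevant_le_span :
    (HomogeneousIdeal.irrelevant (Rees.deg (reesAlgebra I))).toIdeal ≤
      Ideal.span (Set.range fun a : I => tt I a.1 a.2) :=
  Groth.Agent.Lead.Coh.irrelevant_le_span_of_adjoin_eq_top _ _
    (fun a => ⟨1, tt_mem I a.1 a.2⟩) (adjoin_tt_eq_top I)

/-- The chart ring `B_a = (R(I)_{aX})_0`. -/
abbrev Chart (a : A) (ha : a ∈ I) : Type u := Away (Rees.deg (reesAlgebra I)) (tt I a ha)

/-- The structure map `A → B_a`. -/
noncomputable def φ (a : A) (ha : a ∈ I) : A →+* Chart I a ha :=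
  (fromZeroRingHom (Rees.deg (reesAlgebra I)) _).comp
    (algebraMap A (Rees.deg (reesAlgebra I) 0))

lemma val_φ (a : A) (ha : a ∈ I) (x : A) :
    (φ I a ha x).val = Localization.mk (algebraMap A (reesAlgebra I) x) 1 := rfl

/-- The element `xX / aX` of the chart ring. -/
noncomputable abbrev β (a : A) (ha : a ∈ I) (x : A) (hx : x ∈ I) : Chart I a ha :=
  Away.isLocalizationElem (tt_mem I a ha) (tt_mem I x hx)

lemma val_β (a : A) (ha : a ∈ I) (x : A) (hx : x ∈ I) :
    (β I a ha x hx).val = Localization.mk (tt I x hx ^ 1)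
      (⟨tt I a ha ^ 1, ⟨1, rfl⟩⟩ : Submonoid.powers (tt I a ha)) := rfl

lemma φ_eq_mul (a : A) (ha : a ∈ I) (x : A) (hx : x ∈ I) :
    φ I a ha x = φ I a ha a * β I a ha x hx := by
  apply val_injective
  rw [val_mul, val_φ, val_φ, val_β, Localization.mk_mul, Localization.mk_eq_mk_iff]
  refine Localization.r_of_eq ?_
  apply Subtype.ext
  simp only [one_mul, pow_one, Subalgebra.coe_mul, coe_tt, coe_algebraMap]
  rw [monomial_mul_C, C_mul_monomial, mul_comm]
  simp

/-- `I B_a = a B_a`. -/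
lemma map_φ_eq_span (a : A) (ha : a ∈ I) :
    I.map (φ I a ha) = Ideal.span {φ I a ha a} := by
  apply le_antisymm
  · rw [Ideal.map_le_iff_le_comap]
    intro x hx
    rw [Ideal.mem_comap, φ_eq_mul I a ha x hx]
    exact Ideal.mul_mem_right _ _ (Ideal.mem_span_singleton_self _)
  · rw [Ideal.span_singleton_le_iff_mem]
    exact Ideal.mem_map_of_mem _ ha

set_option backward.isDefEq.respectTransparency false in
/-- `a` is a nonzerodivisor of `B_a`. -/
lemma φ_mem_nonZeroDivisors (a : A) (ha : a ∈ I) :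
    φ I a ha a ∈ nonZeroDivisors (Chart I a ha) := by
  refine (mem_nonZeroDivisors_iff_right (M₀ := Chart I a ha)).mpr ?_
  intro b hb
  obtain ⟨n, r, hr, rfl⟩ := Away.mk_surjective _ (tt_mem I a ha) b
  have hb' := congrArg HomogeneousLocalization.val hb
  rw [val_mul, Away.val_mk, val_φ, val_zero, Localization.mk_mul, Localization.mk_eq_mk',
    IsLocalization.mk'_eq_zero_iff] at hb'
  obtain ⟨⟨_, m, rfl⟩, hm⟩ := hb'
  apply val_injective
  rw [Away.val_mk, val_zero, Localization.mk_eq_mk', IsLocalization.mk'_eq_zero_iff]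
  refine ⟨⟨tt I a ha ^ (m + 1), m + 1, rfl⟩, ?_⟩
  have hr' := eq_mon_of_mem I hr
  set c := ((r : reesAlgebra I) : A[X]).coeff (n • 1) with hc
  have h1 := congrArg (fun q : reesAlgebra I => (q : A[X])) hm
  simp only [Subalgebra.coe_mul, Subalgebra.coe_pow, coe_tt, coe_algebraMap,
    ZeroMemClass.coe_zero] at h1
  rw [hr', coe_mon, monomial_pow, monomial_mul_C, monomial_mul_monomial] at h1
  apply Subtype.ext
  simp only [Subalgebra.coe_mul, Subalgebra.coe_pow, coe_tt, ZeroMemClass.coe_zero]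
  rw [hr', coe_mon, monomial_pow, monomial_mul_monomial]
  have h2 := (monomial_eq_zero_iff _ _).mp h1
  rw [monomial_eq_zero_iff, pow_succ]
  linear_combination h2

/-- Every element of `B_a` becomes a constant after multiplication by a power of `a`. -/
lemma exists_mul_pow_eq (a : A) (ha : a ∈ I) (b : Chart I a ha) :
    ∃ (n : ℕ) (c : A), c ∈ I ^ n ∧ b * φ I a ha a ^ n = φ I a ha c := by
  obtain ⟨n, r, hr, rfl⟩ := Away.mk_surjective _ (tt_mem I a ha) b
  have hr' := eq_mon_of_mem I hr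
  refine ⟨n, ((r : reesAlgebra I) : A[X]).coeff (n • 1), by simpa using r.2 (n • 1), ?_⟩
  apply val_injective
  rw [val_mul, val_pow, Away.val_mk, val_φ, val_φ, Localization.mk_pow, Localization.mk_mul,
    Localization.mk_eq_mk_iff]
  refine Localization.r_of_eq ?_
  apply Subtype.ext
  simp only [one_pow, mul_one, one_mul, OneMemClass.coe_one, Subalgebra.coe_mul,
    Subalgebra.coe_pow, coe_tt, coe_algebraMap]
  conv_lhs => rw [hr', coe_mon]
  rw [monomial_pow, ← C_pow, monomial_mul_C, monomial_mul_C]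
  simp [mul_comm]

end Groth.Agent.H8.ReesProj
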