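import Groth.Agent.H8.ReesProjGeom

/-!
# Local lifts to `Proj` of the Rees algebra (helper8)
-/

set_option autoImplicit false
universe u
open CategoryTheory CategoryTheory.Limits AlgebraicGeometry TopologicalSpace Opposite
open HomogeneousLocalization Polynomial

namespace Groth.Agent.H8.ReesProj

open Groth.Agent.H8 Groth.Agent.S14090

variable {A : Type u} [CommRing A] (I : Ideal A)

section Algebra

variable {T : Type u} [CommRing T] (ρ : A →+* T) (t : T)

/-- The evaluation `R(I) → T_t`, `X ↦ 1/t`. -/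
noncomputable def evalG : reesAlgebra I →+* Localization.Away t :=
  (Polynomial.eval₂RingHom ((algebraMap T (Localization.Away t)).comp ρ)
    (IsLocalization.Away.invSelf t)).comp (reesAlgebra I).val.toRingHom

lemma evalG_mon (n : ℕ) (c : A) (hc : c ∈ I ^ n) :
    evalG I ρ t (mon I n c hc) =
      algebraMap T (Localization.Away t) (ρ c) * IsLocalization.Away.invSelf t ^ n := by
  simp [evalG, coe_mon]

lemma evalG_algebraMap (x : A) :
    evalG I ρ t (algebraMap A (reesAlgebra I) x) = algebraMap T (Localization.Away t) (ρ x) := by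
  simp [evalG]

variable {ρ t}

lemma exists_eq_mul_pow (h : I.map ρ = Ideal.span {t}) {n : ℕ} {c : A} (hc : c ∈ I ^ n) :
    ∃ s : T, ρ c = s * t ^ n := by
  have h1 : ρ c ∈ (I ^ n).map ρ := Ideal.mem_map_of_mem _ hc
  rw [Ideal.map_pow, h, Ideal.span_singleton_pow] at h1
  obtain ⟨s, hs⟩ := Ideal.mem_span_singleton'.mp h1
  exact ⟨s, hs.symm⟩

lemma evalG_mem_range (h : I.map ρ = Ideal.span {t}) (r : reesAlgebra I) :
    evalG I ρ t r ∈ (algebraMap T (Localization.Away t)).range := by
  simp only [evalG, RingHom.comp_apply, Polynomial.coe_eval₂RingHom]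
  rw [Polynomial.eval₂_eq_sum]
  unfold Polynomial.sum
  refine Subring.sum_mem _ fun n _ => ?_
  obtain ⟨s, hs⟩ := exists_eq_mul_pow I h (r.2 n)
  refine ⟨s, ?_⟩
  change _ = (algebraMap T (Localization.Away t)) (ρ (((r : reesAlgebra I) : A[X]).coeff n)) * _
  rw [hs, map_mul, map_pow, mul_assoc, ← mul_pow, IsLocalization.Away.mul_invSelf, one_pow,
    mul_one]

/-- The ring map `R(I) → T`, "evaluation at `X = 1/t`", when `I T = t T` with `t` a
nonzerodivisor. -/
lemma exists_evalF (ht : t ∈ nonZeroDivisors T) (h : I.map ρ = Ideal.span {t}) :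
    ∃ F : reesAlgebra I →+* T, (∀ r, algebraMap T (Localization.Away t) (F r) = evalG I ρ t r) := by
  have hinj : Function.Injective (algebraMap T (Localization.Away t)) :=
    IsLocalization.injective _ (Submonoid.powers_le.mpr ht)
  choose F hF using fun r => evalG_mem_range I h r
  refine ⟨{ toFun := F
            map_one' := hinj (by rw [hF, map_one, map_one])
            map_mul' := fun x y => hinj (by rw [hF, map_mul, map_mul, hF, hF])
            map_zero' := hinj (by rw [hF, map_zero, map_zero])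
            map_add' := fun x y => hinj (by rw [hF, map_add, map_add, hF, hF]) }, hF⟩

/-- The ring map `F : R(I) → T` with its properties. -/
lemma exists_evalF' (ht : t ∈ nonZeroDivisors T) (h : I.map ρ = Ideal.span {t}) :
    ∃ F : reesAlgebra I →+* T, (∀ x : A, F (algebraMap A (reesAlgebra I) x) = ρ x) ∧
      (HomogeneousIdeal.irrelevant (Rees.deg (reesAlgebra I))).toIdeal.map F = ⊤ := by
  have hinj : Function.Injective (algebraMap T (Localization.Away t)) :=
    IsLocalization.injective _ (Submonoid.powers_le.mpr ht)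
  obtain ⟨F, hF⟩ := exists_evalF I ht h
  have hF1 : ∀ x : A, F (algebraMap A (reesAlgebra I) x) = ρ x := fun x =>
    hinj (by rw [hF, evalG_algebraMap])
  have hF2 : ∀ (a : A) (ha : a ∈ I), ρ a = t * F (tt I a ha) := by
    intro a ha
    apply hinj
    rw [map_mul, hF, tt, evalG_mon, pow_one, mul_comm, mul_assoc,
      mul_comm (IsLocalization.Away.invSelf t), IsLocalization.Away.mul_invSelf, mul_one]
  refine ⟨F, hF1, ?_⟩
  rw [eq_top_iff]
  have hK : (Ideal.span (Set.range fun a : I => F (tt I a.1 a.2)) : Ideal T) ≤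
      (HomogeneousIdeal.irrelevant (Rees.deg (reesAlgebra I))).toIdeal.map F := by
    rw [Ideal.span_le]
    rintro _ ⟨a, rfl⟩
    exact Ideal.mem_map_of_mem _
      (HomogeneousIdeal.mem_irrelevant_of_mem _ Nat.one_pos (tt_mem I a.1 a.2))
  refine le_trans ?_ hK
  rw [← eq_top_iff, Ideal.eq_top_iff_one]
  have h1 : I.map ρ ≤ Ideal.span {t} * Ideal.span (Set.range fun a : I => F (tt I a.1 a.2)) := by
    rw [Ideal.map_le_iff_le_comap]
    intro a ha
    rw [Ideal.mem_comap, hF2 a ha]
    exact Ideal.mul_mem_mul (Ideal.mem_span_singleton_self t)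
      (Ideal.subset_span ⟨⟨a, ha⟩, rfl⟩)
  have h2 : t ∈ Ideal.span {t} * Ideal.span (Set.range fun a : I => F (tt I a.1 a.2)) :=
    h1 (h ▸ Ideal.mem_span_singleton_self t)
  obtain ⟨k, hk, hkt⟩ := Ideal.mem_span_singleton_mul.mp h2
  have h3 : t * (k - 1) = 0 := by rw [mul_sub, hkt, mul_one, sub_self]
  have h4 : k = 1 := sub_eq_zero.mp ((mem_nonZeroDivisors_iff_left.mp ht) _ h3)
  rwa [h4] at hk

end Algebra

/-- Existence of the lift on an affine scheme on which the inverse image ideal is principal. -/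
lemma exists_lift_affine {W : Scheme.{u}} [IsAffine W] (g : W ⟶ Spec (.of A)) (t : Γ(W, ⊤))
    (ht : t ∈ nonZeroDivisors Γ(W, ⊤))
    (hW : ((Curv2.idealSheaf A I).comap g).ideal ⟨⊤, isAffineOpen_top W⟩ = Ideal.span {t}) :
    ∃ h : W ⟶ Proj (Rees.deg (reesAlgebra I)), h ≫ π I = g := by
  rw [ideal_comap_idealSheaf, ringMap_top] at hW
  obtain ⟨F, hF1, hF2⟩ := exists_evalF' I ht hW
  refine ⟨Proj.fromOfGlobalSections _ F hF2, ?_⟩
  rw [π, Proj.fromOfGlobalSections_toSpecZero_assoc, ← Spec.map_comp]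
  apply ext_of_ringMapTop
  rw [← CommRingCat.ofHom_comp, ringMapTop_toSpecΓ]
  ext x
  exact hF1 x

/-- Local existence of lifts. -/
lemma exists_lift_local {Y : Scheme.{u}} (g : Y ⟶ Spec (.of A))
    (hg : BlowUp.IsEffCartierIdeal ((Curv2.idealSheaf A I).comap g)) (y : Y) :
    ∃ V : Y.Opens, y ∈ V ∧
      ∃ h : V.toScheme ⟶ Proj (Rees.deg (reesAlgebra I)), h ≫ π I = V.ι ≫ g := by
  obtain ⟨V, hyV, t, ht, hVt⟩ := hg y
  have : IsAffine V.1 := V.2
  refine ⟨V.1, hyV, ?_⟩
  refine exists_lift_affine I (V.1.ι ≫ g) (V.1.topIso.inv.hom t) ?_ ?_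
  · exact nonZeroDivisors_of_iso V.1.topIso.symm ht
  · rw [Scheme.IdealSheafData.comap_comp, Groth.Agent.H19.ComapAff.ideal_comap_ι, hVt,
      Ideal.map_span, Set.image_singleton]

end Groth.Agent.H8.ReesProj
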