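import Groth.Agent.H8.RegularGerm
import Mathlib.RingTheory.Ideal.AssociatedPrime.Finiteness
import Mathlib.RingTheory.Ideal.AssociatedPrime.Localization

/-!
# Germs of regular sections on locally Noetherian schemes (helper8)

* `weakAss_finite`: finitely many weakly associated primes for a finite module over a Noetherian ring.
* `nonZeroDivisors_of_le`: for primes `q ≤ p` of `A`, if `f/1` is a nonzerodivisor of `A_p` then it is
  one of `A_q`.
* `germ_mem_nonZeroDivisors_of_specializes`: nonzerodivisor germs generize.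
* `finite_weakAssPoints_structure`: finitely many weakly associated points of `O_X` in a Noetherian
  affine open.
* `exists_regular_of_germ_mem_nonZeroDivisors`: on a locally Noetherian scheme every nonzerodivisor of
  the local ring `O_{X,x}` is the germ of a section which is a nonzerodivisor at all points of an open
  neighbourhood.
-/

set_option autoImplicit false
universe u
open CategoryTheory CategoryTheory.Limits AlgebraicGeometry TopologicalSpace Opposite

namespace Groth.Agent.H8

open Curv2

/-- Weakly associated primes of a finite module over a Noetherian ring are associated primes,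
hence finite in number. -/
lemma weakAss_finite (R : Type u) [CommRing R] [IsNoetherianRing R] (M : Type u) [AddCommGroup M]
    [Module R M] [Module.Finite R M] : (FlatCA.weakAss R M).Finite := by
  refine (associatedPrimes.finite R M).subset ?_
  rintro p ⟨m, hm⟩
  have h1 : p ∈ associatedPrimes R (Submodule.span R {m}) :=
    Module.associatedPrimes.minimalPrimes_annihilator_subset_associatedPrimes R
      (Submodule.span R {m}) hm
  exact associatedPrimes.subset_of_injective (f := Submodule.subtype _) Subtype.val_injective h1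

lemma weakAss_subset_of_injective {R : Type u} [CommRing R] {M N : Type u} [AddCommGroup M]
    [AddCommGroup N] [Module R M] [Module R N] (f : M →ₗ[R] N) (hf : Function.Injective f) :
    FlatCA.weakAss R M ⊆ FlatCA.weakAss R N := by
  rintro p ⟨m, hm⟩
  refine ⟨f m, ?_⟩
  have : (Submodule.span R {f m}).annihilator = (Submodule.span R {m}).annihilator := by
    ext a
    rw [Submodule.mem_annihilator_span_singleton, Submodule.mem_annihilator_span_singleton,
      ← map_smul, ← f.map_zero, hf.eq_iff]
  rw [this]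
  exact hm

/-- For primes `q ≤ p`: if `f/1` is a nonzerodivisor in `A_p`, it is one in `A_q`. -/
lemma nonZeroDivisors_of_le {A : Type*} [CommRing A] {p q : Ideal A} [p.IsPrime] [q.IsPrime]
    (hqp : q ≤ p) (Sp Sq : Type*) [CommRing Sp] [CommRing Sq] [Algebra A Sp] [Algebra A Sq]
    [IsLocalization.AtPrime Sp p] [IsLocalization.AtPrime Sq q] (f : A)
    (hf : algebraMap A Sp f ∈ nonZeroDivisors Sp) : algebraMap A Sq f ∈ nonZeroDivisors Sq := by
  rw [mem_nonZeroDivisors_iff_left]
  intro z hz
  obtain ⟨t, s, rfl⟩ := IsLocalization.exists_mk'_eq q.primeCompl z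
  rw [IsLocalization.mul_mk'_eq_mk'_of_mul, IsLocalization.mk'_eq_zero_iff] at hz
  obtain ⟨u, hu⟩ := hz
  have h2 : algebraMap A Sp f * algebraMap A Sp ((u : A) * t) = 0 := by
    rw [← map_mul]
    have : f * ((u : A) * t) = (u : A) * (f * t) := by ring
    rw [this, hu, map_zero]
  have h3 : algebraMap A Sp ((u : A) * t) = 0 := (mem_nonZeroDivisors_iff_left.mp hf) _ h2
  obtain ⟨v, hv⟩ := (IsLocalization.map_eq_zero_iff p.primeCompl Sp _).mp h3
  rw [IsLocalization.mk'_eq_zero_iff]
  have hvq : (v : A) ∉ q := fun h => v.2 (hqp h)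
  refine ⟨⟨(v : A) * (u : A), ?_⟩, ?_⟩
  · exact Submonoid.mul_mem _ hvq u.2
  · change (v : A) * (u : A) * t = 0
    rw [mul_assoc]; exact hv

set_option backward.isDefEq.respectTransparency false in
lemma primeIdealOf_le_of_specializes {X : Scheme.{u}} {U : X.Opens} (hU : IsAffineOpen U)
    {x y : X} (hx : x ∈ U) (hy : y ∈ U) (h : y ⤳ x) :
    (hU.primeIdealOf ⟨y, hy⟩).asIdeal ≤ (hU.primeIdealOf ⟨x, hx⟩).asIdeal := by
  have hx' : hU.fromSpec (hU.primeIdealOf ⟨x, hx⟩) = x := hU.fromSpec_primeIdealOf ⟨x, hx⟩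
  have hy' : hU.fromSpec (hU.primeIdealOf ⟨y, hy⟩) = y := hU.fromSpec_primeIdealOf ⟨y, hy⟩
  have hind : Topology.IsInducing hU.fromSpec := hU.fromSpec.isOpenEmbedding.isInducing
  have h1 : hU.primeIdealOf ⟨y, hy⟩ ⤳ hU.primeIdealOf ⟨x, hx⟩ := by
    rw [← hind.specializes_iff, hx', hy']
    exact h
  exact (PrimeSpectrum.le_iff_specializes _ _).mpr h1

set_option backward.isDefEq.respectTransparency false in
/-- Nonzerodivisor germs generize (inside an affine open). -/
theorem germ_mem_nonZeroDivisors_of_specializes {X : Scheme.{u}} {U : X.Opens} (hU : IsAffineOpen U)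
    {x y : X} (hx : x ∈ U) (hy : y ∈ U) (h : y ⤳ x) (f : Γ(X, U))
    (hf : X.presheaf.germ U x hx f ∈ nonZeroDivisors (X.presheaf.stalk x)) :
    X.presheaf.germ U y hy f ∈ nonZeroDivisors (X.presheaf.stalk y) := by
  let _ : Algebra Γ(X, U) (X.presheaf.stalk x) :=
    TopCat.Presheaf.algebra_section_stalk X.presheaf ⟨x, hx⟩
  let _ : Algebra Γ(X, U) (X.presheaf.stalk y) :=
    TopCat.Presheaf.algebra_section_stalk X.presheaf ⟨y, hy⟩
  have : IsLocalization.AtPrime (X.presheaf.stalk x) (hU.primeIdealOf ⟨x, hx⟩).asIdeal :=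
    hU.isLocalization_stalk ⟨x, hx⟩
  have : IsLocalization.AtPrime (X.presheaf.stalk y) (hU.primeIdealOf ⟨y, hy⟩).asIdeal :=
    hU.isLocalization_stalk ⟨y, hy⟩
  exact nonZeroDivisors_of_le (primeIdealOf_le_of_specializes hU hx hy h)
    (X.presheaf.stalk x) (X.presheaf.stalk y) f hf

set_option backward.isDefEq.respectTransparency false in
/-- Finitely many weakly associated points of the structure sheaf in a Noetherian affine open. -/
theorem finite_weakAssPoints_structure {X : Scheme.{u}} {U : X.Opens} (hU : IsAffineOpen U)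
    [IsNoetherianRing Γ(X, U)] :
    {y : X | y ∈ U ∧ IsWeakAssPoint (Coh.structureModule X) y}.Finite := by
  have hW := weakAss_finite Γ(X, U) Γ(X, U)
  let g : U → Ideal Γ(X, U) := fun x => (hU.primeIdealOf x).asIdeal
  have hg : Function.Injective g := by
    intro x y hxy
    have h1 : hU.primeIdealOf x = hU.primeIdealOf y := PrimeSpectrum.ext hxy
    have h2 := congrArg (fun z => hU.fromSpec z) h1
    simp only [IsAffineOpen.fromSpec_primeIdealOf] at h2
    exact Subtype.ext h2
  have h3 : {x : U | IsWeakAssPoint (Coh.structureModule X) x.1}.Finite := by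
    refine Set.Finite.of_finite_image (f := g) (hW.subset ?_) hg.injOn
    rintro _ ⟨x, hx, rfl⟩
    have h4 := (isWeakAssPoint_iff_mem_weakAss (Coh.structureModule X) hU x.2).mp hx
    exact weakAss_subset_of_injective (structureSecEquiv X U).toLinearMap
      (structureSecEquiv X U).injective h4
  refine (h3.image Subtype.val).subset ?_
  rintro x ⟨hxU, hx⟩
  exact ⟨⟨x, hxU⟩, hx, rfl⟩

set_option backward.isDefEq.respectTransparency false in
/-- On a locally Noetherian scheme, every nonzerodivisor of a local ring is the germ of a section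
over an open neighbourhood all of whose germs are nonzerodivisors. -/
theorem exists_regular_of_germ_mem_nonZeroDivisors {X : Scheme.{u}} [IsLocallyNoetherian X] (x : X)
    (g : X.presheaf.stalk x) (hg : g ∈ nonZeroDivisors (X.presheaf.stalk x)) :
    ∃ (W : X.Opens) (hxW : x ∈ W) (f : Γ(X, W)),
      (∀ (y : X) (hy : y ∈ W), X.presheaf.germ W y hy f ∈ nonZeroDivisors (X.presheaf.stalk y)) ∧
      X.presheaf.germ W x hxW f = g := by
  obtain ⟨W₀, hxW₀, f₀, rfl⟩ := X.presheaf.exists_germ_eq g
  obtain ⟨_, ⟨U, hU, rfl⟩, hxU, hUW'⟩ :=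
    X.isBasis_affineOpens.exists_subset_of_mem_open hxW₀ W₀.2
  have hU : IsAffineOpen U := hU
  have hUW : U ≤ W₀ := hUW'
  have hxU : x ∈ U := hxU
  have hN : IsNoetherianRing Γ(X, U) := IsLocallyNoetherian.component_noetherian ⟨U, hU⟩
  let f : Γ(X, U) := X.presheaf.map (homOfLE hUW).op f₀
  have hfx : X.presheaf.germ U x hxU f = X.presheaf.germ W₀ x hxW₀ f₀ :=
    TopCat.Presheaf.germ_res_apply X.presheaf (homOfLE hUW) x hxU f₀
  -- the bad points
  let bad : Set X := {y | (y ∈ U ∧ IsWeakAssPoint (Coh.structureModule X) y) ∧ ¬ y ⤳ x}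
  have hbad : bad.Finite := (finite_weakAssPoints_structure hU).subset fun y hy => hy.1
  let Z : Set X := ⋃ y ∈ bad, closure {y}
  have hZ : IsClosed Z := hbad.isClosed_biUnion fun _ _ => isClosed_closure
  have hxZ : x ∉ Z := by
    intro h
    simp only [Z, Set.mem_iUnion] at h
    obtain ⟨y, hy, hxy⟩ := h
    exact hy.2 (specializes_iff_mem_closure.mpr hxy)
  let W : X.Opens := U ⊓ ⟨Zᶜ, hZ.isOpen_compl⟩
  have hxW : x ∈ W := ⟨hxU, hxZ⟩
  have hWU : W ≤ U := inf_le_left
  refine ⟨W, hxW, X.presheaf.map (homOfLE hWU).op f, ?_, ?_⟩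
  · apply germ_mem_nonZeroDivisors_of_weakAss
    intro y hy hyw
    have hyU : y ∈ U := hWU hy
    rw [TopCat.Presheaf.germ_res_apply X.presheaf (homOfLE hWU) y hy f]
    have hyx : y ⤳ x := by
      by_contra hcon
      have : y ∈ Z := by
        simp only [Z, Set.mem_iUnion]
        exact ⟨y, ⟨⟨hyU, hyw⟩, hcon⟩, subset_closure rfl⟩
      exact hy.2 this
    exact germ_mem_nonZeroDivisors_of_specializes hU hxU hyU hyx f (by rw [hfx]; exact hg)
  · rw [TopCat.Presheaf.germ_res_apply X.presheaf (homOfLE hWU) x hxW f, hfx]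

end Groth.Agent.H8
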