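import Groth.Agent.H19.QuasiRegBC
import Groth.Agent.H2.FlatAway
import Mathlib.RingTheory.RingHom.Flat

/-!
# Algebra of relative effective Cartier divisors (helper8)

For `φ : A → B`, `a₁ a₂ : B` with `a₂` a nonzerodivisor, the sequence
`0 → B/(a₁) → B/(a₁ a₂) → B/(a₂) → 0` is exact; hence `B/(a₁ a₂)` is `A`-flat if `B/(a₁)` and
`B/(a₂)` are, and `B/(a₂)` ... (see below).
-/

set_option autoImplicit false
universe u

namespace Groth.Agent.H8

open Function

section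

variable {A B : Type u} [CommRing A] [CommRing B]

/-- flatness of `A → B → T` for a surjection `B → T` is flatness of the quotient by the kernel -/
lemma flat_comp_iff_of_surjective [Algebra A B] {T : Type u} [CommRing T] (π : B →+* T)
    (hπ : Surjective π) :
    (π.comp (algebraMap A B)).Flat ↔ Module.Flat A (B ⧸ RingHom.ker π) := by
  let _ : Algebra A T := (π.comp (algebraMap A B)).toAlgebra
  change Module.Flat A T ↔ _
  let e : (B ⧸ RingHom.ker π) ≃ₗ[A] T :=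
    { (RingHom.quotientKerEquivOfSurjective hπ).toAddEquiv with
      map_smul' := by
        intro a x
        obtain ⟨b, rfl⟩ := Ideal.Quotient.mk_surjective x
        change (RingHom.quotientKerEquivOfSurjective hπ) (a • Ideal.Quotient.mk _ b) =
          (π.comp (algebraMap A B)) a * (RingHom.quotientKerEquivOfSurjective hπ)
            (Ideal.Quotient.mk _ b)
        rw [Algebra.smul_def, map_mul]
        rfl }
  exact ⟨fun h => Module.Flat.of_linearEquiv e, fun h => Module.Flat.of_linearEquiv e.symm⟩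

variable [Algebra A B] (a₁ a₂ : B)

/-- multiplication by `a₂`: `B/(a₁) → B/(a₁ a₂)` -/
noncomputable def mulQ : (B ⧸ Ideal.span {a₁}) →ₗ[A] (B ⧸ Ideal.span {a₁ * a₂}) :=
  (Submodule.mapQ (Ideal.span {a₁}) (Ideal.span {a₁ * a₂}) (LinearMap.mulLeft B a₂) (by
    intro x hx
    obtain ⟨c, rfl⟩ := Ideal.mem_span_singleton'.mp hx
    change a₂ * (c * a₁) ∈ Ideal.span {a₁ * a₂}
    exact Ideal.mem_span_singleton'.mpr ⟨c, by ring⟩)).restrictScalars A

/-- the projection `B/(a₁ a₂) → B/(a₂)` -/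
noncomputable def projQ : (B ⧸ Ideal.span {a₁ * a₂}) →ₗ[A] (B ⧸ Ideal.span {a₂}) :=
  (Submodule.mapQ (Ideal.span {a₁ * a₂}) (Ideal.span {a₂}) LinearMap.id (by
    intro x hx
    obtain ⟨c, rfl⟩ := Ideal.mem_span_singleton'.mp hx
    change c * (a₁ * a₂) ∈ Ideal.span {a₂}
    exact Ideal.mem_span_singleton'.mpr ⟨c * a₁, by ring⟩)).restrictScalars A

lemma mulQ_mk (b : B) :
    mulQ (A := A) a₁ a₂ (Ideal.Quotient.mk _ b) = Ideal.Quotient.mk _ (a₂ * b) := rfl

lemma projQ_mk (b : B) :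
    projQ (A := A) a₁ a₂ (Ideal.Quotient.mk _ b) = Ideal.Quotient.mk _ b := rfl

lemma mulQ_injective (ha₂ : a₂ ∈ nonZeroDivisors B) : Injective (mulQ (A := A) a₁ a₂) := by
  rw [injective_iff_map_eq_zero]
  intro x hx
  obtain ⟨b, rfl⟩ := Ideal.Quotient.mk_surjective x
  rw [mulQ_mk, Ideal.Quotient.eq_zero_iff_mem] at hx
  obtain ⟨c, hc⟩ := Ideal.mem_span_singleton'.mp hx
  rw [Ideal.Quotient.eq_zero_iff_mem]
  refine Ideal.mem_span_singleton'.mpr ⟨c, ?_⟩
  have : (c * a₁ - b) * a₂ = 0 := by linear_combination hc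
  have h := (mem_nonZeroDivisors_iff_right.mp ha₂) _ this
  exact sub_eq_zero.mp h

lemma projQ_surjective : Surjective (projQ (A := A) a₁ a₂) := by
  intro x
  obtain ⟨b, rfl⟩ := Ideal.Quotient.mk_surjective x
  exact ⟨Ideal.Quotient.mk _ b, rfl⟩

lemma exact_mulQ_projQ : Exact (mulQ (A := A) a₁ a₂) (projQ (A := A) a₁ a₂) := by
  intro y
  obtain ⟨b, rfl⟩ := Ideal.Quotient.mk_surjective y
  rw [projQ_mk, Ideal.Quotient.eq_zero_iff_mem]
  constructor
  · intro h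
    obtain ⟨c, rfl⟩ := Ideal.mem_span_singleton'.mp h
    exact ⟨Ideal.Quotient.mk _ c, by rw [mulQ_mk, mul_comm a₂ c]⟩
  · rintro ⟨x, hx⟩
    obtain ⟨c, rfl⟩ := Ideal.Quotient.mk_surjective x
    rw [mulQ_mk, Ideal.Quotient.eq] at hx
    obtain ⟨d, hd⟩ := Ideal.mem_span_singleton'.mp hx
    refine Ideal.mem_span_singleton'.mpr ⟨c - d * a₁, ?_⟩
    linear_combination -hd

/-- `B/(a₁ a₂)` is flat if `B/(a₁)` and `B/(a₂)` are (and `a₂` is a nonzerodivisor). -/
theorem flat_quot_mul (ha₂ : a₂ ∈ nonZeroDivisors B) [Module.Flat A (B ⧸ Ideal.span {a₁})]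
    [Module.Flat A (B ⧸ Ideal.span {a₂})] : Module.Flat A (B ⧸ Ideal.span {a₁ * a₂}) :=
  Groth.Agent.H19.QuasiRegBC.flat_of_exact (mulQ a₁ a₂) (projQ a₁ a₂) (mulQ_injective a₁ a₂ ha₂)
    (projQ_surjective a₁ a₂) (exact_mulQ_projQ a₁ a₂)

/-- `B/(a₁)` is flat if `B/(a₁ a₂)` and `B/(a₂)` are (and `a₂` is a nonzerodivisor). -/
theorem flat_quot_of_mul (ha₂ : a₂ ∈ nonZeroDivisors B)
    [Module.Flat A (B ⧸ Ideal.span {a₁ * a₂})]
    [Module.Flat A (B ⧸ Ideal.span {a₂})] : Module.Flat A (B ⧸ Ideal.span {a₁}) :=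
  Groth.Agent.H2.flat_of_exact_of_flat (mulQ a₁ a₂) (projQ a₁ a₂) (mulQ_injective a₁ a₂ ha₂)
    (exact_mulQ_projQ a₁ a₂) (projQ_surjective a₁ a₂)

end

end Groth.Agent.H8
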