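import Groth.Agent.H8.RelCartier
import Groth.Agent.H8.FlatDivisor
import Groth.Agent.H8.AffineLocal

/-!
# Flatness of the ambient scheme along a relative effective Cartier divisor (helper8)
-/

set_option autoImplicit false
universe u
open CategoryTheory CategoryTheory.Limits AlgebraicGeometry TopologicalSpace Opposite

namespace Groth.Agent.H8

variable {X S : Scheme.{u}} (f : X ⟶ S)

/-- flatness of `Γ(S, U) → Γ(X, D)` from flatness of the stalk maps at the points of `D` -/
lemma flat_appLE_of_flat_stalkMap {U : S.Opens} (hU : IsAffineOpen U) {D : X.Opens}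
    (hD : IsAffineOpen D) (e : D ≤ f ⁻¹ᵁ U) (H : ∀ x ∈ D, (f.stalkMap x).hom.Flat) :
    (f.appLE U D e).hom.Flat := by
  have hg : Flat (D.ι ≫ f) := by
    apply Flat.of_stalkMap
    intro y
    rw [Scheme.Hom.stalkMap_comp]
    exact RingHom.Flat.comp (H _ y.2)
      (RingHom.Flat.of_bijective (ConcreteCategory.bijective_of_isIso (D.ι.stalkMap y)))
  have e' : (⊤ : D.toScheme.Opens) ≤ (D.ι ≫ f) ⁻¹ᵁ U := fun y _ => e y.2
  have : IsAffine D.toScheme := hD
  have h1 := Flat.flat_appLE (D.ι ≫ f) hU (isAffineOpen_top D.toScheme) e'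
  have e'' : (⊤ : D.toScheme.Opens) ≤ D.ι ⁻¹ᵁ D := fun y _ => y.2
  have h2 : (D.ι ≫ f).appLE U ⊤ e' = f.appLE U D e ≫ D.ι.appLE D ⊤ e'' := by
    rw [Scheme.Hom.appLE_comp_appLE]
  rw [h2] at h1
  have hiso : IsIso (D.ι.appLE D ⊤ e'') := by
    rw [Scheme.Opens.ι_appLE]
    have : (homOfLE (Set.image_subset_iff.mpr e'') : D.ι ''ᵁ ⊤ ⟶ D) =
        eqToHom (by simp) := Subsingleton.elim _ _
    rw [this]
    exact Functor.map_isIso _ _
  exact (RingHom.Flat.respectsIso.cancel_right_isIso (f.appLE U D e) (D.ι.appLE D ⊤ e'')).mp h1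

set_option backward.isDefEq.respectTransparency false in
/-- **Flat off a relative effective Cartier divisor implies flat.** -/
theorem flat_of_flat_off_divisor (𝓘 : X.IdealSheafData) (hI : BlowUp.IsEffCartierIdeal 𝓘)
    [Flat (𝓘.subschemeι ≫ f)]
    (hflat : ∀ x : X, x ∉ 𝓘.support → (f.stalkMap x).hom.Flat) : Flat f := by
  rw [HasRingHomProperty.iff_exists_appLE (P := @Flat)
    (RingHom.Flat.stableUnderComposition.stableUnderCompositionWithLocalizationAway
      RingHom.Flat.holdsForLocalizationAway).left]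
  intro x
  obtain ⟨U, hU, hxU, -⟩ := Opens.isBasis_iff_nbhd.mp S.isBasis_affineOpens
    (Opens.mem_top (f x))
  obtain ⟨W, hxW, hWU, ⟨a, ha, haI⟩, -⟩ := exists_common_chart hI hI x (f ⁻¹ᵁ U) hxU
  refine ⟨⟨U, hU⟩, W, hxW, hWU, ?_⟩
  letI : Algebra Γ(S, U) Γ(X, W.1) := (f.appLE U W.1 hWU).hom.toAlgebra
  change Module.Flat Γ(S, U) Γ(X, W.1)
  have hDW : X.basicOpen a ≤ W.1 := X.basicOpen_le a
  have eD : X.basicOpen a ≤ f ⁻¹ᵁ U := hDW.trans hWU
  letI : Algebra Γ(S, U) Γ(X, X.basicOpen a) := (f.appLE U (X.basicOpen a) eD).hom.toAlgebra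
  haveI : IsScalarTower Γ(S, U) Γ(X, W.1) Γ(X, X.basicOpen a) := by
    apply IsScalarTower.of_algebraMap_eq'
    change (f.appLE U (X.basicOpen a) eD).hom =
      (X.presheaf.map (homOfLE hDW).op).hom.comp (f.appLE U W.1 hWU).hom
    rw [← CommRingCat.hom_comp, Scheme.Hom.appLE_map]
  haveI : IsLocalization.Away a Γ(X, X.basicOpen a) := W.2.isLocalization_basicOpen a
  haveI : Module.Flat Γ(S, U) (Γ(X, W.1) ⧸ Ideal.span {a}) := by
    have := flat_quot_of_flat_subscheme f 𝓘 ⟨U, hU⟩ W hWU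
    rw [haI] at this
    exact this
  haveI : Module.Flat Γ(S, U) Γ(X, X.basicOpen a) := by
    have := flat_appLE_of_flat_stalkMap f hU (W.2.basicOpen a) eD (fun y hy => hflat y (by
      intro hsupp
      rw [Scheme.IdealSheafData.mem_support_iff_of_mem (U := W) (hDW hy)] at hsupp
      exact (X.mem_zeroLocus_iff _ y).mp hsupp a
        (by rw [SetLike.mem_coe, haI]; exact Ideal.mem_span_singleton_self a) hy))
    exact this
  exact flat_of_flat_quot_of_flat_away a ha Γ(X, X.basicOpen a)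

end Groth.Agent.H8
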