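import Groth.Agent.H8.DVR
import Groth.Agent.H8.CartierStalk
import Groth.Agent.H49.FibreStalk
import Mathlib.AlgebraicGeometry.Noetherian
import Mathlib.RingTheory.DiscreteValuationRing.Basic
import Mathlib.AlgebraicGeometry.Morphisms.FiniteType
import Mathlib.AlgebraicGeometry.Morphisms.ClosedImmersion

/-!
# The fibre of a morphism along a Cartier section is a discrete valuation ring there (helper8)
-/

set_option autoImplicit false
universe u
open CategoryTheory CategoryTheory.Limits AlgebraicGeometry TopologicalSpace Opposite IsLocalRing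

namespace Groth.Agent.H8

section ring

variable {R S R' : Type*} [CommRing R] [CommRing S] [CommRing R'] (φ : R →+* S) (ψ : S →+* R')
  (h : S)

lemma exists_decomp_of_section (hker : RingHom.ker ψ = Ideal.span {h})
    (hbij : Function.Bijective (ψ.comp φ)) (s : S) : ∃ (b : R) (z : S), s = φ b + h * z := by
  obtain ⟨b, hb⟩ := hbij.2 (ψ s)
  have h1 : s - φ b ∈ RingHom.ker ψ := by
    rw [RingHom.mem_ker, map_sub, ← hb]
    simp
  rw [hker, Ideal.mem_span_singleton'] at h1
  obtain ⟨z, hz⟩ := h1
  exact ⟨b, z, by rw [mul_comm, hz]; ring⟩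

lemma mem_map_of_mul_mem_of_section (hker : RingHom.ker ψ = Ideal.span {h})
    (hbij : Function.Bijective (ψ.comp φ)) (hreg : h ∈ nonZeroDivisors S) (I : Ideal R) (s : S)
    (hs : h * s ∈ I.map φ) : s ∈ I.map φ := by
  have key : ∀ x ∈ I.map φ, ∃ a ∈ I, ∃ y ∈ I.map φ, x = φ a + h * y := by
    intro x hx
    induction hx using Submodule.span_induction with
    | mem x hx =>
      obtain ⟨r, hr, rfl⟩ := hx
      exact ⟨r, hr, 0, zero_mem _, by simp⟩
    | zero => exact ⟨0, zero_mem _, 0, zero_mem _, by simp⟩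
    | add x y _ _ hx hy =>
      obtain ⟨a, ha, u, hu, rfl⟩ := hx
      obtain ⟨a', ha', u', hu', rfl⟩ := hy
      exact ⟨a + a', add_mem ha ha', u + u', add_mem hu hu', by rw [map_add]; ring⟩
    | smul c x _ hx =>
      obtain ⟨a, ha, u, hu, rfl⟩ := hx
      obtain ⟨b, z, rfl⟩ := exists_decomp_of_section φ ψ h hker hbij c
      refine ⟨b * a, I.mul_mem_left b ha, z * φ a + (φ b + h * z) * u,
        add_mem (Ideal.mul_mem_left _ _ (Ideal.mem_map_of_mem φ ha)) (Ideal.mul_mem_left _ _ hu), ?_⟩
      rw [smul_eq_mul, map_mul]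
      ring
  obtain ⟨a, -, y, hy, hxy⟩ := key _ hs
  have h0 : ψ h = 0 := by
    rw [← RingHom.mem_ker, hker]; exact Ideal.mem_span_singleton_self h
  have ha0 : a = 0 := by
    apply hbij.1
    have := congrArg ψ hxy
    rw [map_mul, map_add, map_mul, h0, zero_mul, zero_mul, add_zero] at this
    rw [map_zero]
    exact this.symm
  rw [ha0, map_zero, zero_add] at hxy
  have := (mem_nonZeroDivisors_iff.mp hreg).1 (s - y) (by rw [mul_sub, hxy, sub_self])
  rw [sub_eq_zero] at this
  rw [this]
  exact hy

/-- Key algebra: if `S → R'` is a surjection of local rings with kernel generated by a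
nonzerodivisor `h` and `R → S → R'` is bijective, then in `S/𝔪_R S` the class of `h` is a
nonzerodivisor generating the maximal ideal. -/
theorem nzd_and_maximalIdeal_quot_of_section [IsLocalRing R] [IsLocalRing S] [IsLocalRing R']
    (hker : RingHom.ker ψ = Ideal.span {h}) (hbij : Function.Bijective (ψ.comp φ))
    (hψ : Function.Surjective ψ) (hreg : h ∈ nonZeroDivisors S)
    [IsLocalRing (S ⧸ (maximalIdeal R).map φ)] :
    Ideal.Quotient.mk ((maximalIdeal R).map φ) h ∈ nonZeroDivisors (S ⧸ (maximalIdeal R).map φ) ∧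
      maximalIdeal (S ⧸ (maximalIdeal R).map φ) =
        Ideal.span {Ideal.Quotient.mk ((maximalIdeal R).map φ) h} := by
  have h0 : ψ h = 0 := by
    rw [← RingHom.mem_ker, hker]; exact Ideal.mem_span_singleton_self h
  haveI : IsLocalHom ψ := IsLocalHom.of_surjective ψ hψ
  constructor
  · rw [mem_nonZeroDivisors_iff_right]
    intro q hq
    obtain ⟨s, rfl⟩ := Ideal.Quotient.mk_surjective q
    rw [← map_mul, Ideal.Quotient.eq_zero_iff_mem, mul_comm] at hq
    rw [Ideal.Quotient.eq_zero_iff_mem]
    exact mem_map_of_mul_mem_of_section φ ψ h hker hbij hreg _ s hq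
  · apply le_antisymm
    · intro q hq
      obtain ⟨s, rfl⟩ := Ideal.Quotient.mk_surjective q
      obtain ⟨b, z, rfl⟩ := exists_decomp_of_section φ ψ h hker hbij s
      have hb : b ∈ maximalIdeal R := by
        rw [mem_maximalIdeal, mem_nonunits_iff]
        intro hbu
        rw [mem_maximalIdeal, mem_nonunits_iff] at hq
        apply hq
        have h1 : IsUnit (ψ (φ b + h * z)) := by
          rw [map_add, map_mul, h0, zero_mul, add_zero]
          exact (hbu.map φ).map ψ
        exact (isUnit_of_map_unit ψ _ h1).map _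
      rw [map_add, map_mul, Ideal.Quotient.eq_zero_iff_mem.mpr (Ideal.mem_map_of_mem φ hb), zero_add]
      exact Ideal.mul_mem_right _ _ (Ideal.mem_span_singleton_self _)
    · rw [Ideal.span_singleton_le_iff_mem, mem_maximalIdeal, mem_nonunits_iff]
      intro hu
      haveI : IsLocalHom (Ideal.Quotient.mk ((maximalIdeal R).map φ)) :=
        IsLocalHom.of_surjective _ Ideal.Quotient.mk_surjective
      have h1 : IsUnit h := isUnit_of_map_unit (Ideal.Quotient.mk ((maximalIdeal R).map φ)) _ hu
      have h2 := h1.map ψ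
      rw [h0] at h2
      exact not_isUnit_zero h2

end ring

section geom

open Groth.Agent.H49.FibreStalk

variable {X V : Scheme.{u}}

instance isLocallyNoetherian_fiber (π : V ⟶ X) [LocallyOfFiniteType π] (y : X) :
    IsLocallyNoetherian (π.fiber y) :=
  inferInstanceAs (IsLocallyNoetherian (pullback π (X.fromSpecResidueField y)))

set_option backward.isDefEq.respectTransparency false in
/-- If `j = e ≫ 𝓘.subschemeι` is a section of `π` cutting out an effective Cartier divisor,
the local ring of the fibre of `π` at `j x` is a discrete valuation ring. -/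
theorem isDVR_fibre_stalk_of_section (π : V ⟶ X) [LocallyOfFiniteType π] (𝓘 : V.IdealSheafData)
    (e : X ⟶ 𝓘.subscheme) [IsIso e] (hj : (e ≫ 𝓘.subschemeι) ≫ π = 𝟙 X)
    (hJ : BlowUp.IsEffCartierIdeal 𝓘) (x : X) :
    ∃ _ : IsDomain ((π.fiber (π.base ((e ≫ 𝓘.subschemeι).base x))).presheaf.stalk
        (π.asFiber ((e ≫ 𝓘.subschemeι).base x))),
      IsDiscreteValuationRing ((π.fiber (π.base ((e ≫ 𝓘.subschemeι).base x))).presheaf.stalk
        (π.asFiber ((e ≫ 𝓘.subschemeι).base x))) := by
  obtain ⟨h, hreg, hm, hker⟩ := exists_gen_ker_stalkMap 𝓘 hJ (e.base x)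
  let φ : X.presheaf.stalk (π.base (𝓘.subschemeι.base (e.base x))) →+*
      V.presheaf.stalk (𝓘.subschemeι.base (e.base x)) := (π.stalkMap (𝓘.subschemeι (e.base x))).hom
  let ψ : V.presheaf.stalk (𝓘.subschemeι.base (e.base x)) →+* X.presheaf.stalk x :=
    ((e ≫ 𝓘.subschemeι).stalkMap x).hom
  have hψeq : ψ = (e.stalkMap x).hom.comp (𝓘.subschemeι.stalkMap (e.base x)).hom := by
    change ((e ≫ 𝓘.subschemeι).stalkMap x).hom = _
    rw [Scheme.Hom.stalkMap_comp]
    rfl
  have hebij : Function.Bijective (e.stalkMap x).hom :=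
    ConcreteCategory.bijective_of_isIso (e.stalkMap x)
  have hψker : RingHom.ker ψ = Ideal.span {h} := by
    rw [← hker, hψeq]
    ext s
    rw [RingHom.mem_ker, RingHom.mem_ker, RingHom.comp_apply]
    constructor
    · intro hs
      apply hebij.1
      rw [hs, map_zero]
    · intro hs
      rw [hs, map_zero]
  have hψsurj : Function.Surjective ψ := by
    rw [hψeq, RingHom.coe_comp]
    exact hebij.2.comp (𝓘.subschemeι.stalkMap_surjective (e.base x))
  have hbij : Function.Bijective (ψ.comp φ) := by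
    haveI : IsIso ((e ≫ 𝓘.subschemeι) ≫ π) := by rw [hj]; infer_instance
    have h1 : ψ.comp φ = (((e ≫ 𝓘.subschemeι) ≫ π).stalkMap x).hom := by
      rw [Scheme.Hom.stalkMap_comp]
      rfl
    rw [h1]
    exact ConcreteCategory.bijective_of_isIso (((e ≫ 𝓘.subschemeι) ≫ π).stalkMap x)
  let E := quotientEquivStalkAsFiber π (𝓘.subschemeι.base (e.base x))
  haveI : IsNoetherianRing ((π.fiber (π.base (𝓘.subschemeι.base (e.base x)))).presheaf.stalk
      (π.asFiber (𝓘.subschemeι.base (e.base x)))) := inferInstance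
  haveI : IsNoetherianRing (V.presheaf.stalk (𝓘.subschemeι.base (e.base x)) ⧸
      fibreIdeal π (𝓘.subschemeι.base (e.base x))) := isNoetherianRing_of_ringEquiv _ E.symm
  obtain ⟨hnzd, hmax⟩ := nzd_and_maximalIdeal_quot_of_section φ ψ h hψker hbij hψsurj hreg
  obtain ⟨hdom, hdvr⟩ := isDiscreteValuationRing_of_maximalIdeal_eq_span _ hnzd hmax
  haveI hdom' : IsDomain ((π.fiber (π.base (𝓘.subschemeι.base (e.base x)))).presheaf.stalk
      (π.asFiber (𝓘.subschemeι.base (e.base x)))) := E.symm.toMulEquiv.isDomain _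
  have hdvr' : IsDiscreteValuationRing ((π.fiber (π.base (𝓘.subschemeι.base (e.base x)))).presheaf.stalk
      (π.asFiber (𝓘.subschemeι.base (e.base x)))) :=
    IsDiscreteValuationRing.RingEquivClass.isDiscreteValuationRing E
  exact ⟨hdom', hdvr'⟩

end geom

end Groth.Agent.H8
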