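import Groth.Agent.H8.StrictTransformBasic

/-!
# Strict transforms of the summands of the centre are disjoint (helper8)
-/

set_option autoImplicit false
universe u
open CategoryTheory CategoryTheory.Limits AlgebraicGeometry TopologicalSpace Opposite

namespace Groth.Agent.H8

open Scheme.IdealSheafData

/-- If `(t)` is generated by a set `S`, with `t` a nonzerodivisor, then near any proper ideal one
element of `S` generates. -/
lemma exists_gen_of_span_eq {R : Type*} [CommRing R] {t : R} (ht : t ∈ nonZeroDivisors R)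
    {S : Set R} (h : Ideal.span S = Ideal.span {t}) (p : Ideal R) (hp : p ≠ ⊤) :
    ∃ s ∈ S, ∃ c, c ∉ p ∧ s = c * t := by
  by_contra H
  push Not at H
  have h1 : Ideal.span S ≤ Ideal.span {t} * p := by
    rw [Ideal.span_le]
    intro s hs
    have h2 : s ∈ Ideal.span {t} := h ▸ Ideal.subset_span hs
    obtain ⟨c, hc⟩ := Ideal.mem_span_singleton'.mp h2
    have hcp : c ∈ p := by
      by_contra hcp
      exact H s hs c hcp hc.symm
    rw [← hc, mul_comm c t]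
    exact Ideal.mul_mem_mul (Ideal.mem_span_singleton_self t) hcp
  have h3 : t ∈ Ideal.span {t} * p := h1 (h ▸ Ideal.mem_span_singleton_self t)
  obtain ⟨q, hq, hqt⟩ := Ideal.mem_span_singleton_mul.mp h3
  have h4 : t * (q - 1) = 0 := by rw [mul_sub, hqt, mul_one, sub_self]
  have h5 : q = 1 := sub_eq_zero.mp ((mem_nonZeroDivisors_iff_left.mp ht) _ h4)
  exact hp ((Ideal.eq_top_iff_one p).mpr (h5 ▸ hq))

/-- Core of the strict transform argument: near a point of the image of `k`, the inverse image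
ideal is not generated by the pullback of a section of `𝓘`, if `k` lies over `V(𝓘)`. -/
lemma ne_span_of_meets {X X' Yt : Scheme.{u}} (𝓚 𝓘 : X.IdealSheafData) (b : X' ⟶ X)
    (k : Yt ⟶ X') (c : Yt ⟶ 𝓘.subscheme) (hk : k ≫ b = c ≫ 𝓘.subschemeι)
    (hE : BlowUp.IsEffCartierIdeal ((𝓚.comap b).comap k))
    (V : X.affineOpens) (s : Γ(X, V.1)) (hs : s ∈ 𝓘.ideal V)
    (V' : X'.affineOpens) (hV' : V'.1 ≤ b ⁻¹ᵁ V.1) (y : Yt) (hy : k y ∈ V'.1) :
    (𝓚.comap b).ideal V' ≠ Ideal.span {(b.appLE V.1 V'.1 hV').hom s} := by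
  intro heq
  obtain ⟨_, ⟨W, hW, rfl⟩, hyW, hWle⟩ :=
    Yt.isBasis_affineOpens.exists_subset_of_mem_open (show y ∈ ((k ⁻¹ᵁ V'.1 : Yt.Opens) : Set Yt)
      from hy) (k ⁻¹ᵁ V'.1).isOpen
  have hW : IsAffineOpen W := hW
  have hWle' : W ≤ k ⁻¹ᵁ V'.1 := hWle
  refine ideal_ne_bot_of_isEffCartier hE ⟨W, hW⟩ hyW ?_
  rw [Groth.Agent.H19.ComapAff.ideal_comap_appLE k _ V' ⟨W, hW⟩ hWle', heq, Ideal.map_span,
    Set.image_singleton]
  have h1 : (k.appLE V'.1 W hWle').hom ((b.appLE V.1 V'.1 hV').hom s) =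
      ((k ≫ b).appLE V.1 W (hWle'.trans
        ((TopologicalSpace.Opens.map k.base).map (homOfLE hV')).le)).hom s := by
    rw [← Scheme.Hom.appLE_comp_appLE]
    rfl
  rw [h1, appLE_eq_zero_of_factor (k ≫ b) c hk V W _ s hs]
  exact Ideal.span_singleton_eq_bot.mpr rfl

/-- If a sum of ideals pulls back to an effective Cartier ideal, then near every point the pullback
is generated by the pullback of one section of one summand. -/
lemma exists_section_generating {X X' : Scheme.{u}} {ι : Type*} (𝓙 : ι → X.IdealSheafData)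
    (b : X' ⟶ X) (hE : BlowUp.IsEffCartierIdeal ((⨆ i, 𝓙 i).comap b)) (x' : X') :
    ∃ (i : ι) (V : X.affineOpens) (s : Γ(X, V.1)) (_ : s ∈ (𝓙 i).ideal V) (V' : X'.affineOpens)
      (hV' : V'.1 ≤ b ⁻¹ᵁ V.1), x' ∈ V'.1 ∧
        ((⨆ i, 𝓙 i).comap b).ideal V' = Ideal.span {(b.appLE V.1 V'.1 hV').hom s} := by
  obtain ⟨_, ⟨V, hV, rfl⟩, hxV, -⟩ :=
    X.isBasis_affineOpens.exists_subset_of_mem_open (Set.mem_univ (b x')) isOpen_univ
  have hV : IsAffineOpen V := hV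
  obtain ⟨U', hxU', t, ht, hU't⟩ := hE x'
  obtain ⟨r, hr, hxr⟩ := U'.2.exists_basicOpen_le (V := U'.1 ⊓ b ⁻¹ᵁ V) ⟨x', ⟨hxU', hxV⟩⟩ hxU'
  have hxr : x' ∈ X'.basicOpen r := hxr
  obtain ⟨t', ht', hrt'⟩ := isEffCartier_basicOpen _ U' t ht hU't r
  have hle : (X'.affineBasicOpen r).1 ≤ b ⁻¹ᵁ V := hr.trans inf_le_right
  set φ := (b.appLE V (X'.affineBasicOpen r).1 hle).hom with hφ
  have h1 : Ideal.span (⋃ i, φ '' ((𝓙 i).ideal ⟨V, hV⟩ : Set Γ(X, V))) = Ideal.span {t'} := by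
    rw [← hrt', Groth.Agent.H19.ComapAff.ideal_comap_appLE b _ ⟨V, hV⟩ (X'.affineBasicOpen r) hle,
      ideal_iSup, iSup_apply, Ideal.map_iSup, Ideal.span_iUnion]
    rfl
  let p : Ideal Γ(X', (X'.affineBasicOpen r).1) :=
    (IsLocalRing.maximalIdeal (X'.presheaf.stalk x')).comap
      (X'.presheaf.germ (X'.affineBasicOpen r).1 x' hxr).hom
  have hp : p ≠ ⊤ := by
    intro hp
    have h2 : (1 : Γ(X', (X'.affineBasicOpen r).1)) ∈ p := hp ▸ Submodule.mem_top
    rw [Ideal.mem_comap, map_one] at h2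
    exact (Ideal.ne_top_iff_one _).mp (IsLocalRing.maximalIdeal.isMaximal _).ne_top h2
  obtain ⟨s₀, hs₀, c, hc, hs₀c⟩ := exists_gen_of_span_eq ht' h1 p hp
  obtain ⟨i, s, hs, rfl⟩ : ∃ i, ∃ s ∈ (𝓙 i).ideal ⟨V, hV⟩, φ s = s₀ := by
    obtain ⟨i, hi⟩ := Set.mem_iUnion.mp hs₀
    exact ⟨i, hi⟩
  have hxc : x' ∈ X'.basicOpen c := by
    rw [Scheme.mem_basicOpen X' c x' hxr]
    by_contra hu
    exact hc ((IsLocalRing.mem_maximalIdeal _).mpr hu)
  have hle2 : (X'.affineBasicOpen c).1 ≤ b ⁻¹ᵁ V := (X'.basicOpen_le c).trans hle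
  refine ⟨i, ⟨V, hV⟩, s, hs, X'.affineBasicOpen c, hle2, hxc, ?_⟩
  rw [← ((⨆ i, 𝓙 i).comap b).map_ideal_basicOpen (X'.affineBasicOpen r) c, hrt', Ideal.map_span,
    Set.image_singleton]
  have h3 : (b.appLE V (X'.affineBasicOpen c).1 hle2).hom s =
      (X'.presheaf.map (homOfLE (X'.basicOpen_le c)).op).hom (φ s) := by
    rw [hφ, ← RingHom.comp_apply, ← CommRingCat.hom_comp, Scheme.Hom.appLE_map]
    rfl
  rw [h3, hs₀c, map_mul]
  have hu : IsUnit ((X'.presheaf.map (homOfLE (X'.basicOpen_le c)).op).hom c) :=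
    X'.toRingedSpace.isUnit_res_basicOpen c
  exact (Ideal.span_singleton_mul_left_unit hu _).symm

end Groth.Agent.H8
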