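import Groth.Agent.H8.BlowUpLocal
import Groth.Agent.H19.ComapAff

/-!
# Elementary facts on effective Cartier ideals and sections vanishing on a closed subscheme
(helper8)
-/

set_option autoImplicit false
universe u
open CategoryTheory CategoryTheory.Limits AlgebraicGeometry TopologicalSpace Opposite

namespace Groth.Agent.H8

open Scheme.IdealSheafData

/-- An effective Cartier ideal is nonzero on every nonempty affine open. -/
lemma ideal_ne_bot_of_isEffCartier {Y : Scheme.{u}} {𝓙 : Y.IdealSheafData}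
    (h𝓙 : BlowUp.IsEffCartierIdeal 𝓙) (W : Y.affineOpens) {y : Y} (hy : y ∈ W.1) :
    𝓙.ideal W ≠ ⊥ := by
  intro hbot
  obtain ⟨U, hyU, f, hf, hUf⟩ := h𝓙 y
  obtain ⟨r, hr, hyr⟩ := U.2.exists_basicOpen_le (V := U.1 ⊓ W.1) ⟨y, ⟨hyU, hy⟩⟩ hyU
  obtain ⟨f', hf', hf'I⟩ := isEffCartier_basicOpen 𝓙 U f hf hUf r
  have h1 : 𝓙.ideal (Y.affineBasicOpen r) = ⊥ := by
    rw [← 𝓙.map_ideal (U := Y.affineBasicOpen r) (V := W) (hr.trans inf_le_right), hbot,
      Ideal.map_bot]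
  rw [h1] at hf'I
  have h2 : f' = 0 := by
    have h3 : f' ∈ (⊥ : Ideal Γ(Y, (Y.affineBasicOpen r).1)) :=
      hf'I ▸ Ideal.mem_span_singleton_self f'
    exact h3
  have : Nonempty ((Y.affineBasicOpen r).1 : Y.Opens) := ⟨⟨y, hyr⟩⟩
  have hnt : Nontrivial Γ(Y, (Y.affineBasicOpen r).1) := Scheme.component_nontrivial Y _
  rw [h2] at hf'
  exact zero_notMem_nonZeroDivisors hf'

/-- Sections of `𝓘` pull back to zero along any morphism factoring through `V(𝓘)`. -/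
lemma appLE_eq_zero_of_factor {W X : Scheme.{u}} {𝓘 : X.IdealSheafData} (g : W ⟶ X)
    (c : W ⟶ 𝓘.subscheme) (hg : g = c ≫ 𝓘.subschemeι) (V : X.affineOpens) (W' : W.Opens)
    (e : W' ≤ g ⁻¹ᵁ V.1) (s : Γ(X, V.1)) (hs : s ∈ 𝓘.ideal V) :
    (g.appLE V.1 W' e).hom s = 0 := by
  subst hg
  rw [Scheme.Hom.comp_appLE]
  have h0 : (𝓘.subschemeι.app V.1).hom s = 0 := by
    rw [← RingHom.mem_ker, ker_subschemeι_app]
    exact hs
  rw [CommRingCat.hom_comp, RingHom.comp_apply, h0, map_zero]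

end Groth.Agent.H8
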