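import Groth.Agent.H8.PullbackTorsion
import Groth.Agent.H5.Stalk.Exact
import Groth.Agent.H5.PerfectPull

/-!
# The strict transform of a module flat along the centre is the pullback (helper8)
-/

set_option autoImplicit false
universe u
open CategoryTheory CategoryTheory.Limits AlgebraicGeometry TopologicalSpace Opposite

namespace Groth.Agent.H8

open Groth.Agent.H5.Stalk

variable {X X' : Scheme.{u}}

/-- A morphism of modules which is injective on the sections over every affine open is a
monomorphism. -/
theorem mono_of_injective_affine {M N : X.Modules} (φ : M ⟶ N)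
    (h : ∀ (V : X.affineOpens) (m : M.presheaf.obj (op V.1)), φ.app V.1 m = 0 → m = 0) : Mono φ := by
  apply mono_of_stalkFunctor_map_injective
  intro x
  rw [injective_iff_map_eq_zero]
  intro g hg
  obtain ⟨U, hxU, m, rfl⟩ := M.presheaf.exists_germ_eq g
  rw [stalkFunctor_map_germ] at hg
  have hg' : N.presheaf.germ U x hxU (φ.app U m) = N.presheaf.germ U x hxU 0 := by
    rw [hg]
    exact (map_zero _).symm
  obtain ⟨W, hxW, iWU, iWU', hW⟩ := TopCat.Presheaf.germ_eq N.presheaf x hxU hxU _ _ hg'
  obtain ⟨_, ⟨V, hV, rfl⟩, hxV, hVW⟩ :=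
    X.isBasis_affineOpens.exists_subset_of_mem_open hxW W.2
  have hVU : V ≤ U := fun y hy => iWU.le (hVW hy)
  have h1 : φ.app V (M.presheaf.map (homOfLE hVU).op m) = 0 := by
    have hnat : φ.app V (M.presheaf.map (homOfLE hVU).op m) =
        N.presheaf.map (homOfLE hVU).op (φ.app U m) := by
      have := ConcreteCategory.congr_hom (φ.mapPresheaf.naturality (homOfLE hVU).op) m
      rw [ConcreteCategory.comp_apply, ConcreteCategory.comp_apply] at this
      exact this
    rw [hnat]
    have h2 : (homOfLE hVU).op = iWU.op ≫ (homOfLE (show V ≤ W from hVW)).op := rfl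
    rw [h2, Functor.map_comp, ConcreteCategory.comp_apply, hW, map_zero, map_zero]
  have h3 := h ⟨V, hV⟩ _ h1
  have h4 := TopCat.Presheaf.germ_res_apply M.presheaf (homOfLE hVU) x hxV m
  rw [h3, map_zero] at h4
  exact h4.symm

/-- The strict transform of a module flat along the centre is the pullback itself. -/
theorem isIso_of_isStrictTransform_of_flat (b : X' ⟶ X) (𝓘 : X.IdealSheafData)
    (hE : BlowUp.IsEffCartierIdeal (𝓘.comap b)) (F : X.Modules)
    (hflat : ∀ s : X, s ∈ 𝓘.support → FlatMod.IsFlatAt F s) (G : X'.Modules)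
    (π : (Scheme.Modules.pullback b).obj F ⟶ G) (hG : BlowUp.IsStrictTransform b 𝓘 F G π) :
    IsIso π := by
  haveI : Epi π := hG.1
  haveI : Mono π := by
    apply mono_of_injective_affine
    intro V m hm
    refine eq_zero_of_killedByPowerNear (BlowUp.exceptional b 𝓘) hE _ ?_ V m ((hG.2 V m).mp hm)
    intro x hx
    apply isFlatAt_pullback
    apply hflat
    rw [Scheme.IdealSheafData.support_comap] at hx
    exact hx
  exact isIso_of_mono_of_epi π

end Groth.Agent.H8
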