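import Mathlib.RingTheory.UniqueFactorizationDomain.GCDMonoid
import Mathlib.RingTheory.Localization.AtPrime.Basic
import Mathlib.RingTheory.Localization.Ideal
import Mathlib.RingTheory.Ideal.KrullsHeightTheorem
import Mathlib.RingTheory.Ideal.Height

/-!
# Colon ideals of principal ideals in a UFD are principal; consequences for associated primes
(helper8)
-/

set_option autoImplicit false

namespace Groth.Agent.H8

/-- In a UFD, `(r : c)` is principal. -/
theorem exists_colon_span_singleton_eq {R : Type*} [CommRing R] [IsDomain R]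
    [UniqueFactorizationMonoid R] (r c : R) (hr : r ≠ 0) :
    ∃ r' : R, ∀ a : R, a * c ∈ Ideal.span {r} ↔ a ∈ Ideal.span {r'} := by
  classical
  obtain ⟨g, hg, r₁, c₁, hr₁, hc₁, hrel⟩ : ∃ g : R, g ≠ 0 ∧ ∃ r₁ c₁ : R, r = g * r₁ ∧ c = g * c₁ ∧
      IsRelPrime r₁ c₁ := by
    letI : GCDMonoid R := UniqueFactorizationMonoid.toGCDMonoid R
    obtain ⟨r₁, c₁, hr₁, hc₁, hu⟩ := extract_gcd r c
    exact ⟨gcd r c, fun h => hr ((gcd_eq_zero_iff r c).mp h).1, r₁, c₁, hr₁, hc₁,
      gcd_isUnit_iff_isRelPrime.mp hu⟩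
  subst hr₁ hc₁
  refine ⟨r₁, fun a => ?_⟩
  rw [Ideal.mem_span_singleton, Ideal.mem_span_singleton]
  constructor
  · intro h
    have h1 : g * r₁ ∣ g * (a * c₁) := by
      have : a * (g * c₁) = g * (a * c₁) := by ring
      rwa [this] at h
    have h2 : r₁ ∣ a * c₁ := (mul_dvd_mul_iff_left hg).mp h1
    exact hrel.dvd_of_dvd_mul_right h2
  · rintro ⟨b, rfl⟩
    exact ⟨b * c₁, by ring⟩

/-- Key local statement: if `S = R_P` for a UFD `R`, `r ≠ 0` and the maximal ideal of `S` is the
annihilator of the class of some `c` in `S/rS`, then the maximal ideal of `S` is principal. -/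
theorem maximalIdeal_eq_span_singleton_of_ufd {R S : Type*} [CommRing R] [IsDomain R]
    [UniqueFactorizationMonoid R] (P : Ideal R) [P.IsPrime] [CommRing S] [Algebra R S]
    [IsLocalization.AtPrime S P] [IsLocalRing S] (r : R) (hr : r ≠ 0) (c : S)
    (hc : ∀ s : S, s ∈ IsLocalRing.maximalIdeal S ↔ s * c ∈ Ideal.span {algebraMap R S r}) :
    ∃ r' : R, IsLocalRing.maximalIdeal S = Ideal.span {algebraMap R S r'} := by
  obtain ⟨c', t, rfl⟩ := IsLocalization.exists_mk'_eq P.primeCompl c
  have hunit : ∀ m : P.primeCompl, IsUnit (algebraMap R S m) := IsLocalization.map_units S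
  have hc' : ∀ s : S, s ∈ IsLocalRing.maximalIdeal S ↔
      s * algebraMap R S c' ∈ Ideal.span {algebraMap R S r} := by
    intro s
    rw [hc s]
    have h1 : IsLocalization.mk' S c' t * algebraMap R S t = algebraMap R S c' :=
      IsLocalization.mk'_spec S c' t
    constructor
    · intro h
      have := Ideal.mul_mem_right (algebraMap R S t) _ h
      rwa [mul_assoc, h1] at this
    · intro h
      rw [← h1, ← mul_assoc] at h
      exact (Ideal.mul_unit_mem_iff_mem _ (hunit t)).mp h
  obtain ⟨r', hr'⟩ := exists_colon_span_singleton_eq r c' hr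
  have hmap : ∀ x : R, Ideal.span {algebraMap R S x} = (Ideal.span {x}).map (algebraMap R S) := by
    intro x
    rw [Ideal.map_span, Set.image_singleton]
  refine ⟨r', le_antisymm ?_ ?_⟩
  · intro s hs
    obtain ⟨a, t₁, rfl⟩ := IsLocalization.exists_mk'_eq P.primeCompl s
    have h1 : IsLocalization.mk' S a t₁ * algebraMap R S t₁ = algebraMap R S a :=
      IsLocalization.mk'_spec S a t₁
    have h2 := (hc' _).mp hs
    have h3 : algebraMap R S (a * c') ∈ Ideal.span {algebraMap R S r} := by
      have := Ideal.mul_mem_right (algebraMap R S t₁) _ h2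
      rw [map_mul, ← h1]
      convert this using 1
      ring
    rw [hmap, IsLocalization.algebraMap_mem_map_algebraMap_iff P.primeCompl] at h3
    obtain ⟨m, hm, hmem⟩ := h3
    have h4 : m * a ∈ Ideal.span {r'} := (hr' (m * a)).mp (by rwa [mul_assoc])
    have h5 : algebraMap R S (m * a) ∈ Ideal.span {algebraMap R S r'} := by
      rw [hmap]
      exact Ideal.mem_map_of_mem _ h4
    rw [map_mul] at h5
    have h6 : algebraMap R S a ∈ Ideal.span {algebraMap R S r'} :=
      (Ideal.unit_mul_mem_iff_mem _ (hunit ⟨m, hm⟩)).mp h5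
    rw [← h1] at h6
    exact (Ideal.mul_unit_mem_iff_mem _ (hunit t₁)).mp h6
  · rw [Ideal.span_le, Set.singleton_subset_iff, SetLike.mem_coe, hc']
    have h1 : r' * c' ∈ Ideal.span {r} := (hr' r').mpr (Ideal.mem_span_singleton_self r')
    rw [← map_mul, hmap]
    exact Ideal.mem_map_of_mem _ h1

/-- In the situation of `maximalIdeal_eq_span_singleton_of_ufd` (with `R` Noetherian), `P` has
height one. -/
theorem height_eq_one_of_ufd {R S : Type*} [CommRing R] [IsDomain R] [IsNoetherianRing R]
    [UniqueFactorizationMonoid R] (P : Ideal R) [P.IsPrime] [CommRing S] [Algebra R S]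
    [IsLocalization.AtPrime S P] [IsLocalRing S] (r : R) (hr : r ≠ 0) (hrP : r ∈ P) (c : S)
    (hc : ∀ s : S, s ∈ IsLocalRing.maximalIdeal S ↔ s * c ∈ Ideal.span {algebraMap R S r}) :
    P.height = 1 := by
  obtain ⟨r', hr'⟩ := maximalIdeal_eq_span_singleton_of_ufd P r hr c hc
  haveI : IsNoetherianRing S := IsLocalization.isNoetherianRing P.primeCompl S inferInstance
  have hunder : (IsLocalRing.maximalIdeal S).under R = P :=
    IsLocalization.AtPrime.under_maximalIdeal S P
  have hheight : P.height = (IsLocalRing.maximalIdeal S).height := by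
    rw [← IsLocalization.height_under P.primeCompl (IsLocalRing.maximalIdeal S), hunder]
  have hle : (IsLocalRing.maximalIdeal S).height ≤ 1 := by
    haveI : (Ideal.span {algebraMap R S r'}).IsPrincipal := ⟨⟨_, rfl⟩⟩
    apply Ideal.height_le_one_of_isPrincipal_of_mem_minimalPrimes (Ideal.span {algebraMap R S r'})
    rw [← hr']
    exact ⟨⟨inferInstance, le_rfl⟩, fun q hq _ => hq.2⟩
  have hge : 1 ≤ P.height := by
    by_contra hlt
    have h0 : P.height = 0 := by
      have : P.height < 1 := not_le.mp hlt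
      exact ENat.lt_one_iff_eq_zero.mp this
    rw [Ideal.height_eq_zero_iff] at h0
    have : P = ⊥ := by
      have h1 : P ≤ ⊥ := h0.2 ⟨Ideal.isPrime_bot, bot_le⟩ bot_le
      exact le_bot_iff.mp h1
    rw [this] at hrP
    exact hr hrP
  exact le_antisymm (hheight ▸ hle) hge

end Groth.Agent.H8
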