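import Groth.Agent.H8.UFDColon
import Groth.Agent.H8.PrincipalAss
import Mathlib.RingTheory.Localization.LocalizationLocalization

/-!
# Principal extension of an ideal at a factorial local ring (helper8)

Algebraic core of: the scheme-theoretic closure of an effective Cartier divisor on an open is
effective Cartier at points whose local rings are factorial.
-/

set_option autoImplicit false

namespace Groth.Agent.H8

open IsLocalRing

theorem exists_span_singleton_map_of_ufd_stalk {A : Type*} [CommRing A] [IsNoetherianRing A]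
    (p : Ideal A) [p.IsPrime] (R : Type*) [CommRing R] [Algebra A R] [IsLocalization.AtPrime R p]
    [IsDomain R] [UniqueFactorizationMonoid R] (J : Ideal A)
    (hloc : ∀ q : Ideal A, q.IsPrime → q ≤ p → q ∈ associatedPrimes A (A ⧸ J) →
      ∃ f₀ h : A, h ∉ q ∧ algebraMap A R f₀ ≠ 0 ∧
        (∀ j ∈ J, ∃ (n : ℕ) (b : A), h ^ n * j = b * f₀) ∧ (∃ n : ℕ, h ^ n * f₀ ∈ J)) :
    ∃ g : R, g ≠ 0 ∧ J.map (algebraMap A R) = Ideal.span {g} := by
  haveI : IsNoetherianRing R := IsLocalization.isNoetherianRing p.primeCompl R inferInstance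
  apply exists_span_singleton_of_ass_height_one
  intro P hP
  haveI hPprime : P.IsPrime := hP.isPrime
  have hq := under_mem_associatedPrimes_quotient p.primeCompl J P hP
  set q : Ideal A := P.comap (algebraMap A R) with hqdef
  haveI hqprime : q.IsPrime := Ideal.comap_isPrime _ P
  have hqp : q ≤ p := by
    intro a ha
    by_contra hap
    have hu : IsUnit (algebraMap A R a) := IsLocalization.map_units R (⟨a, hap⟩ : p.primeCompl)
    exact hPprime.ne_top (Ideal.eq_top_of_isUnit_mem _ ha hu)
  obtain ⟨f₀, h, hhq, hf₀, h1, n₂, h2⟩ := hloc q hqprime hqp hq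
  have hJq : J ≤ q := by
    have := IsAssociatedPrime.annihilator_le hq
    rwa [Submodule.annihilator_top, Ideal.annihilator_quotient] at this
  have hf₀q : f₀ ∈ q := by
    have : h ^ n₂ * f₀ ∈ q := hJq h2
    rcases hqprime.mem_or_mem this with h3 | h3
    · exact absurd (hqprime.mem_of_pow_mem _ h3) hhq
    · exact h3
  -- the localization at `P`
  let S := Localization.AtPrime P
  haveI : IsLocalization.AtPrime S q :=
    IsLocalization.isLocalization_isLocalization_atPrime_isLocalization p.primeCompl S P
  haveI : IsNoetherianRing S := IsLocalization.isNoetherianRing P.primeCompl S inferInstance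
  have hhunit : IsUnit (algebraMap A S h) := IsLocalization.map_units S (⟨h, hhq⟩ : q.primeCompl)
  have hJS : J.map (algebraMap A S) = Ideal.span {algebraMap A S f₀} := by
    apply le_antisymm
    · rw [Ideal.map_le_iff_le_comap]
      intro j hj
      obtain ⟨n, b, hnb⟩ := h1 j hj
      rw [Ideal.mem_comap]
      have h3 : algebraMap A S (h ^ n) * algebraMap A S j ∈ Ideal.span {algebraMap A S f₀} := by
        rw [← map_mul, hnb, map_mul]
        exact Ideal.mul_mem_left _ _ (Ideal.mem_span_singleton_self _)
      have hu : IsUnit (algebraMap A S (h ^ n)) := by rw [map_pow]; exact hhunit.pow n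
      exact (Ideal.unit_mul_mem_iff_mem _ hu).mp h3
    · rw [Ideal.span_le, Set.singleton_subset_iff, SetLike.mem_coe]
      have h3 : algebraMap A S (h ^ n₂) * algebraMap A S f₀ ∈ J.map (algebraMap A S) := by
        rw [← map_mul]
        exact Ideal.mem_map_of_mem _ h2
      have hu : IsUnit (algebraMap A S (h ^ n₂)) := by rw [map_pow]; exact hhunit.pow n₂
      exact (Ideal.unit_mul_mem_iff_mem _ hu).mp h3
  have hJSle : J.map (algebraMap A S) ≤ maximalIdeal S := by
    rw [Ideal.map_le_iff_le_comap]
    intro j hj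
    rw [Ideal.mem_comap]
    exact (IsLocalization.AtPrime.to_map_mem_maximal_iff S q j).mpr (hJq hj)
  haveI : Nontrivial (S ⧸ J.map (algebraMap A S)) :=
    Ideal.Quotient.nontrivial_iff.mpr (fun h => (maximalIdeal.isMaximal S).ne_top (top_le_iff.mp (h ▸ hJSle)))
  haveI : IsLocalRing (S ⧸ J.map (algebraMap A S)) :=
    IsLocalRing.of_surjective' (Ideal.Quotient.mk (J.map (algebraMap A S))) Ideal.Quotient.mk_surjective
  have hass := isAssociatedPrime_maximalIdeal_of_surjective J q hq
    (Ideal.Quotient.mk (J.map (algebraMap A S))) Ideal.Quotient.mk_surjective Ideal.mk_ker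
  haveI : IsNoetherianRing (S ⧸ J.map (algebraMap A S)) :=
    isNoetherianRing_of_surjective _ _ _ Ideal.Quotient.mk_surjective
  obtain ⟨-, cbar, hcbar⟩ := (isAssociatedPrime_iff (R := S ⧸ J.map (algebraMap A S))).mp hass
  obtain ⟨c, rfl⟩ := Ideal.Quotient.mk_surjective cbar
  have hc : ∀ s : S, s ∈ maximalIdeal S ↔
      s * c ∈ Ideal.span {algebraMap R S (algebraMap A R f₀)} := by
    intro s
    have e1 : algebraMap R S (algebraMap A R f₀) = algebraMap A S f₀ :=
      (IsScalarTower.algebraMap_apply A R S f₀).symm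
    rw [e1, ← hJS]
    have h3 : Ideal.Quotient.mk (J.map (algebraMap A S)) s ∈
        maximalIdeal (S ⧸ J.map (algebraMap A S)) ↔
        Ideal.Quotient.mk (J.map (algebraMap A S)) s * Ideal.Quotient.mk (J.map (algebraMap A S)) c = 0 := by
      rw [hcbar, Submodule.mem_colon_singleton, Submodule.mem_bot, smul_eq_mul]
    have h4 : s ∈ maximalIdeal S ↔ Ideal.Quotient.mk (J.map (algebraMap A S)) s ∈
        maximalIdeal (S ⧸ J.map (algebraMap A S)) := by
      haveI : IsLocalHom (Ideal.Quotient.mk (J.map (algebraMap A S))) :=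
        IsLocalHom.of_surjective _ Ideal.Quotient.mk_surjective
      rw [mem_maximalIdeal, mem_maximalIdeal, mem_nonunits_iff, mem_nonunits_iff, not_iff_not]
      exact (isUnit_map_iff (Ideal.Quotient.mk (J.map (algebraMap A S))) s).symm
    rw [h4, h3, ← map_mul, Ideal.Quotient.eq_zero_iff_mem]
  exact height_eq_one_of_ufd P (algebraMap A R f₀) hf₀ hf₀q c hc

end Groth.Agent.H8
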