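import Mathlib

/-!
# Presentation of a base change of a finitely presented module, elementwise

For a surjection `f : (Fin n → A) → B` of `A`-modules whose kernel is spanned by `r : Fin m → _`,
we describe elements of `B ⊗[A] A'` as `∑ k, b k ⊗ₜ x k` and the relations among them.
-/

set_option autoImplicit false
universe u

namespace Groth.Agent.H8

open TensorProduct

section

variable {A B : Type*} [CommRing A] [AddCommGroup B] [Module A B] {n m : ℕ}
  (f : (Fin n → A) →ₗ[A] B) (hf : Function.Surjective f)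
  (r : Fin m → (Fin n → A)) (hr : Submodule.span A (Set.range r) = LinearMap.ker f)
  (A' : Type*) [CommRing A'] [Algebra A A']

/-- The element `∑ k, b k ⊗ₜ x k` of `B ⊗[A] A'`, where `b k = f (Pi.single k 1)`. -/
noncomputable def tsum (x : Fin n → A') : B ⊗[A] A' :=
  ∑ k, f (Pi.single k 1) ⊗ₜ[A] x k

theorem tsum_add (x y : Fin n → A') : tsum f A' (x + y) = tsum f A' x + tsum f A' y := by
  simp only [tsum, Pi.add_apply, TensorProduct.tmul_add, Finset.sum_add_distrib]

theorem tsum_sub (x y : Fin n → A') : tsum f A' (x - y) = tsum f A' x - tsum f A' y := by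
  simp only [tsum, Pi.sub_apply, TensorProduct.tmul_sub, Finset.sum_sub_distrib]

theorem tsum_zero : tsum f A' (0 : Fin n → A') = 0 := by
  simp [tsum]

theorem tsum_sum {ι : Type*} (s : Finset ι) (x : ι → Fin n → A') :
    tsum f A' (∑ i ∈ s, x i) = ∑ i ∈ s, tsum f A' (x i) := by
  classical
  induction s using Finset.induction_on with
  | empty => simp [tsum_zero]
  | insert a s ha ih => rw [Finset.sum_insert ha, Finset.sum_insert ha, tsum_add, ih]

theorem f_eq_sum (c : Fin n → A) : f c = ∑ k, c k • f (Pi.single k 1) := by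
  conv_lhs => rw [LinearMap.pi_apply_eq_sum_univ f c]
  refine Finset.sum_congr rfl fun k _ ↦ ?_
  congr 2
  ext j
  simp [Pi.single_apply, eq_comm]

/-- `f c ⊗ₜ a'` in terms of `tsum`. -/
theorem tmul_eq_tsum (c : Fin n → A) (a' : A') :
    f c ⊗ₜ[A] a' = tsum f A' (fun k ↦ algebraMap A A' (c k) * a') := by
  rw [f_eq_sum f c, TensorProduct.sum_tmul, tsum]
  refine Finset.sum_congr rfl fun k _ ↦ ?_
  rw [TensorProduct.smul_tmul, Algebra.smul_def]

include hf in
/-- Every element of `B ⊗[A] A'` is of the form `tsum x`. -/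
theorem exists_tsum_eq (e : B ⊗[A] A') : ∃ x : Fin n → A', tsum f A' x = e := by
  induction e using TensorProduct.induction_on with
  | zero => exact ⟨0, tsum_zero f A'⟩
  | tmul b a' =>
    obtain ⟨c, rfl⟩ := hf b
    exact ⟨_, (tmul_eq_tsum f A' c a').symm⟩
  | add e₁ e₂ h₁ h₂ =>
    obtain ⟨x₁, rfl⟩ := h₁
    obtain ⟨x₂, rfl⟩ := h₂
    exact ⟨x₁ + x₂, tsum_add f A' x₁ x₂⟩

/-- The relations `r l` give zero. -/
theorem tsum_rel (c : Fin n → A) (hc : f c = 0) (a' : A') :
    tsum f A' (fun k ↦ algebraMap A A' (c k) * a') = 0 := by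
  rw [← tmul_eq_tsum, hc, TensorProduct.zero_tmul]

end

section Ker

variable {A B : Type*} [CommRing A] [AddCommGroup B] [Module A B] {n m : ℕ}
  (f : (Fin n → A) →ₗ[A] B) (hf : Function.Surjective f)
  (r : Fin m → (Fin n → A)) (hr : Submodule.span A (Set.range r) = LinearMap.ker f)
  (A' : Type*) [CommRing A'] [Algebra A A']

include hf hr in
/-- Kernel description (right exactness of the tensor product, elementwise): if `tsum z = 0` then
`z` is an `A'`-linear combination of the (images of the) relations `r l`. -/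
theorem exists_of_tsum_eq_zero (z : Fin n → A') (hz : tsum f A' z = 0) :
    ∃ y : Fin m → A', ∀ k, z k = ∑ l, y l * algebraMap A A' (r l k) := by
  classical
  let S : Submodule A' (Fin n → A') :=
    Submodule.span A' (Set.range fun l : Fin m ↦ fun k ↦ algebraMap A A' (r l k))
  let SA : Submodule A (Fin n → A') := S.restrictScalars A
  let β : (Fin n → A) →ₗ[A] A' →ₗ[A] ((Fin n → A') ⧸ SA) :=
    LinearMap.mk₂ A (fun c a' ↦ SA.mkQ (fun k ↦ algebraMap A A' (c k) * a'))
      (fun c₁ c₂ a' ↦ by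
        rw [← map_add]; congr 1; ext k; simp [add_mul])
      (fun t c a' ↦ by
        rw [← map_smul]; congr 1; ext k; simp [Algebra.smul_def, mul_assoc])
      (fun c a₁ a₂ ↦ by
        rw [← map_add]; congr 1; ext k; simp [mul_add])
      (fun t c a' ↦ by
        rw [← map_smul]; congr 1; ext k; simp [Algebra.smul_def, mul_left_comm])
  have hle : LinearMap.ker f ≤ LinearMap.ker β := by
    rw [← hr, Submodule.span_le]
    rintro _ ⟨l, rfl⟩
    rw [SetLike.mem_coe, LinearMap.mem_ker]
    ext a'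
    simp only [β, LinearMap.mk₂_apply, LinearMap.zero_apply, Submodule.mkQ_apply,
      Submodule.Quotient.mk_eq_zero]
    change _ ∈ S
    have : (fun k ↦ algebraMap A A' (r l k) * a') =
        a' • (fun k ↦ algebraMap A A' (r l k)) := by
      ext k; simp [mul_comm]
    rw [this]
    exact S.smul_mem _ (Submodule.subset_span ⟨l, rfl⟩)
  let βbar : B →ₗ[A] A' →ₗ[A] ((Fin n → A') ⧸ SA) :=
    ((LinearMap.ker f).liftQ β hle) ∘ₗ (f.quotKerEquivOfSurjective hf).symm.toLinearMap
  have hβbar : ∀ c, βbar (f c) = β c := by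
    intro c
    simp only [βbar, LinearMap.coe_comp, LinearEquiv.coe_coe, Function.comp_apply]
    have : (f.quotKerEquivOfSurjective hf).symm (f c) = (LinearMap.ker f).mkQ c := by
      rw [LinearEquiv.symm_apply_eq]
      rfl
    rw [this, Submodule.mkQ_apply, Submodule.liftQ_apply]
  let G : B ⊗[A] A' →ₗ[A] ((Fin n → A') ⧸ SA) := TensorProduct.lift βbar
  have hG : G (tsum f A' z) = SA.mkQ z := by
    simp only [tsum, map_sum, G, TensorProduct.lift.tmul, hβbar]
    simp only [β, LinearMap.mk₂_apply]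
    rw [← map_sum]
    congr 1
    ext k
    simp [Finset.sum_apply, Pi.single_apply, Finset.sum_ite_eq]
  rw [hz, map_zero] at hG
  have hzS : z ∈ S := by
    have := hG.symm
    rwa [Submodule.mkQ_apply, Submodule.Quotient.mk_eq_zero] at this
  obtain ⟨y, hy⟩ := (Submodule.mem_span_range_iff_exists_fun A').mp hzS
  refine ⟨y, fun k ↦ ?_⟩
  rw [← hy]
  simp [Finset.sum_apply]

end Ker

section Mul

variable {A B : Type*} [CommRing A] [CommRing B] [Algebra A B] {n : ℕ}
  (f : (Fin n → A) →ₗ[A] B)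
  (c : Fin n → Fin n → (Fin n → A))
  (hc : ∀ i j, f (c i j) = f (Pi.single i 1) * f (Pi.single j 1))
  (A' : Type*) [CommRing A'] [Algebra A A']

include hc in
/-- Multiplication of `tsum`s through the structure constants `c`. -/
theorem tsum_mul_tsum (x y : Fin n → A') :
    tsum f A' x * tsum f A' y =
      tsum f A' (fun k ↦ ∑ i, ∑ j, algebraMap A A' (c i j k) * (x i * y j)) := by
  have h1 : (fun k ↦ ∑ i, ∑ j, algebraMap A A' (c i j k) * (x i * y j)) =
      ∑ i, ∑ j, (fun k ↦ algebraMap A A' (c i j k) * (x i * y j)) := by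
    ext k
    simp [Finset.sum_apply]
  rw [h1, tsum_sum]
  simp_rw [tsum_sum, ← tmul_eq_tsum, hc]
  simp only [tsum, Finset.sum_mul_sum, Algebra.TensorProduct.tmul_mul_tmul]

end Mul

section Main

open MvPolynomial in
/-- Universal idempotent for a finite, finitely presented algebra. -/
theorem exists_universal_idempotent {A B : Type u} [CommRing A] [CommRing B] [Algebra A B]
    [Module.Finite A B] [Algebra.FinitePresentation A B] :
    ∃ (Au : Type u) (_ : CommRing Au) (_ : Algebra A Au) (eu : B ⊗[A] Au),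
      Algebra.FinitePresentation A Au ∧ IsIdempotentElem eu ∧
      ∀ (A' : Type u) [CommRing A'] [Algebra A A'] (e : B ⊗[A] A'), IsIdempotentElem e →
        ∃ φ : Au →ₐ[A] A', Algebra.TensorProduct.map (AlgHom.id A B) φ eu = e := by
  classical
  have hfp : Module.FinitePresentation A B :=
    Module.FinitePresentation.of_finite_of_finitePresentation A B
  obtain ⟨n, f, hf⟩ := Module.Finite.exists_fin' A B
  have hK : (LinearMap.ker f).FG := Module.FinitePresentation.fg_ker f hf
  obtain ⟨m, r, hr⟩ := Submodule.fg_iff_exists_fin_generating_family.mp hK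
  have hr0 : ∀ l, f (r l) = 0 := by
    intro l
    have : r l ∈ LinearMap.ker f := hr ▸ Submodule.subset_span ⟨l, rfl⟩
    exact this
  have hc : ∀ i j, ∃ c : Fin n → A, f c = f (Pi.single i 1) * f (Pi.single j 1) :=
    fun i j ↦ hf _
  choose c hc using hc
  let rel : Fin n → MvPolynomial (Fin n ⊕ Fin m) A := fun k ↦
    (∑ i, ∑ j, C (c i j k) * (X (Sum.inl i) * X (Sum.inl j))) - X (Sum.inl k) -
      ∑ l, X (Sum.inr l) * C (r l k)
  let J : Ideal (MvPolynomial (Fin n ⊕ Fin m) A) := Ideal.span (Set.range rel)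
  let xu : Fin n → MvPolynomial (Fin n ⊕ Fin m) A ⧸ J := fun k ↦ Ideal.Quotient.mk J (X (Sum.inl k))
  let yu : Fin m → MvPolynomial (Fin n ⊕ Fin m) A ⧸ J := fun l ↦ Ideal.Quotient.mk J (X (Sum.inr l))
  refine ⟨MvPolynomial (Fin n ⊕ Fin m) A ⧸ J, inferInstance, inferInstance,
    tsum f (MvPolynomial (Fin n ⊕ Fin m) A ⧸ J) xu, ?_, ?_, ?_⟩
  · exact Algebra.FinitePresentation.quotient (Submodule.fg_span (Set.finite_range rel))
  · rw [IsIdempotentElem, tsum_mul_tsum f c hc]
    have halg : ∀ a : A, algebraMap A (MvPolynomial (Fin n ⊕ Fin m) A ⧸ J) a =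
        Ideal.Quotient.mk J (C a) := fun a ↦ rfl
    have hrel : ∀ k, ∑ i, ∑ j, algebraMap A (MvPolynomial (Fin n ⊕ Fin m) A ⧸ J) (c i j k) *
        (xu i * xu j) = xu k + ∑ l, algebraMap A _ (r l k) * yu l := by
      intro k
      have h0 : Ideal.Quotient.mk J (rel k) = 0 :=
        Ideal.Quotient.eq_zero_iff_mem.mpr (Ideal.subset_span ⟨k, rfl⟩)
      simp only [rel, map_sub, map_sum, map_mul] at h0
      simp only [halg, xu, yu]
      rw [sub_sub, sub_eq_zero] at h0
      rw [h0]
      congr 1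
      refine Finset.sum_congr rfl fun l _ ↦ mul_comm _ _
    simp_rw [hrel]
    have h2 : (fun k ↦ xu k + ∑ l, algebraMap A (MvPolynomial (Fin n ⊕ Fin m) A ⧸ J) (r l k) * yu l) =
        xu + ∑ l, (fun k ↦ algebraMap A (MvPolynomial (Fin n ⊕ Fin m) A ⧸ J) (r l k) * yu l) := by
      ext k
      simp [Finset.sum_apply]
    rw [h2, tsum_add, tsum_sum]
    have h3 : ∀ l, tsum f (MvPolynomial (Fin n ⊕ Fin m) A ⧸ J)
        (fun k ↦ algebraMap A (MvPolynomial (Fin n ⊕ Fin m) A ⧸ J) (r l k) * yu l) = 0 :=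
      fun l ↦ tsum_rel f _ (r l) (hr0 l) (yu l)
    simp [h3]
  · intro A' _ _ e he
    obtain ⟨x, rfl⟩ := exists_tsum_eq f hf A' e
    have h1 : tsum f A' (fun k ↦ (∑ i, ∑ j, algebraMap A A' (c i j k) * (x i * x j)) - x k) = 0 := by
      have h := he
      rw [IsIdempotentElem, tsum_mul_tsum f c hc] at h
      have h2 : (fun k ↦ (∑ i, ∑ j, algebraMap A A' (c i j k) * (x i * x j)) - x k) =
          (fun k ↦ ∑ i, ∑ j, algebraMap A A' (c i j k) * (x i * x j)) - x := rfl
      rw [h2, tsum_sub, h, sub_self]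
    obtain ⟨y, hy⟩ := exists_of_tsum_eq_zero f hf r hr A' _ h1
    let ψ : MvPolynomial (Fin n ⊕ Fin m) A →ₐ[A] A' := aeval (Sum.elim x y)
    have hψ : ∀ p ∈ J, ψ p = 0 := by
      have hle : J ≤ RingHom.ker (ψ : MvPolynomial (Fin n ⊕ Fin m) A →+* A') := by
        rw [Ideal.span_le]
        rintro _ ⟨k, rfl⟩
        rw [SetLike.mem_coe, RingHom.mem_ker]
        simp only [rel, ψ, AlgHom.coe_toRingHom, map_sub, map_sum, map_mul, aeval_C, aeval_X,
          Sum.elim_inl, Sum.elim_inr]
        rw [hy k, sub_eq_zero]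
      intro p hp
      exact hle hp
    refine ⟨Ideal.Quotient.liftₐ J ψ hψ, ?_⟩
    simp only [tsum, map_sum, Algebra.TensorProduct.map_tmul, AlgHom.coe_id, id_eq]
    refine Finset.sum_congr rfl fun k _ ↦ ?_
    congr 1
    simp [xu, ψ]

end Main

end Groth.Agent.H8
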