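import Groth.Agent.H5.Stalk.PullbackStalk
import Groth.Agent.H8.QCohStalk
import Groth.Prelude.Def_CurvBase
import Mathlib.RingTheory.Flat.FaithfullyFlat.Algebra

/-!
# Weakly associated points and flat pullback at generic points of fibres (helper8)
-/

set_option autoImplicit false
universe u
open CategoryTheory CategoryTheory.Limits AlgebraicGeometry TopologicalSpace Opposite IsLocalRing
open TensorProduct

namespace Groth.Agent.H8

section ring

variable {A B : Type*} [CommRing A] [CommRing B] [IsLocalRing A] [IsLocalRing B] [Algebra A B]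

theorem radical_ann_one_tmul [IsLocalHom (algebraMap A B)] [Module.Flat A B]
    (hgen : ∀ q : Ideal B, q.IsPrime → (maximalIdeal A).map (algebraMap A B) ≤ q →
      q = maximalIdeal B)
    {N : Type*} [AddCommGroup N] [Module A N] (n : N)
    (hn : Ideal.radical (LinearMap.ker (LinearMap.toSpanSingleton A N n)) = maximalIdeal A) :
    Ideal.radical (LinearMap.ker (LinearMap.toSpanSingleton B (B ⊗[A] N) ((1 : B) ⊗ₜ[A] n))) =
      maximalIdeal B := by
  set J : Ideal A := LinearMap.ker (LinearMap.toSpanSingleton A N n) with hJ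
  have hJle : Ideal.map (algebraMap A B) J ≤
      (LinearMap.ker (LinearMap.toSpanSingleton B (B ⊗[A] N) ((1 : B) ⊗ₜ[A] n)) : Ideal B) := by
    rw [Ideal.map_le_iff_le_comap]
    intro a ha
    rw [hJ, LinearMap.mem_ker, LinearMap.toSpanSingleton_apply] at ha
    rw [Ideal.mem_comap, LinearMap.mem_ker, LinearMap.toSpanSingleton_apply,
      TensorProduct.smul_tmul', Algebra.algebraMap_eq_smul_one, smul_assoc, one_smul,
      TensorProduct.smul_tmul, ha, TensorProduct.tmul_zero]
  have hn0 : n ≠ 0 := by
    rintro rfl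
    have : J = ⊤ := by
      rw [hJ, Ideal.eq_top_iff_one, LinearMap.mem_ker, LinearMap.toSpanSingleton_apply, smul_zero]
    rw [this, Ideal.radical_top] at hn
    exact (maximalIdeal.isMaximal A).ne_top hn.symm
  haveI : Module.FaithfullyFlat A B := Module.FaithfullyFlat.of_flat_of_isLocalHom
  have hne : ((1 : B) ⊗ₜ[A] n) ≠ 0 := by
    intro h0
    apply hn0
    apply Module.FaithfullyFlat.tensorProduct_mk_injective (A := A) (B := B) N
    rw [map_zero]
    exact h0
  apply le_antisymm
  · have hproper : (LinearMap.ker (LinearMap.toSpanSingleton B (B ⊗[A] N) ((1 : B) ⊗ₜ[A] n)) :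
        Ideal B) ≠ ⊤ := by
      intro htop
      apply hne
      have : (1 : B) ∈ LinearMap.ker (LinearMap.toSpanSingleton B (B ⊗[A] N) ((1 : B) ⊗ₜ[A] n)) := by
        rw [htop]; trivial
      rw [LinearMap.mem_ker, LinearMap.toSpanSingleton_apply, one_smul] at this
      exact this
    exact (Ideal.IsPrime.radical_le_iff (maximalIdeal.isMaximal B).isPrime).mpr
      (IsLocalRing.le_maximalIdeal hproper)
  · refine le_trans ?_ (Ideal.radical_mono hJle)
    rw [Ideal.radical_eq_sInf]
    apply le_sInf
    rintro q ⟨hq, hqp⟩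
    have h1 : (maximalIdeal A).map (algebraMap A B) ≤ q := by
      rw [Ideal.map_le_iff_le_comap, ← hn]
      haveI := hqp
      exact (Ideal.IsPrime.radical_le_iff (Ideal.IsPrime.comap (algebraMap A B))).mpr
        (Ideal.map_le_iff_le_comap.mp hq)
    rw [hgen q hqp h1]

omit [IsLocalRing A] [IsLocalRing B] [Algebra A B] in
lemma radical_ann_symm_apply {M M' : Type*} [AddCommGroup M] [Module B M] [AddCommGroup M']
    [Module B M'] (E : M ≃ₗ[B] M') (ν : M') :
    Ideal.radical (LinearMap.ker (LinearMap.toSpanSingleton B M (E.symm ν))) =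
      Ideal.radical (LinearMap.ker (LinearMap.toSpanSingleton B M' ν)) := by
  congr 1
  ext b
  rw [LinearMap.mem_ker, LinearMap.mem_ker, LinearMap.toSpanSingleton_apply,
    LinearMap.toSpanSingleton_apply, ← map_smul, EmbeddingLike.map_eq_zero_iff]

end ring

section geom

open Groth.Agent.H5.Stalk

variable {X S : Scheme.{u}}

/-- If no other point of the fibre specialises to `x`, the only prime of `O_{X,x}` containing
`𝔪_{f x} O_{X,x}` is the maximal ideal. -/
theorem prime_eq_maximalIdeal_of_generic (f : X ⟶ S) (x : X)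
    (hgen : ∀ y : X, f y = f x → y ⤳ x → y = x) (q : Ideal (X.presheaf.stalk x)) (hq : q.IsPrime)
    (hle : (maximalIdeal (S.presheaf.stalk (f x))).map (f.stalkMap x).hom ≤ q) :
    q = maximalIdeal (X.presheaf.stalk x) := by
  let Q : Spec (X.presheaf.stalk x) := ⟨q, hq⟩
  have hyx : X.fromSpecStalk x Q ⤳ x := fromSpecStalk_specializes x Q
  have hc : (Spec.map (f.stalkMap x)) Q = closedPoint (S.presheaf.stalk (f x)) := by
    apply PrimeSpectrum.ext
    change q.comap (f.stalkMap x).hom = maximalIdeal _
    have h1 : maximalIdeal (S.presheaf.stalk (f x)) ≤ q.comap (f.stalkMap x).hom :=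
      Ideal.map_le_iff_le_comap.mp hle
    exact ((maximalIdeal.isMaximal _).eq_of_le (Ideal.IsPrime.comap _).ne_top h1).symm
  have hfy : f (X.fromSpecStalk x Q) = f x := by
    have h1 : (Spec.map (f.stalkMap x) ≫ S.fromSpecStalk (f x)) Q = (X.fromSpecStalk x ≫ f) Q := by
      rw [Scheme.SpecMap_stalkMap_fromSpecStalk]
    rw [Scheme.Hom.comp_apply, Scheme.Hom.comp_apply, hc, Scheme.fromSpecStalk_closedPoint] at h1
    exact h1.symm
  have h2 := hgen _ hfy hyx
  have h3 : Q = closedPoint (X.presheaf.stalk x) :=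
    (X.fromSpecStalk x).isEmbedding.injective (h2.trans Scheme.fromSpecStalk_closedPoint.symm)
  exact congrArg PrimeSpectrum.asIdeal h3

/-- **S8899**: weakly associated points pull back to generic points of fibres along flat maps. -/
theorem isWeakAssPoint_pullback_of_generic (f : X ⟶ S) (G : S.Modules) (x : X)
    (hfl : (f.stalkMap x).hom.Flat) (hgen : ∀ y : X, f y = f x → y ⤳ x → y = x)
    (hs : Curv2.IsWeakAssPoint G (f x)) :
    Curv2.IsWeakAssPoint ((Scheme.Modules.pullback f).obj G) x := by
  obtain ⟨n, hn⟩ := hs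
  set G' := (pullbackStalk f x).obj G with hG'
  letI : Algebra (S.presheaf.stalk (f x)) (X.presheaf.stalk x) := (f.stalkMap x).hom.toAlgebra
  haveI : Module.Flat (S.presheaf.stalk (f x)) (X.presheaf.stalk x) := hfl
  haveI : IsLocalHom (algebraMap (S.presheaf.stalk (f x)) (X.presheaf.stalk x)) :=
    inferInstanceAs (IsLocalHom (f.stalkMap x).hom)
  have key := radical_ann_one_tmul (A := S.presheaf.stalk (f x)) (B := X.presheaf.stalk x)
    (prime_eq_maximalIdeal_of_generic f x hgen) (N := G.presheaf.stalk (f x)) n hn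
  let E : (G' : Type u) ≃ₗ[X.presheaf.stalk x] ((stalkExt f x).obj G : Type u) :=
    ((pullbackStalkIso f x).app G).toLinearEquiv
  let ν : ((stalkExt f x).obj G : Type u) :=
    ((1 : X.presheaf.stalk x) ⊗ₜ[S.presheaf.stalk (f x)] n)
  have key' : Ideal.radical (LinearMap.ker (LinearMap.toSpanSingleton (X.presheaf.stalk x)
      ((stalkExt f x).obj G : Type u) ν)) = maximalIdeal (X.presheaf.stalk x) := key
  have h2 := radical_ann_symm_apply E ν
  rw [key'] at h2
  exact ⟨E.symm ν, h2⟩

end geom

end Groth.Agent.H8
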